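import Cfsg.Agent.Lib.Helper87.FusionSaturated

set_option autoImplicit false
open Cfsg

namespace Cfsg.Agent.Lib.Helper88

open Cfsg.FusionSystem Cfsg.Agent.Lib.Helper87

variable {Ω : Type*} [Group Ω] {S : Subgroup Ω}

/-- A subgroup conjugate in the system to `S` is `S` (for `S` finite). -/
theorem eq_of_isConj_top [Finite S] (F : FusionSystem S) {Q : Subgroup Ω} (h : F.IsConj S Q) : Q = S := by
  obtain ⟨φ, hφ, hφQ⟩ := h
  have hQS : Q ≤ S := by
    rw [← hφQ]
    rintro _ ⟨x, rfl⟩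
    exact (F.le_of_mem hφ).2 x
  apply Subgroup.eq_of_le_of_card_ge hQS
  rw [← hφQ]
  exact (Nat.card_congr (MonoidHom.ofInjective (F.injective_of_mem hφ)).toEquiv).le

/-- In a saturated system `S` is fully automized. -/
theorem isFullyAutomized_top_of_isSaturated [Finite S] (F : FusionSystem S) {p : ℕ} (hF : F.IsSaturated p) :
    F.IsFullyAutomized p S := by
  obtain ⟨Q, hQ, hQaut, -⟩ := hF S le_rfl
  rw [eq_of_isConj_top F hQ] at hQaut
  exact hQaut

/-- In a finite `p`-group a proper subgroup is properly contained in its normalizer. -/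
theorem exists_mem_normalizer_not_mem {R : Type*} [Group R] [Finite R] {p : ℕ} [Fact p.Prime] (hR : IsPGroup p R)
    {B : Subgroup R} (hB : B ≠ ⊤) : ∃ x ∈ Subgroup.normalizer (B : Set R), x ∉ B := by
  have := hR.isNilpotent
  have h := Group.normalizerCondition_of_isNilpotent (G := R) B (lt_top_iff_ne_top.mpr hB)
  exact Set.exists_of_ssubset h

/-- In a finite `p`-group `S`, a proper subgroup `Q` is properly contained in `N_S(Q)`. -/
theorem exists_mem_normalizerIn_not_mem [Finite S] {p : ℕ} [Fact p.Prime] (hS : IsPGroup p S) {Q : Subgroup Ω}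
    (hQS : Q ≤ S) (hne : Q ≠ S) : ∃ s ∈ normalizerIn S Q, s ∉ Q := by
  have hB : Q.subgroupOf S ≠ ⊤ := by
    intro h
    apply hne
    apply le_antisymm hQS
    intro x hx
    have : (⟨x, hx⟩ : S) ∈ Q.subgroupOf S := by rw [h]; exact Subgroup.mem_top _
    exact Subgroup.mem_subgroupOf.mp this
  obtain ⟨x, hxN, hxB⟩ := exists_mem_normalizer_not_mem hS hB
  rw [Subgroup.mem_normalizer_iff] at hxN
  refine ⟨x, ⟨x.2, ?_⟩, fun h => hxB (Subgroup.mem_subgroupOf.mpr h)⟩
  show (x : Ω) ∈ Subgroup.normalizer (Q : Set Ω)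
  rw [Subgroup.mem_normalizer_iff]
  intro y
  constructor
  · intro hy
    have := (hxN ⟨y, hQS hy⟩).mp (Subgroup.mem_subgroupOf.mpr hy)
    exact Subgroup.mem_subgroupOf.mp this
  · intro hy
    have hyS : y ∈ S := by
      have h1 : (x : Ω)⁻¹ * ((x : Ω) * y * (x : Ω)⁻¹) * (x : Ω) ∈ S :=
        S.mul_mem (S.mul_mem (S.inv_mem x.2) (hQS hy)) x.2
      have e : (x : Ω)⁻¹ * ((x : Ω) * y * (x : Ω)⁻¹) * (x : Ω) = y := by group
      rwa [e] at h1
    have := (hxN ⟨y, hyS⟩).mpr (Subgroup.mem_subgroupOf.mpr hy)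
    exact Subgroup.mem_subgroupOf.mp this


/-- If the `p`-subgroup `B` of the finite group `A` is not a Sylow subgroup, some `p`-element of `A` outside `B`
normalizes `B`. -/
theorem exists_normalizing_pElement {M : Type*} [Group M] {p : ℕ} [Fact p.Prime] (A B : Subgroup M) [Finite A]
    (hBA : B ≤ A) (hB : IsPGroup p B) (hns : ¬ ∃ R : Sylow p A, (R : Subgroup A) = B.subgroupOf A) :
    ∃ α ∈ A, α ∉ B ∧ (∀ β ∈ B, α * β * α⁻¹ ∈ B) ∧ ∃ a : ℕ, α ^ (p ^ a) = 1 := by
  have hBp : IsPGroup p (B.subgroupOf A) := hB.comap_subtype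
  obtain ⟨R, hBR⟩ := hBp.exists_le_sylow
  have hne : ((B.subgroupOf A).subgroupOf (R : Subgroup A)) ≠ ⊤ := by
    intro h
    apply hns
    refine ⟨R, le_antisymm ?_ hBR⟩
    intro x hx
    have : (⟨x, hx⟩ : (R : Subgroup A)) ∈ (B.subgroupOf A).subgroupOf (R : Subgroup A) := by
      rw [h]; exact Subgroup.mem_top _
    exact Subgroup.mem_subgroupOf.mp this
  obtain ⟨x, hxN, hxB⟩ := exists_mem_normalizer_not_mem R.isPGroup' hne
  rw [Subgroup.mem_normalizer_iff] at hxN
  refine ⟨((x : A) : M), (x : A).2, ?_, ?_, ?_⟩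
  · intro h
    apply hxB
    rw [Subgroup.mem_subgroupOf, Subgroup.mem_subgroupOf]
    exact h
  · intro β hβ
    have hβ' : (⟨⟨β, hBA hβ⟩, hBR (Subgroup.mem_subgroupOf.mpr hβ)⟩ : (R : Subgroup A)) ∈
        (B.subgroupOf A).subgroupOf (R : Subgroup A) := by
      rw [Subgroup.mem_subgroupOf, Subgroup.mem_subgroupOf]
      exact hβ
    have := (hxN _).mp hβ'
    rw [Subgroup.mem_subgroupOf, Subgroup.mem_subgroupOf] at this
    exact this
  · obtain ⟨a, ha⟩ := R.isPGroup' x
    refine ⟨a, ?_⟩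
    have h1 := congrArg (fun y : (R : Subgroup A) => ((y : A) : M)) ha
    simpa using h1

end Cfsg.Agent.Lib.Helper88
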