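import Cfsg.Prelude.Def_FusionComponents

set_option autoImplicit false
open Cfsg

namespace Cfsg.Agent.Lib.Helper88

variable {Ω : Type*} [Group Ω] {S : Subgroup Ω}

/-- Transport of a map of the system along an equality of source subgroups. -/
theorem hom_cast (F : FusionSystem S) {A B : Subgroup Ω} (h : A = B) (ψ : A →* Ω) (hψ : ψ ∈ F.Hom A) :
    ∃ ψ' ∈ F.Hom B, ∀ (x : Ω) (hA : x ∈ A) (hB : x ∈ B), ψ' ⟨x, hB⟩ = ψ ⟨x, hA⟩ := by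
  subst h
  exact ⟨ψ, hψ, fun _ _ _ => rfl⟩

theorem mem_map_subgroupOf {A R : Subgroup Ω} (ψ : R →* Ω) (y : Ω) :
    y ∈ (A.subgroupOf R).map ψ ↔ ∃ (x : Ω) (hR : x ∈ R), x ∈ A ∧ ψ ⟨x, hR⟩ = y := by
  constructor
  · rintro ⟨x, hx, rfl⟩
    exact ⟨x.1, x.2, Subgroup.mem_subgroupOf.mp hx, rfl⟩
  · rintro ⟨x, hR, hA, rfl⟩
    exact ⟨⟨x, hR⟩, Subgroup.mem_subgroupOf.mpr hA, rfl⟩

/-- A finite family of subgroups that contains `⊥` and is closed under binary joins contains its supremum. -/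
theorem sSup_mem_of_finite {s : Set (Subgroup Ω)} (hfin : s.Finite) (hbot : ⊥ ∈ s)
    (hsup : ∀ x ∈ s, ∀ y ∈ s, x ⊔ y ∈ s) : sSup s ∈ s := by
  have h := Finset.sup_mem s hbot hsup hfin.toFinset id (fun i hi => hfin.mem_toFinset.mp hi)
  rwa [Finset.sup_id_eq_sSup, Set.Finite.coe_toFinset] at h

theorem finite_setOf_le [Finite S] : {Q : Subgroup Ω | Q ≤ S}.Finite := by
  refine (Set.finite_range (fun K : Subgroup S => K.map S.subtype)).subset ?_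
  intro Q hQ
  refine ⟨Q.subgroupOf S, ?_⟩
  simp only [Subgroup.subgroupOf_map_subtype]
  exact inf_eq_left.mpr hQ



theorem isCentral_bot (F : FusionSystem S) : F.IsCentral ⊥ := by
  refine ⟨bot_le, fun P φ hφ => ?_⟩
  obtain ⟨ψ, hψ, hext⟩ := hom_cast F (sup_bot_eq P).symm φ hφ
  refine ⟨ψ, hψ, fun x => hext _ _ _, fun x => ?_⟩
  have hx : x = 1 := Subsingleton.elim _ _
  subst hx
  simp

theorem isCentral_sup (F : FusionSystem S) {Q₁ Q₂ : Subgroup Ω} (h₁ : F.IsCentral Q₁) (h₂ : F.IsCentral Q₂) :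
    F.IsCentral (Q₁ ⊔ Q₂) := by
  refine ⟨sup_le h₁.1 h₂.1, fun P φ hφ => ?_⟩
  obtain ⟨ψ₁, hψ₁, hext₁, hfix₁⟩ := h₁.2 P φ hφ
  obtain ⟨ψ₂, hψ₂, hext₂, hfix₂⟩ := h₂.2 (P ⊔ Q₁) ψ₁ hψ₁
  obtain ⟨ψ, hψ, hext⟩ := hom_cast F (sup_assoc P Q₁ Q₂) ψ₂ hψ₂
  refine ⟨ψ, hψ, fun x => ?_, ?_⟩
  · have hx1 : (x : Ω) ∈ P ⊔ Q₁ := (le_sup_left : P ≤ P ⊔ Q₁) x.2
    have hx2 : (x : Ω) ∈ P ⊔ Q₁ ⊔ Q₂ := (le_sup_left : P ⊔ Q₁ ≤ P ⊔ Q₁ ⊔ Q₂) hx1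
    have := hext (x : Ω) hx2 ((le_sup_left : P ≤ P ⊔ (Q₁ ⊔ Q₂)) x.2)
    rw [← hext₁ x]
    exact this.trans (hext₂ ⟨x, hx1⟩)
  · -- the fixed points form a subgroup
    have key : Q₁ ⊔ Q₂ ≤ (MonoidHom.eqLocus ψ (P ⊔ (Q₁ ⊔ Q₂)).subtype).map (P ⊔ (Q₁ ⊔ Q₂)).subtype := by
      refine sup_le ?_ ?_
      · intro x hx
        have hx1 : x ∈ P ⊔ Q₁ := (le_sup_right : Q₁ ≤ P ⊔ Q₁) hx
        have hx2 : x ∈ P ⊔ Q₁ ⊔ Q₂ := (le_sup_left : P ⊔ Q₁ ≤ P ⊔ Q₁ ⊔ Q₂) hx1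
        have hx3 : x ∈ P ⊔ (Q₁ ⊔ Q₂) := (sup_assoc P Q₁ Q₂) ▸ hx2
        refine ⟨⟨x, hx3⟩, ?_, rfl⟩
        show ψ ⟨x, hx3⟩ = x
        rw [hext x hx2 hx3]
        have := hext₂ ⟨x, hx1⟩
        have h2 := hfix₁ ⟨x, hx⟩
        exact this.trans h2
      · intro x hx
        have hx2 : x ∈ P ⊔ Q₁ ⊔ Q₂ := (le_sup_right : Q₂ ≤ P ⊔ Q₁ ⊔ Q₂) hx
        have hx3 : x ∈ P ⊔ (Q₁ ⊔ Q₂) := (sup_assoc P Q₁ Q₂) ▸ hx2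
        refine ⟨⟨x, hx3⟩, ?_, rfl⟩
        show ψ ⟨x, hx3⟩ = x
        rw [hext x hx2 hx3]
        exact hfix₂ ⟨x, hx⟩
    intro x
    obtain ⟨y, hy, hyx⟩ := key x.2
    have hy' : ψ y = (y : Ω) := hy
    have : y = Subgroup.inclusion le_sup_right x := Subtype.ext hyx
    rw [← this, hy']
    exact hyx

theorem isCentral_center [Finite S] (F : FusionSystem S) : F.IsCentral F.center := by
  have hfin : {Q : Subgroup Ω | F.IsCentral Q}.Finite :=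
    (finite_setOf_le (S := S)).subset (fun Q hQ => hQ.1)
  exact sSup_mem_of_finite hfin (isCentral_bot F) (fun x hx y hy => isCentral_sup F hx hy)



theorem isNormal_bot (F : FusionSystem S) : F.IsNormal ⊥ := by
  refine ⟨bot_le, fun P φ hφ => ?_⟩
  obtain ⟨ψ, hψ, hext⟩ := hom_cast F (sup_bot_eq P).symm φ hφ
  refine ⟨ψ, hψ, fun x => hext _ _ _, ?_⟩
  simp

/-- Elementwise description of `ψ(Q) = Q`. -/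
theorem map_subgroupOf_eq_iff {A R B : Subgroup Ω} (ψ : R →* Ω) :
    (A.subgroupOf R).map ψ = B ↔ ∀ y, y ∈ B ↔ ∃ (x : Ω) (hR : x ∈ R), x ∈ A ∧ ψ ⟨x, hR⟩ = y := by
  constructor
  · intro h y
    rw [← h, mem_map_subgroupOf]
  · intro h
    ext y
    rw [mem_map_subgroupOf, h]

theorem isNormal_sup (F : FusionSystem S) {Q₁ Q₂ : Subgroup Ω} (h₁ : F.IsNormal Q₁) (h₂ : F.IsNormal Q₂) :
    F.IsNormal (Q₁ ⊔ Q₂) := by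
  refine ⟨sup_le h₁.1 h₂.1, fun P φ hφ => ?_⟩
  obtain ⟨ψ₁, hψ₁, hext₁, hfix₁⟩ := h₁.2 P φ hφ
  obtain ⟨ψ₂, hψ₂, hext₂, hfix₂⟩ := h₂.2 (P ⊔ Q₁) ψ₁ hψ₁
  obtain ⟨ψ, hψ, hext⟩ := hom_cast F (sup_assoc P Q₁ Q₂) ψ₂ hψ₂
  refine ⟨ψ, hψ, fun x => ?_, ?_⟩
  · have hx1 : (x : Ω) ∈ P ⊔ Q₁ := (le_sup_left : P ≤ P ⊔ Q₁) x.2
    have hx2 : (x : Ω) ∈ P ⊔ Q₁ ⊔ Q₂ := (le_sup_left : P ⊔ Q₁ ≤ P ⊔ Q₁ ⊔ Q₂) hx1
    have := hext (x : Ω) hx2 ((le_sup_left : P ≤ P ⊔ (Q₁ ⊔ Q₂)) x.2)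
    rw [← hext₁ x]
    exact this.trans (hext₂ ⟨x, hx1⟩)
  · have hQ₁R : Q₁ ≤ P ⊔ (Q₁ ⊔ Q₂) := le_sup_left.trans le_sup_right
    have hQ₂R : Q₂ ≤ P ⊔ (Q₁ ⊔ Q₂) := le_sup_right.trans le_sup_right
    rw [Subgroup.subgroupOf_sup hQ₁R hQ₂R, Subgroup.map_sup]
    have e1 : (Q₁.subgroupOf (P ⊔ (Q₁ ⊔ Q₂))).map ψ = Q₁ := by
      rw [map_subgroupOf_eq_iff]
      intro y
      rw [(map_subgroupOf_eq_iff ψ₁).mp hfix₁ y]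
      constructor
      · rintro ⟨x, hR, hxQ, rfl⟩
        have hx2 : x ∈ P ⊔ Q₁ ⊔ Q₂ := (le_sup_left : P ⊔ Q₁ ≤ P ⊔ Q₁ ⊔ Q₂) hR
        refine ⟨x, hQ₁R hxQ, hxQ, ?_⟩
        rw [hext x hx2]
        exact hext₂ ⟨x, hR⟩
      · rintro ⟨x, hR, hxQ, rfl⟩
        have hx1 : x ∈ P ⊔ Q₁ := (le_sup_right : Q₁ ≤ P ⊔ Q₁) hxQ
        have hx2 : x ∈ P ⊔ Q₁ ⊔ Q₂ := (le_sup_left : P ⊔ Q₁ ≤ P ⊔ Q₁ ⊔ Q₂) hx1
        refine ⟨x, hx1, hxQ, ?_⟩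
        rw [hext x hx2]
        exact (hext₂ ⟨x, hx1⟩).symm
    have e2 : (Q₂.subgroupOf (P ⊔ (Q₁ ⊔ Q₂))).map ψ = Q₂ := by
      rw [map_subgroupOf_eq_iff]
      intro y
      rw [(map_subgroupOf_eq_iff ψ₂).mp hfix₂ y]
      constructor
      · rintro ⟨x, hR, hxQ, rfl⟩
        exact ⟨x, hQ₂R hxQ, hxQ, hext x hR _⟩
      · rintro ⟨x, hR, hxQ, rfl⟩
        have hx2 : x ∈ P ⊔ Q₁ ⊔ Q₂ := (le_sup_right : Q₂ ≤ P ⊔ Q₁ ⊔ Q₂) hxQ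
        exact ⟨x, hx2, hxQ, (hext x hx2 _).symm⟩
    rw [e1, e2]

theorem isNormal_core [Finite S] (F : FusionSystem S) : F.IsNormal F.core := by
  have hfin : {Q : Subgroup Ω | F.IsNormal Q}.Finite :=
    (finite_setOf_le (S := S)).subset (fun Q hQ => hQ.1)
  exact sSup_mem_of_finite hfin (isNormal_bot F) (fun x hx y hy => isNormal_sup F hx hy)

end Cfsg.Agent.Lib.Helper88
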