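import Mathlib
import Cfsg.Agent.Lib.Helper06.SylTwo.Defs

/-!
# Keystone 292807 K-SylTwo-D: `H` acts faithfully on `supp K`, so `|T|` divides `|supp K|!`
-/

set_option autoImplicit false

namespace Cfsg.Agent.Lib.Helper88.SylTwo

open Equiv Equiv.Perm
open Cfsg.Agent.Lib.Helper06.SylTwo

section Perm
variable {α : Type*} [Fintype α] [DecidableEq α]

/-- An element normalizing `K` maps the support of `K` into itself. -/
theorem apply_mem_suppSet_of_mem_normalizer {K : Subgroup (Perm α)} {h : Perm α}
    (hh : h ∈ Subgroup.normalizer (K : Set (Perm α))) {x : α} (hx : x ∈ suppSet K) : h x ∈ suppSet K := by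
  obtain ⟨k, hk, hkx⟩ := hx
  refine ⟨h * k * h⁻¹, (Subgroup.mem_normalizer_iff.mp hh k).mp hk, ?_⟩
  have e0 : (h * k * h⁻¹) (h x) = h (k x) := by simp
  rw [e0]
  intro e
  exact hkx (h.injective e)

/-- **K-SylTwo-D.** -/
theorem card_dvd_factorial (H K T : Subgroup (Perm α)) (hKH : K ≤ H)
    (hHK : H ≤ Subgroup.normalizer (K : Set (Perm α)))
    (hcent : ∀ h ∈ H, (∀ k ∈ K, h * k = k * h) → h ∈ K) (hTH : T ≤ H) :
    Nat.card ↥T ∣ ((suppSet K).ncard).factorial := by
  classical
  have hpres : ∀ h ∈ H, ∀ x, h x ∈ suppSet K ↔ x ∈ suppSet K := by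
    intro h hh x
    constructor
    · intro hx
      have := apply_mem_suppSet_of_mem_normalizer (hHK (H.inv_mem hh)) hx
      have e0 : h⁻¹ (h x) = x := by simp
      rwa [e0] at this
    · exact apply_mem_suppSet_of_mem_normalizer (hHK hh)
  -- the action on the support
  let ρ : ↥H →* Perm {x // x ∈ suppSet K} :=
    { toFun := fun h => (h : Perm α).subtypePerm (hpres h h.2)
      map_one' := by
        ext x
        rfl
      map_mul' := by
        intro a b
        ext x
        rfl }
  have hρ : ∀ (h : ↥H) (x : {x // x ∈ suppSet K}), ((ρ h x : {x // x ∈ suppSet K}) : α) = (h : Perm α) x.1 :=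
    fun h x => rfl
  have hinj : Function.Injective ρ := by
    rw [injective_iff_map_eq_one]
    intro h hh1
    have hfix : ∀ x ∈ suppSet K, (h : Perm α) x = x := by
      intro x hx
      have := hρ h ⟨x, hx⟩
      rw [hh1] at this
      exact this.symm
    -- `h` centralizes `K`
    have hcK : ∀ k ∈ K, (h : Perm α) * k = k * (h : Perm α) := by
      intro k hk
      ext x
      rw [Perm.mul_apply, Perm.mul_apply]
      by_cases hx : x ∈ suppSet K
      · have hkx : k x ∈ suppSet K := (hpres k (hKH hk) x).mpr hx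
        rw [hfix x hx, hfix (k x) hkx]
      · have hkx : k x = x := by
          by_contra hne
          exact hx ⟨k, hk, hne⟩
        have hhx : (h : Perm α) x ∉ suppSet K := fun hc => hx ((hpres h h.2 x).mp hc)
        have hkhx : k ((h : Perm α) x) = (h : Perm α) x := by
          by_contra hne
          exact hhx ⟨k, hk, hne⟩
        rw [hkx, hkhx]
    have hhK : (h : Perm α) ∈ K := hcent h h.2 hcK
    apply Subtype.ext
    show (h : Perm α) = 1
    ext x
    rw [Perm.one_apply]
    by_cases hx : x ∈ suppSet K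
    · exact hfix x hx
    · by_contra hne
      exact hx ⟨h, hhK, hne⟩
  have h1 : Nat.card ↥T ∣ Nat.card ↥H := Subgroup.card_dvd_of_le hTH
  have h2 : Nat.card ↥H ∣ Nat.card (Perm {x // x ∈ suppSet K}) := Subgroup.card_dvd_of_injective ρ hinj
  rw [Nat.card_perm] at h2
  have h3 : Nat.card {x // x ∈ suppSet K} = (suppSet K).ncard := Nat.card_coe_set_eq (suppSet K)
  rw [h3] at h2
  exact h1.trans h2

end Perm

end Cfsg.Agent.Lib.Helper88.SylTwo
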