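import Cfsg.Agent.Lib.Helper88.SylowLocal

set_option autoImplicit false
open Cfsg
open scoped Pointwise

namespace Cfsg.Agent.Lib.Helper88

open Cfsg.Agent.Lib.Helper87

variable {G : Type*} [Group G]

/-- Every subgroup of `S` has a `G`-conjugate `Q ≤ S` with `N_S(Q)` a Sylow subgroup of `N_G(Q)`. -/
theorem exists_conj_normalizer_sylow [Finite G] {p : ℕ} [Fact p.Prime] (S : Sylow p G) (P : Subgroup G)
    (hP : P ≤ S) : ∃ g : G, P.map (MulAut.conj g).toMonoidHom ≤ S ∧
      IsSylowIn p (FusionSystem.normalizerIn (S : Subgroup G) (P.map (MulAut.conj g).toMonoidHom))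
        (Subgroup.normalizer ((P.map (MulAut.conj g).toMonoidHom : Subgroup G) : Set G)) := by
  classical
  let F := groupFusionSystem (S : Subgroup G)
  have : Nonempty {Q : Subgroup G // F.IsConj P Q} :=
    ⟨⟨P, groupFusion_isConj_iff.mpr ⟨hP, hP, 1, by ext x; simp⟩⟩⟩
  obtain ⟨⟨Q, hQ⟩, hmax⟩ := Finite.exists_max
    (fun Q : {Q : Subgroup G // F.IsConj P Q} => Nat.card (FusionSystem.normalizerIn (S : Subgroup G) Q.1))
  obtain ⟨-, hQS, g, rfl⟩ := groupFusion_isConj_iff.mp hQ
  refine ⟨g, hQS, ?_⟩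
  refine (groupFusion_fully_iff S (fun P => Subgroup.normalizer (P : Set G)) normalizer_map_conj
    (fun _ => le_rfl) _ hQS).mp ?_
  intro Q' hQ'
  obtain ⟨-, hQ'S, k, rfl⟩ := groupFusion_isConj_iff.mp hQ'
  have hconj : F.IsConj P ((P.map (MulAut.conj g).toMonoidHom).map (MulAut.conj k).toMonoidHom) := by
    rw [map_conj_map_conj] at hQ'S ⊢
    exact groupFusion_isConj_iff.mpr ⟨hP, hQ'S, k * g, rfl⟩
  exact hmax ⟨_, hconj⟩


/-- If `N_S(Q)` is a Sylow subgroup of `N_G(Q)` then `C_S(Q)` is a Sylow subgroup of `C_G(Q)`. -/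
theorem centralizer_sylow_of_normalizer_sylow [Finite G] {p : ℕ} [Fact p.Prime] (S : Sylow p G) (Q : Subgroup G)
    (hN : IsSylowIn p (FusionSystem.normalizerIn (S : Subgroup G) Q) (Subgroup.normalizer (Q : Set G))) :
    IsSylowIn p (FusionSystem.centralizerIn (S : Subgroup G) Q) (Subgroup.centralizer (Q : Set G)) := by
  set C := Subgroup.centralizer (Q : Set G) with hC
  set CS := FusionSystem.centralizerIn (S : Subgroup G) Q with hCS
  have hCSC : CS ≤ C := inf_le_right
  have hp : IsPGroup p (CS.subgroupOf C) := (S.2.to_le (inf_le_left : CS ≤ S)).comap_subtype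
  obtain ⟨U', hU'⟩ := hp.exists_le_sylow
  refine ⟨U', ?_⟩
  symm
  apply Subgroup.eq_of_le_of_card_ge hU'
  set U : Subgroup G := (U' : Subgroup C).map C.subtype with hU
  have hUC : U ≤ C := by
    rintro _ ⟨x, -, rfl⟩
    exact x.2
  have hUp : IsPGroup p U := U'.2.map _
  obtain ⟨m, hm, hconj⟩ := hN.exists_conj_le (hUC.trans (Subgroup.centralizer_le_normalizer _)) hUp
  have hle : U.map (MulAut.conj m).toMonoidHom ≤ CS := by
    rintro _ ⟨x, hx, rfl⟩
    exact ⟨(inf_le_left : FusionSystem.normalizerIn (S : Subgroup G) Q ≤ S) (hconj x hx),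
      conj_mem_centralizer_of_mem_normalizer hm (hUC hx)⟩
  have h1 : Nat.card U ≤ Nat.card CS := by
    rw [← card_map_conj U m]
    exact Nat.card_le_card_of_injective (Subgroup.inclusion hle) (Subgroup.inclusion_injective hle)
  have h2 : Nat.card U = Nat.card (U' : Subgroup C) := Subgroup.card_map_of_injective C.subtype_injective
  rw [card_subgroupOf_of_le hCSC, ← h2]
  exact h1

theorem mem_autInducedBy_iff {K Q : Subgroup G} (α : MulAut Q) :
    α ∈ autInducedBy K Q ↔ ∃ g ∈ K, ∀ x : Q, ((α x : Q) : G) = g * (x : G) * g⁻¹ := by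
  constructor
  · intro h
    induction h using Subgroup.closure_induction with
    | mem x hx => exact hx
    | one => exact ⟨1, K.one_mem, fun x => by simp⟩
    | mul a b _ _ ha hb =>
      obtain ⟨g, hg, hga⟩ := ha
      obtain ⟨k, hk, hkb⟩ := hb
      refine ⟨g * k, K.mul_mem hg hk, fun x => ?_⟩
      rw [MulAut.mul_apply, hga, hkb]
      group
    | inv a _ ha =>
      obtain ⟨g, hg, hga⟩ := ha
      refine ⟨g⁻¹, K.inv_mem hg, fun x => ?_⟩
      have := hga (a⁻¹ x)
      rw [MulAut.apply_inv_self] at this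
      rw [this]
      group
  · intro h
    exact Subgroup.subset_closure h

/-- An element inducing an automorphism of `Q` by conjugation normalizes `Q`. -/
theorem mem_normalizer_of_induces {Q : Subgroup G} (α : MulAut Q) {g : G}
    (h : ∀ x : Q, ((α x : Q) : G) = g * (x : G) * g⁻¹) : g ∈ Subgroup.normalizer (Q : Set G) := by
  rw [Subgroup.mem_normalizer_iff]
  intro y
  constructor
  · intro hy
    rw [← h ⟨y, hy⟩]
    exact (α ⟨y, hy⟩).2
  · intro hy
    obtain ⟨x, hx⟩ := α.surjective ⟨_, hy⟩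
    have := h x
    rw [hx] at this
    have e : y = x := by
      have : g * y * g⁻¹ = g * x * g⁻¹ := this
      exact mul_left_cancel (mul_right_cancel this)
    rw [e]
    exact x.2

theorem mem_autInducedBy_iff' {K Q : Subgroup G} (α : MulAut Q) :
    α ∈ autInducedBy K Q ↔ ∃ m : Subgroup.normalizer (Q : Set G), (m : G) ∈ K ∧ Q.normalizerMonoidHom m = α := by
  rw [mem_autInducedBy_iff]
  constructor
  · rintro ⟨g, hg, h⟩
    refine ⟨⟨g, mem_normalizer_of_induces α h⟩, hg, ?_⟩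
    ext x
    rw [h x]
    rfl
  · rintro ⟨m, hm, rfl⟩
    exact ⟨m, hm, fun x => rfl⟩

/-- If `N_S(Q)` is a Sylow subgroup of `N_G(Q)` then `Aut_S(Q)` is a Sylow subgroup of `Aut_G(Q)`. -/
theorem autInducedBy_sylow_of_normalizer_sylow [Finite G] {p : ℕ} [Fact p.Prime] (S : Sylow p G) (Q : Subgroup G)
    (hN : IsSylowIn p (FusionSystem.normalizerIn (S : Subgroup G) Q) (Subgroup.normalizer (Q : Set G))) :
    IsSylowIn p (autInducedBy (S : Subgroup G) Q) (autInducedBy ⊤ Q) := by
  obtain ⟨T, hT⟩ := hN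
  have hmem : ∀ m : Subgroup.normalizer (Q : Set G), Q.normalizerMonoidHom m ∈ autInducedBy ⊤ Q := by
    intro m
    rw [mem_autInducedBy_iff']
    exact ⟨m, Subgroup.mem_top _, rfl⟩
  set c : Subgroup.normalizer (Q : Set G) →* autInducedBy ⊤ Q :=
    Q.normalizerMonoidHom.codRestrict (autInducedBy ⊤ Q) hmem with hc
  have hsurj : Function.Surjective c := by
    rintro ⟨α, hα⟩
    obtain ⟨m, -, hm⟩ := (mem_autInducedBy_iff' α).mp hα
    exact ⟨m, Subtype.ext hm⟩
  refine ⟨T.mapSurjective hsurj, ?_⟩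
  rw [Sylow.coe_mapSurjective, hT]
  ext α
  rw [Subgroup.mem_subgroupOf, mem_autInducedBy_iff']
  constructor
  · rintro ⟨m, hm, rfl⟩
    have hm' : (m : G) ∈ FusionSystem.normalizerIn (S : Subgroup G) Q := Subgroup.mem_subgroupOf.mp hm
    exact ⟨m, hm'.1, rfl⟩
  · rintro ⟨m, hm, hmα⟩
    refine ⟨m, ?_, Subtype.ext hmα⟩
    have hm' : (m : G) ∈ FusionSystem.normalizerIn (S : Subgroup G) Q := ⟨hm, m.2⟩
    exact Subgroup.mem_subgroupOf.mpr hm'

end Cfsg.Agent.Lib.Helper88
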