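import Mathlib

set_option autoImplicit false

namespace Cfsg.Agent.Lib.Helper88

/-- A group with a cyclic subgroup `⟨c⟩` of order `2^k ≥ 8` and "index two" (every element is `c^a` or `t c^a`)
all of whose elements outside `⟨c⟩` have order dividing 4 has a 2-group as automorphism group. -/
theorem isPGroup_two_mulAut_of_cyclic_index_two {T : Type*} [Group T] (c t : T) (k : ℕ) (hk : 3 ≤ k)
    (hc : orderOf c = 2 ^ k) (hgen : ∀ x : T, (∃ a : ℕ, x = c ^ a) ∨ ∃ a : ℕ, x = t * c ^ a)
    (hout : ∀ x : T, (¬ ∃ a : ℕ, x = c ^ a) → x ^ 4 = 1) (ht : ¬ ∃ a : ℕ, t = c ^ a) :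
    IsPGroup 2 (MulAut T) := by
  intro α
  -- (1) α c is a power of c
  have h1 : ∀ α : MulAut T, ∃ i : ℕ, α c = c ^ i := by
    intro α
    by_contra hcon
    have h4 := hout (α c) (by simpa using hcon)
    have hord : orderOf (α c) = 2 ^ k := by rw [MulEquiv.orderOf_eq, hc]
    have hdvd : 2 ^ k ∣ 4 := by
      rw [← hord]
      exact orderOf_dvd_of_pow_eq_one h4
    have hle : 2 ^ k ≤ 4 := Nat.le_of_dvd (by norm_num) hdvd
    have : 2 ^ 3 ≤ 2 ^ k := Nat.pow_le_pow_right (by norm_num) hk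
    omega
  obtain ⟨i, hi⟩ := h1 α
  -- (2) i is coprime to 2^k
  have hcop : Nat.Coprime i (2 ^ k) := by
    obtain ⟨i', hi'⟩ := h1 α⁻¹
    have e : c ^ (i' * i) = c ^ 1 := by
      rw [pow_one, pow_mul]
      have : α (α⁻¹ c) = c := MulAut.apply_inv_self T α c
      rw [hi', map_pow, hi, ← pow_mul, mul_comm, pow_mul] at this
      exact this
    rw [pow_eq_pow_iff_modEq, hc] at e
    have : Nat.Coprime (i' * i) (2 ^ k) := by
      show Nat.gcd (i' * i) (2 ^ k) = 1
      rw [Nat.ModEq.gcd_eq e]; simp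
    exact Nat.Coprime.coprime_mul_left this
  -- (3) powers of α on c
  have h3 : ∀ j : ℕ, (α ^ j) c = c ^ (i ^ j) := by
    intro j
    induction j with
    | zero => simp
    | succ j ih =>
      rw [pow_succ', MulAut.mul_apply, ih, map_pow, hi, ← pow_mul, pow_succ']
  set j₁ := 2 ^ (k - 1) with hj₁
  have hβc : (α ^ j₁) c = c := by
    rw [h3]
    have : i ^ j₁ ≡ 1 [MOD 2 ^ k] := by
      have := Nat.ModEq.pow_totient hcop
      rwa [Nat.totient_prime_pow Nat.prime_two (by omega : 0 < k), show (2 - 1 : ℕ) = 1 from rfl, mul_one] at this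
    have e : c ^ (i ^ j₁) = c ^ 1 := by
      rw [pow_eq_pow_iff_modEq, hc]
      exact this
    rw [e, pow_one]
  set β := α ^ j₁ with hβ
  have hβpow : ∀ a : ℕ, β (c ^ a) = c ^ a := by
    intro a
    rw [map_pow, hβc]
  -- (4) β t = t * y
  have h4 : ∃ a : ℕ, β t = t * c ^ a := by
    rcases hgen (β t) with ⟨a, ha⟩ | h
    · exfalso
      apply ht
      refine ⟨a, ?_⟩
      have : β⁻¹ (β t) = t := MulAut.inv_apply_self T β t
      rw [ha] at this
      rw [← this]
      have hinv : β⁻¹ (c ^ a) = c ^ a := by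
        have := hβpow a
        calc β⁻¹ (c ^ a) = β⁻¹ (β (c ^ a)) := by rw [this]
          _ = c ^ a := MulAut.inv_apply_self T β _
      exact hinv
    · exact h
  obtain ⟨a, ha⟩ := h4
  -- (5)
  have h5 : ∀ j : ℕ, (β ^ j) t = t * (c ^ a) ^ j := by
    intro j
    induction j with
    | zero => simp
    | succ j ih =>
      rw [pow_succ', MulAut.mul_apply, ih, map_mul, ha, ← pow_mul, hβpow, pow_mul, mul_assoc, ← pow_succ']
  have h6 : (β ^ (2 ^ k)) t = t := by
    rw [h5, ← pow_mul, mul_comm, pow_mul, ← hc, pow_orderOf_eq_one, one_pow, mul_one]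
  have h6c : ∀ b : ℕ, (β ^ (2 ^ k)) (c ^ b) = c ^ b := by
    intro b
    have : ∀ j : ℕ, (β ^ j) (c ^ b) = c ^ b := by
      intro j
      induction j with
      | zero => simp
      | succ j ih => rw [pow_succ', MulAut.mul_apply, ih, hβpow]
    exact this _
  have h7 : β ^ (2 ^ k) = 1 := by
    ext x
    rcases hgen x with ⟨b, rfl⟩ | ⟨b, rfl⟩
    · rw [h6c]; rfl
    · rw [map_mul, h6, h6c]; rfl
  refine ⟨(k - 1) + k, ?_⟩
  rw [pow_add, pow_mul, ← hj₁, ← hβ, h7]


theorem isPGroup_two_mulAut_dihedral (k : ℕ) (hk : 3 ≤ k) : IsPGroup 2 (MulAut (DihedralGroup (2 ^ k))) := by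
  haveI : NeZero (2 ^ k) := ⟨by positivity⟩
  refine isPGroup_two_mulAut_of_cyclic_index_two (DihedralGroup.r 1) (DihedralGroup.sr 0) k hk
    DihedralGroup.orderOf_r_one ?_ ?_ ?_
  · intro x
    cases x with
    | r i =>
      left
      refine ⟨i.val, ?_⟩
      rw [DihedralGroup.r_one_pow, ZMod.natCast_zmod_val]
    | sr i =>
      right
      refine ⟨i.val, ?_⟩
      rw [DihedralGroup.r_one_pow, ZMod.natCast_zmod_val, DihedralGroup.sr_mul_r, zero_add]
  · intro x hx
    cases x with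
    | r i =>
      exfalso
      apply hx
      refine ⟨i.val, ?_⟩
      rw [DihedralGroup.r_one_pow, ZMod.natCast_zmod_val]
    | sr i =>
      have : DihedralGroup.sr i ^ 2 = 1 := by rw [sq, DihedralGroup.sr_mul_self]
      rw [show 4 = 2 * 2 from rfl, pow_mul, this, one_pow]
  · rintro ⟨a, ha⟩
    rw [DihedralGroup.r_one_pow] at ha
    cases ha

theorem isPGroup_two_mulAut_quaternion (k : ℕ) (hk : 3 ≤ k) :
    IsPGroup 2 (MulAut (QuaternionGroup (2 ^ (k - 1)))) := by
  haveI : NeZero (2 ^ (k - 1)) := ⟨by positivity⟩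
  have hord : orderOf (QuaternionGroup.a 1 : QuaternionGroup (2 ^ (k - 1))) = 2 ^ k := by
    rw [QuaternionGroup.orderOf_a_one, ← pow_succ']
    congr 1
    omega
  refine isPGroup_two_mulAut_of_cyclic_index_two (QuaternionGroup.a 1) (QuaternionGroup.xa 0) k hk
    hord ?_ ?_ ?_
  · intro x
    cases x with
    | a i =>
      left
      refine ⟨i.val, ?_⟩
      rw [QuaternionGroup.a_one_pow, ZMod.natCast_zmod_val]
    | xa i =>
      right
      refine ⟨i.val, ?_⟩
      rw [QuaternionGroup.a_one_pow, ZMod.natCast_zmod_val, QuaternionGroup.xa_mul_a, zero_add]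
  · intro x hx
    cases x with
    | a i =>
      exfalso
      apply hx
      refine ⟨i.val, ?_⟩
      rw [QuaternionGroup.a_one_pow, ZMod.natCast_zmod_val]
    | xa i => exact QuaternionGroup.xa_pow_four i
  · rintro ⟨a, ha⟩
    rw [QuaternionGroup.a_one_pow] at ha
    cases ha

end Cfsg.Agent.Lib.Helper88
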