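import Cfsg.Agent.Lib.Helper88.FusionFactor5

set_option autoImplicit false
open Cfsg

namespace Cfsg.Agent.Lib.Helper88

open Cfsg.FusionSystem Cfsg.Agent.Lib.Helper87

variable {Ω : Type*} [Group Ω] {S : Subgroup Ω}

section factor6

variable {Ω' : Type*} [Group Ω'] {S' : Subgroup Ω'}

/-- The factor system of a saturated fusion system modulo a strongly closed subgroup is saturated. -/
theorem isSaturated_of_factor [Finite S] (p : ℕ) [Fact p.Prime] (hS : IsPGroup p S) (F : FusionSystem S)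
    (hF : F.IsSaturated p) {T : Subgroup Ω}
    (hT : F.StronglyClosed T) (θ : S →* Ω')
    (hker : ∀ s : S, θ s = 1 ↔ (s : Ω) ∈ T) (hrange : θ.range = S') (E : FusionSystem S')
    (hE : ∀ (P' : Subgroup Ω') (φ' : P' →* Ω'),
      φ' ∈ E.Hom P' ↔ P' ≤ S' ∧ ∃ φ ∈ F.Hom (preimageAlong θ P'), InducedAlong θ φ φ') :
    E.IsSaturated p := by
  intro P' hP'
  have hPS : preimageAlong θ P' ≤ S := preimageAlong_le θ P'
  obtain ⟨Q, hPQ, hQfn⟩ := exists_isFullyNormalized F hPS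
  obtain ⟨Q', hQ', rfl, hconj⟩ := exists_isConj_of_isConj_preimageAlong F hT θ hker hrange E hE hP' hPQ
  obtain ⟨hfc, hfa⟩ := fullyNormalized_props p hS F hF _ hQfn
  have hrec := isReceptive_of_isFullyCentralized p hS F hF _ hfc
  exact ⟨Q', hconj, isFullyAutomized_image p F hT θ hker hrange E hE hQ' hfa,
    isReceptive_image p hS F hT θ hker hrange E hE hQ' hfa hrec⟩

theorem isSaturated_of_isFactorSystem [Finite S] (p : ℕ) [Fact p.Prime] (hS : IsPGroup p S) (F : FusionSystem S)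
    (hF : F.IsSaturated p) {T : Subgroup Ω}
    (hT : F.StronglyClosed T) (θ : S →* Ω') (E : FusionSystem S') (hE : F.IsFactorSystem T θ E) :
    E.IsSaturated p :=
  isSaturated_of_factor p hS F hF hT θ hE.2.1 hE.2.2.1 E hE.2.2.2

/-- The target of a surjective morphism is the factor system modulo the kernel. -/
theorem isFactorSystem_of_isSurjectiveMorphism (F : FusionSystem S) (F' : FusionSystem S') (α : S →* Ω')
    (hα : F.IsSurjectiveMorphism F' α) : F.IsFactorSystem ((α.ker).map S.subtype) α F' := by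
  obtain ⟨⟨hαS', hmor⟩, hrange, hsurj⟩ := hα
  refine ⟨?_, ?_, hrange, fun P' φ' => ⟨fun hφ' => ⟨(F'.le_of_mem hφ').1, hsurj P' (F'.le_of_mem hφ').1 φ' hφ'⟩, ?_⟩⟩
  · rintro _ ⟨x, -, rfl⟩
    exact x.2
  · intro s
    constructor
    · intro h
      exact ⟨s, h, rfl⟩
    · rintro ⟨y, hy, hys⟩
      have : y = s := Subtype.ext hys
      rw [← this]
      exact hy
  · rintro ⟨hP', φ, hφ, hind⟩
    obtain ⟨φ'', hφ'', hind''⟩ := hmor _ φ hφ
    have heq := imageAlong_preimageAlong α hrange hP'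
    obtain ⟨φ₃, hφ₃, hcast⟩ := hom_cast F' heq φ'' hφ''
    refine hom_congr F' hφ₃ (fun y => ?_)
    obtain ⟨hP, hφS, hPP', hind⟩ := hind
    obtain ⟨hP2, hφS2, hPP'2, hind''⟩ := hind''
    obtain ⟨s, hsS, hsP, hs⟩ := exists_preimage α hrange hP' y
    have h1 := hind ⟨s, hsP⟩
    have h2 := hind'' ⟨s, hsP⟩
    have e1 : (⟨α ⟨((⟨s, hsP⟩ : ↥(preimageAlong α P')) : Ω), hP hsP⟩, hPP' ⟨s, hsP⟩⟩ : P') = y := Subtype.ext hs
    rw [e1] at h1
    rw [h1, ← h2]
    have e2 : y = ⟨(y : Ω'), y.2⟩ := rfl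
    have hyA : (y : Ω') ∈ imageAlong α (preimageAlong α P') := by rw [heq]; exact y.2
    rw [e2, hcast (y : Ω') hyA y.2]
    congr 1
    exact Subtype.ext hs

end factor6

end Cfsg.Agent.Lib.Helper88
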