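import Cfsg.Agent.Lib.Helper88.FusionFrat6
import Cfsg.Agent.Lib.Helper91.FusionCentricExt

set_option autoImplicit false
open Cfsg
open scoped Pointwise

namespace Cfsg.Agent.Lib.Helper88

open Cfsg.FusionSystem Cfsg.Agent.Lib.Helper87

variable {Ω : Type*} [Group Ω] {S : Subgroup Ω}

/-- A fully centralized subgroup containing its centralizer is centric. -/
theorem isCentric_of_isFullyCentralized [Finite S] (F : FusionSystem S) {R : Subgroup Ω}
    (hfc : F.IsFullyCentralized R) (h : centralizerIn S R ≤ R) : F.IsCentric R := by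
  refine ⟨hfc.1, fun Q hQ => ?_⟩
  have hcard := hfc.2 Q hQ
  obtain ⟨φ, hφ, hr⟩ := hQ
  have hφS : ∀ x : R, φ x ∈ S := (F.le_of_mem hφ).2
  have hmem : ∀ x : centralizerIn S R, φ ⟨x, h x.2⟩ ∈ centralizerIn S Q := by
    intro x
    rw [mem_centralizerIn]
    refine ⟨hφS _, fun y hy => ?_⟩
    rw [← hr] at hy
    obtain ⟨r, rfl⟩ := hy
    have hc := (mem_centralizerIn.mp x.2).2 r r.2
    rw [← map_mul, ← map_mul]
    congr 1
    exact Subtype.ext hc
  have hfinQ : Finite (centralizerIn S Q) := finite_of_le (inf_le_left : centralizerIn S Q ≤ S)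
  have hfinR : Finite (centralizerIn S R) := finite_of_le (inf_le_left : centralizerIn S R ≤ S)
  let f : centralizerIn S R → centralizerIn S Q := fun x => ⟨φ ⟨x, h x.2⟩, hmem x⟩
  have hinj : Function.Injective f := by
    intro a b hab
    have h1 : φ ⟨a, h a.2⟩ = φ ⟨b, h b.2⟩ := congrArg Subtype.val hab
    have h2 : (⟨a, h a.2⟩ : R) = ⟨b, h b.2⟩ := F.injective_of_mem hφ h1
    exact Subtype.ext (congrArg (fun z : R => (z : Ω)) h2)
  have hbij : Function.Bijective f := by
    rw [Nat.bijective_iff_injective_and_card]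
    exact ⟨hinj, le_antisymm (Nat.card_le_card_of_injective f hinj) hcard⟩
  intro c hc
  obtain ⟨x, hx⟩ := hbij.2 ⟨c, hc⟩
  have : φ ⟨x, h x.2⟩ = c := congrArg Subtype.val hx
  rw [← this, ← hr]
  exact ⟨_, rfl⟩

/-- The step of the induction for the Frattini property, for a normal subgroup `N` of `Aut_F(R)` inside `Aut_E(R)`
which contains the conjugate of `Aut_T(R)` under the given automorphism. -/
theorem frattini_step' [Finite S] (p : ℕ) [Fact p.Prime] (hS : IsPGroup p S) (F : FusionSystem S)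
    (hF : F.IsSaturated p) {T : Subgroup Ω} (hT : F.StronglyClosed T) (E : FusionSystem T)
    (hinv : AutInvariant E F) (R : Subgroup Ω) (hRT : R ≤ T) (hReqT : R ≠ T) (hRfn : F.IsFullyNormalized R)
    (hbig : ∀ R₁ : Subgroup Ω, R₁ ≤ T → Nat.card R < Nat.card R₁ → F.Hom R₁ ⊆ (frattiniSystem E F hinv).Hom R₁)
    (N : Subgroup (F.autGroup R)) [N.Normal] (hNE : ∀ n ∈ N, (n : MulAut R) ∈ E.autGroup R)
    (β : MulAut R) (hβ : β ∈ F.autGroup R)
    (hDN : ((autInducedBy T R).subgroupOf (F.autGroup R)).map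
        (MulAut.conj (⟨β, hβ⟩ : F.autGroup R)).toMonoidHom ≤ N) :
    R.subtype.comp (β : R ≃* R).toMonoidHom ∈ (frattiniSystem E F hinv).Hom R := by
  have hTS : T ≤ S := hT.1
  have hTp : IsPGroup p T := hS.to_le hTS
  have hRS : R ≤ S := hRT.trans hTS
  obtain ⟨hfc, hfa⟩ := fullyNormalized_props p hS F hF R hRfn
  have hrec := isReceptive_of_isFullyCentralized p hS F hF R hfc
  obtain ⟨-, Sy, hSy⟩ := hfa
  have hfin : Finite (F.autGroup R) := finite_autGroup F hRS
  have hDp : IsPGroup p ↥(((autInducedBy T R).subgroupOf (F.autGroup R)).map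
      (MulAut.conj (⟨β, hβ⟩ : F.autGroup R)).toMonoidHom) :=
    ((isPGroup_autInducedBy hTp R).comap_subtype).map _
  obtain ⟨γ, hγN, hγD⟩ := exists_conj_le_sylow_of_le_normal Sy _ hDN hDp
  set ν : F.autGroup R := γ * ⟨β, hβ⟩ with hν
  set ν₀ : MulAut R := (ν : MulAut R) with hν₀
  have hν₀F : R.subtype.comp (ν₀ : R ≃* R).toMonoidHom ∈ F.Hom R := (mem_autGroup_iff F hRS).mp ν.2
  have hNT : normalizerIn T R ≤ extender S R (R.subtype.comp (ν₀ : R ≃* R).toMonoidHom) := by
    intro g hg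
    have hgS : g ∈ S := hTS hg.1
    have hgN : g ∈ Subgroup.normalizer (R : Set Ω) := hg.2
    rw [mem_extender_iff]
    refine ⟨hgS, hgN, ?_⟩
    have hcg : conjAut R g hgN ∈ autInducedBy T R := conjAut_mem_autInducedBy hg.1 hgN
    have hcgA : conjAut R g hgN ∈ F.autGroup R :=
      autInducedBy_le_autGroup F hRS (autInducedBy_mono hTS hcg)
    set c : F.autGroup R := ⟨conjAut R g hgN, hcgA⟩ with hc
    have hcD : (MulAut.conj (⟨β, hβ⟩ : F.autGroup R)) c ∈
        ((autInducedBy T R).subgroupOf (F.autGroup R)).map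
          (MulAut.conj (⟨β, hβ⟩ : F.autGroup R)).toMonoidHom :=
      ⟨c, Subgroup.mem_subgroupOf.mpr hcg, rfl⟩
    have h3 : γ * ((MulAut.conj (⟨β, hβ⟩ : F.autGroup R)) c) * γ⁻¹ ∈ (Sy : Subgroup (F.autGroup R)) :=
      hγD _ hcD
    have h4 : γ * ((MulAut.conj (⟨β, hβ⟩ : F.autGroup R)) c) * γ⁻¹ = ν * c * ν⁻¹ := by
      rw [hν, MulAut.conj_apply]
      group
    rw [h4, hSy, Subgroup.mem_subgroupOf] at h3
    obtain ⟨h, hhS, hh⟩ := mem_autInducedBy_iff.mp h3
    refine ⟨h, hhS, fun x hx => ?_⟩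
    have := hh (ν₀ x)
    show ((ν₀ ⟨g * (x : Ω) * g⁻¹, hx⟩ : R) : Ω) = h * ((ν₀ x : R) : Ω) * h⁻¹
    rw [← this]
    show ((ν₀ ⟨g * (x : Ω) * g⁻¹, hx⟩ : R) : Ω) = ((ν₀ ((conjAut R g hgN) (ν₀⁻¹ (ν₀ x))) : R) : Ω)
    rw [MulAut.inv_apply_self]
    rfl
  obtain ⟨ψ, hψ, hψext⟩ := hrec.2 R _ hν₀F (IsFIso.range_eq (ν₀ : R ≃* R))
  have hψ₁ : ψ.comp (Subgroup.inclusion hNT) ∈ F.Hom (normalizerIn T R) :=
    Cfsg.Agent.Lib.Helper87.restrict_mem F hNT hψ
  have hRN : R ≤ normalizerIn T R := le_normalizerIn hRT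
  have hlt : Nat.card R < Nat.card (normalizerIn T R) := by
    have hfinT : Finite T := finite_of_le hTS
    obtain ⟨s, hsN, hsP⟩ := exists_mem_normalizerIn_not_mem hTp hRT hReqT
    have : Finite (normalizerIn T R) := finite_of_le ((normalizerIn_le T R).trans hTS)
    by_contra hge
    have := Subgroup.eq_of_le_of_card_ge hRN (not_lt.mp hge)
    apply hsP
    rw [this]
    exact hsN
  have hψ₁E := hbig _ (normalizerIn_le T R) hlt hψ₁
  have hψ₂E := Cfsg.Agent.Lib.Helper87.restrict_mem (frattiniSystem E F hinv) hRN hψ₁E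
  have hνE : R.subtype.comp (ν₀ : R ≃* R).toMonoidHom ∈ (frattiniSystem E F hinv).Hom R := by
    refine hom_congr _ hψ₂E (fun x => ?_)
    exact (hψext x x.2 (hNT (hRN x.2))).symm
  have hγinv : R.subtype.comp ((γ⁻¹ : F.autGroup R) : R ≃* R).toMonoidHom ∈ (frattiniSystem E F hinv).Hom R := by
    apply le_frattiniSystem E F hinv R
    rw [← mem_autGroup_iff E hRT]
    exact hNE _ (Subgroup.inv_mem _ hγN)
  refine comp_mem' (frattiniSystem E F hinv) hνE hγinv (fun x => (ν₀ x).2) (fun x => ?_)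
  show ((β x : R) : Ω) = ((((γ⁻¹ : F.autGroup R) : MulAut R) (ν₀ x) : R) : Ω)
  have e : β = ((γ⁻¹ : F.autGroup R) : MulAut R) * ν₀ := by
    have h5 : (⟨β, hβ⟩ : F.autGroup R) = γ⁻¹ * ν := by rw [hν, inv_mul_cancel_left]
    exact congrArg (fun z : F.autGroup R => (z : MulAut R)) h5
  rw [e]
  rfl

/-- The step of the induction for the Frattini property at a subgroup that is not centric: the automorphism extends to
`R C_S(R)`. -/
theorem frattini_step_noncentric [Finite S] (p : ℕ) [Fact p.Prime] (hS : IsPGroup p S) (F : FusionSystem S)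
    (hF : F.IsSaturated p) (E' : FusionSystem S) (R : Subgroup Ω) (hRfn : F.IsFullyNormalized R)
    (hnc : ¬ F.IsCentric R)
    (hbig : ∀ R₁ : Subgroup Ω, R₁ ≤ S → Nat.card R < Nat.card R₁ → F.Hom R₁ ⊆ E'.Hom R₁)
    (β : MulAut R) (hβ : β ∈ F.autGroup R) :
    R.subtype.comp (β : R ≃* R).toMonoidHom ∈ E'.Hom R := by
  have hRS : R ≤ S := hRfn.1
  obtain ⟨hfc, -⟩ := fullyNormalized_props p hS F hF R hRfn
  have hrec := isReceptive_of_isFullyCentralized p hS F hF R hfc
  have hβF : R.subtype.comp (β : R ≃* R).toMonoidHom ∈ F.Hom R := (mem_autGroup_iff F hRS).mp hβ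
  obtain ⟨ψ, hψ, hψext⟩ := hrec.2 R _ hβF (IsFIso.range_eq (β : R ≃* R))
  have hRle : R ≤ extender S R (R.subtype.comp (β : R ≃* R).toMonoidHom) :=
    le_extender hRS (fun x => hRS (β x).2)
  have hCle : centralizerIn S R ≤ extender S R (R.subtype.comp (β : R ≃* R).toMonoidHom) :=
    centralizerIn_le_extender S R _
  have hext_le : extender S R (R.subtype.comp (β : R ≃* R).toMonoidHom) ≤ S := (F.le_of_mem hψ).1
  have hlt : Nat.card R < Nat.card (extender S R (R.subtype.comp (β : R ≃* R).toMonoidHom)) := by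
    have : Finite (extender S R (R.subtype.comp (β : R ≃* R).toMonoidHom)) := finite_of_le hext_le
    by_contra hge
    have heq := Subgroup.eq_of_le_of_card_ge hRle (not_lt.mp hge)
    apply hnc
    apply isCentric_of_isFullyCentralized F hfc
    intro c hc
    rw [heq]
    exact hCle hc
  have hψE := hbig _ hext_le hlt hψ
  have h2 := Cfsg.Agent.Lib.Helper87.restrict_mem E' hRle hψE
  refine hom_congr E' h2 (fun x => ?_)
  exact (hψext x x.2 (hRle x.2)).symm

theorem stronglyClosed_self (F : FusionSystem S) : F.StronglyClosed S :=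
  ⟨le_rfl, fun _ _ _ hφ x => (F.le_of_mem hφ).2 x⟩

/-- The Frattini property for subsystems containing `O^{p'}(Aut_F(P))` for all centric `P`. -/
theorem frattini_of_pElemGen_le [Finite S] (p : ℕ) [Fact p.Prime] (hS : IsPGroup p S) (F : FusionSystem S)
    (hF : F.IsSaturated p) (E : FusionSystem S) (hEF : E.IsSubsystemOf F)
    (h : ∀ P : Subgroup Ω, F.IsCentric P →
      (pElemGen p (F.autGroup P)).map (F.autGroup P).subtype ≤ E.autGroup P) :
    ∀ (P : Subgroup Ω) (φ : P →* Ω), φ ∈ F.Hom P → ∃ α ∈ F.autGroup S, ∃ φ₀ ∈ E.Hom P,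
      ∀ (x : P) (hx : φ₀ x ∈ S), φ x = ((α ⟨φ₀ x, hx⟩ : S) : Ω) := by
  have hinv := autInvariant_coreSystem E F
  have hT := stronglyClosed_self F
  have hcoreF : ∀ P : Subgroup Ω, (coreSystem E F).Hom P ⊆ F.Hom P := fun P φ hφ => hEF P hφ.1
  have key := hom_subset_of_aut_fullyNormalized p hS F hF hT (frattiniSystem (coreSystem E F) F hinv)
    (frattiniSystem_le (coreSystem E F) F hinv le_rfl hcoreF) (by
      intro R hRS hRfn hbig β hβ
      by_cases hReqS : R = S
      · subst hReqS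
        exact ⟨β, hβ, R.subtype, subtype_mem _ le_rfl, fun x hx => rfl⟩
      by_cases hc : F.IsCentric R
      · have hN : ∀ n ∈ pElemGen p (F.autGroup R), (n : MulAut R) ∈ (coreSystem E F).autGroup R := by
          intro n hn
          apply pElemGen_le_autGroup_coreSystem p E F hRS (h R hc)
          · intro α hα
            apply h
            obtain ⟨a, haF, -⟩ := exists_autMap_equiv F hα hRS
            exact Cfsg.Agent.Lib.Helper91.isCentric_of_isConj F hc (IsFIso.isConj F haF)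
          · exact ⟨n, hn, rfl⟩
        refine frattini_step' p hS F hF hT (coreSystem E F) hinv R hRS hReqS hRfn hbig
          (pElemGen p (F.autGroup R)) hN β hβ ?_
        apply le_pElemGen_of_isPGroup
        exact ((isPGroup_autInducedBy hS R).comap_subtype).map _
      · exact frattini_step_noncentric p hS F hF _ R hRfn hc hbig β hβ)
  intro P φ hφ
  obtain ⟨α, hα, φ₀, hφ₀, hx⟩ := key P (F.le_of_mem hφ).1 hφ
  exact ⟨α, hα, φ₀, hφ₀.1, hx⟩

end Cfsg.Agent.Lib.Helper88
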