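import Cfsg.Agent.Lib.Helper88.FusionHP3
import Cfsg.Agent.Lib.Helper54.Quot

set_option autoImplicit false
open Cfsg

namespace Cfsg.Agent.Lib.Helper88

open Cfsg.FusionSystem Cfsg.Agent.Lib.Helper87
open Cfsg.Agent.Lib.Helper89 (fullSubsystem mem_fullSubsystem_iff autGroup_fullSubsystem)

variable {Ω : Type*} [Group Ω] {S T : Subgroup Ω}

theorem centralizerIn_mono' {A B : Subgroup Ω} (h : A ≤ B) (P : Subgroup Ω) :
    centralizerIn A P ≤ centralizerIn B P := inf_le_inf_right _ h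

/-- A receptive subgroup of a strongly closed subgroup `T` containing its centralizer in `T` is centric relative to
`T`. -/
theorem isCen_of_receptive (F : FusionSystem S) (hT : F.StronglyClosed T) {R : Subgroup Ω} (hRT : R ≤ T)
    (hrec : F.IsReceptive R) (hC : centralizerIn T R ≤ R) : IsCen F T R := by
  have hTS := hT.1
  refine ⟨hRT, fun Q hconj g hg => ?_⟩
  obtain ⟨φ, hφ, hr⟩ := isConj_symm F hconj
  have hQS : Q ≤ S := hom_le F hφ
  obtain ⟨ψ, hψ, hψx⟩ := hrec.2 Q φ hφ hr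
  obtain ⟨hgT, hgc⟩ := mem_centralizerIn.mp hg
  have hgN : g ∈ extender S Q φ :=
    centralizerIn_le_extender S Q φ (centralizerIn_mono' hTS Q hg)
  have hQN : Q ≤ extender S Q φ := le_extender hQS (fun x => hom_mem F hφ x)
  -- `ψ g ∈ T`
  have hψgT : ψ ⟨g, hgN⟩ ∈ T := by
    have h1 : ψ.comp (Subgroup.inclusion (inf_le_left : extender S Q φ ⊓ T ≤ extender S Q φ)) ∈
        F.Hom (extender S Q φ ⊓ T) := restrict_mem F inf_le_left hψ
    exact hT.2 _ inf_le_right _ h1 ⟨g, ⟨hgN, hgT⟩⟩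
  have hψgC : ψ ⟨g, hgN⟩ ∈ centralizerIn T R := by
    refine mem_centralizerIn.mpr ⟨hψgT, fun r hr' => ?_⟩
    rw [← hr] at hr'
    obtain ⟨q, rfl⟩ := hr'
    rw [← hψx q q.2 (hQN q.2), ← map_mul, ← map_mul]
    congr 1
    exact Subtype.ext (hgc q q.2)
  have h2 := hC hψgC
  rw [← hr] at h2
  obtain ⟨q, hq⟩ := h2
  rw [← hψx q q.2 (hQN q.2)] at hq
  have := F.injective_of_mem hψ hq
  have e : (q : Ω) = g := congrArg (fun z : extender S Q φ => (z : Ω)) this
  rw [← e]
  exact q.2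

/-- Extension of an automorphism of a receptive subgroup to its extender. -/
theorem exists_ext_aut (F : FusionSystem S) {R : Subgroup Ω} (hrec : F.IsReceptive R) {β : MulAut R}
    (hβ : β ∈ F.autGroup R) :
    ∃ ψ ∈ F.Hom (extender S R (R.subtype.comp (β : R ≃* R).toMonoidHom)),
      ∀ (x : Ω) (hx : x ∈ R) (hN : x ∈ extender S R (R.subtype.comp (β : R ≃* R).toMonoidHom)),
        ψ ⟨x, hN⟩ = ((β ⟨x, hx⟩ : R) : Ω) := by
  have hφ := autGroup_hom_mem F hrec.1 hβ
  have hr : (R.subtype.comp (β : R ≃* R).toMonoidHom).range = R := IsFIso.range_eq (β : R ≃* R)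
  obtain ⟨ψ, hψ, hψx⟩ := hrec.2 R _ hφ hr
  exact ⟨ψ, hψ, fun x hx hN => hψx x hx hN⟩

namespace HPCtx

variable [Finite S] {p : ℕ} [Fact p.Prime] {F : FusionSystem S}

/-- The Frattini property: every map of `F` between subgroups of `T` is the composite of a map of the generated
system and a conjugation by an element of `S`. -/
theorem frattini (c : HPCtx p F T) : ∀ P : Subgroup Ω, P ≤ T → ∀ φ ∈ F.Hom P, ∃ w ∈ S, Dec c.E φ w := by
  have hTS := c.hTS
  intro P hPT φ hφ
  apply c.mem_sProd_iff.mp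
  refine hom_subset_of_aut_fullyNormalized p c.hS F c.hF c.hsc c.sProd c.sProd_le ?_ P hPT hφ
  intro R hRT hRfn IH β hβ
  have hRS : R ≤ S := hRT.trans hTS
  obtain ⟨hfc, -, Sy, hSy⟩ := fullyNormalized_props p c.hS F c.hF R hRfn
  by_cases hcen : IsCen F T R
  · have : Finite (F.autGroup R) := finite_autGroup F hRS
    have hsup := Cfsg.Agent.Lib.Helper54.pResidual_sup_sylow Sy
    have hnormal := Cfsg.Agent.Lib.Helper54.pResidual_normal p (F.autGroup R)
    have hmem : (⟨β, hβ⟩ : F.autGroup R) ∈ ((pResidual p (F.autGroup R) ⊔ (Sy : Subgroup (F.autGroup R)) :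
        Subgroup (F.autGroup R)) : Set (F.autGroup R)) := by
      rw [hsup]; trivial
    rw [Subgroup.normal_mul] at hmem
    obtain ⟨o, ho, r, hr, hor⟩ := Set.mem_mul.mp hmem
    have hr' : r ∈ (Sy : Subgroup (F.autGroup R)) := hr
    rw [hSy, Subgroup.mem_subgroupOf] at hr'
    obtain ⟨s, hsS, hs⟩ := Cfsg.Agent.Lib.Helper87.mem_autInducedBy_iff.mp hr'
    have hoE : R.subtype.comp ((o : MulAut R) : R ≃* R).toMonoidHom ∈ c.sProd.Hom R := by
      apply le_autProdSystem
      rw [← mem_autGroup_iff c.E hRT]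
      exact pResidual_le_hpSystem F p c.hTS hcen ⟨o, ho, rfl⟩
    have hrE : R.subtype.comp ((r : MulAut R) : R ≃* R).toMonoidHom ∈ c.sProd.Hom R :=
      c.mem_sProd_iff.mpr ⟨s, hsS, R.subtype, subtype_mem c.E hRT, fun x => hs x⟩
    refine comp_mem' c.sProd hrE hoE (fun x => ((r : MulAut R) x).2) (fun x => ?_)
    show ((β x : R) : Ω) = (((o : MulAut R) ((r : MulAut R) x) : R) : Ω)
    have : β = (o : MulAut R) * (r : MulAut R) := by
      have := congrArg (fun z : F.autGroup R => (z : MulAut R)) hor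
      exact this.symm
    rw [this]
    rfl
  · have hrec : F.IsReceptive R := isReceptive_of_isFullyCentralized p c.hS F c.hF R hfc
    have hC : ¬ centralizerIn T R ≤ R := fun h => hcen (isCen_of_receptive F c.hsc hRT hrec h)
    obtain ⟨g, hgC, hgR⟩ := SetLike.not_le_iff_exists.mp hC
    obtain ⟨ψ, hψ, hψx⟩ := exists_ext_aut F hrec hβ
    set N := extender S R (R.subtype.comp (β : R ≃* R).toMonoidHom) with hN
    have hRN : R ≤ N := le_extender hRS (fun x => hRS (β x).2)
    have hCN : centralizerIn T R ≤ N :=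
      (centralizerIn_mono' hTS R).trans (centralizerIn_le_extender S R _)
    have hR₁N : R ⊔ centralizerIn T R ≤ N := sup_le hRN hCN
    have hR₁T : R ⊔ centralizerIn T R ≤ T := sup_le hRT (centralizerIn_le T R)
    haveI : Finite (R ⊔ centralizerIn T R : Subgroup Ω) := finite_of_le (hR₁T.trans hTS)
    have hcard : Nat.card R < Nat.card (R ⊔ centralizerIn T R : Subgroup Ω) :=
      card_lt_of_le_of_not_mem le_sup_left (le_sup_right (a := R) hgC) hgR
    have h1 := IH _ hR₁T hcard (restrict_mem F hR₁N hψ)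
    have h2 := restrict_mem c.sProd (le_sup_left : R ≤ R ⊔ centralizerIn T R) h1
    exact hom_congr c.sProd h2 (fun x => (hψx x x.2 (hRN x.2)).symm)

/-- Conjugate subgroups of `T` in `F` are conjugate in the generated system up to a conjugation in `S`. -/
theorem exists_dec_of_isConj (c : HPCtx p F T) {P Q : Subgroup Ω} (hPT : P ≤ T) (h : F.IsConj P Q) :
    ∃ w ∈ S, ∃ φ₀ ∈ c.E.Hom P, ∀ y, y ∈ Q ↔ ∃ x : P, w * φ₀ x * w⁻¹ = y := by
  obtain ⟨φ, hφ, hr⟩ := h
  obtain ⟨w, hw, φ₀, hφ₀, hx⟩ := c.frattini P hPT φ hφ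
  refine ⟨w, hw, φ₀, hφ₀, fun y => ?_⟩
  rw [← hr]
  constructor
  · rintro ⟨x, rfl⟩
    exact ⟨x, (hx x).symm⟩
  · rintro ⟨x, rfl⟩
    exact ⟨x, hx x⟩

end HPCtx

end Cfsg.Agent.Lib.Helper88
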