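import Cfsg.Agent.Lib.Helper88.FusionRS3

set_option autoImplicit false
open Cfsg

namespace Cfsg.Agent.Lib.Helper88

open Cfsg.FusionSystem Cfsg.Agent.Lib.Helper87

variable {Ω : Type*} [Group Ω] {S : Subgroup Ω}

/-- Roberts–Shpectorov: if `S` is fully automized and every fully normalized subgroup is receptive, then every fully
normalized subgroup is fully automized. -/
theorem isFullyAutomized_of_isFullyNormalized_RS [Finite S] (p : ℕ) [Fact p.Prime] (hS : IsPGroup p S)
    (F : FusionSystem S) (h1 : F.IsFullyAutomized p S)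
    (h2 : ∀ P : Subgroup Ω, F.IsFullyNormalized P → F.IsReceptive P) :
    ∀ (n : ℕ) (Q : Subgroup Ω), F.IsFullyNormalized Q → Nat.card S - Nat.card Q = n →
      F.IsFullyAutomized p Q := by
  intro n
  induction n using Nat.strong_induction_on with
  | _ n ih =>
    intro Q hQ hn
    by_cases hQeq : Q = S
    · rw [hQeq]; exact h1
    have hQS := hQ.1
    by_contra hcon
    have hns : ¬ ∃ R : Sylow p (F.autGroup Q),
        (R : Subgroup (F.autGroup Q)) = (autInducedBy S Q).subgroupOf (F.autGroup Q) :=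
      fun h => hcon ⟨hQS, h⟩
    have : Finite (F.autGroup Q) := finite_autGroup F hQS
    obtain ⟨α₀, hαA, hαB, hαnorm, a, hαp⟩ := exists_normalizing_pElement (F.autGroup Q) (autInducedBy S Q)
      (autInducedBy_le_autGroup F hQS) (isPGroup_autInducedBy hS Q) hns
    apply hαB
    obtain ⟨γ₀, hγ₀, hres₀⟩ := exists_autGroup_normalizer_extension F hQS (h2 Q hQ) hαA hαnorm
    have : Finite (normalizerIn S Q) := finite_of_le (normalizerIn_le S Q)
    obtain ⟨γ, hγ, ⟨b, hγp⟩, hres⟩ := exists_pElement_restriction (F.autGroup (normalizerIn S Q))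
      (fun x : Q => (⟨x, le_normalizerIn hQS x.2⟩ : normalizerIn S Q)) γ₀ hγ₀ α₀
      (fun x => Subtype.ext (hres₀ x)) hαp
    obtain ⟨R₁, hconj, hR₁fn⟩ := exists_isFullyNormalized F (normalizerIn_le S Q)
    obtain ⟨s, hsN, hsQ⟩ := exists_mem_normalizerIn_not_mem hS hQS hQeq
    have hlt : Nat.card Q < Nat.card (normalizerIn S Q) := by
      by_contra hge
      have := Subgroup.eq_of_le_of_card_ge (le_normalizerIn hQS) (not_lt.mp hge)
      exact hsQ (this ▸ hsN)
    obtain ⟨θ, -⟩ := exists_isFIso_of_isConj F hconj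
    have hcardR : Nat.card (normalizerIn S Q) = Nat.card R₁ := Nat.card_congr θ.toEquiv
    have hR₁S : Nat.card R₁ ≤ Nat.card S := card_le_of_le hR₁fn.1
    have hR₁ : F.IsFullyAutomized p R₁ := ih (Nat.card S - Nat.card R₁) (by omega) R₁ hR₁fn rfl
    exact mem_autInducedBy_of_extension p F hQ α₀ γ hγ b hγp (fun x => congrArg Subtype.val (hres x)) hconj hR₁

/-- A fusion system over a finite `p`-group is saturated iff `S` is fully automized and every fully normalized
subgroup is receptive. -/
theorem isSaturated_iff_RS [Finite S] (p : ℕ) [Fact p.Prime] (hS : IsPGroup p S) (F : FusionSystem S) :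
    F.IsSaturated p ↔
      (F.IsFullyAutomized p S ∧ ∀ P : Subgroup Ω, F.IsFullyNormalized P → F.IsReceptive P) := by
  constructor
  · intro hF
    refine ⟨isFullyAutomized_top_of_isSaturated F hF, fun P hP => ?_⟩
    exact isReceptive_of_isFullyCentralized p hS F hF P (fullyNormalized_props p hS F hF P hP).1
  · rintro ⟨h1, h2⟩ P hP
    obtain ⟨Q, hPQ, hQ⟩ := exists_isFullyNormalized F hP
    exact ⟨Q, hPQ, isFullyAutomized_of_isFullyNormalized_RS p hS F h1 h2 _ Q hQ rfl, h2 Q hQ⟩

end Cfsg.Agent.Lib.Helper88
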