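import Mathlib
import Cfsg.Agent.Lib.Helper28.ZNDefs
import Cfsg.Agent.Lib.Helper97.UniqueOrderP

set_option autoImplicit false

/-!
Keystone K-ZN-2b (architect helper28): a finite `r`-group all of whose abelian subgroups are
cyclic, which is non-abelian of class two, is the quaternion group of order 8.
-/

universe u

namespace Cfsg.Agent.Lib.Helper88.ZN

open Cfsg.Agent.Lib.Helper28.ZN

/-- In a finite group whose abelian subgroups are cyclic, a central element `z` of order `r`
generates the only subgroup of order `r`. -/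
theorem zn2b_eq_zpowers_of_card {N : Type u} [Group N] [Finite N] (r : ℕ) [hr : Fact r.Prime]
    (hcyc : AbCyc N) (z : N) (hzc : ∀ g : N, g * z = z * g) (hzo : orderOf z = r)
    (X : Subgroup N) (hX : Nat.card X = r) : X = Subgroup.zpowers z := by
  classical
  -- `X` is cyclic of prime order, pick a generator
  haveI : IsCyclic X := isCyclic_of_prime_card hX
  obtain ⟨⟨x, hxX⟩, hxgen⟩ := IsCyclic.exists_generator (α := X)
  have hXz : X = Subgroup.zpowers x := by
    apply le_antisymm
    · intro y hy
      have := hxgen ⟨y, hy⟩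
      obtain ⟨k, hk⟩ := Subgroup.mem_zpowers_iff.mp this
      refine Subgroup.mem_zpowers_iff.mpr ⟨k, ?_⟩
      have := congrArg Subtype.val hk
      simpa using this
    · rw [Subgroup.zpowers_le]; exact hxX
  have hxo : orderOf x = r := by
    rw [← Nat.card_zpowers, ← hXz, hX]
  -- the subgroup generated by `x` and `z` is abelian
  set B : Subgroup N := Subgroup.closure {x, z} with hB
  have hxz : x * z = z * x := hzc x
  have hBab : Ab B := by
    have hcomm : ∀ a ∈ ({x, z} : Set N), ∀ b ∈ ({x, z} : Set N), a * b = b * a := by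
      intro a ha b hb
      rcases ha with rfl | rfl <;> rcases hb with rfl | rfl
      · rfl
      · exact hxz
      · exact hxz.symm
      · rfl
    intro a ha b hb
    have hle : B ≤ Subgroup.centralizer (B : Set N) := by
      rw [hB]
      apply (Subgroup.closure_le _).mpr
      intro a ha
      rw [SetLike.mem_coe, Subgroup.mem_centralizer_iff]
      intro b hb
      -- b ∈ closure {x,z}
      have : b ∈ Subgroup.centralizer ({a} : Set N) := by
        have hle2 : Subgroup.closure ({x, z} : Set N) ≤ Subgroup.centralizer ({a} : Set N) := by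
          apply (Subgroup.closure_le _).mpr
          intro c hc
          rw [SetLike.mem_coe, Subgroup.mem_centralizer_iff]
          intro d hd
          rw [Set.mem_singleton_iff] at hd
          subst hd
          exact hcomm d ha c hc
        exact hle2 hb
      rw [Subgroup.mem_centralizer_iff] at this
      exact (this a rfl).symm
    have := hle ha
    rw [Subgroup.mem_centralizer_iff] at this
    exact (this b hb).symm
  haveI hBc : IsCyclic B := hcyc B hBab
  have hxB : x ∈ B := Subgroup.subset_closure (by simp)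
  have hzB : z ∈ B := Subgroup.subset_closure (by simp)
  -- in the cyclic group `B`, `x` is a power of `z`
  have hxr : (⟨x, hxB⟩ : B) ^ r = 1 := by
    apply Subtype.ext
    simp only [Subgroup.coe_pow, Subgroup.coe_one]
    rw [← hxo]; exact pow_orderOf_eq_one x
  have hzoB : orderOf (⟨z, hzB⟩ : B) = r := by
    rw [← hzo]
    exact (Subgroup.orderOf_mk z hzB)
  have hmem := Cfsg.Agent.Lib.Helper97.mem_zpowers_of_pow_eq_one_of_isCyclic' (P := B)
    hr.out.pos (⟨z, hzB⟩ : B) (⟨x, hxB⟩ : B) hzoB hxr
  obtain ⟨k, hk⟩ := Subgroup.mem_zpowers_iff.mp hmem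
  have hxk : z ^ k = x := by
    have := congrArg Subtype.val hk
    simpa using this
  have hle : Subgroup.zpowers x ≤ Subgroup.zpowers z := by
    rw [Subgroup.zpowers_le, ← hxk]
    exact Subgroup.zpow_mem _ (Subgroup.mem_zpowers z) k
  rw [hXz]
  apply Subgroup.eq_of_le_of_card_ge hle
  rw [Nat.card_zpowers, Nat.card_zpowers, hxo, hzo]

/-- ZN-2b. -/
theorem q8_of_pgroup_class_two {N : Type u} [Group N] [Finite N] (r : ℕ) [Fact r.Prime] (hN : IsPGroup r N)
    (hcyc : AbCyc N) (hna : ∃ x y : N, x * y ≠ y * x)
    (hcl2 : ∀ x y w : N, (x * y * x⁻¹ * y⁻¹) * w = w * (x * y * x⁻¹ * y⁻¹)) :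
    Nonempty (N ≃* QuaternionGroup 2) := by
  classical
  have hr : r.Prime := Fact.out
  -- `N` is non-trivial
  haveI : Nontrivial N := by
    obtain ⟨x, y, hxy⟩ := hna
    refine ⟨⟨x, 1, ?_⟩⟩
    rintro rfl
    exact hxy (by simp)
  -- a central element of order `r`
  haveI : Nontrivial (Subgroup.center N) := hN.center_nontrivial
  have hcz : IsPGroup r (Subgroup.center N) := hN.to_subgroup _
  obtain ⟨k, hk⟩ := hcz.exists_card_eq
  have hkpos : 0 < k := by
    rcases Nat.eq_zero_or_pos k with h | h
    · rw [h, pow_zero] at hk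
      have := Finite.one_lt_card (α := Subgroup.center N)
      omega
    · exact h
  have hdvd : r ∣ Nat.card (Subgroup.center N) := by
    rw [hk]; exact dvd_pow_self r hkpos.ne'
  obtain ⟨⟨z, hzc⟩, hzo⟩ := exists_prime_orderOf_dvd_card' r hdvd
  have hzo' : orderOf z = r := by
    rw [← hzo]; exact (Subgroup.orderOf_mk z hzc).symm
  have hzcomm : ∀ g : N, g * z = z * g := fun g => Subgroup.mem_center_iff.mp hzc g
  have huniq : ∀ H K : Subgroup N, Nat.card H = r → Nat.card K = r → H = K := by
    intro H K hH hK
    rw [zn2b_eq_zpowers_of_card r hcyc z hzcomm hzo' H hH,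
      zn2b_eq_zpowers_of_card r hcyc z hzcomm hzo' K hK]
  rcases Cfsg.Agent.Lib.Helper97.cyclic_or_quaternion_of_unique r hN huniq with hc | ⟨-, n, ⟨e⟩⟩
  · exfalso
    obtain ⟨x, y, hxy⟩ := hna
    haveI := hc
    exact hxy (IsCyclic.commGroup.mul_comm x y)
  · -- transport the class two condition
    have hQ : ∀ x y w : QuaternionGroup (2 ^ n),
        (x * y * x⁻¹ * y⁻¹) * w = w * (x * y * x⁻¹ * y⁻¹) := by
      intro x y w
      have := hcl2 (e.symm x) (e.symm y) (e.symm w)
      have h2 := congrArg e this
      simpa using h2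
    have h1 := hQ (QuaternionGroup.xa 0) (QuaternionGroup.a 1) (QuaternionGroup.xa 0)
    have h4 : (4 : ZMod (2 * 2 ^ n)) = 0 := by
      have hcast : (2 : ZMod (2 * 2 ^ n)) * ((2 ^ n : ℕ) : ZMod (2 * 2 ^ n)) = 0 := by
        have := ZMod.natCast_self (2 * 2 ^ n)
        rw [Nat.cast_mul] at this
        simpa using this
      have hinvxa : (QuaternionGroup.xa 0 : QuaternionGroup (2 ^ n))⁻¹
          = QuaternionGroup.xa ((2 ^ n : ℕ) : ZMod (2 * 2 ^ n)) := by
        apply inv_eq_of_mul_eq_one_right
        rw [QuaternionGroup.xa_mul_xa, QuaternionGroup.one_def]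
        congr 1
        linear_combination hcast
      have hinva : (QuaternionGroup.a 1 : QuaternionGroup (2 ^ n))⁻¹
          = QuaternionGroup.a (-1) := by
        apply inv_eq_of_mul_eq_one_right
        rw [QuaternionGroup.a_mul_a, QuaternionGroup.one_def]
        congr 1
        ring
      rw [hinvxa, hinva] at h1
      simp only [QuaternionGroup.xa_mul_a, QuaternionGroup.xa_mul_xa, QuaternionGroup.a_mul_a,
        QuaternionGroup.a_mul_xa] at h1
      have h2 := QuaternionGroup.xa.inj h1
      linear_combination h2 + 2 * hcast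
    have hdvd4 : 2 * 2 ^ n ∣ 4 := by
      have := (ZMod.natCast_eq_zero_iff 4 (2 * 2 ^ n)).mp (by exact_mod_cast h4)
      exact this
    have hn : n = 0 ∨ n = 1 := by
      rcases n with _ | _ | n
      · left; rfl
      · right; rfl
      · exfalso
        have : 2 * 2 ^ (n + 1 + 1) ≤ 4 := Nat.le_of_dvd (by norm_num) hdvd4
        have h8 : 2 ^ (n + 1 + 1) ≥ 4 := by
          calc 2 ^ (n + 1 + 1) = 2 ^ n * 4 := by ring
            _ ≥ 1 * 4 := Nat.mul_le_mul_right 4 (Nat.one_le_two_pow)
            _ = 4 := by norm_num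
        omega
    rcases hn with rfl | rfl
    · exfalso
      obtain ⟨x, y, hxy⟩ := hna
      have hc : IsCyclic (QuaternionGroup (2 ^ 0)) := by
        simpa using QuaternionGroup.quaternionGroup_one_isCyclic
      haveI := hc
      have := IsCyclic.commGroup.mul_comm (e x) (e y)
      apply hxy
      apply e.injective
      simpa using this
    · exact ⟨by simpa using e⟩

end Cfsg.Agent.Lib.Helper88.ZN
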