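import Cfsg.Agent.Lib.Helper88.FusionHP18
import Cfsg.Agent.Lib.Helper87.PPowerIndex
import Cfsg.Agent.Lib.Helper71.Miller
import Cfsg.Agent.S5092

set_option autoImplicit false
open Cfsg

namespace Cfsg.Agent.Lib.Helper88

open Cfsg.FusionSystem Cfsg.Agent.Lib.Helper87
open scoped commutatorElement

variable {Ω : Type*} [Group Ω]

/-- Existence for a subgroup of index `p`. -/
theorem exists_pPowerIndex_of_index_p {S : Subgroup Ω} [Finite S] (p : ℕ) [Fact p.Prime] (hS : IsPGroup p S)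
    (F : FusionSystem S) (hF : F.IsSaturated p) (T : Subgroup Ω) (hTS : T ≤ S)
    (hidx : (T.subgroupOf S).index = p) (hT : F.hyperfocalSubgroup p ≤ T) :
    ∃ E : FusionSystem T, E.IsSaturated p ∧ E.HasPPowerIndexIn F p := by
  classical
  haveI hn : (T.subgroupOf S).Normal := Cfsg.Agent.Lib.Helper71.normal_of_index_eq_prime hS _ hidx
  have hsc := stronglyClosed_of_hyperfocal_le p hS F hF hTS hn hT
  have hcard : Nat.card (↥S ⧸ T.subgroupOf S) = p := by
    rw [← Subgroup.index_eq_card]; exact hidx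
  haveI : IsCyclic (↥S ⧸ T.subgroupOf S) := isCyclic_of_prime_card hcard
  letI : CommGroup (↥S ⧸ T.subgroupOf S) := IsCyclic.commGroup
  let lam : Ω → ↥S ⧸ T.subgroupOf S := fun x => if h : x ∈ S then QuotientGroup.mk' (T.subgroupOf S) ⟨x, h⟩ else 1
  have hlam : ∀ (x : Ω) (h : x ∈ S), lam x = QuotientGroup.mk' (T.subgroupOf S) ⟨x, h⟩ := fun x h => dif_pos h
  have hker' : ∀ s : ↥S, QuotientGroup.mk' (T.subgroupOf S) s = 1 ↔ (s : Ω) ∈ T := by
    intro s
    rw [QuotientGroup.mk'_apply, QuotientGroup.eq_one_iff, Subgroup.mem_subgroupOf]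
  have c : HPCtxL p F T lam := {
    hS := hS
    hF := hF
    hsc := hsc
    hmul := by
      intro a ha b hb
      rw [hlam a ha, hlam b hb, hlam (a * b) (S.mul_mem ha hb), ← map_mul]
      rfl
    hker := by
      intro s hs
      rw [hlam s hs, hker']
    hcyc := by
      intro x hx hxT s hs
      have hne : QuotientGroup.mk' (T.subgroupOf S) ⟨x, hx⟩ ≠ 1 := fun h => hxT ((hker' ⟨x, hx⟩).mp h)
      obtain ⟨i, hi⟩ := (Submonoid.mem_powers_iff _ _).mp
        (mem_powers_of_prime_card hcard hne (g' := (QuotientGroup.mk' (T.subgroupOf S) ⟨s, hs⟩)⁻¹))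
      refine ⟨i, ?_⟩
      have h1 : QuotientGroup.mk' (T.subgroupOf S) (⟨x, hx⟩ ^ i * ⟨s, hs⟩) = 1 := by
        rw [map_mul, map_pow, hi, inv_mul_cancel]
      exact (hker' _).mp h1
    hfoc := by
      rw [Cfsg.Agent.S5092.result p hS F hF]
      refine sup_le hT ?_
      rw [Subgroup.commutator_le]
      intro a ha b hb
      have h1 : QuotientGroup.mk' (T.subgroupOf S) ⁅(⟨a, ha⟩ : S), ⟨b, hb⟩⁆ = 1 := by
        rw [map_commutatorElement, commutatorElement_eq_one_iff_commute]
        exact Commute.all _ _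
      exact (hker' _).mp h1 }
  exact ⟨c.toHPCtx.E, c.isSaturated_E, c.hasPPowerIndexIn_E hT⟩

theorem autGroup_le_of_sub {S T : Subgroup Ω} (E : FusionSystem T) (F : FusionSystem S) (h : E.IsSubsystemOf F)
    (P : Subgroup Ω) : E.autGroup P ≤ F.autGroup P := by
  unfold FusionSystem.autGroup
  apply Subgroup.closure_mono
  intro α hα
  exact h P hα

/-- If `O^p(B) ≤ A` then `O^p(B) ≤ O^p(A)`. -/
theorem pResidual_map_le_of_le {M : Type*} [Group M] (p : ℕ) {A B : Subgroup M}
    (h : (pResidual p B).map B.subtype ≤ A) : (pResidual p B).map B.subtype ≤ (pResidual p A).map A.subtype := by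
  have hB := Cfsg.Agent.Lib.Helper54.map_pResidual_subtype p B
  rw [Cfsg.Agent.Lib.Helper54.map_pResidual_subtype p A]
  rw [hB] at h ⊢
  rw [Subgroup.closure_le]
  intro g hg
  exact Subgroup.subset_closure ⟨h (Subgroup.subset_closure hg), hg.2⟩

/-- Transitivity of `p`-power index. -/
theorem hasPPowerIndexIn_trans {S M T : Subgroup Ω} (p : ℕ) (F : FusionSystem S) (D : FusionSystem M)
    (E : FusionSystem T) (hTM : T ≤ M) (hD : D.HasPPowerIndexIn F p) (hE : E.HasPPowerIndexIn D p)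
    (hT : F.hyperfocalSubgroup p ≤ T) : E.HasPPowerIndexIn F p := by
  refine ⟨fun P φ hφ => hD.1 P (hE.1 P hφ), hT, fun P hPT => ?_⟩
  exact (pResidual_map_le_of_le p (hD.2.2 P (hPT.trans hTM))).trans (hE.2.2 P hPT)

/-- The hyperfocal subgroup of a subsystem lies in that of the system. -/
theorem hyperfocal_le_of_sub {S T : Subgroup Ω} (p : ℕ) (E : FusionSystem T) (F : FusionSystem S) (hTS : T ≤ S)
    (h : E.IsSubsystemOf F) : E.hyperfocalSubgroup p ≤ F.hyperfocalSubgroup p := by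
  unfold FusionSystem.hyperfocalSubgroup
  apply Subgroup.closure_mono
  rintro _ ⟨P, α, x, hP, hα, rfl⟩
  have h1 : (α : MulAut P) ∈ (pResidual p (E.autGroup P)).map (E.autGroup P).subtype := ⟨α, hα, rfl⟩
  obtain ⟨α', hα', hαα'⟩ := Cfsg.Agent.Lib.Helper54.map_pResidual_subtype_mono p (autGroup_le_of_sub E F h P) h1
  refine ⟨P, α', x, hP.trans hTS, hα', ?_⟩
  have : ((α' : MulAut P)) = (α : MulAut P) := hαα'
  rw [this]

theorem fusionSystem_ext_hp {T : Subgroup Ω} {A B : FusionSystem T} (h : ∀ P : Subgroup Ω, A.Hom P = B.Hom P) :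
    A = B := by
  cases A
  cases B
  simp only [FusionSystem.mk.injEq]
  funext P
  exact h P

theorem hasPPowerIndexIn_refl {S : Subgroup Ω} (F : FusionSystem S) (p : ℕ) : F.HasPPowerIndexIn F p := by
  refine ⟨fun P φ hφ => hφ, ?_, fun P _ => Subgroup.map_subtype_le _⟩
  unfold FusionSystem.hyperfocalSubgroup
  rw [Subgroup.closure_le]
  rintro _ ⟨P, α, x, hP, -, rfl⟩
  exact S.mul_mem (S.inv_mem (hP x.2)) (hP ((α : MulAut P) x).2)

end Cfsg.Agent.Lib.Helper88
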