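import Cfsg.Agent.Lib.Helper88.HallAltU1a

set_option autoImplicit false
open Cfsg
open scoped Pointwise

namespace Cfsg.Agent.Lib.Helper88.HallAlt
open Cfsg.Agent.Lib.Helper06.HallSym Cfsg.Agent.Lib.Helper38.HallAlt Cfsg.Agent.Lib.Helper30.HallAlt
open Cfsg.Agent.Lib.Helper63.HallAlt Cfsg.Agent.Lib.Helper20.HallSym

/-- An intransitive subgroup `K` of `Perm α` contained in no stabiliser of a set `Δ` with `2 ≤ |Δ| ≤ n - 2` fixes a point. -/
theorem exists_fixed_of_not_le_stabilizer {α : Type} [Finite α] (K : Subgroup (Equiv.Perm α))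
    (hnt : ∃ x : α, MulAction.orbit ↥K x ≠ Set.univ)
    (hK : ∀ Δ : Set α, 2 ≤ Δ.ncard → Δ.ncard + 2 ≤ Nat.card α →
      ¬ K ≤ MulAction.stabilizer (Equiv.Perm α) Δ) :
    ∃ x : α, K ≤ MulAction.stabilizer (Equiv.Perm α) x := by
  classical
  obtain ⟨x, hx⟩ := hnt
  set Δ := MulAction.orbit ↥K x with hΔ
  have hKΔ : K ≤ MulAction.stabilizer (Equiv.Perm α) Δ := by
    intro k hk
    rw [mem_stabilizer_set_iff']
    intro y
    constructor
    · intro h
      have h1 := MulAction.mem_orbit_of_mem_orbit (⟨k, hk⟩⁻¹ : K) h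
      have e : (⟨k, hk⟩⁻¹ : K) • (k y) = y := by
        show k⁻¹ (k y) = y
        simp
      rw [e] at h1
      exact h1
    · intro h
      exact MulAction.mem_orbit_of_mem_orbit (⟨k, hk⟩ : K) h
  have hxΔ : x ∈ Δ := MulAction.mem_orbit_self x
  have hfin : Δ.Finite := Set.toFinite Δ
  have ha1 : 1 ≤ Δ.ncard := (Set.ncard_pos hfin).mpr ⟨x, hxΔ⟩
  have han : Δ.ncard < Nat.card α := by
    rw [← Set.ncard_univ]
    exact Set.ncard_lt_ncard (Set.ssubset_univ_iff.mpr hx) (Set.toFinite _)
  have hcompl := Set.ncard_add_ncard_compl Δ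
  by_cases h1 : Δ.ncard = 1
  · obtain ⟨b, hb⟩ := Set.ncard_eq_one.mp h1
    refine ⟨b, ?_⟩
    rw [← MulAction.stabilizer_singleton, ← hb]
    exact hKΔ
  · by_cases h2 : Δ.ncard + 2 ≤ Nat.card α
    · exact absurd hKΔ (hK Δ (by omega) h2)
    · have h3 : (Δᶜ).ncard = 1 := by omega
      obtain ⟨b, hb⟩ := Set.ncard_eq_one.mp h3
      refine ⟨b, ?_⟩
      rw [← MulAction.stabilizer_singleton, ← hb, _root_.stabilizer_compl]
      exact hKΔ

/-- A divisor of `n!`, `n` prime, all of whose prime divisors equal `n`, is `1` or `n`. -/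
theorem eq_one_or_self_of_dvd_factorial {n d : ℕ} (hn : n.Prime) (hd : d ∣ n.factorial)
    (h : ∀ r : ℕ, r.Prime → r ∣ d → r = n) : d = 1 ∨ d = n := by
  have hd0 : d ≠ 0 := by
    rintro rfl
    exact (Nat.factorial_pos n).ne' (zero_dvd_iff.mp hd)
  have hpow := Nat.eq_prime_pow_of_unique_prime_dvd hd0 (fun {r} hr hrd => h r hr hrd)
  set k := d.primeFactorsList.length
  have hk : k ≤ 1 := by
    by_contra hk
    have h2 : n ^ 2 ∣ d := by
      rw [hpow]
      exact pow_dvd_pow n (by omega)
    have h3 : n ^ 2 ∣ n.factorial := h2.trans hd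
    obtain ⟨m, hm⟩ : ∃ m, n = m + 1 := ⟨n - 1, by have := hn.two_le; omega⟩
    rw [hm, Nat.factorial_succ, pow_two] at h3
    have h4 : (m + 1) ∣ m.factorial := Nat.dvd_of_mul_dvd_mul_left (by omega) h3
    rw [← hm] at h4
    have := (Nat.Prime.dvd_factorial hn).mp h4
    omega
  interval_cases k
  · left; simpa using hpow
  · right; simpa using hpow

/-- **K-HB-U1.** In type A (`n` prime, the primes of `π` up to `n` are those `< n`) the Hall `π`-subgroups of `Sym(n)` and of
`Alt(n)` are the point stabilisers. -/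
theorem typeA_unique (π : Set ℕ) {α : Type} [Finite α] (h5 : 5 ≤ Nat.card α) (hA : TypeA π (Nat.card α))
    (H : Subgroup (Equiv.Perm α)) :
    (IsPiHall π H → ∃ x : α, H = MulAction.stabilizer (Equiv.Perm α) x) ∧
    (AltHall π H → ∃ x : α, H = MulAction.stabilizer (Equiv.Perm α) x ⊓ altSub α) := by
  classical
  letI := Fintype.ofFinite α
  obtain ⟨hnp, hA'⟩ := hA
  set n := Nat.card α with hn
  have hcardS : Nat.card (Equiv.Perm α) = n.factorial := Nat.card_perm
  obtain ⟨m, hm⟩ : ∃ m, n = m + 1 := ⟨n - 1, by omega⟩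
  have hfact : n.factorial = n * (n - 1).factorial := by
    rw [hm, Nat.factorial_succ]; rfl
  have hnπ : n ∉ π := fun h => by
    have := (hA' n hnp le_rfl).mp h
    omega
  -- a prime divisor of a `π'`-number dividing `n!` is `n`
  have hprime : ∀ d : ℕ, d ∣ n.factorial → (∀ r : ℕ, r.Prime → r ∈ π → ¬ r ∣ d) →
      ∀ r : ℕ, r.Prime → r ∣ d → r = n := by
    intro d hd hπ r hr hrd
    have hrn : r ≤ n := (Nat.Prime.dvd_factorial hr).mp (hrd.trans hd)
    have : ¬ r < n := fun hlt => hπ r hr ((hA' r hr hrn).mpr hlt) hrd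
    omega
  -- the order of a point stabiliser
  have hstab : ∀ x : α, Nat.card (MulAction.stabilizer (Equiv.Perm α) x) = (n - 1).factorial := by
    intro x
    rw [← MulAction.stabilizer_singleton, card_stabilizer_set, Set.ncard_singleton, Nat.factorial_one, one_mul]
  -- point stabilisers contain odd permutations
  have hstabodd : ∀ x : α, ¬ MulAction.stabilizer (Equiv.Perm α) x ≤ altSub α := by
    intro x hle
    have h1 : 1 < ({x}ᶜ : Set α).ncard := by
      have := Set.ncard_add_ncard_compl ({x} : Set α)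
      rw [Set.ncard_singleton] at this
      omega
    obtain ⟨y, z, hy, hz, hyz⟩ := (Set.one_lt_ncard_iff (Set.toFinite _)).mp h1
    have hsw : Equiv.swap y z ∈ MulAction.stabilizer (Equiv.Perm α) ({x} : Set α) :=
      swap_mem_stabilizer {x} (by
        constructor
        · intro h; exact absurd h hy
        · intro h; exact absurd h hz)
    rw [MulAction.stabilizer_singleton] at hsw
    have := (mem_altSub_iff _).mp (hle hsw)
    rw [Equiv.Perm.sign_swap hyz] at this
    exact absurd this (by decide)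
  -- set stabilisers of sets with two points contain odd permutations
  have hsetodd : ∀ Δ : Set α, 2 ≤ Δ.ncard → ¬ MulAction.stabilizer (Equiv.Perm α) Δ ≤ altSub α := by
    intro Δ hΔ hle
    obtain ⟨y, z, hy, hz, hyz⟩ := (Set.one_lt_ncard_iff (Set.toFinite _)).mp (by omega : 1 < Δ.ncard)
    have hsw : Equiv.swap y z ∈ MulAction.stabilizer (Equiv.Perm α) Δ :=
      swap_mem_stabilizer Δ ⟨fun _ => hz, fun _ => hy⟩
    have := (mem_altSub_iff _).mp (hle hsw)
    rw [Equiv.Perm.sign_swap hyz] at this
    exact absurd this (by decide)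
  -- transitivity forces `n ∣ |K|`
  have htrans : ∀ K : Subgroup (Equiv.Perm α), ¬ n ∣ Nat.card K → ∃ x : α, MulAction.orbit ↥K x ≠ Set.univ := by
    intro K hK
    have hne : Nonempty α := by
      rw [← Finite.card_pos_iff]; omega
    obtain ⟨x⟩ := hne
    refine ⟨x, fun h => hK ?_⟩
    have h1 := MulAction.index_stabilizer (↥K) x
    rw [h, Set.ncard_univ] at h1
    rw [hn, ← h1]
    exact Subgroup.index_dvd_card _
  constructor
  · rintro ⟨hHπ, hHidx⟩
    have hidx_dvd : H.index ∣ n.factorial := by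
      rw [← hcardS]; exact Subgroup.index_dvd_card H
    have hnH : ¬ n ∣ Nat.card H := fun h => hnπ (hHπ n hnp h)
    have hidx : H.index = n := by
      rcases eq_one_or_self_of_dvd_factorial hnp hidx_dvd (hprime _ hidx_dvd hHidx) with h | h
      · exfalso
        apply hnH
        have := H.card_mul_index
        rw [h, mul_one, hcardS] at this
        rw [this]
        exact Nat.dvd_factorial hnp.pos le_rfl
      · exact h
    have hcardH : Nat.card H = (n - 1).factorial := by
      have := H.card_mul_index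
      rw [hidx, hcardS, hfact, mul_comm] at this
      exact Nat.eq_of_mul_eq_mul_left hnp.pos this
    obtain ⟨x, hx⟩ := exists_fixed_of_not_le_stabilizer H (htrans H hnH) (by
      intro Δ h2 hΔn hle
      have h1 := Subgroup.card_le_of_le hle
      rw [card_stabilizer_set, hcardH, ← hn] at h1
      have := factorial_mul_lt n Δ.ncard h2 hΔn
      omega)
    refine ⟨x, ?_⟩
    apply Subgroup.eq_of_le_of_card_ge hx
    rw [hstab x, hcardH]
  · rintro ⟨hHA, hHπ, hHidx⟩
    have h2card := two_mul_card_altSub α (by omega : 2 ≤ Nat.card α)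
    rw [← hn] at h2card
    have hrel_mul : Nat.card H * H.relIndex (altSub α) = Nat.card (altSub α) := by
      have := Subgroup.relIndex_mul_relIndex ⊥ H (altSub α) bot_le hHA
      rw [Subgroup.relIndex_bot_left, Subgroup.relIndex_bot_left] at this
      exact this
    have hidx_dvd : H.relIndex (altSub α) ∣ n.factorial := by
      rw [← h2card, ← hrel_mul]
      exact Dvd.intro_left (2 * Nat.card H) (by ring)
    have hnH : ¬ n ∣ Nat.card H := fun h => hnπ (hHπ n hnp h)
    have hn2 : Nat.Coprime n 2 := by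
      rw [Nat.coprime_primes hnp Nat.prime_two]; omega
    have hidx : H.relIndex (altSub α) = n := by
      rcases eq_one_or_self_of_dvd_factorial hnp hidx_dvd (hprime _ hidx_dvd hHidx) with h | h
      · exfalso
        apply hnH
        rw [h, mul_one] at hrel_mul
        rw [hrel_mul]
        have h3 : n ∣ 2 * Nat.card (altSub α) := by
          rw [h2card]; exact Nat.dvd_factorial hnp.pos le_rfl
        exact hn2.dvd_of_dvd_mul_left h3
      · exact h
    have hcardH : 2 * Nat.card H = (n - 1).factorial := by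
      rw [hidx] at hrel_mul
      have h3 : n * (2 * Nat.card H) = n * (n - 1).factorial := by
        rw [← hfact, ← h2card, ← hrel_mul]; ring
      exact Nat.eq_of_mul_eq_mul_left hnp.pos h3
    obtain ⟨x, hx⟩ := exists_fixed_of_not_le_stabilizer H (htrans H hnH) (by
      intro Δ h2 hΔn hle
      have hle' : H ≤ MulAction.stabilizer (Equiv.Perm α) Δ ⊓ altSub α := le_inf hle hHA
      have h1 := Subgroup.card_le_of_le hle'
      have h3 := card_eq_two_mul_card_inf_altSub _ (hsetodd Δ h2)
      rw [card_stabilizer_set, ← hn] at h3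
      have := factorial_mul_lt n Δ.ncard h2 hΔn
      omega)
    refine ⟨x, ?_⟩
    apply Subgroup.eq_of_le_of_card_ge (le_inf hx hHA)
    have h3 := card_eq_two_mul_card_inf_altSub _ (hstabodd x)
    rw [hstab x] at h3
    omega

end Cfsg.Agent.Lib.Helper88.HallAlt
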