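import Cfsg.Agent.Lib.Helper88.FusionGrun1
import Cfsg.Agent.Lib.Helper54.Basic

set_option autoImplicit false
open Cfsg

namespace Cfsg.Agent.Lib.Helper88

open Cfsg.FusionSystem Cfsg.Agent.Lib.Helper87

section alg

variable {G : Type*} [Group G]

theorem comm_mul_central_left (u v ζ : G) (hv : Commute ζ v) :
    (u * ζ) * v * (u * ζ)⁻¹ * v⁻¹ = u * v * u⁻¹ * v⁻¹ := by
  have e : (u * ζ) * v * (u * ζ)⁻¹ * v⁻¹ = u * (ζ * v) * ζ⁻¹ * u⁻¹ * v⁻¹ := by group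
  rw [e, hv.eq]
  group

theorem comm_mul_central_right (u v ζ : G) (hu : Commute ζ u) :
    u * (v * ζ) * u⁻¹ * (v * ζ)⁻¹ = u * v * u⁻¹ * v⁻¹ := by
  have h1 : Commute ζ u⁻¹ := hu.inv_right
  have e : u * (v * ζ) * u⁻¹ * (v * ζ)⁻¹ = u * v * (ζ * u⁻¹) * ζ⁻¹ * v⁻¹ := by group
  rw [e, h1.eq]
  group

theorem commute_of_comm_eq (a b z : G) (h : a * z * a⁻¹ * z⁻¹ = b * z * b⁻¹ * z⁻¹) :
    z * (b⁻¹ * a) = (b⁻¹ * a) * z := by
  have h' : a * z * a⁻¹ = b * z * b⁻¹ := mul_right_cancel h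
  symm
  calc (b⁻¹ * a) * z = b⁻¹ * (a * z * a⁻¹) * a := by group
    _ = b⁻¹ * (b * z * b⁻¹) * a := by rw [h']
    _ = z * (b⁻¹ * a) := by group

end alg

variable {Ω : Type*} [Group Ω] {S : Subgroup Ω}

theorem IsCentral.hom_fix (F : FusionSystem S) {Z : Subgroup Ω} (hZ : F.IsCentral Z) {R : Subgroup Ω}
    {ψ : R →* Ω} (hψ : ψ ∈ F.Hom R) (w : R) (hw : (w : Ω) ∈ Z) : ψ w = w := by
  obtain ⟨χ, -, h1, h2⟩ := hZ.2 R ψ hψ
  have e : Subgroup.inclusion (le_sup_left : R ≤ R ⊔ Z) w =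
      Subgroup.inclusion (le_sup_right : Z ≤ R ⊔ Z) ⟨w, hw⟩ := Subtype.ext rfl
  rw [← h1 w, e, h2]

theorem IsCentral.stronglyClosed (F : FusionSystem S) {Z : Subgroup Ω} (hZ : F.IsCentral Z) :
    F.StronglyClosed Z := by
  refine ⟨hZ.1, fun R hR φ hφ x => ?_⟩
  rw [IsCentral.hom_fix F hZ hφ x (hR x.2)]
  exact hR x.2

theorem IsCentral.commute (F : FusionSystem S) {Z : Subgroup Ω} (hZ : F.IsCentral Z) {ζ s : Ω} (hζ : ζ ∈ Z)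
    (hs : s ∈ S) : Commute ζ s := by
  have h := (Cfsg.Agent.Lib.Helper90.IsCentral.le_center F hZ hζ).2
  exact ((Subgroup.mem_centralizer_iff.mp h) s hs).symm

section grun

variable {Ω' : Type*} [Group Ω'] {S' : Subgroup Ω'}

/-- Step A: the full preimage of a central subgroup of the factor system `F/Z(F)` lies in the centre of `S` when
`hyp(F) = S`. -/
theorem commute_of_mem_preimage_central [Finite S] (p : ℕ) [Fact p.Prime] (hS : IsPGroup p S) (F : FusionSystem S)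
    (hF : F.IsSaturated p) (hperf : F.hyperfocalSubgroup p = S) (θ : S →* Ω')
    (hker : ∀ s : S, θ s = 1 ↔ (s : Ω) ∈ F.center) (hrange : θ.range = S') (E : FusionSystem S')
    (hE : ∀ (P' : Subgroup Ω') (φ' : P' →* Ω'),
      φ' ∈ E.Hom P' ↔ P' ≤ S' ∧ ∃ φ ∈ F.Hom (preimageAlong θ P'), InducedAlong θ φ φ')
    {Q' : Subgroup Ω'} (hQ' : E.IsCentral Q') {z : Ω} (hz : z ∈ preimageAlong θ Q') {s : Ω} (hs : s ∈ S) :
    z * s = s * z := by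
  have hZc : F.IsCentral F.center := isCentral_center F
  have hZ : F.StronglyClosed F.center := IsCentral.stronglyClosed F hZc
  obtain ⟨hzS, hz'⟩ := (mem_preimageAlong θ Q' z).mp hz
  have hle : F.hyperfocalSubgroup p ≤ Subgroup.centralizer {z} := by
    rw [hyperfocalSubgroup_eq, Subgroup.closure_le]
    rintro _ ⟨P, α, x, hP, -, rfl⟩
    rw [SetLike.mem_coe, Subgroup.mem_centralizer_iff]
    intro w hw
    rw [Set.mem_singleton_iff] at hw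
    subst hw
    -- the extension in the factor system
    have hP'S' : imageAlong θ P ≤ S' := imageAlong_le θ hrange P
    have hα' := autImgHom_mem p hS F hF hZ θ hker hrange E hE hP α
    have hφ' := (mem_autGroup_iff E hP'S').mp hα'
    obtain ⟨ψ', hψ', hψ'1, hψ'2⟩ := hQ'.2 _ _ hφ'
    obtain ⟨-, ψ, hψ, hA, hψS, hAA', hind⟩ := (hE _ _).mp hψ'
    have hxA : (x : Ω) ∈ preimageAlong θ (imageAlong θ P ⊔ Q') :=
      (mem_preimageAlong θ _ _).mpr ⟨hP x.2, (le_sup_left : imageAlong θ P ≤ _) (imgHom θ hP x).2⟩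
    have hzA : w ∈ preimageAlong θ (imageAlong θ P ⊔ Q') :=
      (mem_preimageAlong θ _ _).mpr ⟨hzS, (le_sup_right : Q' ≤ imageAlong θ P ⊔ Q') hz'⟩
    have hxS : (x : Ω) ∈ S := hP x.2
    have haS : (((α : MulAut P) x : P) : Ω) ∈ S := hP ((α : MulAut P) x).2
    -- `k = x w x⁻¹ w⁻¹` lies in the centre
    have hkZ : (x : Ω) * w * (x : Ω)⁻¹ * w⁻¹ ∈ F.center := by
      have hkS : (x : Ω) * w * (x : Ω)⁻¹ * w⁻¹ ∈ S :=
        S.mul_mem (S.mul_mem (S.mul_mem hxS hzS) (S.inv_mem hxS)) (S.inv_mem hzS)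
      apply (hker ⟨_, hkS⟩).mp
      have e : (⟨(x : Ω) * w * (x : Ω)⁻¹ * w⁻¹, hkS⟩ : S) = ⟨x, hxS⟩ * ⟨w, hzS⟩ * ⟨x, hxS⟩⁻¹ * ⟨w, hzS⟩⁻¹ := rfl
      rw [e, map_mul, map_mul, map_mul, map_inv, map_inv]
      have hc : Commute (θ ⟨w, hzS⟩) (θ ⟨x, hxS⟩) :=
        IsCentral.commute E hQ' hz' (hrange ▸ ⟨_, rfl⟩)
      rw [← hc.eq]
      group
    have hkA : (x : Ω) * w * (x : Ω)⁻¹ * w⁻¹ ∈ preimageAlong θ (imageAlong θ P ⊔ Q') :=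
      kernel_le_preimageAlong θ hZ.1 hker _ hkZ
    have hψk : ψ ⟨_, hkA⟩ = (x : Ω) * w * (x : Ω)⁻¹ * w⁻¹ := IsCentral.hom_fix F hZc hψ ⟨_, hkA⟩ hkZ
    have e : (⟨(x : Ω) * w * (x : Ω)⁻¹ * w⁻¹, hkA⟩ : ↥(preimageAlong θ (imageAlong θ P ⊔ Q'))) =
        ⟨x, hxA⟩ * ⟨w, hzA⟩ * ⟨x, hxA⟩⁻¹ * ⟨w, hzA⟩⁻¹ := rfl
    rw [e, map_mul, map_mul, map_mul, map_inv, map_inv] at hψk
    -- `ψ x = α x * ζ₁`, `ψ w = w * ζ₂`
    have h1 : (((α : MulAut P) x : P) : Ω)⁻¹ * ψ ⟨x, hxA⟩ ∈ F.center := by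
      have hmem : (((α : MulAut P) x : P) : Ω)⁻¹ * ψ ⟨x, hxA⟩ ∈ S := S.mul_mem (S.inv_mem haS) (hψS _)
      apply (hker ⟨_, hmem⟩).mp
      have e1 : (⟨(((α : MulAut P) x : P) : Ω)⁻¹ * ψ ⟨x, hxA⟩, hmem⟩ : S) =
          ⟨((α : MulAut P) x : P), haS⟩⁻¹ * ⟨ψ ⟨x, hxA⟩, hψS _⟩ := rfl
      rw [e1, map_mul, map_inv, inv_mul_eq_one]
      have h2 := hind ⟨x, hxA⟩
      rw [← h2]
      have h3 := hψ'1 (imgHom θ hP x)
      have h4 : ψ' (Subgroup.inclusion le_sup_left (imgHom θ hP x)) =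
          ((autImgHom F hZ θ hker hP α (imgHom θ hP x) : ↥(imageAlong θ P)) : Ω') := h3
      rw [autImgHom_apply] at h4
      rw [← imgHom_coe θ hP ((α : MulAut P) x), ← h4]
      rfl
    have h2 : w⁻¹ * ψ ⟨w, hzA⟩ ∈ F.center := by
      have hmem : w⁻¹ * ψ ⟨w, hzA⟩ ∈ S := S.mul_mem (S.inv_mem hzS) (hψS _)
      apply (hker ⟨_, hmem⟩).mp
      have e1 : (⟨w⁻¹ * ψ ⟨w, hzA⟩, hmem⟩ : S) = ⟨w, hzS⟩⁻¹ * ⟨ψ ⟨w, hzA⟩, hψS _⟩ := rfl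
      rw [e1, map_mul, map_inv, inv_mul_eq_one]
      have h2 := hind ⟨w, hzA⟩
      rw [← h2]
      have h3 := hψ'2 ⟨θ ⟨w, hzS⟩, hz'⟩
      exact h3.symm
    set a : Ω := (((α : MulAut P) x : P) : Ω) with ha
    set ζ₁ : Ω := a⁻¹ * ψ ⟨x, hxA⟩ with hζ₁
    set ζ₂ : Ω := w⁻¹ * ψ ⟨w, hzA⟩ with hζ₂
    have e1 : ψ ⟨x, hxA⟩ = a * ζ₁ := by rw [hζ₁, mul_inv_cancel_left]
    have e2 : ψ ⟨w, hzA⟩ = w * ζ₂ := by rw [hζ₂, mul_inv_cancel_left]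
    rw [e1, e2, comm_mul_central_left a (w * ζ₂) ζ₁
      (IsCentral.commute F hZc h1 (S.mul_mem hzS (hZ.1 h2))),
      comm_mul_central_right a w ζ₂ (IsCentral.commute F hZc h2 haS)] at hψk
    exact commute_of_comm_eq a x w hψk
  rw [hperf] at hle
  have := Subgroup.mem_centralizer_iff.mp (hle hs) z (Set.mem_singleton z)
  exact this

end grun

end Cfsg.Agent.Lib.Helper88
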