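import Mathlib
import Cfsg.Prelude.Def_GeometricClasses
import Cfsg.Agent.Lib.Helper61.AschDefs
import Cfsg.Agent.Lib.Helper43.SpAschDefs
import Cfsg.Agent.Lib.Helper43.SpAschDefs2

/-!
# K-SpAsch-S4c (architect helper43): a skew matrix `J` with `J² = δ`, normalised up to sign by `K`

`δ = d²`: the two eigenspaces of `J` form a pair of complementary totally singular subspaces permuted
by `K`.  `δ` a non-square: `F[J]` is a quadratic field, adjoint closed, not self adjoint, normalised
by `K`.
-/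

set_option autoImplicit false

namespace Cfsg.Agent.Lib.Helper88.SpAsch

open Cfsg Cfsg.Geo Cfsg.Agent.Lib.Helper61.Asch Cfsg.Agent.Lib.Helper43.SpAsch
open scoped Matrix Kronecker MatrixGroups

variable {F : Type*} [Field F] [Fintype F] {n : ℕ}

local notation "V" => (Fin n → F)
local notation "Mat" => Matrix (Fin n) (Fin n) F

/-- the eigenspace of the matrix `J` for the eigenvalue `c` -/
def eig (J : Mat) (c : F) : Submodule F V := Module.End.eigenspace (Matrix.toLin' J) c

theorem mem_eig {J : Mat} {c : F} {v : V} : v ∈ eig J c ↔ J *ᵥ v = c • v := by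
  unfold eig
  rw [Module.End.mem_eigenspace_iff, Matrix.toLin'_apply]

theorem two_ne_zero_of_odd_card (hq : Odd (Fintype.card F)) : (2 : F) ≠ 0 := by
  have hchar : ringChar F ≠ 2 := by
    intro h
    have := FiniteField.even_card_of_char_two h
    rcases hq with ⟨m, hm⟩
    omega
  exact Ring.two_ne_zero hchar

/-- eigenspaces of a skew matrix for a non-zero eigenvalue are totally singular -/
theorem isTotallySingularFor_eig {f : V → V → F} (hf : IsSymplecticForm f) (h2 : (2 : F) ≠ 0)
    (J : Mat) (hskew : ∀ u v : V, f (J *ᵥ u) v = - f u (J *ᵥ v)) (c : F) (hc : c ≠ 0) :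
    IsTotallySingularFor f (eig J c) := by
  intro u hu v hv
  have h := hskew u v
  rw [mem_eig.mp hu, mem_eig.mp hv, hf.bilinear.smul_left, hf.bilinear.smul_right] at h
  have h3 : (2 * c) * f u v = 0 := by linear_combination h
  rcases mul_eq_zero.mp h3 with h4 | h4
  · exfalso
    rcases mul_eq_zero.mp h4 with h5 | h5
    · exact h2 h5
    · exact hc h5
  · exact h4

/-- the decomposition of a vector into eigenvectors -/
theorem exists_eig_decomp (h2 : (2 : F) ≠ 0) (J : Mat) (d : F) (hd : d ≠ 0)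
    (hJ : J * J = (d * d) • (1 : Mat)) (v : V) :
    ∃ a ∈ eig J d, ∃ b ∈ eig J (-d), v = a + b := by
  have hJJ : J *ᵥ (J *ᵥ v) = (d * d) • v := by
    rw [Matrix.mulVec_mulVec, hJ, Matrix.smul_mulVec, Matrix.one_mulVec]
  have h2d : (2 * d) ≠ 0 := mul_ne_zero h2 hd
  refine ⟨(2 * d)⁻¹ • (J *ᵥ v + d • v), ?_, (2 * d)⁻¹ • (d • v - J *ᵥ v), ?_, ?_⟩
  · rw [mem_eig, Matrix.mulVec_smul, Matrix.mulVec_add, Matrix.mulVec_smul, hJJ]
    module
  · rw [mem_eig, Matrix.mulVec_smul, Matrix.mulVec_sub, Matrix.mulVec_smul, hJJ]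
    module
  · rw [← smul_add]
    have : J *ᵥ v + d • v + (d • v - J *ᵥ v) = (2 * d) • v := by
      module
    rw [this, smul_smul, inv_mul_cancel₀ h2d, one_smul]

theorem eig_disjoint (h2 : (2 : F) ≠ 0) (J : Mat) (d : F) (hd : d ≠ 0) :
    Disjoint (eig J d) (eig J (-d)) := by
  rw [Submodule.disjoint_def]
  intro v h1 h3
  have h := (mem_eig.mp h1).symm.trans (mem_eig.mp h3)
  have h4 : (2 * d) • v = 0 := by
    rw [two_mul, add_smul]
    nth_rewrite 2 [h]
    rw [neg_smul, add_neg_cancel]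
  rcases smul_eq_zero.mp h4 with h5 | h5
  · exact absurd h5 (mul_ne_zero h2 hd)
  · exact h5

/-- `A` totally singular, `V = A + B`, `f` non-degenerate: `dim A ≤ dim B` -/
theorem finrank_le_of_totallySingular {f : V → V → F} (hf : IsSymplecticForm f)
    (A B : Submodule F V) (hA : IsTotallySingularFor f A)
    (hAB : ∀ v : V, ∃ a ∈ A, ∃ b ∈ B, v = a + b) :
    Module.finrank F A ≤ Module.finrank F B := by
  -- the pairing `A → B^*`
  let φ : A →ₗ[F] Module.Dual F B :=
    { toFun := fun u =>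
        { toFun := fun w => f (u : V) (w : V)
          map_add' := fun w w' => by
            simp only [Submodule.coe_add]; exact hf.bilinear.add_right _ _ _
          map_smul' := fun c w => by
            simp only [Submodule.coe_smul, RingHom.id_apply, smul_eq_mul]
            exact hf.bilinear.smul_right _ _ _ }
      map_add' := fun u u' => by
        ext w
        simp only [LinearMap.coe_mk, AddHom.coe_mk, LinearMap.add_apply, Submodule.coe_add]
        exact hf.bilinear.add_left _ _ _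
      map_smul' := fun c u => by
        ext w
        simp only [LinearMap.coe_mk, AddHom.coe_mk, LinearMap.smul_apply, Submodule.coe_smul,
          RingHom.id_apply, smul_eq_mul]
        exact hf.bilinear.smul_left _ _ _ }
  have hinj : Function.Injective φ := by
    rw [← LinearMap.ker_eq_bot, LinearMap.ker_eq_bot']
    intro u hu
    by_contra hne
    have hne' : (u : V) ≠ 0 := fun h => hne (Subtype.ext h)
    obtain ⟨x, hx⟩ := (hf.nondegenerate (u : V) hne').2
    obtain ⟨a, ha, b, hb, rfl⟩ := hAB x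
    apply hx
    rw [hf.bilinear.add_right, hA u u.2 a ha, zero_add]
    have := LinearMap.congr_fun hu ⟨b, hb⟩
    simpa [φ] using this
  calc Module.finrank F A ≤ Module.finrank F (Module.Dual F B) :=
        LinearMap.finrank_le_finrank_of_injective hinj
    _ = Module.finrank F B := Subspace.dual_finrank_eq

/-- conjugation up to sign moves eigenspaces to eigenspaces -/
theorem map_eig_le (J : Mat) (g : GL (Fin n) F) (ε : F) (hε : ε * ε = 1)
    (hg : (g : Mat) * J * ((g⁻¹ : GL (Fin n) F) : Mat) = ε • J) (c : F) :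
    (eig J c).map (Matrix.toLin' (g : Mat)) ≤ eig J (ε * c) := by
  have hgJ : (g : Mat) * J = ε • (J * (g : Mat)) := by
    have h0 : (g : Mat) * J * ((g⁻¹ : GL (Fin n) F) : Mat) * (g : Mat) = (ε • J) * (g : Mat) := by
      rw [hg]
    rw [mul_assoc, ← Units.val_mul, inv_mul_cancel, Units.val_one, mul_one] at h0
    rw [h0, smul_mul_assoc]
  have hJg : J * (g : Mat) = ε • ((g : Mat) * J) := by
    rw [hgJ, smul_smul, hε, one_smul]
  rintro _ ⟨v, hv, rfl⟩
  rw [mem_eig, Matrix.toLin'_apply, Matrix.mulVec_mulVec, hJg, Matrix.smul_mulVec,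
    ← Matrix.mulVec_mulVec, mem_eig.mp hv, Matrix.mulVec_smul, smul_smul]

theorem inv_conj_conj (g : GL (Fin n) F) (X : Mat) :
    ((g⁻¹ : GL (Fin n) F) : Mat) * ((g : Mat) * X * ((g⁻¹ : GL (Fin n) F) : Mat)) * (g : Mat) = X := by
  have h1 : ((g⁻¹ : GL (Fin n) F) : Mat) * (g : Mat) = 1 := by
    rw [← Units.val_mul, inv_mul_cancel, Units.val_one]
  calc ((g⁻¹ : GL (Fin n) F) : Mat) * ((g : Mat) * X * ((g⁻¹ : GL (Fin n) F) : Mat)) * (g : Mat)
      = (((g⁻¹ : GL (Fin n) F) : Mat) * (g : Mat)) * X *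
          (((g⁻¹ : GL (Fin n) F) : Mat) * (g : Mat)) := by simp only [mul_assoc]
    _ = X := by rw [h1, one_mul, mul_one]

theorem conj_inv_eq (J : Mat) (g : GL (Fin n) F) (ε : F) (hε : ε * ε = 1)
    (hg : (g : Mat) * J * ((g⁻¹ : GL (Fin n) F) : Mat) = ε • J) :
    ((g⁻¹ : GL (Fin n) F) : Mat) * J * (((g⁻¹)⁻¹ : GL (Fin n) F) : Mat) = ε • J := by
  rw [inv_inv]
  have h1 : J = ε • (((g⁻¹ : GL (Fin n) F) : Mat) * J * (g : Mat)) := by
    have h0 : ((g⁻¹ : GL (Fin n) F) : Mat) * ((g : Mat) * J * ((g⁻¹ : GL (Fin n) F) : Mat)) * (g : Mat)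
        = ((g⁻¹ : GL (Fin n) F) : Mat) * (ε • J) * (g : Mat) := by rw [hg]
    rw [inv_conj_conj, Matrix.mul_smul, Matrix.smul_mul] at h0
    exact h0
  calc ((g⁻¹ : GL (Fin n) F) : Mat) * J * (g : Mat)
      = (ε * ε) • (((g⁻¹ : GL (Fin n) F) : Mat) * J * (g : Mat)) := by rw [hε, one_smul]
    _ = ε • J := by rw [← smul_smul, ← h1]

theorem map_eig_eq (J : Mat) (g : GL (Fin n) F) (ε : F) (hε : ε * ε = 1)
    (hg : (g : Mat) * J * ((g⁻¹ : GL (Fin n) F) : Mat) = ε • J) (c : F) :
    (eig J c).map (Matrix.toLin' (g : Mat)) = eig J (ε * c) := by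
  apply le_antisymm (map_eig_le J g ε hε hg c)
  intro w hw
  have h1 := map_eig_le J g⁻¹ ε hε (conj_inv_eq J g ε hε hg) (ε * c)
  rw [← mul_assoc, hε, one_mul] at h1
  have h2 : Matrix.toLin' ((g⁻¹ : GL (Fin n) F) : Mat) w ∈ eig J c :=
    h1 ⟨w, hw, rfl⟩
  refine ⟨_, h2, ?_⟩
  rw [Matrix.toLin'_apply, Matrix.toLin'_apply, Matrix.mulVec_mulVec, ← Units.val_mul,
    mul_inv_cancel, Units.val_one, Matrix.one_mulVec]

/-- the square case -/
theorem sgeom_of_skew_square_sq {f : V → V → F} (hf : IsSymplecticForm f)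
    (hq : Odd (Fintype.card F)) (hn : 0 < n)
    (K : Subgroup (GL (Fin n) F)) (J : Mat) (d : F) (hd : d ≠ 0)
    (hJ : J * J = (d * d) • (1 : Mat)) (hskew : ∀ u v : V, f (J *ᵥ u) v = - f u (J *ᵥ v))
    (hKJ : ∀ k ∈ K, (k : Mat) * J * ((k⁻¹ : GL (Fin n) F) : Mat) = J ∨
        (k : Mat) * J * ((k⁻¹ : GL (Fin n) F) : Mat) = -J) : SGeom f K := by
  have h2 := two_ne_zero_of_odd_card hq
  have hnd : -d ≠ 0 := neg_ne_zero.mpr hd
  set D : Fin 2 → Submodule F V := ![eig J d, eig J (-d)] with hD
  have hD0 : D 0 = eig J d := rfl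
  have hD1 : D 1 = eig J (-d) := rfl
  have hts0 := isTotallySingularFor_eig hf h2 J hskew d hd
  have hts1 := isTotallySingularFor_eig hf h2 J hskew (-d) hnd
  have hdec := exists_eig_decomp h2 J d hd hJ
  have hdisj := eig_disjoint h2 J d hd
  have hle1 : Module.finrank F (eig J d) ≤ Module.finrank F (eig J (-d)) :=
    finrank_le_of_totallySingular hf _ _ hts0 hdec
  have hle2 : Module.finrank F (eig J (-d)) ≤ Module.finrank F (eig J d) := by
    apply finrank_le_of_totallySingular hf _ _ hts1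
    intro v
    obtain ⟨a, ha, b, hb, rfl⟩ := hdec v
    exact ⟨b, hb, a, ha, add_comm a b⟩
  have heq : Module.finrank F (eig J (-d)) = Module.finrank F (eig J d) := le_antisymm hle2 hle1
  have hsup : eig J d ⊔ eig J (-d) = ⊤ := by
    rw [eq_top_iff]
    intro v _
    obtain ⟨a, ha, b, hb, rfl⟩ := hdec v
    exact Submodule.add_mem _ (Submodule.mem_sup_left ha) (Submodule.mem_sup_right hb)
  have hsum : Module.finrank F (eig J d) + Module.finrank F (eig J (-d)) = n := by
    have h := Submodule.finrank_sup_add_finrank_inf_eq (eig J d) (eig J (-d))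
    rw [hsup, disjoint_iff.mp hdisj, finrank_bot, add_zero, finrank_top, Module.finrank_fin_fun] at h
    exact h.symm
  set k := Module.finrank F (eig J d) with hk
  have hk2 : 2 * k = n := by omega
  have hkpos : 0 < k := by omega
  refine SGeom.tsPair hq k (by rw [Fintype.card_fin]; exact hk2) D ?_ ?_ ?_
  · refine ⟨le_rfl, hkpos, ?_, ?_, ?_⟩
    · intro i
      fin_cases i
      · exact hk.symm
      · exact heq
    · rw [iSupIndep_pair (i := (0 : Fin 2)) (j := 1) (by decide)
        (by intro i; fin_cases i <;> simp)]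
      exact hdisj
    · rw [eq_top_iff, ← hsup]
      apply sup_le
      · exact le_iSup D 0
      · exact le_iSup D 1
  · intro i
    fin_cases i
    · exact hts0
    · exact hts1
  · intro g hg
    rcases hKJ g hg with h | h
    · refine ⟨1, ?_⟩
      have h' : (g : Mat) * J * ((g⁻¹ : GL (Fin n) F) : Mat) = (1 : F) • J := by rw [h, one_smul]
      intro i
      fin_cases i
      · show (eig J d).map _ = eig J d
        rw [map_eig_eq J g 1 (by norm_num) h' d, one_mul]
      · show (eig J (-d)).map _ = eig J (-d)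
        rw [map_eig_eq J g 1 (by norm_num) h' (-d), one_mul]
    · refine ⟨Equiv.swap 0 1, ?_⟩
      have h' : (g : Mat) * J * ((g⁻¹ : GL (Fin n) F) : Mat) = (-1 : F) • J := by
        rw [h, neg_smul, one_smul]
      intro i
      fin_cases i
      · show (eig J d).map _ = D (Equiv.swap 0 1 0)
        rw [Equiv.swap_apply_left, hD1, map_eig_eq J g (-1) (by norm_num) h' d, neg_one_mul]
      · show (eig J (-d)).map _ = D (Equiv.swap 0 1 1)
        rw [Equiv.swap_apply_right, hD0, map_eig_eq J g (-1) (by norm_num) h' (-d), neg_one_mul,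
          neg_neg]

/-- the subalgebra `F[J]` when `J² = δ` -/
def quadAlg (J : Mat) (δ : F) (hJ : J * J = δ • (1 : Mat)) : Subalgebra F Mat where
  carrier := {M | ∃ x y : F, M = x • (1 : Mat) + y • J}
  mul_mem' := by
    rintro _ _ ⟨x, y, rfl⟩ ⟨x', y', rfl⟩
    refine ⟨x * x' + y * y' * δ, x * y' + y * x', ?_⟩
    simp only [add_mul, mul_add, smul_mul_assoc, mul_smul_comm, one_mul, mul_one, hJ]
    module
  add_mem' := by
    rintro _ _ ⟨x, y, rfl⟩ ⟨x', y', rfl⟩
    refine ⟨x + x', y + y', ?_⟩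
    rw [add_smul, add_smul]
    abel
  algebraMap_mem' := fun r => ⟨r, 0, by rw [zero_smul, add_zero, Algebra.algebraMap_eq_smul_one]⟩

theorem mem_quadAlg {J : Mat} {δ : F} {hJ : J * J = δ • (1 : Mat)} {M : Mat} :
    M ∈ quadAlg J δ hJ ↔ ∃ x y : F, M = x • (1 : Mat) + y • J := Iff.rfl

theorem smul_one_injective (hn : 0 < n) {a b : F} (h : a • (1 : Mat) = b • (1 : Mat)) : a = b := by
  have := congrFun (congrFun h ⟨0, hn⟩) ⟨0, hn⟩
  simpa using this

/-- the non-square case -/
theorem sgeom_of_skew_square_nonsq {f : V → V → F} (hf : IsSymplecticForm f)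
    (hq : Odd (Fintype.card F)) (hn : 0 < n)
    (K : Subgroup (GL (Fin n) F)) (J : Mat) (δ : F) (hδ : δ ≠ 0)
    (hnsq : ¬ ∃ d : F, d * d = δ)
    (hJ : J * J = δ • (1 : Mat)) (hskew : ∀ u v : V, f (J *ᵥ u) v = - f u (J *ᵥ v))
    (hKJ : ∀ k ∈ K, (k : Mat) * J * ((k⁻¹ : GL (Fin n) F) : Mat) = J ∨
        (k : Mat) * J * ((k⁻¹ : GL (Fin n) F) : Mat) = -J) : SGeom f K := by
  have h2 := two_ne_zero_of_odd_card hq
  -- `1` and `J` are linearly independent
  have hind : ∀ x y : F, x • (1 : Mat) + y • J = 0 → x = 0 ∧ y = 0 := by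
    intro x y h
    by_cases hy : y = 0
    · subst hy
      rw [zero_smul, add_zero] at h
      have : x • (1 : Mat) = (0 : F) • (1 : Mat) := by rw [h, zero_smul]
      exact ⟨smul_one_injective hn this, rfl⟩
    · exfalso
      have hJe : J = (-(x / y)) • (1 : Mat) := by
        have h1 : y • J = (-x) • (1 : Mat) := by
          rw [neg_smul]; exact eq_neg_of_add_eq_zero_right h
        calc J = y⁻¹ • (y • J) := by rw [smul_smul, inv_mul_cancel₀ hy, one_smul]
          _ = (-(x / y)) • (1 : Mat) := by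
            rw [h1, smul_smul]; congr 1; field_simp
      apply hnsq
      refine ⟨-(x / y), ?_⟩
      apply smul_one_injective hn
      rw [← hJ]
      nth_rewrite 1 [hJe]
      nth_rewrite 1 [hJe]
      rw [smul_mul_assoc, mul_smul_comm, one_mul, smul_smul]
  set E := quadAlg J δ hJ with hE
  have hJE : J ∈ E := ⟨0, 1, by rw [zero_smul, zero_add, one_smul]⟩
  have hfield : IsFieldSubalgebra 2 E := by
    refine ⟨?_, ?_, ?_⟩
    · rintro _ ⟨x, y, rfl⟩ _ ⟨x', y', rfl⟩
      have hJc : Commute J (x' • (1 : Mat) + y' • J) :=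
        ((Commute.one_right J).smul_right x').add_right ((Commute.refl J).smul_right y')
      exact (((Commute.one_left _).smul_left x).add_left (hJc.smul_left y)).eq
    · rintro _ ⟨x, y, rfl⟩ hne
      have hN : x * x - δ * (y * y) ≠ 0 := by
        intro hN
        by_cases hy : y = 0
        · subst hy
          have hx : x = 0 := by
            have : x * x = 0 := by linear_combination hN
            exact mul_self_eq_zero.mp this
          subst hx
          apply hne
          rw [zero_smul, zero_smul, add_zero]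
        · apply hnsq
          refine ⟨x / y, ?_⟩
          field_simp
          linear_combination hN
      refine ⟨(x * x - δ * (y * y))⁻¹ • (x • (1 : Mat) + (-y) • J),
        ⟨(x * x - δ * (y * y))⁻¹ * x, (x * x - δ * (y * y))⁻¹ * (-y), ?_⟩, ?_⟩
      · rw [smul_add, smul_smul, smul_smul]
      · rw [mul_smul_comm]
        have : (x • (1 : Mat) + y • J) * (x • (1 : Mat) + (-y) • J) =
            (x * x - δ * (y * y)) • (1 : Mat) := by
          simp only [add_mul, mul_add, smul_mul_assoc, mul_smul_comm, one_mul, mul_one, hJ]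
          module
        rw [this, smul_smul, inv_mul_cancel₀ hN, one_smul]
    · rw [← Subalgebra.finrank_toSubmodule]
      let φ : (F × F) →ₗ[F] Mat :=
        { toFun := fun p => p.1 • (1 : Mat) + p.2 • J
          map_add' := fun p p' => by
            simp only [Prod.fst_add, Prod.snd_add, add_smul]; abel
          map_smul' := fun c p => by
            simp only [Prod.smul_fst, Prod.smul_snd, smul_eq_mul, RingHom.id_apply, smul_add,
              smul_smul] }
      have hφinj : Function.Injective φ := by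
        rw [← LinearMap.ker_eq_bot, LinearMap.ker_eq_bot']
        rintro ⟨x, y⟩ h
        obtain ⟨hx, hy⟩ := hind x y h
        rw [hx, hy]; rfl
      have hrange : Subalgebra.toSubmodule E = LinearMap.range φ := by
        ext M
        constructor
        · rintro ⟨x, y, rfl⟩
          exact ⟨(x, y), rfl⟩
        · rintro ⟨⟨x, y⟩, rfl⟩
          exact ⟨x, y, rfl⟩
      rw [hrange, LinearMap.finrank_range_of_inj hφinj, Module.finrank_prod, Module.finrank_self]
  have hac : IsAdjointClosedFor f E := by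
    rintro _ ⟨x, y, rfl⟩
    refine ⟨x • (1 : Mat) + (-y) • J, ⟨x, -y, rfl⟩, ?_⟩
    intro u v
    rw [Matrix.add_mulVec, Matrix.add_mulVec, Matrix.smul_mulVec, Matrix.smul_mulVec,
      Matrix.smul_mulVec, Matrix.smul_mulVec, Matrix.one_mulVec, Matrix.one_mulVec,
      hf.bilinear.add_left, hf.bilinear.add_right, hf.bilinear.smul_left, hf.bilinear.smul_left,
      hf.bilinear.smul_right, hf.bilinear.smul_right, hskew]
    ring
  have hns : ¬ IsSelfAdjointFor f E := by
    intro hsa
    have hJ0 : ∀ v : V, J *ᵥ v = 0 := by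
      intro v
      by_contra hne
      obtain ⟨x, hx⟩ := (hf.nondegenerate _ hne).1
      apply hx
      have h1 := hsa J hJE x v
      have h3 := hskew x v
      have h4 : (2 : F) * f x (J *ᵥ v) = 0 := by linear_combination h3 - h1
      rcases mul_eq_zero.mp h4 with h5 | h5
      · exact absurd h5 h2
      · exact h5
    have hJz : J = 0 := by
      apply Matrix.toLin'.injective
      apply LinearMap.ext
      intro v
      rw [Matrix.toLin'_apply, hJ0, map_zero, LinearMap.zero_apply]
    rw [hJz, mul_zero] at hJ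
    have : (0 : F) • (1 : Mat) = δ • (1 : Mat) := by rw [zero_smul]; exact hJ
    exact hδ (smul_one_injective hn this).symm
  refine SGeom.fieldUnit hq E hfield hac hns ?_
  intro g hg
  -- both `g J g⁻¹` and `g⁻¹ J g` are `± J`
  have hpm : ∃ ε : F, ε * ε = 1 ∧ (g : Mat) * J * ((g⁻¹ : GL (Fin n) F) : Mat) = ε • J := by
    rcases hKJ g hg with h | h
    · exact ⟨1, by norm_num, by rw [h, one_smul]⟩
    · exact ⟨-1, by norm_num, by rw [h, neg_smul, one_smul]⟩
  obtain ⟨ε, hε, hgJ⟩ := hpm
  have hgJ' := conj_inv_eq J g ε hε hgJ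
  rw [inv_inv] at hgJ'
  have hconj1 : ∀ M : Mat, (g : Mat) * M * ((g⁻¹ : GL (Fin n) F) : Mat) =
      (g : Mat) * M * ((g⁻¹ : GL (Fin n) F) : Mat) := fun _ => rfl
  intro M
  show M ∈ E ↔ (g : Mat) * M * ((g⁻¹ : GL (Fin n) F) : Mat) ∈ E
  constructor
  · rintro ⟨x, y, rfl⟩
    refine ⟨x, y * ε, ?_⟩
    rw [mul_add, add_mul, mul_smul_comm, smul_mul_assoc, mul_one, ← Units.val_mul, mul_inv_cancel,
      Units.val_one, mul_smul_comm, smul_mul_assoc, hgJ, smul_smul]
  · rintro ⟨x, y, h⟩
    refine ⟨x, y * ε, ?_⟩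
    have h1 : ((g⁻¹ : GL (Fin n) F) : Mat) * ((g : Mat) * M * ((g⁻¹ : GL (Fin n) F) : Mat)) * (g : Mat)
        = ((g⁻¹ : GL (Fin n) F) : Mat) * (x • (1 : Mat) + y • J) * (g : Mat) := by rw [h]
    rw [inv_conj_conj] at h1
    rw [h1, mul_add, add_mul, mul_smul_comm, smul_mul_assoc, mul_one, ← Units.val_mul,
      inv_mul_cancel, Units.val_one, mul_smul_comm, smul_mul_assoc, hgJ', smul_smul]

/-- **K-SpAsch-S4c**. -/
theorem sgeom_of_skew_square {f : V → V → F} (hf : IsSymplecticForm f) (hq : Odd (Fintype.card F)) (hn : 0 < n)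
    (K : Subgroup (GL (Fin n) F)) (hKΔ : K ≤ similarityGroup f) (J : Mat) (δ : F) (hδ : δ ≠ 0)
    (hJ : J * J = δ • (1 : Mat)) (hskew : ∀ u v : V, f (J *ᵥ u) v = - f u (J *ᵥ v))
    (hKJ : ∀ k ∈ K, (k : Mat) * J * ((k⁻¹ : GL (Fin n) F) : Mat) = J ∨
        (k : Mat) * J * ((k⁻¹ : GL (Fin n) F) : Mat) = -J) : SGeom f K := by
  by_cases hsq : ∃ d : F, d * d = δ
  · obtain ⟨d, rfl⟩ := hsq
    have hd : d ≠ 0 := fun h => hδ (by rw [h, mul_zero])
    exact sgeom_of_skew_square_sq hf hq hn K J d hd hJ hskew hKJ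
  · exact sgeom_of_skew_square_nonsq hf hq hn K J δ hδ hsq hJ hskew hKJ

end Cfsg.Agent.Lib.Helper88.SpAsch
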