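import Mathlib
import Cfsg.Prelude.Def_GeometricClasses

/-!
# Keystone 570007 K-UF-G2: the normaliser of the subalgebra `K = F + F j`
-/

set_option autoImplicit false

namespace Cfsg.Agent.Lib.Helper88.UF

open Module Matrix Cfsg Cfsg.Geo

variable {F : Type*} [Field F] [Fintype F] {n : ℕ}

/-- K-UF-G2 (570007). -/
theorem mem_subalgebraNormalizer_iff (K : Subalgebra F (Matrix (Fin n) (Fin n) F))
    (j : Matrix (Fin n) (Fin n) F) (hj : j ∈ K) (hKj : ∀ k ∈ K, ∃ α β : F, k = α • 1 + β • j)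
    (hjns : ∀ α : F, j ≠ α • 1) (g : GL (Fin n) F) :
    g ∈ subalgebraNormalizer K ↔
      ∃ α β : F, (g : Matrix (Fin n) (Fin n) F) * j = (α • 1 + β • j) * (g : Matrix (Fin n) (Fin n) F) := by
  set M : Matrix (Fin n) (Fin n) F := (g : Matrix (Fin n) (Fin n) F) with hM
  set Mi : Matrix (Fin n) (Fin n) F := ((g⁻¹ : GL (Fin n) F) : Matrix (Fin n) (Fin n) F) with hMi
  have h1 : M * Mi = 1 := by
    rw [hM, hMi, ← Units.val_mul, mul_inv_cancel, Units.val_one]
  have h2 : Mi * M = 1 := by
    rw [hM, hMi, ← Units.val_mul, inv_mul_cancel, Units.val_one]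
  have hmem : g ∈ subalgebraNormalizer K ↔ ∀ k : Matrix (Fin n) (Fin n) F, k ∈ K ↔ M * k * Mi ∈ K := Iff.rfl
  have hlin : ∀ a b : F, a • (1 : Matrix (Fin n) (Fin n) F) + b • j ∈ K := fun a b =>
    K.add_mem (K.smul_mem K.one_mem a) (K.smul_mem hj b)
  rw [hmem]
  constructor
  · intro h
    obtain ⟨α, β, hαβ⟩ := hKj _ ((h j).mp hj)
    refine ⟨α, β, ?_⟩
    rw [← hαβ, mul_assoc, h2, mul_one]
  · rintro ⟨α, β, h⟩
    -- `M j Mi = α + β j`
    have hconj : M * j * Mi = α • 1 + β • j := by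
      rw [h, mul_assoc, h1, mul_one]
    have hβ : β ≠ 0 := by
      intro hβ0
      rw [hβ0, zero_smul, add_zero] at hconj
      apply hjns α
      have : j = Mi * (M * j * Mi) * M := by
        rw [mul_assoc M j Mi, ← mul_assoc Mi M (j * Mi), h2, one_mul, mul_assoc, h2, mul_one]
      rw [this, hconj, mul_smul_comm, mul_one, smul_mul_assoc, h2]
    -- `Mi j M = β⁻¹ (j - α)`
    have hconj' : Mi * j * M = (-(β⁻¹ * α)) • 1 + β⁻¹ • j := by
      have e1 : j = α • 1 + β • (Mi * j * M) := by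
        have : j = Mi * (M * j * Mi) * M := by
          rw [mul_assoc M j Mi, ← mul_assoc Mi M (j * Mi), h2, one_mul, mul_assoc, h2, mul_one]
        conv_lhs => rw [this, hconj]
        rw [mul_add, add_mul, mul_smul_comm, mul_one, smul_mul_assoc, h2, mul_smul_comm, smul_mul_assoc]
      have e2 : β • (Mi * j * M) = j - α • 1 := by
        rw [eq_sub_iff_add_eq, add_comm]; exact e1.symm
      have e3 : Mi * j * M = β⁻¹ • (j - α • 1) := by
        rw [← e2, smul_smul, inv_mul_cancel₀ hβ, one_smul]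
      rw [e3, smul_sub, smul_smul, neg_smul, add_comm, sub_eq_add_neg]
    intro k
    constructor
    · intro hk
      obtain ⟨a, b, rfl⟩ := hKj k hk
      have : M * (a • 1 + b • j) * Mi = (a + b * α) • 1 + (b * β) • j := by
        rw [mul_add, add_mul, mul_smul_comm, mul_one, smul_mul_assoc, h1, mul_smul_comm, smul_mul_assoc,
          hconj, smul_add, smul_smul, smul_smul, add_smul, add_assoc]
      rw [this]
      exact hlin _ _
    · intro hk
      obtain ⟨a, b, hab⟩ := hKj _ hk
      have hk' : k = Mi * (M * k * Mi) * M := by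
        rw [mul_assoc M k Mi, ← mul_assoc Mi M (k * Mi), h2, one_mul, mul_assoc, h2, mul_one]
      have : k = (a + b * (-(β⁻¹ * α))) • 1 + (b * β⁻¹) • j := by
        rw [hk', hab, mul_add, add_mul, mul_smul_comm, mul_one, smul_mul_assoc, h2, mul_smul_comm,
          smul_mul_assoc, hconj', smul_add, smul_smul, smul_smul, add_smul, add_assoc]
      rw [this]
      exact hlin _ _

end Cfsg.Agent.Lib.Helper88.UF
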