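import Cfsg.Agent.Lib.Helper49.StOpDefs
import Cfsg.Agent.Lib.Helper56.StOpR0c

/-!
# K-StOp-F2L (keystone 254810, S2548, architect helper49): dichotomy for a monomial matrix,
last simple root `ε_{m-2} + ε_{m-1}` (helper88; port of `Helper91.StSp.dich_long`).

`n⁻¹ (1 + t E_{e_p f_l} - t E_{e_l f_p}) n` has its off-diagonal entries at `(u, dual v)` and
`(v, dual u)` with `u = σ⁻¹ e_p`, `v = σ⁻¹ e_l`: both on or above the diagonal iff
`pos u + pos v ≤ 2m-1`; for `yP` the entries are at `(dual v, u)` and `(dual u, v)`: above iff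
`2m-1 ≤ pos u + pos v`.
-/

set_option autoImplicit false
set_option linter.unusedSectionVars false
set_option linter.unusedVariables false

namespace Cfsg.Agent.Lib.Helper88.StOp

open Cfsg Cfsg.Agent.Lib.Helper49.StOp Matrix

variable {m : ℕ} {F : Type*} [Field F]

/-- the inverse of a monomial matrix is monomial for the inverse permutation -/
theorem f2l_inv_entry_eq_zero (n : OG m F) (σ : Equiv.Perm (OI m)) (hn : MonWith m F n σ)
    (a c : OI m) (h : c ≠ σ a) : mat n⁻¹ a c = 0 := by
  obtain ⟨b, rfl⟩ := σ.surjective c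
  have hab : a ≠ b := fun e => h (by rw [e])
  have h1 : (mat n⁻¹ * mat n) a b = (1 : Matrix (OI m) (OI m) F) a b := by
    rw [mat_inv_mul_mat]
  rw [Matrix.one_apply_ne hab, Matrix.mul_apply, Finset.sum_eq_single (σ b)] at h1
  · have hne : mat n (σ b) b ≠ 0 := (hn.1 _ _).2 rfl
    exact (mul_eq_zero.mp h1).resolve_right hne
  · intro d _ hd
    have : mat n d b = 0 := by
      by_contra h0
      exact hd ((hn.1 _ _).1 h0)
    rw [this, mul_zero]
  · intro h; exact absurd (Finset.mem_univ _) h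

/-- entries of a conjugate by a monomial matrix -/
theorem f2l_conj_entry (n : OG m F) (σ : Equiv.Perm (OI m)) (hn : MonWith m F n σ)
    (X : Matrix (OI m) (OI m) F) (a b : OI m) :
    (mat n⁻¹ * X * mat n) a b = mat n⁻¹ a (σ a) * X (σ a) (σ b) * mat n (σ b) b := by
  rw [Matrix.mul_apply, Finset.sum_eq_single (σ b)]
  · rw [Matrix.mul_apply, Finset.sum_eq_single (σ a)]
    · intro c _ hc
      rw [f2l_inv_entry_eq_zero n σ hn a c hc, zero_mul]
    · intro h; exact absurd (Finset.mem_univ _) h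
  · intro d _ hd
    have : mat n d b = 0 := by
      by_contra h0
      exact hd ((hn.1 _ _).1 h0)
    rw [this, mul_zero]
  · intro h; exact absurd (Finset.mem_univ _) h

theorem f2l_xPMat_apply_ne (i j : Fin m) (t : F) {c d : OI m} (hcd : c ≠ d)
    (h : xPMat m F i j t c d ≠ 0) :
    (c = eI i ∧ d = fI j) ∨ (c = eI j ∧ d = fI i) := by
  unfold xPMat at h
  rw [Matrix.sub_apply, Matrix.add_apply, Matrix.one_apply_ne hcd, zero_add] at h
  by_cases h1 : c = eI i ∧ d = fI j
  · exact Or.inl h1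
  · by_cases h2 : c = eI j ∧ d = fI i
    · exact Or.inr h2
    · exfalso; apply h
      rw [Matrix.single_apply, Matrix.single_apply, if_neg (fun e => h1 ⟨e.1.symm, e.2.symm⟩),
        if_neg (fun e => h2 ⟨e.1.symm, e.2.symm⟩), sub_zero]

theorem f2l_yPMat_apply_ne (i j : Fin m) (t : F) {c d : OI m} (hcd : c ≠ d)
    (h : yPMat m F i j t c d ≠ 0) :
    (c = fI j ∧ d = eI i) ∨ (c = fI i ∧ d = eI j) := by
  unfold yPMat at h
  rw [Matrix.sub_apply, Matrix.add_apply, Matrix.one_apply_ne hcd, zero_add] at h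
  by_cases h1 : c = fI j ∧ d = eI i
  · exact Or.inl h1
  · by_cases h2 : c = fI i ∧ d = eI j
    · exact Or.inr h2
    · exfalso; apply h
      rw [Matrix.single_apply, Matrix.single_apply, if_neg (fun e => h1 ⟨e.1.symm, e.2.symm⟩),
        if_neg (fun e => h2 ⟨e.1.symm, e.2.symm⟩), sub_zero]

/-- `σ⁻¹` commutes with the duality too -/
theorem f2l_symm_dualE (σ : Equiv.Perm (OI m)) (hσ : ∀ a, σ (dualE m a) = dualE m (σ a))
    (a : OI m) : σ.symm (dualE m a) = dualE m (σ.symm a) := by
  apply σ.injective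
  rw [Equiv.apply_symm_apply, hσ, Equiv.apply_symm_apply]

/-- **LEAF F2L (254810).** -/
theorem dich_cross (hm : 2 ≤ m) (n : OG m F)
    (σ : Equiv.Perm (OI m)) (hn : MonWith m F n σ) :
    (∀ t : F, n⁻¹ * xP m F (prevF hm) (lastF (by omega)) t * n ∈ Bsub m F) ∨
      (∀ t : F, n⁻¹ * yP m F (prevF hm) (lastF (by omega)) t * n ∈ Bsub m F) := by
  have hpl : prevF hm ≠ lastF (by omega : 0 < m) := prevF_ne_lastF hm
  set p : Fin m := prevF hm with hp
  set l : Fin m := lastF (by omega : 0 < m) with hl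
  set u : OI m := σ.symm (eI p) with hu
  set v : OI m := σ.symm (eI l) with hv
  have hdu : σ.symm (fI p) = dualE m u := by
    rw [hu, ← f2l_symm_dualE σ hn.2]; rfl
  have hdv : σ.symm (fI l) = dualE m v := by
    rw [hv, ← f2l_symm_dualE σ hn.2]; rfl
  have hposu := pos_lt m u
  have hposv := pos_lt m v
  rcases le_total (pos m u + pos m v) (2 * m - 1) with hle | hle
  · left
    intro t
    rw [mem_Bsub_iff]
    intro a b hab
    have hne : a ≠ b := by rintro rfl; exact lt_irrefl _ hab
    rw [mat_mul, mat_mul, Cfsg.Agent.Lib.Helper56.StOp.mat_xP p l hpl t, f2l_conj_entry n σ hn]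
    by_contra h0
    have hX : xPMat m F p l t (σ a) (σ b) ≠ 0 := by
      intro h1; apply h0; rw [h1, mul_zero, zero_mul]
    rcases f2l_xPMat_apply_ne p l t (σ.injective.ne hne) hX with ⟨h1, h2⟩ | ⟨h1, h2⟩
    · have ha : a = u := by rw [hu, ← h1, Equiv.symm_apply_apply]
      have hb : b = dualE m v := by rw [← hdv, ← h2, Equiv.symm_apply_apply]
      rw [ha, hb, pos_dualE] at hab
      omega
    · have ha : a = v := by rw [hv, ← h1, Equiv.symm_apply_apply]
      have hb : b = dualE m u := by rw [← hdu, ← h2, Equiv.symm_apply_apply]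
      rw [ha, hb, pos_dualE] at hab
      omega
  · right
    intro t
    rw [mem_Bsub_iff]
    intro a b hab
    have hne : a ≠ b := by rintro rfl; exact lt_irrefl _ hab
    rw [mat_mul, mat_mul, Cfsg.Agent.Lib.Helper56.StOp.mat_yP p l hpl t, f2l_conj_entry n σ hn]
    by_contra h0
    have hX : yPMat m F p l t (σ a) (σ b) ≠ 0 := by
      intro h1; apply h0; rw [h1, mul_zero, zero_mul]
    rcases f2l_yPMat_apply_ne p l t (σ.injective.ne hne) hX with ⟨h1, h2⟩ | ⟨h1, h2⟩
    · have ha : a = dualE m v := by rw [← hdv, ← h1, Equiv.symm_apply_apply]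
      have hb : b = u := by rw [hu, ← h2, Equiv.symm_apply_apply]
      rw [ha, hb, pos_dualE] at hab
      omega
    · have ha : a = dualE m u := by rw [← hdu, ← h1, Equiv.symm_apply_apply]
      have hb : b = v := by rw [hv, ← h2, Equiv.symm_apply_apply]
      rw [ha, hb, pos_dualE] at hab
      omega

end Cfsg.Agent.Lib.Helper88.StOp
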