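import Cfsg.Agent.Lib.Helper88.FusionExtMod4
import Cfsg.Agent.Lib.Helper89.FusionConj
import Cfsg.Agent.S5082

set_option autoImplicit false
open Cfsg

namespace Cfsg.Agent.Lib.Helper88

open Cfsg.FusionSystem Cfsg.Agent.Lib.Helper87

variable {Ω : Type*} [Group Ω] {S : Subgroup Ω}

theorem le_extSystem [Finite S] (p : ℕ) [Fact p.Prime] (hS : IsPGroup p S) (F : FusionSystem S)
    (hF : F.IsSaturated p) (T : Subgroup Ω) (hT : F.StronglyClosed T) : ∀ n : ℕ, F ≤ extSystem F T hT n := by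
  intro n
  induction n with
  | zero =>
    intro P φ hφ
    refine ⟨hφ, fun hc => ?_⟩
    exfalso
    have := card_le_of_le (hom_le F hφ)
    omega
  | succ n ih =>
    apply Cfsg.Agent.S5082.result p hS F hF
    intro P hP α hα
    have hPfn : F.IsFullyNormalized P := by
      rcases hP with rfl | hP
      · exact Cfsg.Agent.Lib.Helper89.isFullyNormalized_self F
      · exact hP.2.1
    have hPS : P ≤ S := hPfn.1
    apply Subgroup.subset_closure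
    refine ⟨(mem_autGroup_iff F hPS).mp hα, fun hc => ?_⟩
    apply hasExtMod_aut_of_fullyNormalized p hS F hF hT hPfn _ α hα
    intro P₁ ν₁ hν₁ hlt
    exact (ih P₁ hν₁).2 (by omega)

/-- In a saturated fusion system with `T` strongly closed, every map `φ` with source `P` agrees modulo `T` on `P`
with a map of the system defined on `P ⊔ T`. -/
theorem exists_extension_mod [Finite S] (p : ℕ) [Fact p.Prime] (hS : IsPGroup p S) (F : FusionSystem S)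
    (hF : F.IsSaturated p) {T : Subgroup Ω} (hT : F.StronglyClosed T) {P : Subgroup Ω} {φ : P →* Ω}
    (hφ : φ ∈ F.Hom P) :
    ∃ ψ ∈ F.Hom (P ⊔ T), ∀ x : P, (φ x)⁻¹ * ψ ⟨x, (le_sup_left : P ≤ P ⊔ T) x.2⟩ ∈ T := by
  have h := (le_extSystem p hS F hF T hT (Nat.card S + 1) P hφ).2 (by omega)
  exact h.exists_sup

/-- The product of two strongly closed subgroups of a saturated fusion system is strongly closed. -/
theorem stronglyClosed_sup [Finite S] (p : ℕ) [Fact p.Prime] (hS : IsPGroup p S) (F : FusionSystem S)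
    (hF : F.IsSaturated p) {T₁ T₂ : Subgroup Ω} (h₁ : F.StronglyClosed T₁) (h₂ : F.StronglyClosed T₂) :
    F.StronglyClosed (T₁ ⊔ T₂) := by
  refine ⟨sup_le h₁.1 h₂.1, fun R hR φ hφ x => ?_⟩
  obtain ⟨ψ, hψ, hag⟩ := exists_extension_mod p hS F hF h₁ hφ
  have hRS : R ≤ S := hom_le F hφ
  obtain ⟨t₁, ht₁, t₂, ht₂, hx⟩ :=
    exists_mul_of_mem_sup (fun a ha t ht => stronglyClosed_conj_mem h₂ (h₁.1 ha) ht) (hR x.2)
  -- `t₂ ∈ R ⊔ T₁`
  have hle : T₁ ≤ R ⊔ T₁ := le_sup_right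
  have hRle : R ≤ R ⊔ T₁ := le_sup_left
  have ht₂' : t₂ ∈ R ⊔ T₁ := by
    have : t₂ = t₁⁻¹ * (x : Ω) := by rw [hx]; group
    rw [this]
    exact Subgroup.mul_mem _ (hle (T₁.inv_mem ht₁)) (hRle x.2)
  have hψt₁ : ψ ⟨t₁, hle ht₁⟩ ∈ T₁ := stronglyClosed_map_mem h₁ hle hψ ht₁
  have hψt₂ : ψ ⟨t₂, ht₂'⟩ ∈ T₂ :=
    h₂.2 ((R ⊔ T₁) ⊓ T₂) inf_le_right _ (restrict_mem F (inf_le_left : (R ⊔ T₁) ⊓ T₂ ≤ R ⊔ T₁) hψ) ⟨t₂, ht₂', ht₂⟩
  have hψx : ψ ⟨x, hRle x.2⟩ = ψ ⟨t₁, hle ht₁⟩ * ψ ⟨t₂, ht₂'⟩ := by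
    rw [← map_mul]
    congr 1
    exact Subtype.ext hx
  have h3 := hag x
  -- `φ x = ψ x * (element of T₁)⁻¹`
  have e : φ x = ψ ⟨t₁, hle ht₁⟩ * ψ ⟨t₂, ht₂'⟩ * ((φ x)⁻¹ * ψ ⟨x, hRle x.2⟩)⁻¹ := by
    rw [← hψx]; group
  rw [e]
  -- rearrange using normality of `T₁ ⊔ T₂` is not needed: everything lies in the join
  refine Subgroup.mul_mem _ (Subgroup.mul_mem _ (Subgroup.mem_sup_left hψt₁) (Subgroup.mem_sup_right hψt₂)) ?_
  exact Subgroup.mem_sup_left (T₁.inv_mem h3)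

end Cfsg.Agent.Lib.Helper88
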