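import Cfsg.Agent.Lib.Helper88.FusionFactor
import Cfsg.Agent.Lib.Helper88.FusionExtMod5

set_option autoImplicit false
open Cfsg

namespace Cfsg.Agent.Lib.Helper88

variable {Ω : Type*} [Group Ω] {S : Subgroup Ω}

section factor2

variable {Ω' : Type*} [Group Ω'] {S' : Subgroup Ω'}

/-- A map of `F` defined on a full preimage induces a homomorphism on the image. -/
theorem exists_inducedAlong (F : FusionSystem S) {S₀ : Subgroup Ω} (hS₀ : F.StronglyClosed S₀) (θ : S →* Ω')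
    (hker : ∀ s : S, θ s = 1 ↔ (s : Ω) ∈ S₀) (hrange : θ.range = S') {P' : Subgroup Ω'} (hP' : P' ≤ S')
    {ψ : FusionSystem.preimageAlong θ P' →* Ω} (hψ : ψ ∈ F.Hom (FusionSystem.preimageAlong θ P')) :
    ∃ φ' : P' →* Ω', FusionSystem.InducedAlong θ ψ φ' := by
  have hA : FusionSystem.preimageAlong θ P' ≤ S := preimageAlong_le θ P'
  have hψS : ∀ x : FusionSystem.preimageAlong θ P', ψ x ∈ S := (F.le_of_mem hψ).2
  have hAP' : ∀ x : FusionSystem.preimageAlong θ P', θ ⟨x, hA x.2⟩ ∈ P' := fun x =>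
    ((mem_preimageAlong θ P' x).mp x.2).2
  have hS₀A : S₀ ≤ FusionSystem.preimageAlong θ P' := kernel_le_preimageAlong θ hS₀.1 hker P'
  let f : FusionSystem.preimageAlong θ P' →* P' :=
    { toFun := fun x => ⟨θ ⟨x, hA x.2⟩, hAP' x⟩
      map_one' := by
        apply Subtype.ext
        show θ ⟨1, _⟩ = 1
        exact map_one θ
      map_mul' := by
        intro x y
        apply Subtype.ext
        show θ ⟨x * y, _⟩ = θ ⟨x, _⟩ * θ ⟨y, _⟩
        rw [← map_mul]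
        rfl }
  have hf : Function.Surjective f := by
    intro y
    obtain ⟨s, hsS, hsP, hs⟩ := exists_preimage θ hrange hP' y
    exact ⟨⟨s, hsP⟩, Subtype.ext hs⟩
  let g : FusionSystem.preimageAlong θ P' →* Ω' := θ.comp (ψ.codRestrict S hψS)
  have hfg : f.ker ≤ g.ker := by
    intro x hx
    rw [MonoidHom.mem_ker] at hx ⊢
    have h1 : θ ⟨x, hA x.2⟩ = 1 := congrArg Subtype.val hx
    have h2 : (x : Ω) ∈ S₀ := (hker _).mp h1
    have h3 : ψ ⟨x, hS₀A h2⟩ ∈ S₀ := stronglyClosed_map_mem hS₀ hS₀A hψ h2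
    show θ ⟨ψ x, hψS x⟩ = 1
    exact (hker _).mpr h3
  refine ⟨f.liftOfSurjective hf ⟨g, hfg⟩, hA, hψS, hAP', fun x => ?_⟩
  exact MonoidHom.liftOfRightInverse_comp_apply f _ _ ⟨g, hfg⟩ x

/-- The full preimage of the image of `P` is `P ⊔ S₀`. -/
theorem preimageAlong_imageAlong (θ : S →* Ω') {S₀ : Subgroup Ω} (hS₀S : S₀ ≤ S)
    (hker : ∀ s : S, θ s = 1 ↔ (s : Ω) ∈ S₀) {P : Subgroup Ω} (hP : P ≤ S) :
    FusionSystem.preimageAlong θ (FusionSystem.imageAlong θ P) = P ⊔ S₀ := by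
  apply le_antisymm
  · intro x hx
    obtain ⟨hxS, y, hy, hyx⟩ := (mem_preimageAlong θ _ x).mp hx
    have hyP : (y : Ω) ∈ P := Subgroup.mem_subgroupOf.mp hy
    have h1 : θ (y⁻¹ * ⟨x, hxS⟩) = 1 := by
      rw [map_mul, map_inv, hyx, inv_mul_cancel]
    have h2 : (y : Ω)⁻¹ * x ∈ S₀ := (hker _).mp h1
    have : x = (y : Ω) * ((y : Ω)⁻¹ * x) := by group
    rw [this]
    exact Subgroup.mul_mem _ (Subgroup.mem_sup_left hyP) (Subgroup.mem_sup_right h2)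
  · apply sup_le
    · intro x hx
      rw [mem_preimageAlong]
      exact ⟨hP hx, ⟨⟨x, hP hx⟩, Subgroup.mem_subgroupOf.mpr hx, rfl⟩⟩
    · exact kernel_le_preimageAlong θ hS₀S hker _

theorem imageAlong_le (θ : S →* Ω') (hrange : θ.range = S') (P : Subgroup Ω) :
    FusionSystem.imageAlong θ P ≤ S' := by
  rintro _ ⟨y, -, rfl⟩
  rw [← hrange]
  exact ⟨y, rfl⟩

/-- Every map of a saturated `F` induces a map along `θ` with kernel a strongly closed subgroup `S₀`, namely the one induced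
by an extension modulo `S₀` to `P ⊔ S₀`. -/
theorem exists_induced_of_saturated [Finite S] (p : ℕ) [Fact p.Prime] (hS : IsPGroup p S) (F : FusionSystem S)
    (hF : F.IsSaturated p) {S₀ : Subgroup Ω} (hS₀ : F.StronglyClosed S₀) (θ : S →* Ω')
    (hker : ∀ s : S, θ s = 1 ↔ (s : Ω) ∈ S₀) (hrange : θ.range = S') {P : Subgroup Ω} {φ : P →* Ω}
    (hφ : φ ∈ F.Hom P) :
    ∃ (φ' : FusionSystem.imageAlong θ P →* Ω'),
      (∃ ψ ∈ F.Hom (FusionSystem.preimageAlong θ (FusionSystem.imageAlong θ P)), FusionSystem.InducedAlong θ ψ φ') ∧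
        FusionSystem.InducedAlong θ φ φ' := by
  have hPS : P ≤ S := (F.le_of_mem hφ).1
  have hφS : ∀ x : P, φ x ∈ S := (F.le_of_mem hφ).2
  obtain ⟨ψ, hψ, hag⟩ := exists_extension_mod p hS F hF hS₀ hφ
  have heq := preimageAlong_imageAlong θ hS₀.1 hker hPS
  obtain ⟨ψ', hψ', hcast⟩ := hom_cast F heq.symm ψ hψ
  have hP'S' := imageAlong_le θ hrange P
  obtain ⟨φ', hind⟩ := exists_inducedAlong F hS₀ θ hker hrange hP'S' hψ'
  refine ⟨φ', ⟨ψ', hψ', hind⟩, ?_⟩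
  obtain ⟨hA, hψS, hAP', hind⟩ := hind
  have hPA : P ≤ FusionSystem.preimageAlong θ (FusionSystem.imageAlong θ P) := by
    rw [heq]; exact le_sup_left
  refine ⟨hPS, hφS, fun x => ⟨⟨x, hPS x.2⟩, Subgroup.mem_subgroupOf.mpr x.2, rfl⟩, fun x => ?_⟩
  have h1 := hind ⟨x, hPA x.2⟩
  have h2 : ψ' ⟨x, hPA x.2⟩ = ψ ⟨x, (le_sup_left : P ≤ P ⊔ S₀) x.2⟩ := hcast x _ _
  have h3 : θ ⟨ψ' ⟨x, hPA x.2⟩, hψS _⟩ = θ ⟨φ x, hφS x⟩ := by
    have hk : (φ x)⁻¹ * ψ' ⟨x, hPA x.2⟩ ∈ S₀ := by rw [h2]; exact hag x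
    have : θ (⟨φ x, hφS x⟩⁻¹ * ⟨ψ' ⟨x, hPA x.2⟩, hψS _⟩) = 1 := (hker _).mpr hk
    rw [map_mul, map_inv, inv_mul_eq_one] at this
    exact this.symm
  rw [← h3, ← h1]

end factor2

end Cfsg.Agent.Lib.Helper88
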