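import Cfsg.Agent.Lib.Helper88.FusionOP3
import Cfsg.Agent.S5095

set_option autoImplicit false
open Cfsg

namespace Cfsg.Agent.Lib.Helper88

open Cfsg.FusionSystem Cfsg.Agent.Lib.Helper87
open Cfsg.Agent.Lib.Helper91 (isCentric_of_isConj isCentric_self)

variable {Ω : Type*} [Group Ω] {S : Subgroup Ω}

/-- A centric subgroup is fully centralized. -/
theorem isFullyCentralized_of_isCentric [Finite S] (F : FusionSystem S) {R : Subgroup Ω} (hR : F.IsCentric R) :
    F.IsFullyCentralized R := by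
  refine ⟨hR.1, fun Q hconj => ?_⟩
  obtain ⟨e, -⟩ := exists_isFIso_of_isConj F hconj
  have hCQ : centralizerIn S Q ≤ Q := hR.2 Q hconj
  haveI : Finite (centralizerIn S R) := finite_of_le (centralizerIn_le S R)
  have hmem : ∀ c : centralizerIn S Q, ((e.symm ⟨c, hCQ c.2⟩ : R) : Ω) ∈ centralizerIn S R := by
    intro c
    rw [mem_centralizerIn]
    refine ⟨hR.1 (e.symm ⟨c, hCQ c.2⟩).2, fun x hx => ?_⟩
    have hc := (mem_centralizerIn.mp c.2).2
    have h1 : (e ⟨x, hx⟩ : Q) * ⟨c, hCQ c.2⟩ = ⟨c, hCQ c.2⟩ * e ⟨x, hx⟩ :=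
      Subtype.ext (hc _ (e ⟨x, hx⟩).2)
    have h2 := congrArg e.symm h1
    rw [map_mul, map_mul, MulEquiv.symm_apply_apply] at h2
    exact congrArg Subtype.val h2
  apply Nat.card_le_card_of_injective
    (fun c : centralizerIn S Q => (⟨((e.symm ⟨c, hCQ c.2⟩ : R) : Ω), hmem c⟩ : centralizerIn S R))
  intro a b hab
  have h1 : ((e.symm ⟨a, hCQ a.2⟩ : R) : Ω) = ((e.symm ⟨b, hCQ b.2⟩ : R) : Ω) :=
    congrArg (fun z : centralizerIn S R => (z : Ω)) hab
  have h2 : (⟨(a : Ω), hCQ a.2⟩ : Q) = ⟨(b : Ω), hCQ b.2⟩ := e.symm.injective (Subtype.ext h1)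
  have h3 : (a : Ω) = (b : Ω) := congrArg (fun z : Q => (z : Ω)) h2
  exact Subtype.ext h3

/-- In a saturated subsystem `D` of `F`, an element of `Aut_F(S)` whose restriction to a centric subgroup is a map
of `D` lies in `Aut_D(S)`. -/
theorem aut_mem_of_restrict_mem [Finite S] (p : ℕ) [Fact p.Prime] (hS : IsPGroup p S) (F : FusionSystem S)
    (hF : F.IsSaturated p) (D : FusionSystem S) (hD : D.IsSaturated p) (hDF : D.IsSubsystemOf F)
    {α : MulAut S} (hα : α ∈ F.autGroup S) :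
    ∀ (n : ℕ) (R : Subgroup Ω), Nat.card S - Nat.card R = n → F.IsCentric R →
      (∃ φ₁ ∈ D.Hom R, ∀ (x : Ω) (hx : x ∈ R) (hxS : x ∈ S), φ₁ ⟨x, hx⟩ = ((α ⟨x, hxS⟩ : S) : Ω)) →
      S.subtype.comp (α : S ≃* S).toMonoidHom ∈ D.Hom S := by
  intro n
  induction n using Nat.strong_induction_on with
  | _ n ih =>
  intro R hn hRc hex
  obtain ⟨φ₁, hφ₁, hφ₁x⟩ := hex
  have hRS := hRc.1
  by_cases hReq : R = S
  · subst hReq
    exact hom_congr D hφ₁ (fun x => (hφ₁x x x.2 x.2).symm)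
  have hαF : S.subtype.comp (α : S ≃* S).toMonoidHom ∈ F.Hom S := autGroup_hom_mem F le_rfl hα
  obtain ⟨s, hsN, hsR⟩ := exists_mem_normalizerIn_not_mem hS hRS hReq
  have hNS : normalizerIn S R ≤ S := normalizerIn_le S R
  haveI : Finite (normalizerIn S R) := finite_of_le hNS
  have hRN : R ≤ normalizerIn S R := le_normalizerIn hRS
  have hlt : Nat.card R < Nat.card (normalizerIn S R) := card_lt_of_le_of_not_mem hRN hsN hsR
  -- the image is centric in `D`, hence receptive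
  have hconjF : F.IsConj R φ₁.range := ⟨φ₁, hDF R hφ₁, rfl⟩
  have hR₁c : D.IsCentric φ₁.range := by
    refine ⟨isConj_le_right F hconjF, fun Q hconj => ?_⟩
    obtain ⟨ψ, hψ, hr⟩ := hconj
    exact hRc.2 Q (isConj_trans F hconjF ⟨ψ, hDF _ hψ, hr⟩)
  have hrec : D.IsReceptive φ₁.range :=
    ((isSaturated_iff p hS D).mp hD).2 _ (isFullyCentralized_of_isCentric D hR₁c)
  obtain ⟨β, hβ, hβx⟩ := hrec.2 R φ₁ hφ₁ rfl
  have hNle : normalizerIn S R ≤ extender S R φ₁ := by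
    intro g hg
    refine mem_extender_iff.mpr ⟨hg.1, hg.2, ((α ⟨g, hg.1⟩ : S) : Ω), (α ⟨g, hg.1⟩).2, fun x hx => ?_⟩
    rw [hφ₁x _ hx (hRS hx), hφ₁x _ x.2 (hRS x.2)]
    have e : (⟨g * (x : Ω) * g⁻¹, hRS hx⟩ : S) = ⟨g, hg.1⟩ * ⟨x, hRS x.2⟩ * ⟨g, hg.1⟩⁻¹ := Subtype.ext rfl
    rw [e, map_mul, map_mul, map_inv]
    rfl
  have hβN : β.comp (Subgroup.inclusion hNle) ∈ D.Hom (normalizerIn S R) := restrict_mem D hNle hβ
  have hαN : (S.subtype.comp (α : S ≃* S).toMonoidHom).comp (Subgroup.inclusion hNS) ∈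
      F.Hom (normalizerIn S R) := restrict_mem F hNS hαF
  have hagree : ∀ x : normalizerIn S R, (x : Ω) ∈ R →
      (β.comp (Subgroup.inclusion hNle)) x =
        ((S.subtype.comp (α : S ≃* S).toMonoidHom).comp (Subgroup.inclusion hNS)) x := by
    intro x hx
    show β ⟨x, hNle x.2⟩ = ((α ⟨x, hNS x.2⟩ : S) : Ω)
    rw [hβx x hx (hNle x.2), hφ₁x x hx (hNS x.2)]
  obtain ⟨z, hzR, -, hz⟩ := Cfsg.Agent.S5095.result p hS F hF (normalizerIn S R) R hRN hRc _ _
    (hDF _ hβN) hαN hagree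
  have hconjN : ∀ y : normalizerIn S R, conjHom (normalizerIn S R) (z : Ω) y ∈ normalizerIn S R := by
    intro y
    exact (normalizerIn S R).mul_mem ((normalizerIn S R).mul_mem z.2 y.2) ((normalizerIn S R).inv_mem z.2)
  have hαND : (S.subtype.comp (α : S ≃* S).toMonoidHom).comp (Subgroup.inclusion hNS) ∈
      D.Hom (normalizerIn S R) := by
    refine comp_mem' D (D.conj_mem hNS (hNS z.2)) hβN hconjN (fun y => ?_)
    rw [hz y]
    rfl
  have hNc : F.IsCentric (normalizerIn S R) := Cfsg.Agent.Lib.Helper87.isCentric_of_le F hRc hRN hNS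
  have hcS := card_le_of_le hNS
  refine ih (Nat.card S - Nat.card (normalizerIn S R)) (by omega) (normalizerIn S R) rfl hNc ⟨_, hαND, ?_⟩
  intro x hx hxS
  rfl

/-- The `p'`-residual is contained in every saturated subsystem of index prime to `p`. -/
theorem opRes_le_of [Finite S] (p : ℕ) [Fact p.Prime] (hS : IsPGroup p S) (F : FusionSystem S)
    (hF : F.IsSaturated p) (D : FusionSystem S) (hD : D.IsSaturated p) (hidx : D.HasPrimeToPIndexIn F p) :
    (opRes F p).IsSubsystemOf D := by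
  rintro P φ ⟨α, hα, φ₀, hφ₀, hφx⟩
  have hbase : ∀ Q, (opBase F p).Hom Q ⊆ D.Hom Q := opBase_le_of F p D (fun Q hQ => hidx.2 Q hQ.1)
  have hαD : S.subtype.comp (α : S ≃* S).toMonoidHom ∈ D.Hom S := by
    have hle : opAut F p ≤ D.autGroup S := by
      rw [opAut, Subgroup.closure_le]
      rintro γ ⟨hγ, R, hRc, φ₁, hφ₁, hφ₁x⟩
      rw [SetLike.mem_coe, mem_autGroup_iff D le_rfl]
      exact aut_mem_of_restrict_mem p hS F hF D hD hidx.1 hγ _ R rfl hRc ⟨φ₁, hbase R hφ₁, hφ₁x⟩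
    exact (mem_autGroup_iff D le_rfl).mp (hle hα)
  have hφ₀S : ∀ x : P, φ₀ x ∈ S := ((opBase F p).le_of_mem hφ₀).2
  exact comp_mem' D (hbase P hφ₀) hαD hφ₀S (fun x => hφx x (hφ₀S x))

/-- A saturated fusion system has a `p'`-residual subsystem. -/
theorem exists_isPPrimeResidual [Finite S] (p : ℕ) [Fact p.Prime] (hS : IsPGroup p S) (F : FusionSystem S)
    (hF : F.IsSaturated p) : ∃ E : FusionSystem S, F.IsPPrimeResidual p E := by
  obtain ⟨hsat, hidx⟩ := opRes_saturated p hS F hF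
  exact ⟨opRes F p, hsat, hidx, fun D hD hDi => opRes_le_of p hS F hF D hD hDi⟩

end Cfsg.Agent.Lib.Helper88
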