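import Cfsg.Agent.Lib.Helper88.FusionHyp1
import Cfsg.Agent.S5082

set_option autoImplicit false
open Cfsg
open scoped Pointwise

namespace Cfsg.Agent.Lib.Helper88

open Cfsg.FusionSystem Cfsg.Agent.Lib.Helper87

variable {Ω : Type*} [Group Ω] {S : Subgroup Ω}

/-- The subsystem of maps of `F` that are conjugation by an element of `S` modulo a subgroup `H` normalized by `S`. -/
def modSystem (F : FusionSystem S) (H : Subgroup Ω) (hH : ∀ s ∈ S, ∀ y ∈ H, s * y * s⁻¹ ∈ H) : FusionSystem S where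
  Hom P := {φ | φ ∈ F.Hom P ∧ ∃ s ∈ S, ∀ x : P, (s * (x : Ω) * s⁻¹)⁻¹ * φ x ∈ H}
  le_of_mem h := F.le_of_mem h.1
  injective_of_mem h := F.injective_of_mem h.1
  conj_mem := by
    intro P g hP hg
    refine ⟨F.conj_mem hP hg, g, hg, fun x => ?_⟩
    have : (g * (x : Ω) * g⁻¹)⁻¹ * conjHom P g x = 1 := by
      show (g * (x : Ω) * g⁻¹)⁻¹ * (g * (x : Ω) * g⁻¹) = 1
      group
    rw [this]
    exact H.one_mem
  comp_mem := by
    rintro P Q φ ψ ⟨hφ, s, hs, hφs⟩ ⟨hψ, t, ht, hψt⟩ h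
    refine ⟨F.comp_mem hφ hψ h, t * s, S.mul_mem ht hs, fun x => ?_⟩
    show (t * s * (x : Ω) * (t * s)⁻¹)⁻¹ * ψ ⟨φ x, h x⟩ ∈ H
    have h1 := hH t ht _ (hφs x)
    have h2 := hψt ⟨φ x, h x⟩
    have e : (t * s * (x : Ω) * (t * s)⁻¹)⁻¹ * ψ ⟨φ x, h x⟩ =
        (t * ((s * (x : Ω) * s⁻¹)⁻¹ * φ x) * t⁻¹) * ((t * φ x * t⁻¹)⁻¹ * ψ ⟨φ x, h x⟩) := by group
    rw [e]
    exact H.mul_mem h1 h2
  inv_mem := by
    rintro P φ ⟨hφ, s, hs, hφs⟩
    obtain ⟨ψ, hψ, hinv⟩ := F.inv_mem hφ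
    refine ⟨ψ, ⟨hψ, s⁻¹, S.inv_mem hs, ?_⟩, hinv⟩
    rintro ⟨_, x, rfl⟩
    rw [hinv]
    show (s⁻¹ * φ x * s⁻¹⁻¹)⁻¹ * (x : Ω) ∈ H
    have h1 := hH s⁻¹ (S.inv_mem hs) _ (H.inv_mem (hφs x))
    have e : (s⁻¹ * φ x * s⁻¹⁻¹)⁻¹ * (x : Ω) = s⁻¹ * ((s * (x : Ω) * s⁻¹)⁻¹ * φ x)⁻¹ * s⁻¹⁻¹ := by group
    rw [e]
    exact h1

/-- In a saturated fusion system every map is conjugation by an element of `S` modulo the hyperfocal subgroup. -/
theorem le_modSystem_hyperfocal [Finite S] (p : ℕ) [Fact p.Prime] (hS : IsPGroup p S) (F : FusionSystem S)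
    (hF : F.IsSaturated p) :
    F ≤ modSystem F (F.hyperfocalSubgroup p) (fun _ hs _ hy => conj_mem_hyperfocalSubgroup F p hs hy) := by
  apply Cfsg.Agent.S5082.result p hS F hF
  intro P hP
  have hPfn : F.IsFullyNormalized P := by
    rcases hP with rfl | hP
    · exact Cfsg.Agent.Lib.Helper89.isFullyNormalized_self F
    · exact hP.2.1
  have hPS : P ≤ S := hPfn.1
  obtain ⟨-, R, hR⟩ := (fullyNormalized_props p hS F hF P hPfn).2
  have : Finite (F.autGroup P) := finite_autGroup F hPS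
  have hsup := Cfsg.Agent.Lib.Helper54.pResidual_sup_sylow R
  have hnormal := Cfsg.Agent.Lib.Helper54.pResidual_normal p (F.autGroup P)
  intro α hα
  apply Subgroup.subset_closure
  refine ⟨(mem_autGroup_iff F hPS).mp hα, ?_⟩
  -- decompose α = o * r
  have hmem : (⟨α, hα⟩ : F.autGroup P) ∈ ((pResidual p (F.autGroup P) ⊔ (R : Subgroup (F.autGroup P)) :
      Subgroup (F.autGroup P)) : Set (F.autGroup P)) := by
    rw [hsup]; trivial
  rw [Subgroup.normal_mul] at hmem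
  obtain ⟨o, ho, r, hr, hor⟩ := Set.mem_mul.mp hmem
  have hr' : r ∈ (R : Subgroup (F.autGroup P)) := hr
  rw [hR, Subgroup.mem_subgroupOf] at hr'
  obtain ⟨s, hsS, hs⟩ := mem_autInducedBy_iff.mp hr'
  refine ⟨s, hsS, fun x => ?_⟩
  apply Subgroup.subset_closure
  refine ⟨P, o, (r : MulAut P) x, hPS, ho, ?_⟩
  rw [hs x]
  congr 1
  show ((α x : P) : Ω) = _
  have : α = (o : MulAut P) * (r : MulAut P) := by
    have := congrArg (fun z : F.autGroup P => (z : MulAut P)) hor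
    exact this.symm
  rw [this]
  rfl

/-- The hyperfocal subgroup of a saturated fusion system is strongly closed. -/
theorem stronglyClosed_hyperfocalSubgroup [Finite S] (p : ℕ) [Fact p.Prime] (hS : IsPGroup p S)
    (F : FusionSystem S) (hF : F.IsSaturated p) : F.StronglyClosed (F.hyperfocalSubgroup p) := by
  refine ⟨hyperfocalSubgroup_le F p, fun R hR φ hφ x => ?_⟩
  obtain ⟨-, s, hs, hφs⟩ := le_modSystem_hyperfocal p hS F hF R hφ
  have h1 := hφs x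
  have h2 : s * (x : Ω) * s⁻¹ ∈ F.hyperfocalSubgroup p := conj_mem_hyperfocalSubgroup F p hs (hR x.2)
  have e : φ x = (s * (x : Ω) * s⁻¹) * ((s * (x : Ω) * s⁻¹)⁻¹ * φ x) := by group
  rw [e]
  exact Subgroup.mul_mem _ h2 h1

end Cfsg.Agent.Lib.Helper88
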