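import Cfsg.Agent.Lib.Helper88.FusionRS1

set_option autoImplicit false
open Cfsg

namespace Cfsg.Agent.Lib.Helper88

open Cfsg.FusionSystem Cfsg.Agent.Lib.Helper87

variable {Ω : Type*} [Group Ω] {S : Subgroup Ω}

theorem mulAut_congr_self {Q : Type*} [Group Q] (α β : MulAut Q) : MulAut.congr α β = α * β * α⁻¹ := by
  ext x
  simp [MulAut.congr, MulAut.mul_apply, MulAut.inv_apply]

/-- An element of `Aut_F(Q)` normalizing `Aut_S(Q)`, with `Q` receptive, extends to an element of `Aut_F(N_S(Q))`. -/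
theorem exists_autGroup_normalizer_extension [Finite S] (F : FusionSystem S) {Q : Subgroup Ω} (hQS : Q ≤ S)
    (hrec : F.IsReceptive Q) {α₀ : MulAut Q} (hα : α₀ ∈ F.autGroup Q)
    (hnorm : ∀ β ∈ autInducedBy S Q, α₀ * β * α₀⁻¹ ∈ autInducedBy S Q) :
    ∃ γ₀ ∈ F.autGroup (normalizerIn S Q),
      ∀ x : Q, ((γ₀ ⟨x, le_normalizerIn hQS x.2⟩ : normalizerIn S Q) : Ω) = α₀ x := by
  have hle : normalizerIn S Q ≤ extender S Q (Q.subtype.comp (α₀ : Q ≃* Q).toMonoidHom) := by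
    apply normalizerIn_le_extender (α₀ : Q ≃* Q)
    intro β hβ
    rw [mulAut_congr_self]
    exact hnorm β hβ
  have hψ' : Q.subtype.comp (α₀ : Q ≃* Q).toMonoidHom ∈ F.Hom Q := (mem_autGroup_iff F hQS).mp hα
  obtain ⟨ψ, hψ, hψext⟩ := hrec.2 Q _ hψ' (IsFIso.range_eq (α₀ : Q ≃* Q))
  set φ := ψ.comp (Subgroup.inclusion hle) with hφdef
  have hφ : φ ∈ F.Hom (normalizerIn S Q) := restrict_mem F hle hψ
  have hφQ : ∀ (x : normalizerIn S Q) (hx : (x : Ω) ∈ Q), φ x = α₀ ⟨x, hx⟩ := by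
    intro x hx
    exact hψext x hx (hle x.2)
  have : Finite Q := finite_of_le hQS
  have hφN : ∀ n : normalizerIn S Q, φ n ∈ normalizerIn S Q := by
    intro n
    refine ⟨hom_mem F hφ n, ?_⟩
    apply mem_normalizer_of_conj_mem
    intro y hy
    set q : Q := α₀⁻¹ ⟨y, hy⟩ with hq
    have hyq : y = ((α₀ q : Q) : Ω) := by
      rw [hq, MulAut.apply_inv_self]
    have hqN : (q : Ω) ∈ normalizerIn S Q := le_normalizerIn hQS q.2
    have h1 : φ ⟨q, hqN⟩ = y := by rw [hφQ ⟨q, hqN⟩ q.2, hyq]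
    have hnq : (n : Ω) * q * (n : Ω)⁻¹ ∈ Q := (Subgroup.mem_normalizer_iff.mp n.2.2 _).mp q.2
    have h2 : φ n * y * (φ n)⁻¹ = φ (n * ⟨q, hqN⟩ * n⁻¹) := by
      rw [map_mul, map_mul, map_inv, h1]
    rw [h2, hφQ _ hnq]
    exact (α₀ _).2
  have hrange : φ.range = normalizerIn S Q := by
    have hle' : φ.range ≤ normalizerIn S Q := by
      rintro _ ⟨n, rfl⟩
      exact hφN n
    have : Finite (normalizerIn S Q) := finite_of_le (normalizerIn_le S Q)
    apply Subgroup.eq_of_le_of_card_ge hle'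
    exact (Nat.card_congr (MonoidHom.ofInjective (F.injective_of_mem hφ)).toEquiv).le
  refine ⟨homEquiv F hφ hrange, homEquiv_mem_autGroup F hφ hrange, fun x => ?_⟩
  rw [homEquiv_apply]
  exact hφQ _ x.2


/-- Replace an extension of a `p`-element by a `p`-element extension. -/
theorem exists_pElement_restriction {N Q' : Type*} [Group N] [Group Q'] [Finite N] (X : Subgroup (MulAut N))
    (ι : Q' → N) (γ₀ : MulAut N) (hγ₀ : γ₀ ∈ X) (α₀ : MulAut Q') (hres : ∀ x, γ₀ (ι x) = ι (α₀ x))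
    {p a : ℕ} [Fact p.Prime] (hα : α₀ ^ (p ^ a) = 1) :
    ∃ γ ∈ X, (∃ b : ℕ, γ ^ (p ^ b) = 1) ∧ ∀ x, γ (ι x) = ι (α₀ x) := by
  have hp : p.Prime := Fact.out
  have hpow : ∀ (j : ℕ) (x : Q'), (γ₀ ^ j) (ι x) = ι ((α₀ ^ j) x) := by
    intro j
    induction j with
    | zero => intro x; simp
    | succ j ih =>
      intro x
      rw [pow_succ, MulAut.mul_apply, hres, ih, pow_succ, MulAut.mul_apply]
  have ho : orderOf γ₀ ≠ 0 := (orderOf_pos γ₀).ne'
  obtain ⟨b, m, hm, hbm⟩ := Nat.exists_eq_pow_mul_and_not_dvd ho p hp.ne_one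
  have hcop : m.Coprime (orderOf α₀) := by
    have hdvd : orderOf α₀ ∣ p ^ a := orderOf_dvd_of_pow_eq_one hα
    obtain ⟨c, -, hc⟩ := (Nat.dvd_prime_pow hp).mp hdvd
    rw [hc]
    exact Nat.Coprime.pow_right c ((Nat.Prime.coprime_iff_not_dvd hp).mpr hm).symm
  obtain ⟨k, hk⟩ := exists_pow_eq_self_of_coprime hcop
  refine ⟨(γ₀ ^ m) ^ k, X.pow_mem (X.pow_mem hγ₀ m) k, ⟨b, ?_⟩, fun x => ?_⟩
  · rw [← pow_mul, ← pow_mul]
    have e : m * (k * p ^ b) = orderOf γ₀ * k := by rw [hbm]; ring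
    rw [e, pow_mul, pow_orderOf_eq_one, one_pow]
  · rw [← pow_mul, hpow, pow_mul, hk]

end Cfsg.Agent.Lib.Helper88
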