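import Mathlib
import Cfsg.Agent.Lib.Helper69.StNDefs

/-!
# K-StN-E4 (keystone 240115, S2401, architect helper69): `φ` is injective on the upper unipotent
subgroup `Upos X` of a Steinberg datum of type `A_{n-1}` (helper88, parallel hand).

Route: code the pair `(a, b)` by `a * n + b`; `Wc X c` is generated by the root elements `X a b t`,
`a < b`, of code `≥ c`.  When `code (i, j) = c`, `X i j t` normalises `Wc X (c+1)` (only `comm` and
`comm3` are used), so every `g ∈ Wc X c` is `v * X i j t` with `v ∈ Wc X (c+1)`.  The image under `φ` of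
`Wc X (c+1)` consists of upper unitriangular matrices whose entries of code `≤ c` vanish, so `φ g = 1`
forces `t = 0`; downward induction on `c`.
-/

set_option autoImplicit false
set_option linter.unusedSectionVars false
set_option linter.unusedVariables false

namespace Cfsg.Agent.Lib.Helper88.StN

open Cfsg.Agent.Lib.Helper69.StN Matrix

variable {n : ℕ} {K : Type*} [Field K] {S : Type*} [Group S] {X : Fin n → Fin n → K → S}

/-- generated by the positive root elements of code `a * n + b ≥ c` -/
def Wc (X : Fin n → Fin n → K → S) (c : ℕ) : Subgroup S :=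
  Subgroup.closure {g | ∃ a b : Fin n, ∃ t : K, a < b ∧ c ≤ a.val * n + b.val ∧ g = X a b t}

theorem Wc_anti (X : Fin n → Fin n → K → S) {c c' : ℕ} (h : c ≤ c') : Wc X c' ≤ Wc X c := by
  apply Subgroup.closure_mono
  rintro g ⟨a, b, t, hab, hc, rfl⟩
  exact ⟨a, b, t, hab, le_trans h hc, rfl⟩

theorem Upos_le_Wc_zero (X : Fin n → Fin n → K → S) : Upos X ≤ Wc X 0 := by
  apply Subgroup.closure_mono
  rintro g ⟨a, b, t, hab, rfl⟩
  exact ⟨a, b, t, hab, Nat.zero_le _, rfl⟩

theorem Wc_top_eq_bot (X : Fin n → Fin n → K → S) : Wc X (n * n) = ⊥ := by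
  rw [Wc, Subgroup.closure_eq_bot_iff]
  rintro g ⟨a, b, t, hab, hc, rfl⟩
  exfalso
  have ha := a.2
  have hb := b.2
  have h1 : a.val * n + b.val < (a.val + 1) * n := by
    rw [Nat.add_mul, Nat.one_mul]; omega
  have h2 : (a.val + 1) * n ≤ n * n := Nat.mul_le_mul_right n ha
  omega

theorem X_mem_Wc (X : Fin n → Fin n → K → S) {a b : Fin n} (hab : a < b) {c : ℕ}
    (hc : c ≤ a.val * n + b.val) (t : K) : X a b t ∈ Wc X c :=
  Subgroup.subset_closure ⟨a, b, t, hab, hc, rfl⟩

/-- `X i j t` normalises the next term of the filtration -/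
theorem conj_mem_Wc_succ (hX : IsSt X) {i j : Fin n} (hij : i < j) (t : K) :
    ∀ v ∈ Wc X (i.val * n + j.val + 1), X i j t * v * (X i j t)⁻¹ ∈ Wc X (i.val * n + j.val + 1) := by
  intro v hv
  induction hv using Subgroup.closure_induction with
  | mem g hg =>
    obtain ⟨a, b, u, hab, hc, rfl⟩ := hg
    have hne : i ≠ j := ne_of_lt hij
    have hab' : a ≠ b := ne_of_lt hab
    by_cases hja : j = a
    · subst hja
      have hib : i ≠ b := ne_of_lt (lt_trans hij hab)
      have h3 := hX.comm3 i j b hne hab' hib t u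
      have e : X i j t * X j b u * (X i j t)⁻¹ = X i b (t * u) * X j b u := by
        rw [← h3]; group
      rw [e]
      refine (Wc X _).mul_mem (X_mem_Wc X (lt_trans hij hab) ?_ _) (X_mem_Wc X hab hc _)
      have : j.val < b.val := hab
      omega
    · have hib : i ≠ b := by
        intro hib
        subst hib
        -- then `a < i`, so the code of `(a, i)` is smaller than `i * n`
        have hai : a.val < i.val := hab
        have hin := i.2
        have h1 : (a.val + 1) * n ≤ i.val * n := Nat.mul_le_mul_right n hai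
        rw [Nat.add_mul, Nat.one_mul] at h1
        omega
      have hc' := hX.comm i j a b hne hab' hib hja t u
      have e : X i j t * X a b u * (X i j t)⁻¹ = X a b u := by
        rw [hc']; group
      rw [e]
      exact X_mem_Wc X hab hc _
  | one => simp
  | mul x y _ _ hx hy =>
    have e : X i j t * (x * y) * (X i j t)⁻¹ =
        (X i j t * x * (X i j t)⁻¹) * (X i j t * y * (X i j t)⁻¹) := by group
    rw [e]
    exact (Wc X _).mul_mem hx hy
  | inv x _ hx =>
    have e : X i j t * x⁻¹ * (X i j t)⁻¹ = (X i j t * x * (X i j t)⁻¹)⁻¹ := by group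
    rw [e]
    exact (Wc X _).inv_mem hx

/-- the decomposition `g = v * X i j t` -/
theorem Wc_decomp (hX : IsSt X) {i j : Fin n} (hij : i < j) :
    ∀ g ∈ Wc X (i.val * n + j.val), ∃ v ∈ Wc X (i.val * n + j.val + 1), ∃ t : K, g = v * X i j t := by
  have hne : i ≠ j := ne_of_lt hij
  intro g hg
  induction hg using Subgroup.closure_induction with
  | mem g hg =>
    obtain ⟨a, b, u, hab, hc, rfl⟩ := hg
    by_cases hcode : a.val * n + b.val = i.val * n + j.val
    · -- then `(a, b) = (i, j)`
      have ha := a.2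
      have hb := b.2
      have hj := j.2
      have hai : a.val = i.val := by
        rcases Nat.lt_trichotomy a.val i.val with h | h | h
        · exfalso
          have h1 : (a.val + 1) * n ≤ i.val * n := Nat.mul_le_mul_right n h
          rw [Nat.add_mul, Nat.one_mul] at h1
          omega
        · exact h
        · exfalso
          have h1 : (i.val + 1) * n ≤ a.val * n := Nat.mul_le_mul_right n h
          rw [Nat.add_mul, Nat.one_mul] at h1
          omega
      have hbj : b.val = j.val := by rw [hai] at hcode; omega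
      have e1 : a = i := Fin.ext hai
      have e2 : b = j := Fin.ext hbj
      subst e1; subst e2
      exact ⟨1, (Wc X _).one_mem, u, by rw [one_mul]⟩
    · refine ⟨X a b u, X_mem_Wc X hab (by omega) _, 0, ?_⟩
      rw [hX.zero hne, mul_one]
  | one => exact ⟨1, (Wc X _).one_mem, 0, by rw [hX.zero hne, mul_one]⟩
  | mul x y _ _ hx hy =>
    obtain ⟨v, hv, t, rfl⟩ := hx
    obtain ⟨v', hv', t', rfl⟩ := hy
    refine ⟨v * (X i j t * v' * (X i j t)⁻¹), (Wc X _).mul_mem hv (conj_mem_Wc_succ hX hij t v' hv'),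
      t + t', ?_⟩
    rw [← hX.add i j hne t t']
    group
  | inv x _ hx =>
    obtain ⟨v, hv, t, rfl⟩ := hx
    refine ⟨X i j (-t) * v⁻¹ * (X i j (-t))⁻¹,
      conj_mem_Wc_succ hX hij (-t) v⁻¹ ((Wc X _).inv_mem hv), -t, ?_⟩
    rw [_root_.mul_inv_rev, hX.inv hne t]
    group

/-- upper unitriangular with vanishing entries of code `< c` -/
def QM (c : ℕ) (M : Matrix (Fin n) (Fin n) K) : Prop :=
  (∀ a b : Fin n, b < a → M a b = 0) ∧ (∀ a : Fin n, M a a = 1) ∧
    ∀ a b : Fin n, a < b → a.val * n + b.val < c → M a b = 0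

theorem QM_mul {c : ℕ} {M N : Matrix (Fin n) (Fin n) K} (hM : QM c M) (hN : QM c N) :
    QM c (M * N) := by
  obtain ⟨hM1, hM2, hM3⟩ := hM
  obtain ⟨hN1, hN2, hN3⟩ := hN
  refine ⟨fun a b hab => ?_, fun a => ?_, fun a b hab hc => ?_⟩
  · rw [Matrix.mul_apply]
    refine Finset.sum_eq_zero fun k _ => ?_
    by_cases hk : k < a
    · rw [hM1 a k hk, zero_mul]
    · rw [hN1 k b (lt_of_lt_of_le hab (not_lt.mp hk)), mul_zero]
  · rw [Matrix.mul_apply, Finset.sum_eq_single a]
    · rw [hM2, hN2, mul_one]
    · intro k _ hk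
      rcases lt_or_gt_of_ne hk with h | h
      · rw [hM1 a k h, zero_mul]
      · rw [hN1 k a h, mul_zero]
    · intro h; exact absurd (Finset.mem_univ _) h
  · rw [Matrix.mul_apply]
    refine Finset.sum_eq_zero fun k _ => ?_
    rcases lt_trichotomy k a with h | h | h
    · rw [hM1 a k h, zero_mul]
    · subst h
      rw [hN3 k b hab hc, mul_zero]
    · rcases lt_trichotomy k b with h' | h' | h'
      · have : a.val * n + k.val < c := by
          have : k.val < b.val := h'
          omega
        rw [hM3 a k h this, zero_mul]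
      · subst h'
        rw [hM3 a k hab hc, zero_mul]
      · rw [hN1 k b h', mul_zero]

theorem QM_one (c : ℕ) : QM c (1 : Matrix (Fin n) (Fin n) K) :=
  ⟨fun a b hab => Matrix.one_apply_ne (ne_of_gt hab), fun a => Matrix.one_apply_eq a,
    fun a b hab _ => Matrix.one_apply_ne (ne_of_lt hab)⟩

theorem QM_transvection {c : ℕ} {a b : Fin n} (hab : a < b) (hc : c ≤ a.val * n + b.val) (t : K) :
    QM c ((1 : Matrix (Fin n) (Fin n) K) + Matrix.single a b t) := by
  refine ⟨fun x y hxy => ?_, fun x => ?_, fun x y hxy hc' => ?_⟩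
  · rw [Matrix.add_apply, Matrix.one_apply_ne (ne_of_gt hxy), zero_add, Matrix.single_apply,
      if_neg]
    rintro ⟨rfl, rfl⟩
    exact lt_asymm hab hxy
  · rw [Matrix.add_apply, Matrix.one_apply_eq, Matrix.single_apply, if_neg, add_zero]
    rintro ⟨rfl, h⟩
    exact (ne_of_lt hab) h.symm
  · rw [Matrix.add_apply, Matrix.one_apply_ne (ne_of_lt hxy), zero_add, Matrix.single_apply,
      if_neg]
    rintro ⟨rfl, rfl⟩
    omega

/-- the image of `Wc X c` consists of `QM c` matrices -/
theorem QM_phi {φ : S →* SpecialLinearGroup (Fin n) K} (hX : IsSt X) (hφ : IsPhi X φ) (c : ℕ) :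
    ∀ v ∈ Wc X c, QM c ((φ v : SpecialLinearGroup (Fin n) K) : Matrix (Fin n) (Fin n) K) ∧
      QM c ((φ v⁻¹ : SpecialLinearGroup (Fin n) K) : Matrix (Fin n) (Fin n) K) := by
  intro v hv
  induction hv using Subgroup.closure_induction with
  | mem g hg =>
    obtain ⟨a, b, u, hab, hc, rfl⟩ := hg
    have hne : a ≠ b := ne_of_lt hab
    constructor
    · rw [hφ a b hne u]
      exact QM_transvection hab hc u
    · rw [hX.inv hne u, hφ a b hne (-u)]
      exact QM_transvection hab hc (-u)
  | one =>
    rw [inv_one, map_one]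
    exact ⟨QM_one c, QM_one c⟩
  | mul x y _ _ hx hy =>
    constructor
    · rw [map_mul]
      exact QM_mul hx.1 hy.1
    · rw [_root_.mul_inv_rev, map_mul]
      exact QM_mul hy.2 hx.2
  | inv x _ hx =>
    rw [inv_inv]
    exact ⟨hx.2, hx.1⟩

theorem Wc_inj {φ : S →* SpecialLinearGroup (Fin n) K} (hX : IsSt X) (hφ : IsPhi X φ) :
    ∀ d c : ℕ, c + d = n * n → ∀ g ∈ Wc X c, φ g = 1 → g = 1 := by
  intro d
  induction d with
  | zero =>
    intro c hc g hg _
    rw [Nat.add_zero] at hc
    rw [hc, Wc_top_eq_bot] at hg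
    exact Subgroup.mem_bot.mp hg
  | succ d ih =>
    intro c hc g hg h1
    by_cases hex : ∃ i j : Fin n, i < j ∧ i.val * n + j.val = c
    · obtain ⟨i, j, hij, rfl⟩ := hex
      obtain ⟨v, hv, t, rfl⟩ := Wc_decomp hX hij g hg
      have hQ := (QM_phi hX hφ _ v hv).1
      have hne : i ≠ j := ne_of_lt hij
      have h2 : ((φ (v * X i j t) : SpecialLinearGroup (Fin n) K) : Matrix (Fin n) (Fin n) K) i j
          = (1 : Matrix (Fin n) (Fin n) K) i j := by
        rw [h1]; rfl
      rw [map_mul, hφ i j hne t, Matrix.one_apply_ne hne] at h2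
      change (((φ v : SpecialLinearGroup (Fin n) K) : Matrix (Fin n) (Fin n) K) *
          ((SpecialLinearGroup.transvection hne t : SpecialLinearGroup (Fin n) K) :
            Matrix (Fin n) (Fin n) K)) i j = 0 at h2
      have h3 : ((φ v : SpecialLinearGroup (Fin n) K) : Matrix (Fin n) (Fin n) K) *
          ((SpecialLinearGroup.transvection hne t : SpecialLinearGroup (Fin n) K) :
            Matrix (Fin n) (Fin n) K) =
          ((φ v : SpecialLinearGroup (Fin n) K) : Matrix (Fin n) (Fin n) K) +
            ((φ v : SpecialLinearGroup (Fin n) K) : Matrix (Fin n) (Fin n) K) * Matrix.single i j t := by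
        rw [SpecialLinearGroup.transvection_coe, Matrix.mul_add, Matrix.mul_one]
      rw [h3, Matrix.add_apply, hQ.2.2 i j hij (Nat.lt_succ_self _), zero_add,
        Matrix.mul_apply, Finset.sum_eq_single i] at h2
      · rw [hQ.2.1 i, one_mul, Matrix.single_apply_same] at h2
        rw [h2, hX.zero hne, mul_one] at h1 ⊢
        exact ih _ (by omega) v hv h1
      · intro k _ hk
        rw [Matrix.single_apply_of_row_ne hk.symm, mul_zero]
      · intro h; exact absurd (Finset.mem_univ _) h
    · have hle : Wc X c ≤ Wc X (c + 1) := by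
        apply Subgroup.closure_mono
        rintro g ⟨a, b, t, hab, hc', rfl⟩
        refine ⟨a, b, t, hab, ?_, rfl⟩
        rcases Nat.lt_or_ge c (a.val * n + b.val) with h | h
        · exact h
        · exact absurd ⟨a, b, hab, le_antisymm h hc'⟩ hex
      exact ih _ (by omega) g (hle hg) h1

/-- **LEAF E4 (240115).** -/
theorem Upos_inj (hX : IsSt X) {φ : S →* SpecialLinearGroup (Fin n) K} (hφ : IsPhi X φ) :
    ∀ g ∈ Upos X, φ g = 1 → g = 1 := fun g hg h1 =>
  Wc_inj hX hφ (n * n) 0 (Nat.zero_add _) g (Upos_le_Wc_zero X hg) h1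

end Cfsg.Agent.Lib.Helper88.StN
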