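import Mathlib

/-!
# K-SPC leaf C10 (267619, helper88): polynomial square roots of unipotent matrices, characteristic `≠ 2`
-/

set_option autoImplicit false

namespace Cfsg.Agent.Lib.Helper88.SPC

open Matrix Polynomial

variable {F : Type*} [Field F]

/-- Newton iteration: a square root of `X` modulo `(X - 1)^(r+1)` -/
theorem exists_sqrt_X_mod (h2 : (2 : F) ≠ 0) (r : ℕ) :
    ∃ P Q : Polynomial F, P * P = X + (X - C 1) ^ (r + 1) * Q := by
  induction r with
  | zero =>
    refine ⟨1, -1, ?_⟩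
    simp
  | succ r ih =>
    obtain ⟨P, Q, hPQ⟩ := ih
    have hs : P.eval 1 * P.eval 1 = 1 := by
      have := congrArg (Polynomial.eval (1 : F)) hPQ
      simpa using this
    set s : F := P.eval 1 with hsdef
    set a : F := -(Q.eval 1) * s * (2 : F)⁻¹ with hadef
    have hroot : (Q + (C a * P + C a * P)).IsRoot 1 := by
      rw [Polynomial.IsRoot.def]
      simp only [eval_add, eval_mul, eval_C]
      rw [← hsdef, hadef]
      have h3 : -(Q.eval 1) * s * (2 : F)⁻¹ * s + -(Q.eval 1) * s * (2 : F)⁻¹ * s =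
          -(Q.eval 1) * (s * s) * ((2 : F)⁻¹ * 2) := by ring
      rw [h3, hs, inv_mul_cancel₀ h2]
      ring
    obtain ⟨Q₁, hQ₁⟩ := Polynomial.dvd_iff_isRoot.mpr hroot
    refine ⟨P + C a * (X - C 1) ^ (r + 1), Q₁ + C a * C a * (X - C 1) ^ r, ?_⟩
    have e1 : (P + C a * (X - C 1) ^ (r + 1)) * (P + C a * (X - C 1) ^ (r + 1)) =
        P * P + (X - C 1) ^ (r + 1) * (C a * P + C a * P) +
          C a * C a * ((X - C 1) ^ (r + 1) * (X - C 1) ^ (r + 1)) := by ring
    rw [e1, hPQ]
    have e2 : X + (X - C 1) ^ (r + 1) * Q + (X - C 1) ^ (r + 1) * (C a * P + C a * P) =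
        X + (X - C 1) ^ (r + 1) * (Q + (C a * P + C a * P)) := by ring
    rw [e2, hQ₁]
    ring

/-- LEAF C10 (square roots of unipotents, char ≠ 2). -/
theorem exists_poly_sqrt {ι : Type*} [Fintype ι] [DecidableEq ι] (h2 : (2 : F) ≠ 0)
    (h : Matrix ι ι F) (hn : IsNilpotent (h - 1)) :
    ∃ P : Polynomial F, Polynomial.aeval h P * Polynomial.aeval h P = h := by
  obtain ⟨k, hk⟩ := hn
  obtain ⟨P, Q, hPQ⟩ := exists_sqrt_X_mod h2 k
  refine ⟨P, ?_⟩
  have := congrArg (Polynomial.aeval h) hPQ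
  rw [map_mul, map_add, map_mul, map_pow, map_sub, aeval_X, aeval_C, map_one, pow_succ, hk, zero_mul,
    zero_mul, add_zero] at this
  exact this

end Cfsg.Agent.Lib.Helper88.SPC
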