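import Cfsg.Prelude.Def_FusionComponents

set_option autoImplicit false
open Cfsg
open scoped Pointwise

namespace Cfsg.Agent.Lib.Helper88

variable {G : Type*} [Group G]

/-- A `p`-subgroup of a finite subgroup `K` containing the Sylow `p`-subgroup `S` of `G` is conjugate into `S` by
an element of `K`. -/
theorem exists_conj_le_sylow_of_le [Finite G] {p : ℕ} [Fact p.Prime] (S : Sylow p G) {K : Subgroup G}
    (hSK : (S : Subgroup G) ≤ K) {P : Subgroup G} (hPK : P ≤ K) (hP : IsPGroup p P) :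
    ∃ k ∈ K, ∀ x ∈ P, k * x * k⁻¹ ∈ S := by
  have hP' : IsPGroup p (P.subgroupOf K) := hP.comap_subtype
  obtain ⟨Q, hQ⟩ := hP'.exists_le_sylow
  obtain ⟨k, hk⟩ := MulAction.exists_smul_eq K Q (S.subtype hSK)
  refine ⟨k, k.2, fun x hx => ?_⟩
  have hxQ : (⟨x, hPK hx⟩ : K) ∈ (Q : Subgroup K) := hQ (Subgroup.mem_subgroupOf.mpr hx)
  have h1 : MulAut.conj k • (⟨x, hPK hx⟩ : K) ∈ MulAut.conj k • (Q : Subgroup K) :=
    Subgroup.smul_mem_pointwise_smul _ _ _ hxQ
  rw [← Sylow.coe_subgroup_smul, hk, Sylow.coe_subtype, Subgroup.mem_subgroupOf] at h1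
  exact h1

/-- With `H` normal: a `p`-subgroup of `S H` is conjugate into `S` by an element of `H`. -/
theorem exists_conj_le_sylow_of_le_sup_normal [Finite G] {p : ℕ} [Fact p.Prime] (S : Sylow p G) (H : Subgroup G)
    [H.Normal] {P : Subgroup G} (hPK : P ≤ (S : Subgroup G) ⊔ H) (hP : IsPGroup p P) :
    ∃ h ∈ H, ∀ x ∈ P, h * x * h⁻¹ ∈ S := by
  obtain ⟨k, hk, hkP⟩ := exists_conj_le_sylow_of_le S (le_sup_left : (S : Subgroup G) ≤ (S : Subgroup G) ⊔ H) hPK hP
  have hk' : k ∈ ((S : Subgroup G) : Set G) * (H : Set G) := by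
    rw [← Subgroup.mul_normal]
    exact hk
  obtain ⟨s, hs, h, hh, rfl⟩ := Set.mem_mul.mp hk'
  refine ⟨h, hh, fun x hx => ?_⟩
  have := hkP x hx
  have h2 : h * x * h⁻¹ = s⁻¹ * (s * h * x * (s * h)⁻¹) * s := by group
  rw [h2]
  exact (S : Subgroup G).mul_mem ((S : Subgroup G).mul_mem ((S : Subgroup G).inv_mem hs) this) hs

end Cfsg.Agent.Lib.Helper88
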