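import Cfsg.Agent.Lib.Helper87.FusionGroup
import Cfsg.Agent.Lib.Helper88.SylowConj

set_option autoImplicit false
open Cfsg
open scoped Pointwise

namespace Cfsg.Agent.Lib.Helper88

open Cfsg.Agent.Lib.Helper87

variable {G : Type*} [Group G]

/-- `R.subgroupOf M` is (the carrier of) a Sylow `p`-subgroup of `M`. -/
def IsSylowIn (p : ℕ) (R M : Subgroup G) : Prop :=
  ∃ T : Sylow p M, (T : Subgroup M) = R.subgroupOf M

theorem IsSylowIn.isPGroup {p : ℕ} {R M : Subgroup G} (h : IsSylowIn p R M) (hRM : R ≤ M) : IsPGroup p R := by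
  obtain ⟨T, hT⟩ := h
  have h1 : IsPGroup p (R.subgroupOf M) := hT ▸ T.isPGroup'
  exact h1.of_equiv (Subgroup.subgroupOfEquivOfLe hRM)

/-- Relative Sylow conjugacy: a `p`-subgroup of `M` is conjugate into a relative Sylow subgroup by an element of `M`. -/
theorem IsSylowIn.exists_conj_le [Finite G] {p : ℕ} [Fact p.Prime] {R M : Subgroup G} (h : IsSylowIn p R M)
    {U : Subgroup G} (hUM : U ≤ M) (hU : IsPGroup p U) : ∃ m ∈ M, ∀ x ∈ U, m * x * m⁻¹ ∈ R := by
  obtain ⟨T, hT⟩ := h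
  have hU' : IsPGroup p (U.subgroupOf M) := hU.comap_subtype
  obtain ⟨m, hm⟩ := Cfsg.Agent.Lib.Helper87.exists_conj_le_sylow T hU'
  refine ⟨m, m.2, fun x hx => ?_⟩
  have h1 : (MulAut.conj m).toMonoidHom ⟨x, hUM hx⟩ ∈ (T : Subgroup M) :=
    hm ⟨⟨x, hUM hx⟩, Subgroup.mem_subgroupOf.mpr hx, rfl⟩
  rw [hT, Subgroup.mem_subgroupOf] at h1
  exact h1

/-- Relative version with a normal subgroup: if `R` is a relative Sylow subgroup of `M`, `C ≤ M` is normalized
by `M`, then a `p`-subgroup of `R C` is conjugate into `R` by an element of `C`. -/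
theorem IsSylowIn.exists_conj_le_of_le_sup [Finite G] {p : ℕ} [Fact p.Prime] {R M : Subgroup G} (h : IsSylowIn p R M)
    (hRM : R ≤ M) {C : Subgroup G} (hCM : C ≤ M) (hCn : ∀ m ∈ M, ∀ c ∈ C, m * c * m⁻¹ ∈ C)
    {U : Subgroup G} (hUK : U ≤ R ⊔ C) (hU : IsPGroup p U) : ∃ c ∈ C, ∀ x ∈ U, c * x * c⁻¹ ∈ R := by
  obtain ⟨T, hT⟩ := h
  have : (C.subgroupOf M).Normal := by
    constructor
    intro n hn g
    rw [Subgroup.mem_subgroupOf] at hn ⊢
    exact hCn g g.2 n hn
  have hUM : U ≤ M := hUK.trans (sup_le hRM hCM)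
  have hU' : IsPGroup p (U.subgroupOf M) := hU.comap_subtype
  have hle : U.subgroupOf M ≤ (T : Subgroup M) ⊔ C.subgroupOf M := by
    rw [hT, ← Subgroup.subgroupOf_sup hRM hCM]
    intro x hx
    rw [Subgroup.mem_subgroupOf] at hx ⊢
    exact hUK hx
  obtain ⟨c, hc, hconj⟩ := exists_conj_le_sylow_of_le_sup_normal T (C.subgroupOf M) hle hU'
  refine ⟨c, Subgroup.mem_subgroupOf.mp hc, fun x hx => ?_⟩
  have h1 := hconj ⟨x, hUM hx⟩ (Subgroup.mem_subgroupOf.mpr hx)
  have h2 : c * ⟨x, hUM hx⟩ * c⁻¹ ∈ (T : Subgroup M) := h1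
  rw [hT, Subgroup.mem_subgroupOf] at h2
  exact h2

/-- The centralizer of `Q` is normalized by the normalizer of `Q`. -/
theorem conj_mem_centralizer_of_mem_normalizer {Q : Subgroup G} {m c : G}
    (hm : m ∈ Subgroup.normalizer (Q : Set G)) (hc : c ∈ Subgroup.centralizer (Q : Set G)) :
    m * c * m⁻¹ ∈ Subgroup.centralizer (Q : Set G) := by
  rw [Subgroup.mem_centralizer_iff] at hc ⊢
  intro q hq
  have hq' : m⁻¹ * q * m ∈ Q := by
    have := (Subgroup.mem_normalizer_iff.mp (Subgroup.inv_mem _ hm) q).mp hq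
    simpa using this
  have := hc _ hq'
  calc q * (m * c * m⁻¹) = m * ((m⁻¹ * q * m) * c) * m⁻¹ := by group
    _ = m * (c * (m⁻¹ * q * m)) * m⁻¹ := by rw [this]
    _ = m * c * m⁻¹ * q := by group

/-- The extension lemma for Sylow subgroups (statement S5123). -/
theorem sylow_extension [Finite G] {p : ℕ} [Fact p.Prime] (S : Sylow p G) (P Q : Subgroup G) (g : G)
    (hN : IsSylowIn p (FusionSystem.normalizerIn (S : Subgroup G) Q) (Subgroup.normalizer (Q : Set G))) :
    ∃ h ∈ Subgroup.centralizer (Q : Set G),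
      ((FusionSystem.normalizerIn (S : Subgroup G) P) ⊓
        (FusionSystem.normalizerIn (S : Subgroup G) Q ⊔ Subgroup.centralizer (Q : Set G)).comap
          (MulAut.conj g).toMonoidHom).map (MulAut.conj (h * g)).toMonoidHom ≤ S := by
  set N := (FusionSystem.normalizerIn (S : Subgroup G) P) ⊓
        (FusionSystem.normalizerIn (S : Subgroup G) Q ⊔ Subgroup.centralizer (Q : Set G)).comap
          (MulAut.conj g).toMonoidHom with hNdef
  have hNS : N ≤ S := inf_le_left.trans inf_le_left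
  have hU : IsPGroup p (N.map (MulAut.conj g).toMonoidHom) := (S.2.to_le hNS).map _
  have hUK : N.map (MulAut.conj g).toMonoidHom ≤
      FusionSystem.normalizerIn (S : Subgroup G) Q ⊔ Subgroup.centralizer (Q : Set G) := by
    rw [Subgroup.map_le_iff_le_comap]
    exact inf_le_right
  obtain ⟨c, hc, hconj⟩ := hN.exists_conj_le_of_le_sup (inf_le_right) (Subgroup.centralizer_le_normalizer _)
    (fun m hm c hc => conj_mem_centralizer_of_mem_normalizer hm hc) hUK hU
  refine ⟨c, hc, ?_⟩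
  rintro _ ⟨n, hn, rfl⟩
  have := hconj (g * n * g⁻¹) ⟨n, hn, rfl⟩
  have e : (MulAut.conj (c * g)).toMonoidHom n = c * (g * n * g⁻¹) * c⁻¹ := by
    show c * g * n * (c * g)⁻¹ = _
    group
  rw [e]
  exact (inf_le_left : FusionSystem.normalizerIn (S : Subgroup G) Q ≤ S) this

end Cfsg.Agent.Lib.Helper88
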