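import Cfsg.Agent.Lib.Helper88.FusionSC9
import Cfsg.Agent.Lib.Helper01.PCore
import Cfsg.Agent.Lib.Helper90.FusionAut

set_option autoImplicit false
open Cfsg

namespace Cfsg.Agent.Lib.Helper88

open Cfsg.FusionSystem Cfsg.Agent.Lib.Helper87

/-- `O_p(H)` as a subgroup of the ambient group, elementwise. -/
theorem mem_pCoreOf_iff {G : Type*} [Group G] (p : ℕ) (H : Subgroup G) (x : G) :
    x ∈ (pCore p H).map H.subtype ↔ ∃ N' : Subgroup G, N' ≤ H ∧ (∀ a ∈ H, ∀ n ∈ N', a * n * a⁻¹ ∈ N') ∧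
      IsPGroup p N' ∧ x ∈ N' := by
  constructor
  · intro hx
    refine ⟨(pCore p H).map H.subtype, Subgroup.map_subtype_le _, ?_,
      (Cfsg.Agent.Lib.Helper01.pCore_isPGroup p).map _, hx⟩
    rintro a ha _ ⟨n, hn, rfl⟩
    exact ⟨⟨a, ha⟩ * n * ⟨a, ha⟩⁻¹, (Cfsg.Agent.Lib.Helper01.pCore_normal p).conj_mem n hn ⟨a, ha⟩, rfl⟩
  · rintro ⟨N', hN'H, hn, hp, hx⟩
    have hnorm : (N'.subgroupOf H).Normal := by
      constructor
      intro n hn' a
      rw [Subgroup.mem_subgroupOf] at hn' ⊢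
      exact hn a a.2 n hn'
    have hp' : IsPGroup p (N'.subgroupOf H) := hp.comap_subtype
    have := Cfsg.Agent.Lib.Helper01.le_pCore hnorm hp'
    exact ⟨⟨x, hN'H hx⟩, this (Subgroup.mem_subgroupOf.mpr hx), rfl⟩

variable {Ω : Type*} [Group Ω] {S : Subgroup Ω}

theorem inn_le_pCoreOf (F : FusionSystem S) {p : ℕ} (hS : IsPGroup p S) {Q : Subgroup Ω} (hQS : Q ≤ S) :
    Inn Q ≤ (pCore p (F.autGroup Q)).map (F.autGroup Q).subtype := by
  intro γ hγ
  rw [mem_pCoreOf_iff]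
  refine ⟨Inn Q, Cfsg.Agent.Lib.Helper90.inn_le_autGroup F hQS, ?_, ?_, hγ⟩
  · rintro a - _ ⟨g, rfl⟩
    refine ⟨a g, ?_⟩
    ext x
    simp [MulAut.conj_apply]
  · have hQp : IsPGroup p Q := hS.to_le hQS
    exact hQp.of_surjective (MulAut.conj : Q →* MulAut Q).rangeRestrict
      (MonoidHom.rangeRestrict_surjective _)

theorem congr_mem_pCoreOf (F : FusionSystem S) {p : ℕ} {Q Q' : Subgroup Ω} {e : Q ≃* Q'} (he : IsFIso F e)
    {γ : MulAut Q} (hγ : γ ∈ (pCore p (F.autGroup Q)).map (F.autGroup Q).subtype) :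
    MulAut.congr e γ ∈ (pCore p (F.autGroup Q')).map (F.autGroup Q').subtype := by
  rw [mem_pCoreOf_iff] at hγ ⊢
  obtain ⟨N', hN'A, hn, hp, hγN⟩ := hγ
  refine ⟨N'.map (MulAut.congr e).toMonoidHom, ?_, ?_, hp.map _, ⟨γ, hγN, rfl⟩⟩
  · rw [← map_congr_autGroup F he]
    exact Subgroup.map_mono hN'A
  · rintro a' ha' _ ⟨n, hn', rfl⟩
    rw [← map_congr_autGroup F he] at ha'
    obtain ⟨a, ha, rfl⟩ := ha'
    refine ⟨a * n * a⁻¹, hn a ha n hn', ?_⟩
    rw [map_mul, map_mul, map_inv]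

theorem autInducedBy_self' (P : Subgroup Ω) : autInducedBy P P ≤ Inn P := by
  intro α hα
  obtain ⟨g, hg, hgα⟩ := mem_autInducedBy_iff.mp hα
  refine ⟨⟨g, hg⟩, ?_⟩
  ext x
  rw [hgα]
  rfl

/-- Some element outside `Ph` induces on `Ph` an automorphism in `O_p(Aut_F(Ph))`. -/
theorem exists_mem_coreSub_not_mem [Finite S] (p : ℕ) (F : FusionSystem S)
    (ℋ : Set (Subgroup Ω))
    (hstar : ∀ P : Subgroup Ω, F.IsCentric P → P ∉ ℋ → ∃ Q, F.IsConj P Q ∧
      ¬ (autInducedBy S Q ⊓ (pCore p (F.autGroup Q)).map (F.autGroup Q).subtype ≤ Inn Q))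
    {Ph : Subgroup Ω} (hPhS : Ph ≤ S) (hnm : ∀ X, F.IsConj Ph X → NMap F X Ph) (hPhℋ : Ph ∉ ℋ) :
    ∃ g ∈ coreSub S Ph ((pCore p (F.autGroup Ph)).map (F.autGroup Ph).subtype), g ∉ Ph := by
  by_cases hC : centralizerIn S Ph ≤ Ph
  · have hcen : F.IsCentric Ph := by
      refine ⟨hPhS, fun X hconj => ?_⟩
      obtain ⟨u, hu, huX⟩ := hnm X hconj
      intro c' hc'
      have hc'N : c' ∈ normalizerIn S X := centralizerIn_le_normalizerIn S X hc'
      have h1 : u ⟨c', hc'N⟩ ∈ centralizerIn S Ph := by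
        rw [mem_centralizerIn]
        refine ⟨hom_mem F hu _, fun y hy => ?_⟩
        rw [← huX] at hy
        obtain ⟨x, hxN, hxX, rfl⟩ := (mem_img u X y).mp hy
        have hcomm : x * c' = c' * x := (mem_centralizerIn.mp hc').2 x hxX
        rw [← map_mul, ← map_mul]
        congr 1
        exact Subtype.ext hcomm
      have h2 := hC h1
      rw [← huX] at h2
      exact (apply_mem_img_iff (F.injective_of_mem hu) ⟨c', hc'N⟩).mp h2
    obtain ⟨Q, hconj, hnot⟩ := hstar Ph hcen hPhℋ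
    obtain ⟨γ, hγ, hγInn⟩ := SetLike.not_le_iff_exists.mp hnot
    obtain ⟨hγS, hγK⟩ := Subgroup.mem_inf.mp hγ
    obtain ⟨g, hg, hgγ⟩ := mem_autInducedBy_iff.mp hγS
    have hQS := isConj_le_right F hconj
    have hgN : g ∈ normalizerIn S Q := ⟨hg, mem_normalizer_of_conj_eq hgγ⟩
    obtain ⟨u, hu, huQ⟩ := hnm Q hconj
    have hQN := le_normalizerIn hQS
    have hgQ : g ∉ Q := by
      intro hgQ
      apply hγInn
      refine ⟨⟨g, hgQ⟩, ?_⟩
      ext x
      rw [hgγ]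
      rfl
    have huQ' : u.comp (Subgroup.inclusion hQN) ∈ F.Hom Q := restrict_mem F hQN hu
    have hr : (u.comp (Subgroup.inclusion hQN)).range = Ph :=
      ((img_self _).symm.trans (img_restrict u hQN le_rfl)).trans huQ
    have he := isFIso_homEquiv F huQ' hr
    have hK := congr_mem_pCoreOf F he hγK
    refine ⟨u ⟨g, hgN⟩, ⟨hom_mem F hu _, MulAut.congr (homEquiv F huQ' hr) γ, hK, fun y => ?_⟩, ?_⟩
    · show ((homEquiv F huQ' hr (γ ((homEquiv F huQ' hr).symm y)) : Ph) : Ω) = _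
      rw [homEquiv_apply]
      have hz : ((homEquiv F huQ' hr ((homEquiv F huQ' hr).symm y) : Ph) : Ω) = y := by
        rw [MulEquiv.apply_symm_apply]
      rw [homEquiv_apply] at hz
      have e1 : (Subgroup.inclusion hQN (γ ((homEquiv F huQ' hr).symm y)) : normalizerIn S Q) =
          ⟨g, hgN⟩ * Subgroup.inclusion hQN ((homEquiv F huQ' hr).symm y) * ⟨g, hgN⟩⁻¹ :=
        Subtype.ext (hgγ _)
      show u (Subgroup.inclusion hQN (γ ((homEquiv F huQ' hr).symm y))) = _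
      rw [e1, map_mul, map_mul, map_inv]
      congr 2
    · intro hmem
      rw [← huQ] at hmem
      exact hgQ ((apply_mem_img_iff (F.injective_of_mem hu) ⟨g, hgN⟩).mp hmem)
  · obtain ⟨g, hgC, hgP⟩ := SetLike.not_le_iff_exists.mp hC
    obtain ⟨hgS, hgc⟩ := mem_centralizerIn.mp hgC
    refine ⟨g, ⟨hgS, 1, Subgroup.one_mem _, fun x => ?_⟩, hgP⟩
    rw [MulAut.one_apply]
    have := hgc x x.2
    rw [← this]
    group

/-- The inductive step: a subgroup all of whose larger subgroups are good is good. -/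
theorem good_of_max [Finite S] (p : ℕ) [Fact p.Prime] (hS : IsPGroup p S) (F : FusionSystem S)
    (ℋ : Set (Subgroup Ω)) (hsat : ∀ P ∈ ℋ, Good F p P)
    (hgen : ∀ E : FusionSystem S, (∀ P ∈ ℋ, F.Hom P ⊆ E.Hom P) → F ≤ E)
    (hstar : ∀ P : Subgroup Ω, F.IsCentric P → P ∉ ℋ → ∃ Q, F.IsConj P Q ∧
      ¬ (autInducedBy S Q ⊓ (pCore p (F.autGroup Q)).map (F.autGroup Q).subtype ≤ Inn Q))
    (P : Subgroup Ω) (hPS : P ≤ S)
    (hgood : ∀ Q : Subgroup Ω, Q ≤ S → Nat.card P < Nat.card Q → Good F p Q) : Good F p P := by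
  by_contra hP
  have hℋ : ∀ X, F.IsConj P X → X ∉ ℋ := by
    intro X hconj hX
    obtain ⟨Q, hXQ, hfa, hrec⟩ := hsat X hX
    exact hP ⟨Q, isConj_trans F hconj hXQ, hfa, hrec⟩
  have hlt : Nat.card P < Nat.card S := by
    by_contra hge
    have hPeq : P = S := Subgroup.eq_of_le_of_card_ge hPS (not_lt.mp hge)
    have hSℋ : S ∉ ℋ := hℋ S (hPeq ▸ isConj_refl F hPS)
    have hQeq : ∀ Q, F.IsConj S Q → Q = S := by
      intro Q hconj
      apply Subgroup.eq_of_le_of_card_ge (isConj_le_right F hconj)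
      rw [card_of_isConj F hconj]
    have hcen : F.IsCentric S := by
      refine ⟨le_rfl, fun Q hconj => ?_⟩
      rw [hQeq Q hconj]
      exact centralizerIn_le S S
    obtain ⟨Q, hconj, hnot⟩ := hstar S hcen hSℋ
    have hQ := hQeq Q hconj
    subst hQ
    exact hnot (inf_le_left.trans (autInducedBy_self' Q))
  obtain ⟨Ph, hPPh, hnmP⟩ := exists_nmap_target p hS F ℋ hgen P hPS hlt hgood hℋ
  have hPhS := isConj_le_right F hPPh
  have hcard : Nat.card Ph = Nat.card P := card_of_isConj F hPPh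
  have hconv : ∀ X, F.IsConj Ph X → F.IsConj P X := fun X h => isConj_trans F hPPh h
  have hnm : ∀ X, F.IsConj Ph X → NMap F X Ph := fun X h => hnmP X (hconv X h)
  have hℋ' : ∀ X, F.IsConj Ph X → X ∉ ℋ := fun X h => hℋ X (hconv X h)
  have hgood' : ∀ Q : Subgroup Ω, Q ≤ S → Nat.card Ph < Nat.card Q → Good F p Q :=
    fun Q hQ h => hgood Q hQ (hcard ▸ h)
  have hPhℋ : Ph ∉ ℋ := hℋ' Ph (isConj_refl F hPhS)
  have c : SCtx F p Ph ((pCore p (F.autGroup Ph)).map (F.autGroup Ph).subtype) :=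
    { hS := hS
      hPhS := hPhS
      hgood := hgood'
      hnm := hnm
      hKA := Subgroup.map_subtype_le _
      hKn := by
        rintro a ha _ ⟨k₀, hk₀, rfl⟩
        exact ⟨⟨a, ha⟩ * k₀ * ⟨a, ha⟩⁻¹, (Cfsg.Agent.Lib.Helper01.pCore_normal p).conj_mem k₀ hk₀ ⟨a, ha⟩, rfl⟩
      hKp := (Cfsg.Agent.Lib.Helper01.pCore_isPGroup p).map _
      hInn := fun g hg => ⟨MulAut.conj ⟨g, hg⟩, inn_le_pCoreOf F hS hPhS ⟨⟨g, hg⟩, rfl⟩, fun x => rfl⟩
      hbig := exists_mem_coreSub_not_mem p F ℋ hstar hPhS hnm hPhℋ }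
  exact hP ⟨Ph, hPPh, c.fullyAutomized ℋ hgen hℋ', c.receptive ℋ hgen hℋ'⟩

/-- The saturation criterion of Broto, Castellana, Grodal, Levi and Oliver. -/
theorem isSaturated_of_generated [Finite S] (p : ℕ) [Fact p.Prime] (hS : IsPGroup p S) (F : FusionSystem S)
    (ℋ : Set (Subgroup Ω))
    (hsat : ∀ P ∈ ℋ, ∃ Q, F.IsConj P Q ∧ F.IsFullyAutomized p Q ∧ F.IsReceptive Q)
    (hgen : ∀ E : FusionSystem S, (∀ P ∈ ℋ, F.Hom P ⊆ E.Hom P) → F ≤ E)
    (hstar : ∀ P : Subgroup Ω, F.IsCentric P → P ∉ ℋ → ∃ Q, F.IsConj P Q ∧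
      ¬ (autInducedBy S Q ⊓ (pCore p (F.autGroup Q)).map (F.autGroup Q).subtype ≤ Inn Q)) :
    F.IsSaturated p := by
  have key : ∀ d, ∀ P : Subgroup Ω, P ≤ S → Nat.card S - Nat.card P = d → Good F p P := by
    intro d
    induction d using Nat.strong_induction_on with
    | _ d ih =>
      intro P hPS hd
      apply good_of_max p hS F ℋ hsat hgen hstar P hPS
      intro Q hQS hlt
      have := card_le_of_le hQS
      exact ih (Nat.card S - Nat.card Q) (by omega) Q hQS rfl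
  intro P hPS
  exact key _ P hPS rfl

end Cfsg.Agent.Lib.Helper88
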