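import Cfsg.Agent.Lib.Helper88.FusionRD12

set_option autoImplicit false
open Cfsg

namespace Cfsg.Agent.Lib.Helper88

open Cfsg.FusionSystem Cfsg.Agent.Lib.Helper87
open Cfsg.Agent.Lib.Helper90 (autMap mem_autMap autMap_le apply_mem_autMap range_eq_of_forall_mem inn_le_autGroup)
open Cfsg.Agent.Lib.Helper91 (isCentric_of_isConj isCentric_self)

variable {Ω : Type*} [Group Ω] {Sh S T : Subgroup Ω}

/-- One step of the reduction: a subsystem with smaller automizer of `T`, interleaved with the residuals of `F`. -/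
theorem red_step [Finite Sh] (p : ℕ) [Fact p.Prime] (hSh : IsPGroup p Sh) {Fh : FusionSystem Sh}
    {E : FusionSystem T} {F : FusionSystem S} (c : RedCtx p Fh E F)
    (hred : gamP p (E.autGroup T) (F.autGroup T) ≠ F.autGroup T ∨
      gamQ p (E.autGroup T) (F.autGroup T) ≠ F.autGroup T) :
    ∃ (S₁ : Subgroup Ω) (F₁ : FusionSystem S₁), RedCtx p Fh E F₁ ∧ PairHyp p Fh F₁ F ∧
      Nat.card (F₁.autGroup T) < Nat.card (F.autGroup T) := by
  have hSSh := c.hSSh
  have hTS := c.hTS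
  haveI : Finite S := finite_of_le hSSh
  haveI : Finite T := finite_of_le hTS
  have hS : IsPGroup p S := hSh.to_le hSSh
  haveI : Finite (F.autGroup T) := inferInstance
  rcases hred with hne | hne
  · obtain ⟨S₁, F₁, c₁, hidx, hAut⟩ := pPower_step p hSh c
    refine ⟨S₁, F₁, c₁, ⟨c₁.satF, c.satF, c₁.invF, c.invF, hidx.1, ?_⟩, ?_⟩
    · intro D D' hD hD'
      have h1 : D.IsSubsystemOf F₁ := le_of_hasPPowerIndexIn p hS F D hD.1 hD.2.1 hidx.2.1 F₁ hidx
      exact fun P φ hφ => h1 P (hD'.2.1.1 P hφ)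
    · have hle : F₁.autGroup T ≤ F.autGroup T := hAut.trans (gamP_le p c.autE_le)
      apply card_lt_of_lt' hle
      intro h
      apply hne
      exact le_antisymm (gamP_le p c.autE_le) (h ▸ hAut)
  · obtain ⟨F₁, c₁, hidx, hAut⟩ := pPrime_step p hSh c
    refine ⟨S, F₁, c₁, ⟨c₁.satF, c.satF, c₁.invF, c.invF, hidx.1, ?_⟩, ?_⟩
    · intro D D' hD hD'
      have hle := hyperfocalSubgroup_le F p
      haveI : Finite (F.hyperfocalSubgroup p) := finite_of_le hle
      have hHp : IsPGroup p (F.hyperfocalSubgroup p) := hS.to_le hle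
      have hDinv : D.IsInvariantIn F := isInvariantIn_pResidual p hS F F c.satF (isInvariantIn_self F) D hD
      rw [eq_opRes_of_isPPrimeResidual p hHp D hD.1 D' hD']
      exact opRes_le_of_pPrimeIndex_of_invariant p hS F F₁ c₁.satF hidx D hDinv
    · have hle : F₁.autGroup T ≤ F.autGroup T := hAut.trans (gamQ_le p c.autE_le)
      apply card_lt_of_lt' hle
      intro h
      apply hne
      exact le_antisymm (gamQ_le p c.autE_le) (h ▸ hAut)

/-- The main induction of the reduction. -/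
theorem red_main [Finite Sh] (p : ℕ) [Fact p.Prime] (hSh : IsPGroup p Sh) {Fh : FusionSystem Sh}
    {E : FusionSystem T}
    (hred : ∀ A : Subgroup (MulAut T), E.autGroup T ≤ A → A ≤ Fh.autGroup T → A ≠ E.autGroup T →
      gamP p (E.autGroup T) A ≠ A ∨ gamQ p (E.autGroup T) A ≠ A) :
    ∀ (n : ℕ) (S : Subgroup Ω) (F : FusionSystem S), RedCtx p Fh E F → Nat.card (F.autGroup T) ≤ n →
      ∃ (S₀ : Subgroup Ω) (F₀ : FusionSystem S₀), RedCtx p Fh E F₀ ∧ F₀.autGroup T = E.autGroup T ∧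
        ∀ {U : Subgroup Ω} (Finf : FusionSystem U), IsResidualLimitOf Finf F p →
          Finf.IsSubsystemOf F₀ ∧ ∀ {V : Subgroup Ω} (L : FusionSystem V), IsResidualLimitOf L F₀ p → Sim L Finf := by
  intro n
  induction n with
  | zero =>
    intro S F c hn
    exfalso
    haveI : Finite S := finite_of_le c.hSSh
    haveI : Finite T := finite_of_le c.hTS
    haveI : Finite (F.autGroup T) := inferInstance
    have := Nat.card_pos (α := F.autGroup T)
    omega
  | succ n ih =>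
    intro S F c hn
    haveI : Finite S := finite_of_le c.hSSh
    have hS : IsPGroup p S := hSh.to_le c.hSSh
    by_cases h : F.autGroup T = E.autGroup T
    · refine ⟨S, F, c, h, fun Finf hFinf => ⟨isSubsystemOf_of_limit hFinf, fun L hL => ?_⟩⟩
      exact sim_limit_of_sim hL hS Finf F (Sim.refl F) hFinf
    · obtain ⟨S₁, F₁, c₁, hpair, hlt⟩ := red_step p hSh c (hred _ c.autE_le c.autF_le h)
      obtain ⟨S₀, F₀, c₀, hAut, hlim⟩ := ih S₁ F₁ c₁ (by omega)
      refine ⟨S₀, F₀, c₀, hAut, fun Finf hFinf => ?_⟩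
      haveI : Finite S₁ := finite_of_le c₁.hSSh
      have hS₁ : IsPGroup p S₁ := hSh.to_le c₁.hSSh
      obtain ⟨U₁, L₁, hL₁⟩ := exists_isResidualLimitOf p hS₁ F₁ c₁.satF
      have hsim : Sim L₁ Finf := limit_sim_of_pairHyp hFinf hSh Fh F₁ hpair L₁ hL₁
      obtain ⟨h1, h2⟩ := hlim L₁ hL₁
      exact ⟨hsim.transport (fun W X => X.IsSubsystemOf F₀) h1, fun L hL => (h2 L hL).trans hsim⟩

/-- When the automizers of `T` in `E` and `F` agree, `F` is a system over `T C_{Sh}(T)`. -/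
theorem RedCtx.eq_sup_of_autGroup_eq [Finite Sh] {p : ℕ} [Fact p.Prime] (hSh : IsPGroup p Sh)
    {Fh : FusionSystem Sh} {E : FusionSystem T} {F : FusionSystem S} (c : RedCtx p Fh E F)
    (h : F.autGroup T = E.autGroup T) : S = T ⊔ centralizerIn Sh T := by
  have hSSh := c.hSSh
  have hTS := c.hTS
  haveI : Finite S := finite_of_le hSSh
  haveI : Finite T := finite_of_le hTS
  have hS : IsPGroup p S := hSh.to_le hSSh
  apply le_antisymm _ (sup_le hTS c.cen)
  intro g hg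
  obtain ⟨-, R, hR⟩ := isFullyAutomized_of_stronglyClosed p E c.satE (stronglyClosed_self E)
  have hTF : F.StronglyClosed T := (c.invEF hSh).2.1
  have hgN : g ∈ Subgroup.normalizer (T : Set Ω) := mem_normalizer_of_stronglyClosed hTF hg
  have hQp : IsPGroup p ((autInducedBy S T).subgroupOf (E.autGroup T)) :=
    (isPGroup_autInducedBy hS T).comap_subtype
  have hRQ : (R : Subgroup (E.autGroup T)) ≤ (autInducedBy S T).subgroupOf (E.autGroup T) := by
    rw [hR]
    intro x hx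
    rw [Subgroup.mem_subgroupOf] at hx ⊢
    obtain ⟨t, ht, htx⟩ := Cfsg.Agent.Lib.Helper87.mem_autInducedBy_iff.mp hx
    exact Cfsg.Agent.Lib.Helper87.mem_autInducedBy_iff.mpr ⟨t, hTS ht, htx⟩
  have hQR := R.is_maximal' hQp hRQ
  have h1 : conjAut T g hgN ∈ autInducedBy S T := conjAut_mem_autInducedBy hg hgN
  have h2 : conjAut T g hgN ∈ E.autGroup T := h ▸ autInducedBy_le_autGroup F hTS h1
  have h3 : (⟨conjAut T g hgN, h2⟩ : E.autGroup T) ∈ (autInducedBy S T).subgroupOf (E.autGroup T) :=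
    Subgroup.mem_subgroupOf.mpr h1
  rw [hQR, hR, Subgroup.mem_subgroupOf] at h3
  obtain ⟨t, ht, htx⟩ := Cfsg.Agent.Lib.Helper87.mem_autInducedBy_iff.mp h3
  have h4 : t⁻¹ * g ∈ centralizerIn Sh T := by
    rw [mem_centralizerIn]
    refine ⟨Sh.mul_mem (Sh.inv_mem (c.hTSh ht)) (hSSh hg), fun x hx => ?_⟩
    have h5 : g * x * g⁻¹ = t * x * t⁻¹ := htx ⟨x, hx⟩
    calc x * (t⁻¹ * g) = t⁻¹ * (t * x * t⁻¹) * g := by group
      _ = t⁻¹ * (g * x * g⁻¹) * g := by rw [h5]
      _ = t⁻¹ * g * x := by group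
  have h6 : g = t * (t⁻¹ * g) := by group
  rw [h6]
  exact Subgroup.mul_mem _ (le_sup_left (a := T) ht) (le_sup_right (b := centralizerIn Sh T) h4)

/-- A weakly normal subsystem over a subgroup containing its centralizer is normal: the extension condition is
automatic. -/
theorem isNormalIn_of_isWeaklyNormalIn_of_centralizerIn_le (p : ℕ) (F : FusionSystem S) {S₀ : Subgroup Ω}
    (F₀ : FusionSystem S₀) (h : F₀.IsWeaklyNormalIn F p) (hcen : centralizerIn S S₀ ≤ S₀) :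
    F₀.IsNormalIn F p := by
  refine ⟨h, fun α hα => ?_⟩
  have hαF : α ∈ F.autGroup S₀ := autGroup_le_autGroup_of_isSubsystemOf F₀ F h.2.2.1 S₀ hα
  have hSS : S₀ ⊔ centralizerIn S S₀ = S₀ := sup_eq_left.mpr hcen
  obtain ⟨β, hβ, hβx⟩ := exists_autGroup_cast F hSS hαF
  refine ⟨β, hβ, fun x => hβx x _ x.2, fun c hc => ?_⟩
  have hcS : (c : Ω) ∈ S₀ := hcen hc
  rw [hβx c c.2 hcS]
  refine ⟨S₀.mul_mem (S₀.inv_mem hcS) (α ⟨c, hcS⟩).2, ?_⟩
  apply Subgroup.mul_mem _ (Subgroup.inv_mem _ hc.2)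
  rw [Subgroup.mem_centralizer_iff]
  intro s hs
  have h1 : (⟨s, hs⟩ : S₀) = α (α⁻¹ ⟨s, hs⟩) := by rw [MulAut.apply_inv_self]
  have h2 : (α⁻¹ ⟨s, hs⟩ : S₀) * ⟨c, hcS⟩ = ⟨c, hcS⟩ * (α⁻¹ ⟨s, hs⟩ : S₀) := by
    apply Subtype.ext
    exact (Subgroup.mem_centralizer_iff.mp hc.2) _ (α⁻¹ ⟨s, hs⟩ : S₀).2
  have h3 : (⟨s, hs⟩ : S₀) * α ⟨c, hcS⟩ = α ⟨c, hcS⟩ * ⟨s, hs⟩ := by
    rw [h1, ← map_mul, ← map_mul, h2]
  exact congrArg Subtype.val h3


end Cfsg.Agent.Lib.Helper88
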