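import Cfsg.Agent.Lib.Helper88.FusionOL6
import Cfsg.Agent.Lib.Helper89.Subsystem

set_option autoImplicit false
open Cfsg

namespace Cfsg.Agent.Lib.Helper88

open Cfsg.FusionSystem Cfsg.Agent.Lib.Helper87
open Cfsg.Agent.Lib.Helper90 (autMap mem_autMap autMap_le apply_mem_autMap range_eq_of_forall_mem)
open Cfsg.Agent.Lib.Helper91 (isCentric_of_isConj isCentric_self)

variable {Ω : Type*} [Group Ω] {S T : Subgroup Ω}

/-- Transport of an automorphism in the system along an equality of subgroups. -/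
theorem exists_autGroup_cast (F : FusionSystem S) {P P' : Subgroup Ω} (h : P' = P) {α : MulAut P}
    (hα : α ∈ F.autGroup P) :
    ∃ β ∈ F.autGroup P', ∀ (x : Ω) (hx' : x ∈ P') (hx : x ∈ P), ((β ⟨x, hx'⟩ : P') : Ω) = ((α ⟨x, hx⟩ : P) : Ω) := by
  subst h
  exact ⟨α, hα, fun x _ _ => rfl⟩

/-- A saturated subsystem over `S` itself which is invariant is normal: the extension condition is automatic. -/
theorem isNormalIn_of_isWeaklyNormalIn_self (p : ℕ) (F F₀ : FusionSystem S) (h : F₀.IsWeaklyNormalIn F p) :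
    F₀.IsNormalIn F p := by
  refine ⟨h, fun α hα => ?_⟩
  have hαF : α ∈ F.autGroup S := by
    have hle : F₀.autGroup S ≤ F.autGroup S := Subgroup.closure_mono (fun a ha => h.2.2.1 S ha)
    exact hle hα
  have hSS : S ⊔ centralizerIn S S = S := sup_eq_left.mpr (centralizerIn_le S S)
  obtain ⟨β, hβ, hβx⟩ := exists_autGroup_cast F hSS hαF
  refine ⟨β, hβ, fun x => hβx x _ x.2, fun c hc => ?_⟩
  have hcS : (c : Ω) ∈ S := hc.1
  rw [hβx c c.2 hcS]
  refine ⟨S.mul_mem (S.inv_mem hcS) (α ⟨c, hcS⟩).2, ?_⟩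
  apply Subgroup.mul_mem _ (Subgroup.inv_mem _ hc.2)
  -- `α c` is central in `S`
  rw [Subgroup.mem_centralizer_iff]
  intro s hs
  have h1 : (⟨s, hs⟩ : S) = α (α⁻¹ ⟨s, hs⟩) := by rw [MulAut.apply_inv_self]
  have h2 : (α⁻¹ ⟨s, hs⟩ : S) * ⟨c, hcS⟩ = ⟨c, hcS⟩ * (α⁻¹ ⟨s, hs⟩ : S) := by
    apply Subtype.ext
    exact (Subgroup.mem_centralizer_iff.mp hc.2) _ (α⁻¹ ⟨s, hs⟩ : S).2
  have h3 : (⟨s, hs⟩ : S) * α ⟨c, hcS⟩ = α ⟨c, hcS⟩ * ⟨s, hs⟩ := by
    rw [h1, ← map_mul, ← map_mul, h2]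
  exact congrArg Subtype.val h3

/-- `olSys` is normal in `F`. -/
theorem olSys_isNormalIn [Finite S] (p : ℕ) [Fact p.Prime] (hS : IsPGroup p S) (F : FusionSystem S)
    (hF : F.IsSaturated p) (hT : F.StronglyClosed T) (E : FusionSystem T) (hE : E.IsNormalIn F p)
    (hAI : AutInvariant E F) {K : Subgroup (MulAut T)} (hK : OLData F E p K) (hinv : HInv E K) :
    (olSys hS F hT E hK hinv).IsNormalIn F p := by
  have hEF : E.IsSubsystemOf F := hE.1.2.2.1
  have hfrat := hE.1.2.2.2.2.2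
  have hAI₀ := olSys_autInvariant hS F hT E hEF hAI hfrat hK hinv
  apply isNormalIn_of_isWeaklyNormalIn_self
  refine ⟨olSys_saturated p hS F hF hT E hE hAI hK hinv, hF, olSys_le hS F hT E hK hinv,
    stronglyClosed_self F, ?_, ?_⟩
  · intro P hPS φ hφ α hα
    obtain ⟨χ, hχ, hχx⟩ := hAI₀ α hα P hPS φ hφ ((P.subgroupOf S).map (S.subtype.comp α.toMonoidHom)) (by
      intro y
      constructor
      · rintro ⟨t, ht, rfl⟩
        exact ⟨⟨t, Subgroup.mem_subgroupOf.mp ht⟩, rfl⟩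
      · rintro ⟨x, rfl⟩
        exact ⟨⟨x, hPS x.2⟩, Subgroup.mem_subgroupOf.mpr x.2, rfl⟩)
    exact ⟨χ, hχ, hχx⟩
  · intro P _ φ hφ
    exact olSys_frattini p hS F hF hT E hE hAI hK hinv P φ hφ

/-- `olSys` has index prime to `p` in `F`. -/
theorem olSys_hasPrimeToPIndexIn [Finite S] (p : ℕ) [Fact p.Prime] (hS : IsPGroup p S) (F : FusionSystem S)
    (hF : F.IsSaturated p) (hT : F.StronglyClosed T) (E : FusionSystem T) (hE : E.IsNormalIn F p)
    (hAI : AutInvariant E F) {K : Subgroup (MulAut T)} (hK : OLData F E p K) (hinv : HInv E K) :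
    (olSys hS F hT E hK hinv).HasPrimeToPIndexIn F p :=
  ⟨olSys_le hS F hT E hK hinv, fun P hPS =>
    pElemGen_le_of_frattini p F hF (olSys hS F hT E hK hinv)
      (olSys_frattini p hS F hF hT E hE hAI hK hinv) P hPS⟩

/-- The automorphisms of `S` in `olSys`. -/
theorem mem_olSys_autGroup_iff [Finite S] (p : ℕ) [Fact p.Prime] (hS : IsPGroup p S) (F : FusionSystem S)
    (hT : F.StronglyClosed T) (E : FusionSystem T) (hEsat : E.IsSaturated p) (hEF : E.IsSubsystemOf F)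
    (hAI : AutInvariant E F) {K : Subgroup (MulAut T)} (hK : OLData F E p K) (hinv : HInv E K)
    (α : MulAut S) :
    α ∈ (olSys hS F hT E hK hinv).autGroup S ↔
      α ∈ F.autGroup S ∧ ∃ a ∈ K, ∀ t : T, ((a t : T) : Ω) = ((α ⟨t, hT.1 t.2⟩ : S) : Ω) := by
  have hTS : T ≤ S := hT.1
  constructor
  · intro hα
    have h1 := (mem_autGroup_iff _ le_rfl).mp hα
    have h2 := olSys_le_olD hS F hT E hK hinv S h1
    have hαF : α ∈ F.autGroup S := (mem_autGroup_iff F le_rfl).mpr h2.1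
    obtain ⟨a, ha, hαa⟩ := exists_extPair_restrict F hT hαF
    have haK := restrict_mem_of_olD p hS F hT E hEsat hEF hAI hK hinv h2 ha hαa
    refine ⟨hαF, a, haK, fun t => ?_⟩
    have := (mem_extPairs hTS).mp hαa t
    exact (congrArg Subtype.val this).symm
  · rintro ⟨hαF, a, haK, hat⟩
    rw [mem_autGroup_iff _ le_rfl]
    apply olD_le_olSys hS F hT E hK hinv (isCentric_self_inf hTS E)
    refine ⟨autGroup_hom_mem F le_rfl hαF, a, haK, (S ⊓ T).subtype, subtype_mem E inf_le_right,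
      fun x hx => ?_⟩
    exact (hat ⟨x, x.2.2⟩).symm

/-- `olSys` is proper when `K` is a proper subgroup of `Aut_F(T)`. -/
theorem olSys_ne [Finite S] (p : ℕ) [Fact p.Prime] (hS : IsPGroup p S) (F : FusionSystem S)
    (hF : F.IsSaturated p) (hT : F.StronglyClosed T) (E : FusionSystem T) (hEsat : E.IsSaturated p)
    (hEF : E.IsSubsystemOf F) (hAI : AutInvariant E F) {K : Subgroup (MulAut T)} (hK : OLData F E p K)
    (hinv : HInv E K) (hKne : ∃ a ∈ F.autGroup T, a ∉ K) :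
    ¬ (∀ P : Subgroup Ω, (olSys hS F hT E hK hinv).Hom P = F.Hom P) := by
  intro hall
  obtain ⟨a, ha, haK⟩ := hKne
  have hTS : T ≤ S := hT.1
  obtain ⟨α, hα, k, hk, hak⟩ := ol_frattini_aut p hS F hF hT E hK ha
  have h1 : S.subtype.comp (α : S ≃* S).toMonoidHom ∈ (olSys hS F hT E hK hinv).Hom S := by
    rw [hall S]
    exact autGroup_hom_mem F le_rfl hα
  have h2 := olSys_le_olD hS F hT E hK hinv S h1
  obtain ⟨a₁, ha₁, hαa₁⟩ := exists_extPair_restrict F hT hα
  have ha₁K := restrict_mem_of_olD p hS F hT E hEsat hEF hAI hK hinv h2 ha₁ hαa₁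
  apply haK
  have : a = a₁ * k := by
    ext t
    rw [hak t, MulAut.mul_apply]
    have := (mem_extPairs hTS).mp hαa₁ (k t)
    exact congrArg Subtype.val this
  rw [this]
  exact K.mul_mem ha₁K hk

/-- `E` is a subsystem of `olSys`. -/
theorem le_olSys [Finite S] (p : ℕ) [Fact p.Prime] (hS : IsPGroup p S) (F : FusionSystem S)
    (hT : F.StronglyClosed T) (E : FusionSystem T) (hEsat : E.IsSaturated p) (hEF : E.IsSubsystemOf F)
    {K : Subgroup (MulAut T)} (hK : OLData F E p K) (hinv : HInv E K) :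
    E.IsSubsystemOf (olSys hS F hT E hK hinv) := by
  have hTS : T ≤ S := hT.1
  haveI : Finite T := finite_of_le hTS
  have hTp : IsPGroup p T := hS.to_le hTS
  have hle := Cfsg.Agent.S5082.result p hTp E hEsat
    (Cfsg.Agent.Lib.Helper89.fullSubsystem (olSys hS F hT E hK hinv) T hTS) (by
    intro V hV
    have hVT : V ≤ T := by
      rcases hV with rfl | hVe
      · exact le_rfl
      · exact hVe.1.1
    have hVc : E.IsCentric V := by
      rcases hV with rfl | hVe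
      · exact isCentric_self E
      · exact hVe.1
    have hVc' : E.IsCentric (V ⊓ T) := isCentric_of_le E hVc (le_inf le_rfl hVT) inf_le_right
    rw [Cfsg.Agent.Lib.Helper89.autGroup_fullSubsystem _ T hTS hVT]
    intro ε hε
    have hεE := (mem_autGroup_iff E hVT).mp hε
    rw [mem_autGroup_iff _ (hVT.trans hTS)]
    apply olD_le_olSys hS F hT E hK hinv hVc'
    exact ⟨hEF V hεE, le_autProdSystem E K hinv _ (restrict_mem E inf_le_left hεE)⟩)
  intro P φ hφ
  exact ((Cfsg.Agent.Lib.Helper89.mem_fullSubsystem_iff _ T hTS φ).mp (hle P hφ)).1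

/-- Oliver's lemma, for a normal subgroup `K` of `Aut_F(T)` of index prime to `p` containing `Aut_E(T)`. -/
theorem ol_main [Finite S] (p : ℕ) [Fact p.Prime] (hS : IsPGroup p S) (F : FusionSystem S)
    (hF : F.IsSaturated p) (hTS : T ≤ S) (E : FusionSystem T) (hE : E.IsNormalIn F p)
    {K : Subgroup (MulAut T)} (hK : OLData F E p K) (hKne : ∃ a ∈ F.autGroup T, a ∉ K) :
    ∃ F₀ : FusionSystem S, F₀.IsNormalIn F p ∧ ¬ (∀ P : Subgroup Ω, F₀.Hom P = F.Hom P) ∧
      E.IsSubsystemOf F₀ ∧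
      (∀ α : MulAut S, α ∈ F₀.autGroup S ↔
        α ∈ F.autGroup S ∧ ∃ a ∈ K, ∀ t : T, ((a t : T) : Ω) = ((α ⟨t, hTS t.2⟩ : S) : Ω)) ∧
      ∀ R : FusionSystem S, F.IsPPrimeResidual p R → R.IsSubsystemOf F₀ := by
  have hT : F.StronglyClosed T := hE.1.2.2.2.1
  have hEsat : E.IsSaturated p := hE.1.1
  have hEF : E.IsSubsystemOf F := hE.1.2.2.1
  have hAI : AutInvariant E F := autInvariant_of_forall E F hE.1.2.2.2.2.1
  have hinv : HInv E K := hK.hInv hAI
  refine ⟨olSys hS F hT E hK hinv, olSys_isNormalIn p hS F hF hT E hE hAI hK hinv,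
    olSys_ne p hS F hF hT E hEsat hEF hAI hK hinv hKne, le_olSys p hS F hT E hEsat hEF hK hinv,
    mem_olSys_autGroup_iff p hS F hT E hEsat hEF hAI hK hinv, fun R hR => ?_⟩
  exact hR.2.2 _ (olSys_saturated p hS F hF hT E hE hAI hK hinv)
    (olSys_hasPrimeToPIndexIn p hS F hF hT E hE hAI hK hinv)

end Cfsg.Agent.Lib.Helper88
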