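import Cfsg.Agent.Lib.Helper88.FusionExtMod2
import Cfsg.Agent.Lib.Helper88.FusionRS1
import Cfsg.Agent.Lib.Helper90.SylowNormal

set_option autoImplicit false
open Cfsg
open scoped Pointwise

namespace Cfsg.Agent.Lib.Helper88

open Cfsg.FusionSystem Cfsg.Agent.Lib.Helper87

variable {Ω : Type*} [Group Ω] {S : Subgroup Ω}

/-- If `P` normalizes `T` then every element of `P ⊔ T` is a product. -/
theorem exists_mul_of_mem_sup {P T : Subgroup Ω} (hn : ∀ x ∈ P, ∀ t ∈ T, x * t * x⁻¹ ∈ T) {y : Ω}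
    (hy : y ∈ P ⊔ T) : ∃ x ∈ P, ∃ t ∈ T, y = x * t := by
  rw [Subgroup.sup_eq_closure_mul] at hy
  induction hy using Subgroup.closure_induction with
  | mem y hy =>
    obtain ⟨x, hx, t, ht, rfl⟩ := Set.mem_mul.mp hy
    exact ⟨x, hx, t, ht, rfl⟩
  | one => exact ⟨1, P.one_mem, 1, T.one_mem, by simp⟩
  | mul a b _ _ ha hb =>
    obtain ⟨x₁, hx₁, t₁, ht₁, rfl⟩ := ha
    obtain ⟨x₂, hx₂, t₂, ht₂, rfl⟩ := hb
    refine ⟨x₁ * x₂, P.mul_mem hx₁ hx₂, (x₂⁻¹ * t₁ * x₂⁻¹⁻¹) * t₂,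
      T.mul_mem (hn _ (P.inv_mem hx₂) _ ht₁) ht₂, by group⟩
  | inv a _ ha =>
    obtain ⟨x, hx, t, ht, rfl⟩ := ha
    exact ⟨x⁻¹, P.inv_mem hx, x * t⁻¹ * x⁻¹, hn _ hx _ (T.inv_mem ht), by group⟩

/-- A strongly closed subgroup is normalized by `S`. -/
theorem stronglyClosed_conj_mem {F : FusionSystem S} {T : Subgroup Ω} (hT : F.StronglyClosed T) {s : Ω} (hs : s ∈ S)
    {t : Ω} (ht : t ∈ T) : s * t * s⁻¹ ∈ T :=
  hT.2 T le_rfl _ (F.conj_mem hT.1 hs) ⟨t, ht⟩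

/-- The automorphisms of `P` in the system that act trivially modulo `T`. -/
def autModKer (F : FusionSystem S) (T P : Subgroup Ω) : Subgroup (F.autGroup P) where
  carrier := {β | ∀ x : P, (x : Ω)⁻¹ * (((β : MulAut P) x : P) : Ω) ∈ T}
  one_mem' := by
    intro x
    simp [T.one_mem]
  mul_mem' := by
    intro a b ha hb x
    have h1 := hb x
    have h2 := ha ((b : MulAut P) x)
    have e : (x : Ω)⁻¹ * ((((a * b : F.autGroup P) : MulAut P) x : P) : Ω) =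
        ((x : Ω)⁻¹ * (((b : MulAut P) x : P) : Ω)) *
          ((((b : MulAut P) x : P) : Ω)⁻¹ * (((a : MulAut P) ((b : MulAut P) x) : P) : Ω)) := by
      show (x : Ω)⁻¹ * (((a : MulAut P) ((b : MulAut P) x) : P) : Ω) = _
      group
    rw [e]
    exact T.mul_mem h1 h2
  inv_mem' := by
    intro a ha x
    have h1 := ha ((a : MulAut P)⁻¹ x)
    rw [MulAut.apply_inv_self] at h1
    have e : (x : Ω)⁻¹ * ((((a⁻¹ : F.autGroup P) : MulAut P) x : P) : Ω) =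
        ((((((a : MulAut P)⁻¹ x : P) : Ω))⁻¹ * (x : Ω)))⁻¹ := by
      show (x : Ω)⁻¹ * ((((a : MulAut P)⁻¹ x : P) : Ω)) = _
      group
    rw [e]
    exact T.inv_mem h1


theorem mem_autModKer {F : FusionSystem S} {T P : Subgroup Ω} {β : F.autGroup P} :
    β ∈ autModKer F T P ↔ ∀ x : P, (x : Ω)⁻¹ * (((β : MulAut P) x : P) : Ω) ∈ T := Iff.rfl

/-- An automorphism in the system maps `P ∩ T` into `T` for `T` strongly closed. -/
theorem aut_map_mem_of_stronglyClosed {F : FusionSystem S} {T : Subgroup Ω} (hT : F.StronglyClosed T)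
    {P : Subgroup Ω} (hPS : P ≤ S) {a : MulAut P} (ha : a ∈ F.autGroup P) {w : P} (hw : (w : Ω) ∈ T) :
    ((a w : P) : Ω) ∈ T := by
  have hφ := (mem_autGroup_iff F hPS).mp ha
  exact hT.2 (T ⊓ P) inf_le_left _ (restrict_mem F (inf_le_right : T ⊓ P ≤ P) hφ) ⟨w, hw, w.2⟩

theorem autModKer_normal {F : FusionSystem S} {T : Subgroup Ω} (hT : F.StronglyClosed T)
    {P : Subgroup Ω} (hPS : P ≤ S) : (autModKer F T P).Normal := by
  constructor
  intro β hβ a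
  rw [mem_autModKer] at hβ ⊢
  intro x
  set y : P := (a : MulAut P)⁻¹ x with hy
  have hxy : x = (a : MulAut P) y := by rw [hy, MulAut.apply_inv_self]
  set w : P := y⁻¹ * (β : MulAut P) y with hw
  have hwT : (w : Ω) ∈ T := hβ y
  have h1 := aut_map_mem_of_stronglyClosed hT hPS a.2 hwT
  have e : (x : Ω)⁻¹ * ((((a * β * a⁻¹ : F.autGroup P) : MulAut P) x : P) : Ω) = (((a : MulAut P) w : P) : Ω) := by
    show (x : Ω)⁻¹ * (((a : MulAut P) ((β : MulAut P) ((a : MulAut P)⁻¹ x)) : P) : Ω) = _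
    rw [← hy, hw, map_mul, map_inv, ← hxy]
    rfl
  rw [e]
  exact h1

end Cfsg.Agent.Lib.Helper88
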