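import Cfsg.Agent.Lib.Helper88.FusionRL1
import Cfsg.Agent.Lib.Helper88.FusionExtMod3

set_option autoImplicit false
open Cfsg

namespace Cfsg.Agent.Lib.Helper88

open Cfsg.FusionSystem Cfsg.Agent.Lib.Helper87
open Cfsg.Agent.Lib.Helper90 (autMap mem_autMap autMap_le apply_mem_autMap)

variable {Ω : Type*} [Group Ω] {S T : Subgroup Ω}

theorem autGroup_le_autGroup_of_isSubsystemOf (E : FusionSystem T) (F : FusionSystem S) (h : E.IsSubsystemOf F)
    (P : Subgroup Ω) : E.autGroup P ≤ F.autGroup P := by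
  unfold FusionSystem.autGroup
  apply Subgroup.closure_mono
  intro α hα
  exact h P hα

/-- The subgroup generated by the hyperfocal generators of `F` coming from subgroups of `T`. -/
def hypIn (F : FusionSystem S) (p : ℕ) (T : Subgroup Ω) : Subgroup Ω :=
  Subgroup.closure {y : Ω | ∃ (P : Subgroup Ω) (α : F.autGroup P) (x : P), P ≤ T ∧
    α ∈ pResidual p (F.autGroup P) ∧ y = (x : Ω)⁻¹ * ((α : MulAut P) x : P)}

theorem hypIn_le (F : FusionSystem S) (p : ℕ) (T : Subgroup Ω) : hypIn F p T ≤ T := by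
  unfold hypIn
  rw [Subgroup.closure_le]
  rintro _ ⟨P, α, x, hP, -, rfl⟩
  exact T.mul_mem (T.inv_mem (hP x.2)) (hP ((α : MulAut P) x).2)

theorem hypIn_le_hyperfocal (F : FusionSystem S) (p : ℕ) (hTS : T ≤ S) :
    hypIn F p T ≤ F.hyperfocalSubgroup p := by
  unfold hypIn FusionSystem.hyperfocalSubgroup
  apply Subgroup.closure_mono
  rintro _ ⟨P, α, x, hP, hα, rfl⟩
  exact ⟨P, α, x, hP.trans hTS, hα, rfl⟩

/-- For a subsystem of `p`-power index, the hyperfocal subgroup is generated by the generators of `F` inside `T`. -/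
theorem hyperfocal_eq_hypIn (p : ℕ) (E : FusionSystem T) (F : FusionSystem S) (hidx : E.HasPPowerIndexIn F p) :
    E.hyperfocalSubgroup p = hypIn F p T := by
  unfold hypIn FusionSystem.hyperfocalSubgroup
  congr 1
  ext y
  constructor
  · rintro ⟨P, α, x, hP, hα, rfl⟩
    have heq := pResidual_map_eq_of_le p (autGroup_le_autGroup_of_isSubsystemOf E F hidx.1 P) (hidx.2.2 P hP)
    have h1 : (α : MulAut P) ∈ (pResidual p (E.autGroup P)).map (E.autGroup P).subtype := ⟨α, hα, rfl⟩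
    rw [heq] at h1
    obtain ⟨α', hα', hαα'⟩ := h1
    refine ⟨P, α', x, hP, hα', ?_⟩
    have : ((α' : MulAut P)) = (α : MulAut P) := hαα'
    rw [this]
  · rintro ⟨P, α, x, hP, hα, rfl⟩
    have heq := pResidual_map_eq_of_le p (autGroup_le_autGroup_of_isSubsystemOf E F hidx.1 P) (hidx.2.2 P hP)
    have h1 : (α : MulAut P) ∈ (pResidual p (F.autGroup P)).map (F.autGroup P).subtype := ⟨α, hα, rfl⟩
    rw [← heq] at h1
    obtain ⟨α', hα', hαα'⟩ := h1
    refine ⟨P, α', x, hP, hα', ?_⟩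
    have : ((α' : MulAut P)) = (α : MulAut P) := hαα'
    rw [this]

/-- `hypIn F p T` is invariant under `Aut_F(T)`. -/
theorem hypIn_aut_mem (F : FusionSystem S) (p : ℕ) (hTS : T ≤ S) {β : MulAut T} (hβ : β ∈ F.autGroup T) :
    ∀ y ∈ hypIn F p T, ∀ hyT : y ∈ T, ((β ⟨y, hyT⟩ : T) : Ω) ∈ hypIn F p T := by
  intro y hy
  have hyK := hy
  unfold hypIn at hy
  induction hy using Subgroup.closure_induction with
  | mem y hy =>
    intro hyT
    obtain ⟨P, α, x, hP, hα, rfl⟩ := hy
    obtain ⟨e, heF, hex⟩ := exists_autMap_equiv' F hTS hβ hP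
    have hQT : autMap β P ≤ T := autMap_le β P
    have h1 : MulAut.congr e (α : MulAut P) ∈
        (pResidual p (F.autGroup (autMap β P))).map (F.autGroup (autMap β P)).subtype :=
      congr_mem_pResidual p F heF ⟨α, hα, rfl⟩
    obtain ⟨α', hα', hαα'⟩ := h1
    apply Subgroup.subset_closure
    refine ⟨autMap β P, α', e x, hQT, hα', ?_⟩
    have h2 : ((α' : MulAut (autMap β P))) = MulAut.congr e (α : MulAut P) := hαα'
    rw [h2]
    have h3 : (MulAut.congr e (α : MulAut P)) (e x) = e ((α : MulAut P) x) := by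
      show e ((α : MulAut P) (e.symm (e x))) = _
      rw [MulEquiv.symm_apply_apply]
    rw [h3, hex, hex]
    have e1 : (⟨(x : Ω)⁻¹ * (((α : MulAut P) x : P) : Ω), hyT⟩ : T) =
        (⟨(x : Ω), hP x.2⟩ : T)⁻¹ * ⟨(((α : MulAut P) x : P) : Ω), hP ((α : MulAut P) x).2⟩ := rfl
    rw [e1, map_mul, map_inv]
    rfl
  | one =>
    intro hyT
    have : (⟨1, hyT⟩ : T) = 1 := rfl
    rw [this, map_one]
    exact Subgroup.one_mem _
  | mul a b ha hb iha ihb =>
    intro hyT
    have haK : a ∈ hypIn F p T := ha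
    have hbK : b ∈ hypIn F p T := hb
    have haT := hypIn_le F p T haK
    have hbT := hypIn_le F p T hbK
    have : (⟨a * b, hyT⟩ : T) = ⟨a, haT⟩ * ⟨b, hbT⟩ := rfl
    rw [this, map_mul]
    exact Subgroup.mul_mem _ (iha haK haT) (ihb hbK hbT)
  | inv a ha iha =>
    intro hyT
    have haK : a ∈ hypIn F p T := ha
    have haT := hypIn_le F p T haK
    have : (⟨a⁻¹, hyT⟩ : T) = (⟨a, haT⟩ : T)⁻¹ := rfl
    rw [this, map_inv]
    exact Subgroup.inv_mem _ (iha haK haT)

end Cfsg.Agent.Lib.Helper88
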