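import Cfsg.Agent.Lib.Helper88.FusionSolv2
import Cfsg.Agent.Lib.Helper89.ChainNormal
import Cfsg.Agent.Lib.Helper90.FusionCenter
import Cfsg.Agent.S5085
import Cfsg.Agent.S5086

set_option autoImplicit false
open Cfsg

namespace Cfsg.Agent.Lib.Helper88

open Cfsg.FusionSystem Cfsg.Agent.Lib.Helper87
open scoped commutatorElement

section alg

variable {G : Type*} [Group G]

theorem commutatorElement_mul_mul (d₁ q₁ d₂ q₂ : G) (h11 : Commute d₁ q₁) (h12 : Commute d₁ q₂)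
    (h21 : Commute d₂ q₁) (h22 : Commute d₂ q₂) :
    ⁅d₁ * q₁, d₂ * q₂⁆ = ⁅d₁, d₂⁆ * ⁅q₁, q₂⁆ := by
  rw [commutatorElement_def, commutatorElement_def, commutatorElement_def]
  have e1 : (d₁ * q₁) * (d₂ * q₂) = (d₁ * d₂) * (q₁ * q₂) := h21.symm.mul_mul_mul_comm d₁ q₂
  have e2 : (d₁ * q₁)⁻¹ * (d₂ * q₂)⁻¹ = (d₁⁻¹ * d₂⁻¹) * (q₁⁻¹ * q₂⁻¹) := by
    rw [h11.eq, h22.eq, mul_inv_rev, mul_inv_rev]
    exact (h21.inv_inv.symm).mul_mul_mul_comm d₁⁻¹ q₂⁻¹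
  have hc : Commute (q₁ * q₂) (d₁⁻¹ * d₂⁻¹) :=
    ((h11.inv_left.symm).mul_left (h12.inv_left.symm)).mul_right
      ((h21.inv_left.symm).mul_left (h22.inv_left.symm))
  calc (d₁ * q₁) * (d₂ * q₂) * (d₁ * q₁)⁻¹ * (d₂ * q₂)⁻¹
      = ((d₁ * q₁) * (d₂ * q₂)) * ((d₁ * q₁)⁻¹ * (d₂ * q₂)⁻¹) := by group
    _ = ((d₁ * d₂) * (q₁ * q₂)) * ((d₁⁻¹ * d₂⁻¹) * (q₁⁻¹ * q₂⁻¹)) := by rw [e1, e2]
    _ = (d₁ * d₂) * ((q₁ * q₂) * (d₁⁻¹ * d₂⁻¹)) * (q₁⁻¹ * q₂⁻¹) := by group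
    _ = (d₁ * d₂) * ((d₁⁻¹ * d₂⁻¹) * (q₁ * q₂)) * (q₁⁻¹ * q₂⁻¹) := by rw [hc.eq]
    _ = d₁ * d₂ * d₁⁻¹ * d₂⁻¹ * (q₁ * q₂ * q₁⁻¹ * q₂⁻¹) := by group

end alg

variable {Ω : Type*} [Group Ω] {S : Subgroup Ω}

theorem stronglyClosed_inf {F : FusionSystem S} {T₁ T₂ : Subgroup Ω} (h₁ : F.StronglyClosed T₁)
    (h₂ : F.StronglyClosed T₂) : F.StronglyClosed (T₁ ⊓ T₂) :=
  ⟨inf_le_left.trans h₁.1, fun R hR φ hφ x =>
    ⟨h₁.2 R (hR.trans inf_le_left) φ hφ x, h₂.2 R (hR.trans inf_le_right) φ hφ x⟩⟩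

/-- The centralizer in `S` of a subgroup normal in the system is strongly closed. -/
theorem stronglyClosed_centralizerIn_of_isNormal {F : FusionSystem S} {Q : Subgroup Ω} (hQ : F.IsNormal Q) :
    F.StronglyClosed (centralizerIn S Q) := by
  refine ⟨centralizerIn_le S Q, fun R hR φ hφ x => ?_⟩
  obtain ⟨ψ, hψ, hψφ, hψQ⟩ := hQ.2 R φ hφ
  rw [mem_centralizerIn]
  refine ⟨hom_mem F hφ x, fun q hq => ?_⟩
  rw [← hψQ] at hq
  obtain ⟨q₀, hq₀, rfl⟩ := hq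
  have hq₀' : (q₀ : Ω) ∈ Q := Subgroup.mem_subgroupOf.mp hq₀
  rw [← hψφ x, ← map_mul, ← map_mul]
  congr 1
  apply Subtype.ext
  show (q₀ : Ω) * (x : Ω) = (x : Ω) * (q₀ : Ω)
  have := (mem_centralizerIn.mp (hR x.2)).2 q₀ hq₀'
  exact this

/-- If `Q` is normal in the saturated system `F` and `D` is strongly closed, centralizes `Q` and is abelian modulo `Q`,
then `D Q` is normal in `F`. -/
theorem isNormal_sup_of_centralizing [Finite S] (p : ℕ) [Fact p.Prime] (hS : IsPGroup p S) (F : FusionSystem S)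
    (hF : F.IsSaturated p) {Q D : Subgroup Ω} (hQ : F.IsNormal Q) (hD : F.StronglyClosed D)
    (hDQ : ∀ d ∈ D, ∀ q ∈ Q, d * q = q * d) (hDD : ⁅D, D⁆ ≤ Q) : F.IsNormal (D ⊔ Q) := by
  have hQsc : F.StronglyClosed Q := Cfsg.Agent.Lib.Helper90.IsNormal.stronglyClosed F hQ
  have hsup : F.StronglyClosed (D ⊔ Q) := stronglyClosed_sup p hS F hF hD hQsc
  rw [Cfsg.Agent.S5086.result p hS F hF]
  refine ⟨hsup, fun P hPc hPr => ?_⟩
  obtain ⟨n, hn⟩ := Cfsg.Agent.Lib.Helper90.exists_ucs_eq hS hQ.1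
  have hucsn : Cfsg.Agent.Lib.Helper90.ucs Q n = Q := Cfsg.Agent.Lib.Helper90.ucs_eq_self_of_eq_top Q hn
  have hucs_sc : ∀ k, F.StronglyClosed (Cfsg.Agent.Lib.Helper90.ucs Q k) := fun k =>
    Cfsg.Agent.Lib.Helper90.IsNormal.stronglyClosed F
      (Cfsg.Agent.S5085.result F Q (Cfsg.Agent.Lib.Helper90.ucs Q k) hQ
        (Cfsg.Agent.Lib.Helper90.ucs_le Q _) (Cfsg.Agent.Lib.Helper90.ucs_characteristic Q _))
  have hmul : ∀ y ∈ D ⊔ Q, ∃ d ∈ D, ∃ q ∈ Q, y = d * q := fun y hy =>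
    exists_mul_of_mem_sup (fun a ha t ht => stronglyClosed_conj_mem hQsc (hD.1 ha) ht) hy
  have hself : ⁅D ⊔ Q, D ⊔ Q⁆ ≤ D ⊔ Q := by
    rw [Subgroup.commutator_le]
    intro x hx y hy
    rw [commutatorElement_def]
    exact Subgroup.mul_mem _ (Subgroup.mul_mem _ (Subgroup.mul_mem _ hx hy) (Subgroup.inv_mem _ hx))
      (Subgroup.inv_mem _ hy)
  have hcommQ : ⁅D ⊔ Q, D ⊔ Q⁆ ≤ Q := by
    rw [Subgroup.commutator_le]
    intro x hx y hy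
    obtain ⟨d₁, hd₁, q₁, hq₁, rfl⟩ := hmul x hx
    obtain ⟨d₂, hd₂, q₂, hq₂, rfl⟩ := hmul y hy
    rw [commutatorElement_mul_mul d₁ q₁ d₂ q₂ (hDQ d₁ hd₁ q₁ hq₁) (hDQ d₁ hd₁ q₂ hq₂) (hDQ d₂ hd₂ q₁ hq₁)
      (hDQ d₂ hd₂ q₂ hq₂)]
    refine Q.mul_mem (hDD (Subgroup.commutator_mem_commutator hd₁ hd₂)) ?_
    rw [commutatorElement_def]
    exact Q.mul_mem (Q.mul_mem (Q.mul_mem hq₁ hq₂) (Q.inv_mem hq₁)) (Q.inv_mem hq₂)
  set c : ℕ → Subgroup Ω := fun k => if k ≤ n then Cfsg.Agent.Lib.Helper90.ucs Q k else D ⊔ Q with hc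
  have hc_le : ∀ k, k ≤ n → c k = Cfsg.Agent.Lib.Helper90.ucs Q k := fun k hk => by
    simp only [hc, hk, if_true]
  have hc_gt : ∀ k, ¬ k ≤ n → c k = D ⊔ Q := fun k hk => by
    simp only [hc, hk, if_false]
  have hcle : ∀ k, c k ≤ D ⊔ Q := by
    intro k
    by_cases hk : k ≤ n
    · rw [hc_le k hk]
      exact (Cfsg.Agent.Lib.Helper90.ucs_le Q k).trans le_sup_right
    · rw [hc_gt k hk]
  have hmono : Monotone c := by
    apply monotone_nat_of_le_succ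
    intro k
    by_cases hk : k + 1 ≤ n
    · rw [hc_le k (by omega), hc_le (k + 1) hk]
      exact Cfsg.Agent.Lib.Helper90.ucs_mono Q (Nat.le_succ k)
    · rw [hc_gt (k + 1) hk]
      exact hcle k
  have hfinal := Cfsg.Agent.Lib.Helper89.chain_le_of_centric_radical hS F hsup c
    (by rw [hc_le 0 (Nat.zero_le n)]; exact Cfsg.Agent.Lib.Helper90.ucs_zero Q) hmono hcle ?_ ?_ hPc hPr (n + 1)
  · rw [hc_gt (n + 1) (by omega)] at hfinal
    exact hfinal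
  · intro k
    by_cases hk : k + 1 ≤ n
    · rw [hc_le k (by omega), hc_le (k + 1) hk, Subgroup.commutator_le]
      intro x hx y hy
      obtain ⟨d, hd, q, hq, rfl⟩ := hmul y hy
      have hxQ : x ∈ Q := Cfsg.Agent.Lib.Helper90.ucs_le Q _ hx
      have hdx : d * x = x * d := hDQ d hd x hxQ
      have h1 : ⁅x, q⁆ ∈ Cfsg.Agent.Lib.Helper90.ucs Q k := by
        have h2 : ⁅q, x⁆ ∈ Cfsg.Agent.Lib.Helper90.ucs Q k :=
          Cfsg.Agent.Lib.Helper90.commutator_ucs_succ_le Q k (Subgroup.commutator_mem_commutator hq hx)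
        rw [← commutatorElement_inv]
        exact Subgroup.inv_mem _ h2
      have e : ⁅x, d * q⁆ = d * ⁅x, q⁆ * d⁻¹ := by
        rw [commutatorElement_def, commutatorElement_def]
        have hdx' : x * d = d * x := hdx.symm
        have hdx'' : x⁻¹ * d⁻¹ = d⁻¹ * x⁻¹ := by
          rw [← mul_inv_rev, ← mul_inv_rev, hdx]
        calc x * (d * q) * x⁻¹ * (d * q)⁻¹ = (x * d) * q * x⁻¹ * q⁻¹ * d⁻¹ := by group
          _ = (d * x) * q * x⁻¹ * q⁻¹ * d⁻¹ := by rw [hdx']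
          _ = d * (x * q * x⁻¹ * q⁻¹) * d⁻¹ := by group
      rw [e]
      exact stronglyClosed_conj_mem (hucs_sc k) (hD.1 hd) h1
    · by_cases hk' : k ≤ n
      · have hkn : k = n := by omega
        rw [hc_gt (k + 1) hk, hc_le k hk', hkn, hucsn]
        exact hcommQ
      · rw [hc_gt (k + 1) hk, hc_gt k hk']
        exact hself
  · intro k
    by_cases hk : k ≤ n
    · rw [hc_le k hk]
      exact Cfsg.Agent.Lib.Helper89.chainInv_of_stronglyClosed (hucs_sc k)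
    · rw [hc_gt k hk]
      exact Cfsg.Agent.Lib.Helper89.chainInv_of_stronglyClosed hsup

end Cfsg.Agent.Lib.Helper88
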