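import Cfsg.Agent.Lib.Helper88.FusionFrat5

set_option autoImplicit false
open Cfsg

namespace Cfsg.Agent.Lib.Helper88

open Cfsg.FusionSystem Cfsg.Agent.Lib.Helper87
open Cfsg.Agent.Lib.Helper90 (autMap mem_autMap autMap_le apply_mem_autMap)

section pgen

variable {A B : Type*} [Group A] [Group B]

theorem closure_normal_of_conj_invariant (s : Set A) (h : ∀ g x, x ∈ s → g * x * g⁻¹ ∈ s) :
    (Subgroup.closure s).Normal := by
  have : Subgroup.closure s = Subgroup.normalClosure s := by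
    apply le_antisymm Subgroup.closure_le_normalClosure
    unfold Subgroup.normalClosure
    apply Subgroup.closure_mono
    intro y hy
    obtain ⟨x, hx, hxy⟩ := Group.mem_conjugatesOfSet_iff.mp hy
    obtain ⟨c, hc⟩ := isConj_iff.mp hxy
    rw [← hc]
    exact h c x hx
  rw [this]
  infer_instance

/-- `O^{p'}(A)`: the subgroup generated by the elements of `p`-power order. -/
def pElemGen (p : ℕ) (A : Type*) [Group A] : Subgroup A :=
  Subgroup.closure {a : A | ∃ k : ℕ, orderOf a = p ^ k}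

instance pElemGen_normal (p : ℕ) : (pElemGen p A).Normal := by
  apply closure_normal_of_conj_invariant
  rintro g x ⟨k, hk⟩
  refine ⟨k, ?_⟩
  have := orderOf_injective (MulAut.conj g).toMonoidHom (MulAut.conj g).injective x
  rw [← hk, ← this]
  rfl

theorem le_pElemGen_of_isPGroup {p : ℕ} [Fact p.Prime] {D : Subgroup A} (hD : IsPGroup p D) :
    D ≤ pElemGen p A := by
  intro d hd
  apply Subgroup.subset_closure
  obtain ⟨k, hk⟩ := hD ⟨d, hd⟩
  have h1 : d ^ p ^ k = 1 := congrArg Subtype.val hk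
  have h2 : orderOf d ∣ p ^ k := orderOf_dvd_of_pow_eq_one h1
  obtain ⟨j, -, hj⟩ := (Nat.dvd_prime_pow Fact.out).mp h2
  exact ⟨j, hj⟩

theorem map_pElemGen_le (p : ℕ) (f : A →* B) (hf : Function.Injective f) :
    (pElemGen p A).map f ≤ pElemGen p B := by
  unfold pElemGen
  rw [MonoidHom.map_closure]
  apply Subgroup.closure_mono
  rintro _ ⟨a, ⟨k, hk⟩, rfl⟩
  exact ⟨k, by rw [orderOf_injective f hf, hk]⟩

end pgen

variable {Ω : Type*} [Group Ω] {S : Subgroup Ω}

/-- Transport of `O^{p'}(Aut_F(P))` along an `F`-isomorphism. -/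
theorem congr_mem_pElemGen (p : ℕ) (F : FusionSystem S) {P Q : Subgroup Ω} {e : P ≃* Q} (he : IsFIso F e)
    {n : MulAut P} (hn : n ∈ (pElemGen p (F.autGroup P)).map (F.autGroup P).subtype) :
    MulAut.congr e n ∈ (pElemGen p (F.autGroup Q)).map (F.autGroup Q).subtype := by
  obtain ⟨m, hm, rfl⟩ := hn
  set f : F.autGroup P →* F.autGroup Q :=
    MonoidHom.codRestrict ((MulAut.congr e).toMonoidHom.comp (F.autGroup P).subtype) (F.autGroup Q)
      (fun a => (congr_mem_autGroup_iff F he a).mpr a.2) with hf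
  have hinj : Function.Injective f := by
    intro a b hab
    have h1 : MulAut.congr e (a : MulAut P) = MulAut.congr e (b : MulAut P) := congrArg Subtype.val hab
    exact Subtype.ext ((MulAut.congr e).injective h1)
  have h2 : f m ∈ pElemGen p (F.autGroup Q) := map_pElemGen_le p f hinj ⟨m, hm, rfl⟩
  exact ⟨f m, h2, rfl⟩

/-- The restriction of an element of `Aut_F(S)` to a subgroup `P ≤ S`, as an equivalence onto the image. -/
theorem exists_autMap_equiv (F : FusionSystem S) {α : MulAut S} (hα : α ∈ F.autGroup S) {P : Subgroup Ω}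
    (hPS : P ≤ S) : ∃ a : P ≃* autMap α P, IsFIso F a ∧ ∀ x : P, ((a x : autMap α P) : Ω) = ((α ⟨x, hPS x.2⟩ : S) : Ω) := by
  have hφ : (S.subtype.comp α.toMonoidHom).comp (Subgroup.inclusion hPS) ∈ F.Hom P :=
    restrict_mem F hPS ((mem_autGroup_iff F le_rfl).mp hα)
  have hr : ((S.subtype.comp α.toMonoidHom).comp (Subgroup.inclusion hPS)).range = autMap α P := by
    ext y
    rw [mem_autMap]
    constructor
    · rintro ⟨x, rfl⟩
      exact ⟨⟨x, hPS x.2⟩, x.2, rfl⟩
    · rintro ⟨t, ht, rfl⟩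
      exact ⟨⟨t, ht⟩, rfl⟩
  exact ⟨homEquiv F hφ hr, isFIso_homEquiv F hφ hr, fun x => rfl⟩

theorem pElemGen_le_autGroup_coreSystem (p : ℕ) (E F : FusionSystem S) {P : Subgroup Ω} (hPS : P ≤ S)
    (h1 : (pElemGen p (F.autGroup P)).map (F.autGroup P).subtype ≤ E.autGroup P)
    (hall : ∀ α ∈ F.autGroup S, (pElemGen p (F.autGroup (autMap α P))).map (F.autGroup (autMap α P)).subtype ≤
      E.autGroup (autMap α P)) :
    (pElemGen p (F.autGroup P)).map (F.autGroup P).subtype ≤ (coreSystem E F).autGroup P := by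
  intro n hn
  rw [mem_autGroup_iff (coreSystem E F) hPS]
  refine ⟨(mem_autGroup_iff E hPS).mp (h1 hn), fun α hα => ?_⟩
  obtain ⟨a, haF, hax⟩ := exists_autMap_equiv F hα hPS
  have h2 := hall α hα (congr_mem_pElemGen p F haF hn)
  have h3 := (mem_autGroup_iff E (autMap_le α P)).mp h2
  refine ⟨_, h3, fun x hx hφx hαx => ?_⟩
  show (((MulAut.congr a n) ⟨α ⟨x, hx⟩, hαx⟩ : autMap α P) : Ω) = _
  have e1 : (⟨α ⟨x, hx⟩, hαx⟩ : autMap α P) = a x := Subtype.ext (hax x).symm
  rw [e1]
  show ((a (n (a.symm (a x))) : autMap α P) : Ω) = _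
  rw [MulEquiv.symm_apply_apply, hax]
  rfl

end Cfsg.Agent.Lib.Helper88
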