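import Cfsg.Agent.Lib.Helper88.FusionRD5

set_option autoImplicit false
open Cfsg

namespace Cfsg.Agent.Lib.Helper88

open Cfsg.FusionSystem Cfsg.Agent.Lib.Helper87
open Cfsg.Agent.Lib.Helper90 (autMap mem_autMap autMap_le apply_mem_autMap range_eq_of_forall_mem)
open Cfsg.Agent.Lib.Helper91 (isCentric_of_isConj isCentric_self)

variable {Ω : Type*} [Group Ω] {S T : Subgroup Ω}

/-- Transport of `O^{p'}(Aut_X(P))` along an isomorphism of `F`, for `X` strongly invariant in `F`. -/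
theorem congr_mem_pElemGen_of_strongInv (p : ℕ) (X : FusionSystem T) (F : FusionSystem S) (hSI : StrongInv X F)
    {P Q : Subgroup Ω} (hPT : P ≤ T) (hQT : Q ≤ T) {e : P ≃* Q} (he : IsFIso F e)
    {n : MulAut P} (hn : n ∈ (pElemGen p (X.autGroup P)).map (X.autGroup P).subtype) :
    MulAut.congr e n ∈ (pElemGen p (X.autGroup Q)).map (X.autGroup Q).subtype := by
  obtain ⟨m, hm, rfl⟩ := hn
  set f : X.autGroup P →* X.autGroup Q :=
    MonoidHom.codRestrict ((MulAut.congr e).toMonoidHom.comp (X.autGroup P).subtype) (X.autGroup Q)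
      (fun a => congr_mem_autGroup_of_strongInv X F hSI hPT hQT he a.2) with hf
  have hinj : Function.Injective f := by
    intro a b hab
    have h1 : MulAut.congr e (a : MulAut P) = MulAut.congr e (b : MulAut P) := congrArg Subtype.val hab
    exact Subtype.ext ((MulAut.congr e).injective h1)
  have h2 : f m ∈ pElemGen p (X.autGroup Q) := map_pElemGen_le p f hinj ⟨m, hm, rfl⟩
  exact ⟨f m, h2, rfl⟩

/-- The image of a centric subgroup of an invariant subsystem under an element of `Aut_F(T)` is centric. -/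
theorem isCentric_autMap_of_invariant {X : FusionSystem T} {F : FusionSystem S} (hXinv : X.IsInvariantIn F)
    {β : MulAut T} (hβ : β ∈ F.autGroup T) {P : Subgroup Ω} (hP : X.IsCentric P) :
    X.IsCentric (autMap β P) := by
  have hTS : T ≤ S := hXinv.2.1.1
  obtain ⟨a, haF, -⟩ := exists_autMap_equiv' F hTS hβ hP.1
  exact isCentric_range_of_frattini F X hXinv.1 hXinv.2.2.2 hP haF (IsFIso.range_eq a)

/-- The base of the `p'`-residual of an invariant subsystem is invariant under `Aut_F(T)`. -/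
theorem opBase_le_conjCore (p : ℕ) {X : FusionSystem T} {F : FusionSystem S} (hXinv : X.IsInvariantIn F) :
    ∀ P : Subgroup Ω, (opBase X p).Hom P ⊆ (conjCore (opBase X p) (F.autGroup T)).Hom P := by
  have hTS : T ≤ S := hXinv.2.1.1
  have hSI : StrongInv X F := strongInv_of_isInvariantIn hXinv
  apply opBase_le_of X p
  intro Q hQ
  apply le_autGroup_conjCore_of_transport (opBase X p) (F.autGroup T) (fun P => X.IsCentric P)
    (fun P => (pElemGen p (X.autGroup P)).map (X.autGroup P).subtype)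
    (fun P _ hPc => pElemGen_le_opBase X p hPc) _ _ hQ.1 hQ
  · intro α hα P hPT hPc
    refine ⟨isCentric_autMap_of_invariant hXinv hα hPc, fun n hn a hax => ?_⟩
    exact congr_mem_pElemGen_of_strongInv p X F hSI hPT (autMap_le α P)
      (isFIso_of_autMap_eq F hTS hα hPT a hax) hn
  · intro α hα P hPT
    obtain ⟨a, -, hax⟩ := exists_autMap_equiv' F hTS hα hPT
    exact ⟨a, hax⟩

theorem autMap_self (β : MulAut T) : autMap β T = T := by
  ext y
  rw [mem_autMap]
  constructor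
  · rintro ⟨t, -, rfl⟩
    exact (β t).2
  · intro hy
    exact ⟨β⁻¹ ⟨y, hy⟩, (β⁻¹ ⟨y, hy⟩).2, by rw [MulAut.apply_inv_self]⟩

/-- `Aut⁰` of an invariant subsystem is normalized by `Aut_F(T)`. -/
theorem opAut_conj_mem (p : ℕ) {X : FusionSystem T} {F : FusionSystem S} (hXinv : X.IsInvariantIn F)
    {β : MulAut T} (hβ : β ∈ F.autGroup T) {γ : MulAut T} (hγ : γ ∈ opAut X p) : β * γ * β⁻¹ ∈ opAut X p := by
  have hTS : T ≤ S := hXinv.2.1.1
  have hSI : StrongInv X F := strongInv_of_isInvariantIn hXinv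
  have hle : opAut X p ≤ (opAut X p).comap (MulAut.conj β).toMonoidHom := by
    rw [opAut, Subgroup.closure_le]
    rintro γ ⟨hγX, R, hRc, φ₁, hφ₁, hφ₁x⟩
    rw [SetLike.mem_coe, Subgroup.mem_comap]
    apply Subgroup.subset_closure
    show β * γ * β⁻¹ ∈ opAutGens X p
    refine ⟨conj_mem_autGroup_of_strongInv X F hTS hSI le_rfl hβ hγX, autMap β R,
      isCentric_autMap_of_invariant hXinv hβ hRc, ?_⟩
    obtain ⟨χ, hχ, hχx⟩ := (opBase_le_conjCore p hXinv R hφ₁).2 β hβ
    refine ⟨χ, hχ, fun y hy hyT => ?_⟩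
    obtain ⟨t, ht, rfl⟩ := (mem_autMap β R y).mp hy
    have hφ₁t : φ₁ ⟨t, ht⟩ ∈ T := ((opBase X p).le_of_mem hφ₁).2 _
    have h1 := hχx ⟨t, ht⟩ t.2 hφ₁t hy
    have e0 : (⟨((β t : T) : Ω), hyT⟩ : T) = β t := rfl
    rw [e0, MulAut.mul_apply, MulAut.mul_apply, MulAut.inv_apply_self]
    have e1 : (⟨((β ⟨((⟨t, ht⟩ : R) : Ω), t.2⟩ : T) : Ω), hy⟩ : autMap β R) = ⟨((β t : T) : Ω), hy⟩ := rfl
    rw [e1] at h1
    rw [h1]
    congr 2
    apply Subtype.ext
    exact hφ₁x t ht t.2
  have := hle hγ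
  rw [Subgroup.mem_comap] at this
  exact this

/-- The `p'`-residual (in explicit form) of an invariant subsystem is invariant under `Aut_F(T)`. -/
theorem autInvariant_opRes (p : ℕ) {X : FusionSystem T} {F : FusionSystem S} (hXinv : X.IsInvariantIn F) :
    AutInvariant (opRes X p) F := by
  apply autInvariant_of_le_conjCore
  rintro P φ ⟨α, hα, φ₀, hφ₀, hφx⟩
  have hφ₀T : ∀ x : P, φ₀ x ∈ T := ((opBase X p).le_of_mem hφ₀).2
  -- the base part
  have h1 : φ₀ ∈ (conjCore (opRes X p) (F.autGroup T)).Hom P := by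
    obtain ⟨h1a, h1b⟩ := opBase_le_conjCore p hXinv P hφ₀
    refine ⟨opBase_le_opRes X p P h1a, fun β hβ => ?_⟩
    obtain ⟨χ, hχ, hχx⟩ := h1b β hβ
    exact ⟨χ, opBase_le_opRes X p _ hχ, hχx⟩
  -- the automorphism part
  have h2 : T.subtype.comp (α : T ≃* T).toMonoidHom ∈ (conjCore (opRes X p) (F.autGroup T)).Hom T := by
    refine ⟨opAut_hom_mem X p hα, fun β hβ => ?_⟩
    have hconj := opAut_hom_mem X p (opAut_conj_mem p hXinv hβ hα)
    obtain ⟨χ, hχ, hχx⟩ := hom_cast (opRes X p) (autMap_self β).symm _ hconj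
    refine ⟨χ, hχ, fun x hx hφx hαx => ?_⟩
    rw [hχx _ (β ⟨x, hx⟩).2 hαx]
    show (((β * α * β⁻¹) (β ⟨x, hx⟩) : T) : Ω) = _
    rw [MulAut.mul_apply, MulAut.mul_apply, MulAut.inv_apply_self]
    rfl
  exact comp_mem' _ h1 h2 hφ₀T (fun x => hφx x (hφ₀T x))

/-- The `p'`-residual (in explicit form) of a saturated subsystem invariant in `F` is invariant in `F`. -/
theorem isInvariantIn_opRes [Finite S] (p : ℕ) [Fact p.Prime] (hS : IsPGroup p S) (F : FusionSystem S)
    (X : FusionSystem T) (hX : X.IsSaturated p) (hXinv : X.IsInvariantIn F) : (opRes X p).IsInvariantIn F := by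
  have hTS : T ≤ S := hXinv.2.1.1
  haveI : Finite T := finite_of_le hTS
  have hTp : IsPGroup p T := hS.to_le hTS
  refine ⟨fun P φ h => hXinv.1 P (opRes_le X p P h), hXinv.2.1,
    forall_of_autInvariant _ F (autInvariant_opRes p hXinv), ?_⟩
  intro P hP φ hφ
  obtain ⟨β, hβ, φ₀, hφ₀, hφx⟩ := hXinv.2.2.2 P hP φ hφ
  obtain ⟨-, hfrat, -⟩ := Cfsg.Agent.S5114.result p hTp X hX (opRes X p) (opRes_le X p)
    (fun P hP => pElemGen_le_opRes X p hP)
  obtain ⟨α, hα, φ₁, hφ₁, hφ₀x⟩ := hfrat P φ₀ hφ₀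
  have hαF : α ∈ F.autGroup T := autGroup_le_autGroup_of_isSubsystemOf X F hXinv.1 T hα
  refine ⟨β * α, Subgroup.mul_mem _ hβ hαF, φ₁, hφ₁, fun x hx => ?_⟩
  have hφ₀T : φ₀ x ∈ T := (X.le_of_mem hφ₀).2 x
  rw [hφx x hφ₀T, MulAut.mul_apply]
  congr 2
  apply Subtype.ext
  exact hφ₀x x hx

/-- Any `p'`-residual subsystem coincides with the explicit one. -/
theorem eq_opRes_of_isPPrimeResidual [Finite S] (p : ℕ) [Fact p.Prime] (hS : IsPGroup p S) (F : FusionSystem S)
    (hF : F.IsSaturated p) (E : FusionSystem S) (hE : F.IsPPrimeResidual p E) : E = opRes F p := by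
  apply fusionSystem_ext'
  intro P
  apply Set.Subset.antisymm
  · have hs := opRes_saturated p hS F hF
    exact hE.2.2 _ hs.1 hs.2 P
  · exact opRes_le_of p hS F hF E hE.1 hE.2.1 P

/-- The `p'`-residual subsystem of a saturated subsystem invariant in `F` is invariant in `F`. -/
theorem isInvariantIn_pPrimeResidual [Finite S] (p : ℕ) [Fact p.Prime] (hS : IsPGroup p S) (F : FusionSystem S)
    (X : FusionSystem T) (hX : X.IsSaturated p) (hXinv : X.IsInvariantIn F) (X' : FusionSystem T)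
    (hX' : X.IsPPrimeResidual p X') : X'.IsInvariantIn F := by
  have hTS : T ≤ S := hXinv.2.1.1
  haveI : Finite T := finite_of_le hTS
  have hTp : IsPGroup p T := hS.to_le hTS
  rw [eq_opRes_of_isPPrimeResidual p hTp X hX X' hX']
  exact isInvariantIn_opRes p hS F X hX hXinv

end Cfsg.Agent.Lib.Helper88
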