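import Cfsg.Agent.Lib.Helper88.FusionHP19

set_option autoImplicit false
open Cfsg

namespace Cfsg.Agent.Lib.Helper88

open Cfsg.FusionSystem Cfsg.Agent.Lib.Helper87

variable {Ω : Type*} [Group Ω]

/-- Existence of a saturated subsystem of `p`-power index over every subgroup containing the hyperfocal subgroup. -/
theorem exists_pPowerIndex (p : ℕ) [Fact p.Prime] : ∀ (n : ℕ) (S : Subgroup Ω), Finite S → Nat.card S = n →
    IsPGroup p S → ∀ F : FusionSystem S, F.IsSaturated p → ∀ T : Subgroup Ω, T ≤ S →
    F.hyperfocalSubgroup p ≤ T → ∃ E : FusionSystem T, E.IsSaturated p ∧ E.HasPPowerIndexIn F p := by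
  intro n
  induction n using Nat.strong_induction_on with
  | _ n ih =>
  intro S hfin hn hS F hF T hTS hT
  haveI := hfin
  by_cases hTeq : T = S
  · subst hTeq
    exact ⟨F, hF, hasPPowerIndexIn_refl F p⟩
  · have hC : T.subgroupOf S ≠ ⊤ := by
      intro h
      exact hTeq (le_antisymm hTS (Subgroup.subgroupOf_eq_top.mp h))
    obtain ⟨M', hM'idx, hM'le⟩ := Cfsg.Agent.Lib.Helper71.exists_index_prime_ge hS (T.subgroupOf S) hC
    have hMS : M'.map S.subtype ≤ S := Subgroup.map_subtype_le M'
    have hMsub : (M'.map S.subtype).subgroupOf S = M' :=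
      Subgroup.comap_map_eq_self_of_injective Subtype.coe_injective M'
    have hTM : T ≤ M'.map S.subtype := by
      intro x hx
      exact ⟨⟨x, hTS hx⟩, hM'le (Subgroup.mem_subgroupOf.mpr hx), rfl⟩
    obtain ⟨D, hDsat, hDidx⟩ := exists_pPowerIndex_of_index_p p hS F hF (M'.map S.subtype) hMS
      (by rw [hMsub]; exact hM'idx) (hT.trans hTM)
    haveI : Finite (M'.map S.subtype : Subgroup Ω) := finite_of_le hMS
    have hcardM : Nat.card (M'.map S.subtype : Subgroup Ω) = Nat.card M' :=
      Subgroup.card_map_of_injective Subtype.coe_injective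
    have hmul : Nat.card M' * M'.index = Nat.card S := Subgroup.card_mul_index M'
    have hlt : Nat.card (M'.map S.subtype : Subgroup Ω) < n := by
      rw [hcardM, ← hn, ← hmul, hM'idx]
      have h2 : 2 ≤ p := (Fact.out : p.Prime).two_le
      have h1 : 0 < Nat.card M' := Nat.card_pos
      nlinarith
    obtain ⟨E, hEsat, hEidx⟩ := ih _ hlt (M'.map S.subtype) inferInstance rfl (hS.to_le hMS) D hDsat T hTM
      ((hyperfocal_le_of_sub p D F hMS hDidx.1).trans hT)
    exact ⟨E, hEsat, hasPPowerIndexIn_trans p F D E hTM hDidx hEidx hT⟩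

end Cfsg.Agent.Lib.Helper88
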