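import Cfsg.Agent.Lib.Helper88.FusionRD6
import Cfsg.Agent.S5113

set_option autoImplicit false
open Cfsg

namespace Cfsg.Agent.Lib.Helper88

open Cfsg.FusionSystem Cfsg.Agent.Lib.Helper87
open Cfsg.Agent.Lib.Helper90 (autMap mem_autMap autMap_le apply_mem_autMap range_eq_of_forall_mem)
open Cfsg.Agent.Lib.Helper91 (isCentric_of_isConj isCentric_self)

variable {Ω : Type*} [Group Ω] {S : Subgroup Ω}

theorem strongInv_of_le {U V : Subgroup Ω} {X : FusionSystem U} {Y : FusionSystem V} {F : FusionSystem S}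
    (hSI : StrongInv X F) (hYF : Y.IsSubsystemOf F) : StrongInv X Y :=
  fun P Q hPQ hQU φ hφ hφQ ψ hψ => hSI P Q hPQ hQU φ hφ hφQ ψ (hYF Q hψ)

/-- A subsystem invariant in `F` is invariant in every saturated subsystem of `F` containing it. -/
theorem isInvariantIn_of_le [Finite S] (p : ℕ) [Fact p.Prime] (hS : IsPGroup p S) (F : FusionSystem S)
    {U V : Subgroup Ω} (X : FusionSystem U) (Y : FusionSystem V) (hXinv : X.IsInvariantIn F)
    (hY : Y.IsSaturated p) (hYF : Y.IsSubsystemOf F) (hXY : X.IsSubsystemOf Y) : X.IsInvariantIn Y := by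
  have hVS : V ≤ S := le_of_isSubsystemOf hYF
  have hUV : U ≤ V := le_of_isSubsystemOf hXY
  haveI : Finite V := finite_of_le hVS
  have hVp : IsPGroup p V := hS.to_le hVS
  have hSI : StrongInv X Y := strongInv_of_le (strongInv_of_isInvariantIn hXinv) hYF
  have hU : Y.StronglyClosed U := ⟨hUV, fun R hR φ hφ x => hXinv.2.1.2 R hR φ (hYF R hφ) x⟩
  exact ⟨hXY, hU, forall_of_autInvariant X Y (autInvariant_of_strongInv X Y hUV hSI),
    frattini_of_strongInv p hVp Y hY hU X hXY hSI⟩

/-- A fusion system is invariant in itself. -/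
theorem isInvariantIn_self [Finite S] (F : FusionSystem S) : F.IsInvariantIn F := by
  refine ⟨fun P => subset_rfl, stronglyClosed_self F, ?_, ?_⟩
  · apply forall_of_autInvariant
    intro α hα P hPS φ hφ P₂ hP₂
    obtain ⟨χ, hχ, hχx⟩ := exists_conj_of_mem_autGroup F hα hφ
    have heq : autMap α P = P₂ := by
      ext y
      rw [mem_autMap, hP₂ y]
      constructor
      · rintro ⟨t, ht, rfl⟩
        exact ⟨⟨t, ht⟩, rfl⟩
      · rintro ⟨x, rfl⟩
        exact ⟨⟨x, hPS x.2⟩, x.2, rfl⟩
    subst heq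
    exact ⟨χ, hχ, fun x hφx hαx => hχx x (hPS x.2) hφx hαx⟩
  · intro P hP φ hφ
    exact ⟨1, Subgroup.one_mem _, φ, hφ, fun x hx => rfl⟩

/-- Existence of the `p`-residual subsystem. -/
theorem exists_isPResidual [Finite S] (p : ℕ) [Fact p.Prime] (hS : IsPGroup p S) (F : FusionSystem S)
    (hF : F.IsSaturated p) : ∃ D : FusionSystem (F.hyperfocalSubgroup p), F.IsPResidual p D := by
  obtain ⟨E, hE, -⟩ := Cfsg.Agent.S5113.result p hS F hF (F.hyperfocalSubgroup p) (hyperfocalSubgroup_le F p) le_rfl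
  exact ⟨E, hE⟩

/-- For a stable system the residual subsystems are the system itself. -/
theorem sim_residual_of_stable [Finite S] (p : ℕ) [Fact p.Prime] (hS : IsPGroup p S) (F : FusionSystem S)
    (hst : Stable F p) (D D' : FusionSystem (F.hyperfocalSubgroup p)) (hD : F.IsPResidual p D)
    (hD' : D.IsPPrimeResidual p D') : Sim D' F := by
  have hFsat : F.IsSaturated p := hst.2.1
  have hle := hyperfocalSubgroup_le F p
  have hDF : Sim D F :=
    sim_of_pPowerIndex p hS F hle hst.1 D F hD.1 hFsat hD.2 (hasPPowerIndexIn_self F p)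
  exact sim_pPrimeResidual hDF p hD' hst.2

/-- A residual limit is a subsystem. -/
theorem isSubsystemOf_of_limit {T U : Subgroup Ω} {L : FusionSystem T} {A : FusionSystem U} {p : ℕ}
    (h : IsResidualLimitOf L A p) : L.IsSubsystemOf A := by
  induction h with
  | stable F p h1 h2 => exact fun P => subset_rfl
  | step F p D D' hD hD' hlim ih =>
    exact fun P φ hφ => hD.2.1 P (hD'.2.1.1 P (ih P hφ))

/-- A residual limit lies in the second residual subsystem. -/
theorem limit_le_residual [Finite S] (p : ℕ) [Fact p.Prime] (hS : IsPGroup p S) (F : FusionSystem S)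
    {T : Subgroup Ω} {L : FusionSystem T} (h : IsResidualLimitOf L F p)
    (D D' : FusionSystem (F.hyperfocalSubgroup p)) (hD : F.IsPResidual p D)
    (hD' : D.IsPPrimeResidual p D') : L.IsSubsystemOf D' := by
  have hle := hyperfocalSubgroup_le F p
  cases h with
  | stable _ _ h1 h2 =>
    have := sim_residual_of_stable p hS F ⟨h1, h2⟩ D D' hD hD'
    intro P
    rw [this.2 P]
  | step _ _ D₀ D₀' hD₀ hD₀' hlim =>
    have hDD₀ : Sim D D₀ := sim_of_pPowerIndex p hS F hle rfl D D₀ hD.1 hD₀.1 hD.2 hD₀.2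
    have h2 : Sim D' D₀' := sim_pPrimeResidual hDD₀ p hD' hD₀'
    have h3 := isSubsystemOf_of_limit hlim
    intro P φ hφ
    rw [h2.2 P]
    exact h3 P hφ

end Cfsg.Agent.Lib.Helper88
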