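import Cfsg.Agent.Lib.Helper88.FusionRD8
import Cfsg.Agent.Lib.Helper40.PSolv
import Cfsg.Agent.Lib.Helper54.Subnormal

set_option autoImplicit false
open Cfsg

namespace Cfsg.Agent.Lib.Helper88

section grp

variable {G : Type*} [Group G]

/-- The image of `O^{p'}` under any homomorphism lies in `O^{p'}` of the target. -/
theorem map_pElemGen_le' {A B : Type*} [Group A] [Group B] (p : ℕ) [Fact p.Prime] (f : A →* B) :
    (pElemGen p A).map f ≤ pElemGen p B := by
  unfold pElemGen
  rw [MonoidHom.map_closure]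
  apply Subgroup.closure_mono
  rintro _ ⟨a, ⟨k, hk⟩, rfl⟩
  have h1 : orderOf (f a) ∣ p ^ k := hk ▸ orderOf_map_dvd f a
  obtain ⟨j, -, hj⟩ := (Nat.dvd_prime_pow Fact.out).mp h1
  exact ⟨j, hj⟩

/-- The closure form of the image of `O^{p'}(A)` in the ambient group. -/
theorem map_pElemGen_subtype (p : ℕ) (A : Subgroup G) :
    (pElemGen p ↥A).map A.subtype = Subgroup.closure {g : G | g ∈ A ∧ ∃ k : ℕ, orderOf g = p ^ k} := by
  unfold pElemGen
  rw [MonoidHom.map_closure]
  congr 1
  ext g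
  constructor
  · rintro ⟨b, ⟨k, hk⟩, rfl⟩
    refine ⟨b.2, k, ?_⟩
    rw [← hk]
    exact (Subgroup.orderOf_coe b)
  · rintro ⟨hg, k, hk⟩
    refine ⟨⟨g, hg⟩, ⟨k, ?_⟩, rfl⟩
    rw [← hk]
    exact (Subgroup.orderOf_mk g hg)

/-- `B O^p(A)`. -/
def gamP (p : ℕ) (B A : Subgroup G) : Subgroup G := B ⊔ (pResidual p ↥A).map A.subtype

/-- `B O^{p'}(A)`. -/
def gamQ (p : ℕ) (B A : Subgroup G) : Subgroup G := B ⊔ (pElemGen p ↥A).map A.subtype

theorem le_gamP (p : ℕ) (B A : Subgroup G) : B ≤ gamP p B A := le_sup_left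

theorem le_gamQ (p : ℕ) (B A : Subgroup G) : B ≤ gamQ p B A := le_sup_left

theorem pResidual_le_gamP (p : ℕ) (B A : Subgroup G) : (pResidual p ↥A).map A.subtype ≤ gamP p B A := le_sup_right

theorem pElemGen_le_gamQ (p : ℕ) (B A : Subgroup G) : (pElemGen p ↥A).map A.subtype ≤ gamQ p B A := le_sup_right

theorem gamP_le (p : ℕ) {B A : Subgroup G} (h : B ≤ A) : gamP p B A ≤ A :=
  sup_le h (Subgroup.map_subtype_le _)

theorem gamQ_le (p : ℕ) {B A : Subgroup G} (h : B ≤ A) : gamQ p B A ≤ A :=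
  sup_le h (Subgroup.map_subtype_le _)

/-- `B O^p(A)` is carried into itself by a conjugation carrying `A` and `B` into themselves. -/
theorem conj_mem_gamP (p : ℕ) {B A : Subgroup G} {g : G} (hA : ∀ a ∈ A, g * a * g⁻¹ ∈ A)
    (hB : ∀ b ∈ B, g * b * g⁻¹ ∈ B) {x : G} (hx : x ∈ gamP p B A) : g * x * g⁻¹ ∈ gamP p B A := by
  have hle : gamP p B A ≤ (gamP p B A).comap (MulAut.conj g).toMonoidHom := by
    apply sup_le
    · intro b hb
      exact le_gamP p B A (hB b hb)
    · rw [Cfsg.Agent.Lib.Helper54.map_pResidual_subtype, Subgroup.closure_le]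
      rintro a ⟨ha, hc⟩
      apply pResidual_le_gamP p B A
      rw [Cfsg.Agent.Lib.Helper54.map_pResidual_subtype]
      apply Subgroup.subset_closure
      refine ⟨hA a ha, ?_⟩
      show (orderOf (MulAut.conj g a)).Coprime p
      rw [MulEquiv.orderOf_eq]
      exact hc
  exact hle hx

/-- `B O^{p'}(A)` is carried into itself by a conjugation carrying `A` and `B` into themselves. -/
theorem conj_mem_gamQ (p : ℕ) {B A : Subgroup G} {g : G} (hA : ∀ a ∈ A, g * a * g⁻¹ ∈ A)
    (hB : ∀ b ∈ B, g * b * g⁻¹ ∈ B) {x : G} (hx : x ∈ gamQ p B A) : g * x * g⁻¹ ∈ gamQ p B A := by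
  have hle : gamQ p B A ≤ (gamQ p B A).comap (MulAut.conj g).toMonoidHom := by
    apply sup_le
    · intro b hb
      exact le_gamQ p B A (hB b hb)
    · rw [map_pElemGen_subtype, Subgroup.closure_le]
      rintro a ⟨ha, k, hk⟩
      apply pElemGen_le_gamQ p B A
      rw [map_pElemGen_subtype]
      apply Subgroup.subset_closure
      refine ⟨hA a ha, k, ?_⟩
      show orderOf (MulAut.conj g a) = p ^ k
      rw [MulEquiv.orderOf_eq]
      exact hk
  exact hle hx

/-- `B O^{p'}(A)` contains every element of `A` one of whose `p`-power powers it contains. -/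
theorem mem_gamQ_of_pow_mem [Finite G] (p : ℕ) [Fact p.Prime] {B A : Subgroup G} {a : G} (ha : a ∈ A) {e : ℕ}
    (h : a ^ p ^ e ∈ gamQ p B A) : a ∈ gamQ p B A := by
  have hp : p.Prime := Fact.out
  obtain ⟨j, m, hm, hn⟩ := Nat.exists_eq_pow_mul_and_not_dvd (orderOf_pos a).ne' p hp.ne_one
  have hcop : (p ^ e).Coprime m := Nat.Coprime.pow_left _ ((Nat.Prime.coprime_iff_not_dvd hp).2 hm)
  apply mem_of_pow_mem_of_pow_mem_coprime _ hcop h
  apply pElemGen_le_gamQ p B A
  rw [map_pElemGen_subtype]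
  apply Subgroup.subset_closure
  refine ⟨A.pow_mem ha m, ?_⟩
  have h1 : orderOf (a ^ m) ∣ p ^ j := by
    apply orderOf_dvd_of_pow_eq_one
    rw [← pow_mul, mul_comm, ← hn]
    exact pow_orderOf_eq_one a
  obtain ⟨i, -, hi⟩ := (Nat.dvd_prime_pow hp).mp h1
  exact ⟨i, hi⟩


/-- `O^{p'}(G)` lies in every normal subgroup of index prime to `p`. -/
theorem pElemGen_le_of_index_coprime [Finite G] (p : ℕ) {N : Subgroup G} [N.Normal] (h : N.index.Coprime p) :
    pElemGen p G ≤ N := by
  unfold pElemGen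
  rw [Subgroup.closure_le]
  rintro g ⟨k, hk⟩
  have h1 : orderOf (QuotientGroup.mk g : G ⧸ N) ∣ orderOf g := orderOf_map_dvd (QuotientGroup.mk' N) g
  have h2 : orderOf (QuotientGroup.mk g : G ⧸ N) ∣ Nat.card (G ⧸ N) := orderOf_dvd_natCard _
  have h3 : Nat.card (G ⧸ N) = N.index := rfl
  rw [hk] at h1
  rw [h3] at h2
  have h4 : orderOf (QuotientGroup.mk g : G ⧸ N) = 1 :=
    Nat.eq_one_of_dvd_coprimes (Nat.Coprime.pow_right k h) h2 h1
  have h5 : (QuotientGroup.mk g : G ⧸ N) = 1 := orderOf_eq_one_iff.mp h4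
  exact (QuotientGroup.eq_one_iff g).mp h5

/-- A nontrivial finite `p`-solvable group has a proper `O^p` or a proper `O^{p'}`. -/
theorem pResidual_ne_top_or_pElemGen_ne_top [Finite G] [Nontrivial G] (p : ℕ) [Fact p.Prime]
    (h : IsPSolvable p G) : pResidual p G ≠ ⊤ ∨ pElemGen p G ≠ ⊤ := by
  obtain ⟨n, H, h0, hlast, hmono, hnorm, hstep⟩ := h
  have key : ∀ (i : ℕ) (hi : i < n + 1), H ⟨i, hi⟩ = ⊤ → pResidual p G ≠ ⊤ ∨ pElemGen p G ≠ ⊤ := by
    intro i
    induction i with
    | zero =>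
      intro hi h
      exfalso
      have h1 : H ⟨0, hi⟩ = ⊥ := h0
      rw [h1] at h
      exact bot_ne_top h
    | succ k ih =>
      intro hi h
      by_cases hk : H ⟨k, by omega⟩ = ⊤
      · exact ih (by omega) hk
      · have hkn : k < n := by omega
        haveI : (H ⟨k, by omega⟩).Normal := hnorm _
        have hs := hstep ⟨k, hkn⟩
        have e1 : (⟨k, hkn⟩ : Fin n).castSucc = ⟨k, by omega⟩ := rfl
        have e2 : (⟨k, hkn⟩ : Fin n).succ = ⟨k + 1, hi⟩ := rfl
        rw [e1, e2, h, Subgroup.relIndex_top_right] at hs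
        rcases hs with ⟨m, hm⟩ | hc
        · left
          intro htop
          apply hk
          have hpg : IsPGroup p (G ⧸ H ⟨k, by omega⟩) := by
            apply IsPGroup.of_card (n := m)
            exact hm
          have := Cfsg.Agent.Lib.Helper54.pResidual_le_of_quotient_isPGroup hpg
          rw [htop] at this
          exact top_le_iff.mp this
        · right
          intro htop
          apply hk
          have := pElemGen_le_of_index_coprime p hc
          rw [htop] at this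
          exact top_le_iff.mp this
  exact key n (by omega) hlast


/-- The reduction step on the level of automizers: between `B` and a group `Â` with `Â / B` `p`-solvable, every group
`A ≠ B` has `B O^p(A) ≠ A` or `B O^{p'}(A) ≠ A`. -/
theorem gamP_ne_or_gamQ_ne [Finite G] (p : ℕ) [Fact p.Prime] {B Ah : Subgroup G} [hn : (B.subgroupOf Ah).Normal]
    (hsolv : IsPSolvable p (↥Ah ⧸ B.subgroupOf Ah)) {A : Subgroup G} (hBA : B ≤ A) (hAA : A ≤ Ah) (hne : A ≠ B) :
    gamP p B A ≠ A ∨ gamQ p B A ≠ A := by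
  have hp : p.Prime := Fact.out
  set f : A →* (↥Ah ⧸ B.subgroupOf Ah) := (QuotientGroup.mk' (B.subgroupOf Ah)).comp (Subgroup.inclusion hAA) with hf
  have hX : IsPSolvable p f.range := Cfsg.Agent.Lib.Helper40.isPSolvable_subgroup hp hsolv f.range
  have hsurj : Function.Surjective f.rangeRestrict := f.rangeRestrict_surjective
  have hker : ∀ (b : G) (hb : b ∈ B), f.rangeRestrict ⟨b, hBA hb⟩ = 1 := by
    intro b hb
    apply Subtype.ext
    show f ⟨b, hBA hb⟩ = 1
    rw [hf]
    show (QuotientGroup.mk (Subgroup.inclusion hAA ⟨b, hBA hb⟩) : ↥Ah ⧸ B.subgroupOf Ah) = 1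
    rw [QuotientGroup.eq_one_iff]
    exact Subgroup.mem_subgroupOf.mpr hb
  obtain ⟨a, haA, haB⟩ := SetLike.exists_of_lt (lt_of_le_of_ne hBA hne.symm)
  haveI : Nontrivial f.range := by
    refine ⟨f.rangeRestrict ⟨a, haA⟩, 1, fun h => haB ?_⟩
    have h1 : f ⟨a, haA⟩ = 1 := congrArg Subtype.val h
    rw [hf] at h1
    have h2 : (QuotientGroup.mk (Subgroup.inclusion hAA ⟨a, haA⟩) : ↥Ah ⧸ B.subgroupOf Ah) = 1 := h1
    rw [QuotientGroup.eq_one_iff] at h2
    exact Subgroup.mem_subgroupOf.mp h2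
  rcases pResidual_ne_top_or_pElemGen_ne_top p hX with h | h
  · left
    intro hΓ
    apply h
    have hle : gamP p B A ≤ ((pResidual p f.range).comap f.rangeRestrict).map A.subtype := by
      apply sup_le
      · intro b hb
        refine ⟨⟨b, hBA hb⟩, ?_, rfl⟩
        show f.rangeRestrict ⟨b, hBA hb⟩ ∈ pResidual p f.range
        rw [hker b hb]
        exact Subgroup.one_mem _
      · apply Subgroup.map_mono
        exact Subgroup.map_le_iff_le_comap.mp (Cfsg.Agent.Lib.Helper87.pResidual_map_le p f.rangeRestrict)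
    rw [eq_top_iff]
    intro x _
    obtain ⟨a', rfl⟩ := hsurj x
    have h1 : (a' : G) ∈ gamP p B A := by rw [hΓ]; exact a'.2
    obtain ⟨a'', ha'', heq⟩ := hle h1
    have : a'' = a' := Subtype.ext heq
    rw [this] at ha''
    exact ha''
  · right
    intro hΓ
    apply h
    have hle : gamQ p B A ≤ ((pElemGen p f.range).comap f.rangeRestrict).map A.subtype := by
      apply sup_le
      · intro b hb
        refine ⟨⟨b, hBA hb⟩, ?_, rfl⟩
        show f.rangeRestrict ⟨b, hBA hb⟩ ∈ pElemGen p f.range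
        rw [hker b hb]
        exact Subgroup.one_mem _
      · apply Subgroup.map_mono
        exact Subgroup.map_le_iff_le_comap.mp (map_pElemGen_le' p f.rangeRestrict)
    rw [eq_top_iff]
    intro x _
    obtain ⟨a', rfl⟩ := hsurj x
    have h1 : (a' : G) ∈ gamQ p B A := by rw [hΓ]; exact a'.2
    obtain ⟨a'', ha'', heq⟩ := hle h1
    have : a'' = a' := Subtype.ext heq
    rw [this] at ha''
    exact ha''


end grp

end Cfsg.Agent.Lib.Helper88
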