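import Cfsg.Agent.Lib.Helper88.FusionSolv1
import Cfsg.Agent.S5089

set_option autoImplicit false
open Cfsg

namespace Cfsg.Agent.Lib.Helper88

open Cfsg.FusionSystem Cfsg.Agent.Lib.Helper87
open scoped commutatorElement

variable {Ω : Type*} [Group Ω] {S : Subgroup Ω}

theorem normal_subgroupOf_of_stronglyClosed {F : FusionSystem S} {T : Subgroup Ω} (hT : F.StronglyClosed T) :
    (T.subgroupOf S).Normal := by
  constructor
  intro n hn g
  rw [Subgroup.mem_subgroupOf] at hn ⊢
  exact stronglyClosed_conj_mem hT g.2 hn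

theorem mk'_ker_iff (T : Subgroup Ω) [(T.subgroupOf S).Normal] (s : S) :
    QuotientGroup.mk' (T.subgroupOf S) s = 1 ↔ (s : Ω) ∈ T := by
  rw [QuotientGroup.mk'_apply, QuotientGroup.eq_one_iff]
  exact Subgroup.mem_subgroupOf

theorem mk'_range_top (T : Subgroup Ω) [(T.subgroupOf S).Normal] :
    (QuotientGroup.mk' (T.subgroupOf S)).range = ⊤ :=
  MonoidHom.range_eq_top.mpr (QuotientGroup.mk'_surjective _)

/-- In a solvable saturated system, above every proper strongly closed subgroup there is a strictly larger one with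
abelian quotient. -/
theorem exists_next_of_isSolvableSystem [Finite S] (p : ℕ) [Fact p.Prime] (hS : IsPGroup p S) (F : FusionSystem S)
    (hF : F.IsSaturated p) (hsolv : F.IsSolvableSystem) {T : Subgroup Ω} (hT : F.StronglyClosed T) (hne : T ≠ S) :
    ∃ T₁ : Subgroup Ω, F.StronglyClosed T₁ ∧ T < T₁ ∧ ⁅T₁, T₁⁆ ≤ T := by
  have hn : (T.subgroupOf S).Normal := normal_subgroupOf_of_stronglyClosed hT
  have hker := mk'_ker_iff (S := S) T
  have hrange := mk'_range_top (S := S) T
  set θ := QuotientGroup.mk' (T.subgroupOf S) with hθ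
  set E := factorSystem F T hT θ hker hrange with hE_def
  have hE : F.IsFactorSystem T θ E := isFactorSystem_factorSystem F T hT θ hker hrange
  have hcore : E.core ≠ ⊥ := hsolv T hT hne E hE
  have hEsat : E.IsSaturated p := isSaturated_of_isFactorSystem p hS F hF hT θ E hE
  have hfin : Finite (⊤ : Subgroup (S ⧸ T.subgroupOf S)) := inferInstance
  have hp' : IsPGroup p (⊤ : Subgroup (S ⧸ T.subgroupOf S)) := by
    have h1 : IsPGroup p (S ⧸ T.subgroupOf S) := hS.to_quotient _
    exact h1.to_subgroup ⊤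
  obtain ⟨A', hA'ne, hA'comm, hA'sc⟩ := (Cfsg.Agent.S5089.result p hp' E hEsat).mp hcore
  refine ⟨preimageAlong θ A', stronglyClosed_preimageAlong p hS F hF hT θ hker hrange E hE.2.2.2 hA'sc, ?_, ?_⟩
  · have hle : T ≤ preimageAlong θ A' := kernel_le_preimageAlong θ hT.1 hker A'
    refine lt_of_le_of_ne hle (fun heq => hA'ne ?_)
    rw [eq_bot_iff]
    intro y hy
    obtain ⟨s, hsS, hsP, hs⟩ := exists_preimage θ hrange hA'sc.1 ⟨y, hy⟩
    rw [← heq] at hsP
    rw [Subgroup.mem_bot]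
    have h2 : θ ⟨s, hsS⟩ = y := hs
    rw [← h2]
    exact (hker _).mpr hsP
  · rw [Subgroup.commutator_le]
    intro x hx y hy
    obtain ⟨hxS, hx'⟩ := (mem_preimageAlong θ A' x).mp hx
    obtain ⟨hyS, hy'⟩ := (mem_preimageAlong θ A' y).mp hy
    have hmem : ⁅x, y⁆ ∈ S := by
      rw [commutatorElement_def]
      exact S.mul_mem (S.mul_mem (S.mul_mem hxS hyS) (S.inv_mem hxS)) (S.inv_mem hyS)
    apply (hker ⟨_, hmem⟩).mp
    have e : (⟨⁅x, y⁆, hmem⟩ : S) = ⟨x, hxS⟩ * ⟨y, hyS⟩ * ⟨x, hxS⟩⁻¹ * ⟨y, hyS⟩⁻¹ := by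
      apply Subtype.ext
      show ⁅x, y⁆ = x * y * x⁻¹ * y⁻¹
      exact commutatorElement_def x y
    rw [e, map_mul, map_mul, map_mul, map_inv, map_inv]
    have hc : (⟨θ ⟨x, hxS⟩, hx'⟩ : A') * ⟨θ ⟨y, hyS⟩, hy'⟩ = ⟨θ ⟨y, hyS⟩, hy'⟩ * ⟨θ ⟨x, hxS⟩, hx'⟩ :=
      hA'comm.is_comm.comm _ _
    have hc' : θ ⟨x, hxS⟩ * θ ⟨y, hyS⟩ = θ ⟨y, hyS⟩ * θ ⟨x, hxS⟩ := congrArg Subtype.val hc
    rw [hc']
    group

/-- A chain indexed by `ℕ` from `T` up to `S`. -/
theorem exists_chain_nat_of_isSolvableSystem [Finite S] (p : ℕ) [Fact p.Prime] (hS : IsPGroup p S)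
    (F : FusionSystem S) (hF : F.IsSaturated p) (hsolv : F.IsSolvableSystem) :
    ∀ (m : ℕ) (T : Subgroup Ω), F.StronglyClosed T → Nat.card S - Nat.card T ≤ m →
      ∃ (n : ℕ) (c : ℕ → Subgroup Ω), c 0 = T ∧ c n = S ∧ (∀ i, F.StronglyClosed (c i)) ∧
        (∀ i, c i ≤ c (i + 1)) ∧ ∀ i, ⁅c (i + 1), c (i + 1)⁆ ≤ c i := by
  have hSsc : F.StronglyClosed S := ⟨le_rfl, fun R _ φ hφ x => hom_mem F hφ x⟩
  have hSS : ⁅S, S⁆ ≤ S := by
    rw [Subgroup.commutator_le]
    intro x hx y hy
    rw [commutatorElement_def]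
    exact S.mul_mem (S.mul_mem (S.mul_mem hx hy) (S.inv_mem hx)) (S.inv_mem hy)
  intro m
  induction m with
  | zero =>
    intro T hT hm
    have hTS : T = S := by
      have : Finite T := finite_of_le hT.1
      apply Subgroup.eq_of_le_of_card_ge hT.1
      omega
    exact ⟨0, fun _ => S, hTS.symm, rfl, fun _ => hSsc, fun _ => le_rfl, fun _ => hSS⟩
  | succ m ih =>
    intro T hT hm
    by_cases hTS : T = S
    · exact ⟨0, fun _ => S, hTS.symm, rfl, fun _ => hSsc, fun _ => le_rfl, fun _ => hSS⟩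
    · obtain ⟨T₁, hT₁, hlt, hcomm⟩ := exists_next_of_isSolvableSystem p hS F hF hsolv hT hTS
      have hcard : Nat.card T < Nat.card T₁ := by
        have : Finite T₁ := finite_of_le hT₁.1
        by_contra hge
        have := Subgroup.eq_of_le_of_card_ge hlt.le (not_lt.mp hge)
        exact hlt.ne this
      have hcard₁ : Nat.card T₁ ≤ Nat.card S := card_le_of_le hT₁.1
      obtain ⟨n, c, hc0, hcn, hcsc, hcle, hccomm⟩ := ih T₁ hT₁ (by omega)
      refine ⟨n + 1, fun i => if i = 0 then T else c (i - 1), by simp, by simpa using hcn, ?_, ?_, ?_⟩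
      · intro i
        by_cases hi : i = 0
        · simp only [hi, if_true]; exact hT
        · simp only [hi, if_false]; exact hcsc _
      · intro i
        by_cases hi : i = 0
        · subst hi
          simp only [if_true, zero_add, one_ne_zero, if_false, Nat.sub_self]
          rw [hc0]; exact hlt.le
        · obtain ⟨j, rfl⟩ := Nat.exists_eq_succ_of_ne_zero hi
          simp only [Nat.succ_ne_zero, if_false, Nat.add_sub_cancel]
          exact hcle j
      · intro i
        by_cases hi : i = 0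
        · subst hi
          simp only [if_true, zero_add, one_ne_zero, if_false, Nat.sub_self]
          rw [hc0]; exact hcomm
        · obtain ⟨j, rfl⟩ := Nat.exists_eq_succ_of_ne_zero hi
          simp only [Nat.succ_ne_zero, if_false, Nat.add_sub_cancel]
          exact hccomm j

end Cfsg.Agent.Lib.Helper88
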