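import Cfsg.Agent.Lib.Helper88.FusionPP3

set_option autoImplicit false
open Cfsg
open scoped Pointwise

namespace Cfsg.Agent.Lib.Helper88

open Cfsg.FusionSystem Cfsg.Agent.Lib.Helper87

variable {Ω : Type*} [Group Ω] {S T : Subgroup Ω}

/-- The automorphisms of `T` admitting an extension in `O^p(Aut_F(T C_S(T)))`. -/
def extGroup (p : ℕ) (F : FusionSystem S) (T : Subgroup Ω) : Subgroup (MulAut T) where
  carrier := {α | ∃ β ∈ (pResidual p (F.autGroup (T ⊔ centralizerIn S T))).map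
    (F.autGroup (T ⊔ centralizerIn S T)).subtype, (β, α) ∈ extPairs (le_sup_left : T ≤ T ⊔ centralizerIn S T)}
  one_mem' := ⟨1, Subgroup.one_mem _, Subgroup.one_mem _⟩
  mul_mem' := by
    rintro a b ⟨β₁, h₁, hp₁⟩ ⟨β₂, h₂, hp₂⟩
    exact ⟨β₁ * β₂, Subgroup.mul_mem _ h₁ h₂, Subgroup.mul_mem _ hp₁ hp₂⟩
  inv_mem' := by
    rintro a ⟨β₁, h₁, hp₁⟩
    exact ⟨β₁⁻¹, Subgroup.inv_mem _ h₁, Subgroup.inv_mem _ hp₁⟩

theorem pResidual_le_extGroup [Finite S] (p : ℕ) [Fact p.Prime] (F : FusionSystem S)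
    (hF : F.IsSaturated p) (hT : F.StronglyClosed T) :
    (pResidual p (F.autGroup T)).map (F.autGroup T).subtype ≤ extGroup p F T := by
  rw [Subgroup.map_le_iff_le_comap]
  unfold pResidual
  rw [Subgroup.closure_le]
  intro a ha
  have ha' : Nat.Coprime (orderOf a) p := ha
  show (a : MulAut T) ∈ extGroup p F T
  exact exists_ext_of_coprime p F hF hT a.2 (by rw [Subgroup.orderOf_coe]; exact ha')

/-- The invariance condition in the form of `IsInvariantIn`. -/
theorem forall_of_autInvariant (E : FusionSystem T) (F : FusionSystem S) (hinv : AutInvariant E F) :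
    ∀ (P : Subgroup Ω) (hPT : P ≤ T) (φ : P →* Ω), φ ∈ E.Hom P → ∀ α ∈ F.autGroup T,
      ∃ χ ∈ E.Hom ((P.subgroupOf T).map (T.subtype.comp α.toMonoidHom)),
        ∀ (x : P) (hφx : φ x ∈ T)
          (hαx : ((α ⟨x, hPT x.2⟩ : T) : Ω) ∈ (P.subgroupOf T).map (T.subtype.comp α.toMonoidHom)),
          χ ⟨(α ⟨x, hPT x.2⟩ : T), hαx⟩ = ((α ⟨φ x, hφx⟩ : T) : Ω) := by
  intro P hPT φ hφ α hα
  refine hinv α hα P hPT φ hφ _ (fun y => ?_)
  constructor
  · rintro ⟨t, ht, rfl⟩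
    exact ⟨⟨t, Subgroup.mem_subgroupOf.mp ht⟩, rfl⟩
  · rintro ⟨x, rfl⟩
    exact ⟨⟨x, hPT x.2⟩, Subgroup.mem_subgroupOf.mpr x.2, rfl⟩

/-- The extension condition for a saturated subsystem of `p`-power index over a strongly closed subgroup. -/
theorem extension_of_pPowerIndex [Finite S] (p : ℕ) [Fact p.Prime] (hS : IsPGroup p S) (F : FusionSystem S)
    (hF : F.IsSaturated p) (hT : F.StronglyClosed T) (hhyp : F.hyperfocalSubgroup p ≤ T)
    (E : FusionSystem T) (hEs : E.IsSaturated p) (hEF : E.IsSubsystemOf F) :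
    ∀ α ∈ E.autGroup T, ∃ β ∈ F.autGroup (T ⊔ centralizerIn S T),
      (∀ x : T, ((β (Subgroup.inclusion le_sup_left x) : ↥(T ⊔ centralizerIn S T)) : Ω) = ((α x : T) : Ω)) ∧
      ∀ c : ↥(T ⊔ centralizerIn S T), (c : Ω) ∈ centralizerIn S T →
        (c : Ω)⁻¹ * ((β c : ↥(T ⊔ centralizerIn S T)) : Ω) ∈ T ⊓ Subgroup.centralizer (T : Set Ω) := by
  have hTS : T ≤ S := hT.1
  have hUS : T ⊔ centralizerIn S T ≤ S := sup_le hTS inf_le_left
  have hfinT : Finite T := finite_of_le hTS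
  have hTp : IsPGroup p T := hS.to_le hTS
  intro α hα
  obtain ⟨-, -, Sy, hSy⟩ := fullyNormalized_props p hTp E hEs T (self_isFullyNormalized' E)
  have : Finite (E.autGroup T) := finite_autGroup E le_rfl
  have hsup := Cfsg.Agent.Lib.Helper54.pResidual_sup_sylow Sy
  have hnormal := Cfsg.Agent.Lib.Helper54.pResidual_normal p (E.autGroup T)
  have hmem : (⟨α, hα⟩ : E.autGroup T) ∈ ((pResidual p (E.autGroup T) ⊔ (Sy : Subgroup (E.autGroup T)) :
      Subgroup (E.autGroup T)) : Set (E.autGroup T)) := by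
    rw [hsup]; trivial
  rw [Subgroup.normal_mul] at hmem
  obtain ⟨o, ho, r, hr, hor⟩ := Set.mem_mul.mp hmem
  have hα_eq : α = (o : MulAut T) * (r : MulAut T) := by
    have := congrArg (fun z : E.autGroup T => (z : MulAut T)) hor
    exact this.symm
  have hr' : r ∈ (Sy : Subgroup (E.autGroup T)) := hr
  rw [hSy, Subgroup.mem_subgroupOf] at hr'
  obtain ⟨t, htT, ht⟩ := Cfsg.Agent.Lib.Helper87.mem_autInducedBy_iff.mp hr'
  have hle : E.autGroup T ≤ F.autGroup T := Subgroup.closure_mono (fun δ hδ => hEF T hδ)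
  have h3 := pResidual_map_le p (Subgroup.inclusion hle) (Subgroup.mem_map_of_mem _ ho)
  have ho' : (o : MulAut T) ∈ extGroup p F T :=
    pResidual_le_extGroup p F hF hT ⟨Subgroup.inclusion hle o, h3, rfl⟩
  obtain ⟨βo, ⟨b, hb, rfl⟩, hpo⟩ := ho'
  have htN : t ∈ Subgroup.normalizer ((T ⊔ centralizerIn S T : Subgroup Ω) : Set Ω) :=
    Subgroup.le_normalizer (le_sup_left (a := T) htT)
  have hβr : conjAut (T ⊔ centralizerIn S T) t htN ∈ F.autGroup (T ⊔ centralizerIn S T) :=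
    autInducedBy_le_autGroup F hUS (conjAut_mem_autInducedBy (hTS htT) htN)
  have hpr : (conjAut (T ⊔ centralizerIn S T) t htN, (r : MulAut T)) ∈
      extPairs (le_sup_left : T ≤ T ⊔ centralizerIn S T) := by
    intro x
    apply Subtype.ext
    show t * (x : Ω) * t⁻¹ = (((r : MulAut T) x : T) : Ω)
    exact (ht x).symm
  have hpair : ((b : MulAut ↥(T ⊔ centralizerIn S T)) * conjAut (T ⊔ centralizerIn S T) t htN, α) ∈
      extPairs (le_sup_left : T ≤ T ⊔ centralizerIn S T) := by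
    rw [hα_eq]
    exact Subgroup.mul_mem _ hpo hpr
  refine ⟨(b : MulAut ↥(T ⊔ centralizerIn S T)) * conjAut (T ⊔ centralizerIn S T) t htN,
    Subgroup.mul_mem _ b.2 hβr, fun x => congrArg Subtype.val (hpair x), fun c hc => ?_⟩
  have hcc := (mem_centralizerIn.mp hc).2
  have e1 : conjAut (T ⊔ centralizerIn S T) t htN c = c := by
    apply Subtype.ext
    show t * (c : Ω) * t⁻¹ = c
    rw [hcc t htT, mul_inv_cancel_right]
  show (c : Ω)⁻¹ * (((b : MulAut ↥(T ⊔ centralizerIn S T)) (conjAut (T ⊔ centralizerIn S T) t htN c) :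
    ↥(T ⊔ centralizerIn S T)) : Ω) ∈ T ⊓ Subgroup.centralizer (T : Set Ω)
  rw [e1]
  refine ⟨hhyp (Subgroup.subset_closure ⟨_, b, c, hUS, hb, rfl⟩), ?_⟩
  apply Subgroup.mul_mem _ (Subgroup.inv_mem _ hc.2)
  rw [Subgroup.mem_centralizer_iff]
  intro y hy
  have hy' : y ∈ T := hy
  have e2 := hpo ((o : MulAut T)⁻¹ ⟨y, hy'⟩)
  rw [MulAut.apply_inv_self] at e2
  have e3 : (y : Ω) = (((b : MulAut ↥(T ⊔ centralizerIn S T))
      (Subgroup.inclusion le_sup_left ((o : MulAut T)⁻¹ ⟨y, hy'⟩)) : ↥(T ⊔ centralizerIn S T)) : Ω) := by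
    have := congrArg Subtype.val e2
    exact this.symm
  have hcomm : Subgroup.inclusion (le_sup_left : T ≤ T ⊔ centralizerIn S T) ((o : MulAut T)⁻¹ ⟨y, hy'⟩) * c =
      c * Subgroup.inclusion le_sup_left ((o : MulAut T)⁻¹ ⟨y, hy'⟩) :=
    Subtype.ext (hcc _ ((o : MulAut T)⁻¹ ⟨y, hy'⟩).2)
  have e4 := congrArg (fun z => (((b : MulAut ↥(T ⊔ centralizerIn S T)) z : ↥(T ⊔ centralizerIn S T)) : Ω)) hcomm
  simp only [map_mul, Subgroup.coe_mul] at e4
  rw [e3]
  exact e4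

/-- A saturated subsystem of `p`-power index over a normal subgroup of `S` containing the hyperfocal subgroup is normal. -/
theorem isNormalIn_of_pPowerIndex [Finite S] (p : ℕ) [Fact p.Prime] (hS : IsPGroup p S) (F : FusionSystem S)
    (hF : F.IsSaturated p) (hTS : T ≤ S) (hTn : (T.subgroupOf S).Normal) (hT : F.hyperfocalSubgroup p ≤ T)
    (E : FusionSystem T) (hEs : E.IsSaturated p) (hEi : E.HasPPowerIndexIn F p) : E.IsNormalIn F p := by
  obtain ⟨hEF, -, hall⟩ := hEi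
  have hTsc := stronglyClosed_of_hyperfocal_le p hS F hF hTS hTn hT
  have hinv := autInvariant_of_pPowerIndex p hS F hTS E hEs hEF hall
  refine ⟨⟨hEs, hF, hEF, hTsc, forall_of_autInvariant E F hinv,
    frattini_of_pPowerIndex p hS F hF hTsc E hEF hall hinv⟩, ?_⟩
  exact extension_of_pPowerIndex p hS F hF hTsc hT E hEs hEF

end Cfsg.Agent.Lib.Helper88
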