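import Cfsg.Agent.Lib.Helper88.FusionBasic

set_option autoImplicit false
open Cfsg

namespace Cfsg.Agent.Lib.Helper88

variable {Ω₁ Ω₂ : Type*} [Group Ω₁] [Group Ω₂]

/-- The product map `(x₁, x₂) ↦ (φ₁ x₁, φ₂ x₂)` restricted to `P`. -/
def prodMap (P : Subgroup (Ω₁ × Ω₂)) (φ₁ : P.map (MonoidHom.fst Ω₁ Ω₂) →* Ω₁)
    (φ₂ : P.map (MonoidHom.snd Ω₁ Ω₂) →* Ω₂) : P →* Ω₁ × Ω₂ :=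
  (φ₁.comp ((MonoidHom.fst Ω₁ Ω₂).subgroupMap P)).prod (φ₂.comp ((MonoidHom.snd Ω₁ Ω₂).subgroupMap P))

theorem prodMap_apply (P : Subgroup (Ω₁ × Ω₂)) (φ₁ : P.map (MonoidHom.fst Ω₁ Ω₂) →* Ω₁)
    (φ₂ : P.map (MonoidHom.snd Ω₁ Ω₂) →* Ω₂) (x : P) (h₁ : (x : Ω₁ × Ω₂).1 ∈ P.map (MonoidHom.fst Ω₁ Ω₂))
    (h₂ : (x : Ω₁ × Ω₂).2 ∈ P.map (MonoidHom.snd Ω₁ Ω₂)) :
    prodMap P φ₁ φ₂ x = (φ₁ ⟨(x : Ω₁ × Ω₂).1, h₁⟩, φ₂ ⟨(x : Ω₁ × Ω₂).2, h₂⟩) := rfl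

theorem fst_mem_map {P : Subgroup (Ω₁ × Ω₂)} (x : P) : (x : Ω₁ × Ω₂).1 ∈ P.map (MonoidHom.fst Ω₁ Ω₂) :=
  ⟨x, x.2, rfl⟩

theorem snd_mem_map {P : Subgroup (Ω₁ × Ω₂)} (x : P) : (x : Ω₁ × Ω₂).2 ∈ P.map (MonoidHom.snd Ω₁ Ω₂) :=
  ⟨x, x.2, rfl⟩

theorem eq_prodMap_iff (P : Subgroup (Ω₁ × Ω₂)) (φ : P →* Ω₁ × Ω₂) (φ₁ : P.map (MonoidHom.fst Ω₁ Ω₂) →* Ω₁)
    (φ₂ : P.map (MonoidHom.snd Ω₁ Ω₂) →* Ω₂) :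
    φ = prodMap P φ₁ φ₂ ↔ ∀ (x : P) (h₁ : (x : Ω₁ × Ω₂).1 ∈ P.map (MonoidHom.fst Ω₁ Ω₂))
          (h₂ : (x : Ω₁ × Ω₂).2 ∈ P.map (MonoidHom.snd Ω₁ Ω₂)),
          φ x = (φ₁ ⟨(x : Ω₁ × Ω₂).1, h₁⟩, φ₂ ⟨(x : Ω₁ × Ω₂).2, h₂⟩) := by
  constructor
  · rintro rfl x h₁ h₂
    rfl
  · intro h
    ext x
    · rw [h x (fst_mem_map x) (snd_mem_map x)]; rfl
    · rw [h x (fst_mem_map x) (snd_mem_map x)]; rfl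

variable {S₁ : Subgroup Ω₁} {S₂ : Subgroup Ω₂}

theorem map_fst_le {P : Subgroup (Ω₁ × Ω₂)} (hP : P ≤ S₁.prod S₂) : P.map (MonoidHom.fst Ω₁ Ω₂) ≤ S₁ := by
  rintro _ ⟨x, hx, rfl⟩
  exact (Subgroup.mem_prod.mp (hP hx)).1

theorem map_snd_le {P : Subgroup (Ω₁ × Ω₂)} (hP : P ≤ S₁.prod S₂) : P.map (MonoidHom.snd Ω₁ Ω₂) ≤ S₂ := by
  rintro _ ⟨x, hx, rfl⟩
  exact (Subgroup.mem_prod.mp (hP hx)).2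

/-- The direct product of two fusion systems. -/
def prodSystem (F₁ : FusionSystem S₁) (F₂ : FusionSystem S₂) : FusionSystem (S₁.prod S₂) where
  Hom P := {φ | P ≤ S₁.prod S₂ ∧ ∃ φ₁ ∈ F₁.Hom (P.map (MonoidHom.fst Ω₁ Ω₂)),
    ∃ φ₂ ∈ F₂.Hom (P.map (MonoidHom.snd Ω₁ Ω₂)), φ = prodMap P φ₁ φ₂}
  le_of_mem := by
    rintro P φ ⟨hP, φ₁, hφ₁, φ₂, hφ₂, rfl⟩
    refine ⟨hP, fun x => ?_⟩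
    exact Subgroup.mem_prod.mpr ⟨(F₁.le_of_mem hφ₁).2 _, (F₂.le_of_mem hφ₂).2 _⟩
  injective_of_mem := by
    rintro P φ ⟨hP, φ₁, hφ₁, φ₂, hφ₂, rfl⟩ x y hxy
    have h1 : φ₁ ⟨(x : Ω₁ × Ω₂).1, fst_mem_map x⟩ = φ₁ ⟨(y : Ω₁ × Ω₂).1, fst_mem_map y⟩ :=
      congrArg Prod.fst hxy
    have h2 : φ₂ ⟨(x : Ω₁ × Ω₂).2, snd_mem_map x⟩ = φ₂ ⟨(y : Ω₁ × Ω₂).2, snd_mem_map y⟩ :=
      congrArg Prod.snd hxy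
    have e1 := congrArg Subtype.val (F₁.injective_of_mem hφ₁ h1)
    have e2 := congrArg Subtype.val (F₂.injective_of_mem hφ₂ h2)
    exact Subtype.ext (Prod.ext e1 e2)
  conj_mem := by
    intro P g hP hg
    refine ⟨hP, conjHom _ g.1, F₁.conj_mem (map_fst_le hP) (Subgroup.mem_prod.mp hg).1,
      conjHom _ g.2, F₂.conj_mem (map_snd_le hP) (Subgroup.mem_prod.mp hg).2, ?_⟩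
    ext x <;> rfl
  comp_mem := by
    rintro P Q φ ψ ⟨hP, φ₁, hφ₁, φ₂, hφ₂, rfl⟩ ⟨hQ, ψ₁, hψ₁, ψ₂, hψ₂, rfl⟩ h
    have h1 : ∀ x : P.map (MonoidHom.fst Ω₁ Ω₂), φ₁ x ∈ Q.map (MonoidHom.fst Ω₁ Ω₂) := by
      rintro ⟨_, x, hx, rfl⟩
      exact ⟨_, h ⟨x, hx⟩, rfl⟩
    have h2 : ∀ x : P.map (MonoidHom.snd Ω₁ Ω₂), φ₂ x ∈ Q.map (MonoidHom.snd Ω₁ Ω₂) := by
      rintro ⟨_, x, hx, rfl⟩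
      exact ⟨_, h ⟨x, hx⟩, rfl⟩
    refine ⟨hP, _, F₁.comp_mem hφ₁ hψ₁ h1, _, F₂.comp_mem hφ₂ hψ₂ h2, ?_⟩
    ext x <;> rfl
  inv_mem := by
    rintro P φ ⟨hP, φ₁, hφ₁, φ₂, hφ₂, rfl⟩
    obtain ⟨ψ₁, hψ₁, hinv₁⟩ := F₁.inv_mem hφ₁
    obtain ⟨ψ₂, hψ₂, hinv₂⟩ := F₂.inv_mem hφ₂
    have e1 : φ₁.range = (prodMap P φ₁ φ₂).range.map (MonoidHom.fst Ω₁ Ω₂) := by
      ext y
      constructor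
      · rintro ⟨⟨_, x, hx, rfl⟩, rfl⟩
        exact ⟨_, ⟨⟨x, hx⟩, rfl⟩, rfl⟩
      · rintro ⟨_, ⟨x, rfl⟩, rfl⟩
        exact ⟨⟨_, fst_mem_map x⟩, rfl⟩
    have e2 : φ₂.range = (prodMap P φ₁ φ₂).range.map (MonoidHom.snd Ω₁ Ω₂) := by
      ext y
      constructor
      · rintro ⟨⟨_, x, hx, rfl⟩, rfl⟩
        exact ⟨_, ⟨⟨x, hx⟩, rfl⟩, rfl⟩
      · rintro ⟨_, ⟨x, rfl⟩, rfl⟩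
        exact ⟨⟨_, snd_mem_map x⟩, rfl⟩
    obtain ⟨ψ₁', hψ₁', hext₁⟩ := hom_cast F₁ e1 ψ₁ hψ₁
    obtain ⟨ψ₂', hψ₂', hext₂⟩ := hom_cast F₂ e2 ψ₂ hψ₂
    have hrange : (prodMap P φ₁ φ₂).range ≤ S₁.prod S₂ := by
      rintro _ ⟨x, rfl⟩
      exact Subgroup.mem_prod.mpr ⟨(F₁.le_of_mem hφ₁).2 _, (F₂.le_of_mem hφ₂).2 _⟩
    refine ⟨prodMap _ ψ₁' ψ₂', ⟨hrange, ψ₁', hψ₁', ψ₂', hψ₂', rfl⟩, fun x => ?_⟩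
    apply Prod.ext
    · exact (hext₁ (φ₁ ⟨(x : Ω₁ × Ω₂).1, fst_mem_map x⟩) ⟨_, rfl⟩ _).trans (hinv₁ _)
    · exact (hext₂ (φ₂ ⟨(x : Ω₁ × Ω₂).2, snd_mem_map x⟩) ⟨_, rfl⟩ _).trans (hinv₂ _)

theorem isProductSystem_prodSystem (F₁ : FusionSystem S₁) (F₂ : FusionSystem S₂) :
    FusionSystem.IsProductSystem F₁ F₂ (prodSystem F₁ F₂) := by
  intro P φ
  show (P ≤ S₁.prod S₂ ∧ ∃ φ₁ ∈ F₁.Hom (P.map (MonoidHom.fst Ω₁ Ω₂)),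
    ∃ φ₂ ∈ F₂.Hom (P.map (MonoidHom.snd Ω₁ Ω₂)), φ = prodMap P φ₁ φ₂) ↔ _
  simp only [eq_prodMap_iff]

end Cfsg.Agent.Lib.Helper88
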