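import Cfsg.Agent.Lib.Helper88.FusionRL2

set_option autoImplicit false
open Cfsg

namespace Cfsg.Agent.Lib.Helper88

open Cfsg.FusionSystem Cfsg.Agent.Lib.Helper87
open Cfsg.Agent.Lib.Helper90 (autMap mem_autMap autMap_le apply_mem_autMap restrictAut restrictAut_apply
  restrictAut_pow_apply restrictAut_mem_autGroup)

variable {Ω : Type*} [Group Ω] {S T : Subgroup Ω}

/-- The coprime-action step: a `p'`-automorphism `a ∈ Aut_F(P)` has `[P, a] ≤ hypIn F p T` when `T` is strongly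
closed and contains the hyperfocal subgroup, and `hypIn F p T` is strongly closed. -/
theorem comm_mem_hypIn_of_coprime [Finite S] (p : ℕ) [Fact p.Prime] (hS : IsPGroup p S) (F : FusionSystem S)
    (hT : F.StronglyClosed T) (hhyp : F.hyperfocalSubgroup p ≤ T) (hK : F.StronglyClosed (hypIn F p T))
    {P : Subgroup Ω} (hPS : P ≤ S) (α : F.autGroup P) (hα : Nat.Coprime (orderOf α) p) (x : P) :
    (x : Ω)⁻¹ * (((α : MulAut P) x : P) : Ω) ∈ hypIn F p T := by
  set a : MulAut P := (α : MulAut P) with ha_def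
  have haF : a ∈ F.autGroup P := α.2
  have haF' : a⁻¹ ∈ F.autGroup P := Subgroup.inv_mem _ haF
  have hord : orderOf a = orderOf α := Subgroup.orderOf_coe α
  have hαres : α ∈ pResidual p (F.autGroup P) := Subgroup.subset_closure hα
  -- the restriction to `P ⊓ T`
  have hle : P ⊓ T ≤ P := inf_le_left
  have h1 : ∀ y : ↥(P ⊓ T), ((a ⟨y, hle y.2⟩ : P) : Ω) ∈ P ⊓ T := fun y =>
    ⟨(a ⟨y, hle y.2⟩).2, Cfsg.Agent.Lib.Helper90.StronglyClosed.aut_mem F hT hPS haF ⟨y, hle y.2⟩ y.2.2⟩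
  have h1' : ∀ y : ↥(P ⊓ T), ((a⁻¹ ⟨y, hle y.2⟩ : P) : Ω) ∈ P ⊓ T := fun y =>
    ⟨(a⁻¹ ⟨y, hle y.2⟩).2, Cfsg.Agent.Lib.Helper90.StronglyClosed.aut_mem F hT hPS haF' ⟨y, hle y.2⟩ y.2.2⟩
  set a₀ : MulAut ↥(P ⊓ T) := restrictAut hle a h1 h1' with ha₀_def
  have ha₀F : a₀ ∈ F.autGroup (P ⊓ T) := restrictAut_mem_autGroup F hPS hle a haF h1 h1'
  have ha₀pow : a₀ ^ orderOf a = 1 := by
    ext y
    rw [restrictAut_pow_apply, pow_orderOf_eq_one]
    rfl
  have ha₀ord : Nat.Coprime (orderOf (⟨a₀, ha₀F⟩ : F.autGroup (P ⊓ T))) p := by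
    have e : orderOf (⟨a₀, ha₀F⟩ : F.autGroup (P ⊓ T)) = orderOf a₀ := Subgroup.orderOf_mk _ _
    rw [e]
    have hdvd : orderOf a₀ ∣ orderOf a := orderOf_dvd_of_pow_eq_one ha₀pow
    rw [hord] at hdvd
    exact Nat.Coprime.coprime_dvd_left hdvd hα
  have ha₀res : (⟨a₀, ha₀F⟩ : F.autGroup (P ⊓ T)) ∈ pResidual p (F.autGroup (P ⊓ T)) :=
    Subgroup.subset_closure ha₀ord
  have hgen : ∀ y : ↥(P ⊓ T), (y : Ω)⁻¹ * ((a₀ y : ↥(P ⊓ T)) : Ω) ∈ hypIn F p T := fun y =>
    Subgroup.subset_closure ⟨P ⊓ T, ⟨a₀, ha₀F⟩, y, inf_le_right, ha₀res, rfl⟩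
  -- the normal subgroup
  haveI hN : ((hypIn F p T).subgroupOf P).Normal := by
    refine ⟨fun k hk g => ?_⟩
    rw [Subgroup.mem_subgroupOf] at hk ⊢
    exact stronglyClosed_conj_mem hK (hPS g.2) hk
  have hαN : ∀ k ∈ (hypIn F p T).subgroupOf P, a k ∈ (hypIn F p T).subgroupOf P := by
    intro k hk
    rw [Subgroup.mem_subgroupOf] at hk ⊢
    exact Cfsg.Agent.Lib.Helper90.StronglyClosed.aut_mem F hK hPS haF k hk
  -- the commutator lies in `P ⊓ T`
  have hcT : ((x⁻¹ * a x : P) : Ω) ∈ P ⊓ T := by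
    refine ⟨(x⁻¹ * a x).2, hhyp ?_⟩
    exact Subgroup.subset_closure ⟨P, α, x, hPS, hαres, rfl⟩
  have hc : (x⁻¹ * a x)⁻¹ * a (x⁻¹ * a x) ∈ (hypIn F p T).subgroupOf P := by
    rw [Subgroup.mem_subgroupOf]
    exact hgen ⟨_, hcT⟩
  obtain ⟨m, hm⟩ := (hS.to_le hPS) (x⁻¹ * a x)
  have hcop : Nat.Coprime (orderOf a) (p ^ m) := by
    rw [hord]
    exact Nat.Coprime.pow_right m hα
  have hn : (a ^ orderOf a) x = x := by rw [pow_orderOf_eq_one]; rfl
  have := comm_mem_of_stable ((hypIn F p T).subgroupOf P) a hαN x hc hn hm hcop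
  rw [Subgroup.mem_subgroupOf] at this
  exact this

/-- The hyperfocal subgroup is generated inside `T`. -/
theorem hyperfocal_le_hypIn [Finite S] (p : ℕ) [Fact p.Prime] (hS : IsPGroup p S) (F : FusionSystem S)
    (hT : F.StronglyClosed T) (hhyp : F.hyperfocalSubgroup p ≤ T) (hK : F.StronglyClosed (hypIn F p T)) :
    F.hyperfocalSubgroup p ≤ hypIn F p T := by
  unfold FusionSystem.hyperfocalSubgroup
  rw [Subgroup.closure_le]
  rintro _ ⟨P, α, x, hPS, hα, rfl⟩
  have key : ∀ β ∈ pResidual p (F.autGroup P), ∀ z : P,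
      (z : Ω)⁻¹ * (((β : MulAut P) z : P) : Ω) ∈ hypIn F p T := by
    intro β hβ
    unfold pResidual at hβ
    induction hβ using Subgroup.closure_induction with
    | mem β hβ => exact fun z => comm_mem_hypIn_of_coprime p hS F hT hhyp hK hPS β hβ z
    | one =>
      intro z
      show (z : Ω)⁻¹ * (z : Ω) ∈ _
      rw [inv_mul_cancel]
      exact Subgroup.one_mem _
    | mul b c _ _ ihb ihc =>
      intro z
      have h1 := ihc z
      have h2 := ihb ((c : MulAut P) z)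
      have e : (z : Ω)⁻¹ * ((((b * c : F.autGroup P) : MulAut P) z : P) : Ω) =
          ((z : Ω)⁻¹ * (((c : MulAut P) z : P) : Ω)) *
            ((((c : MulAut P) z : P) : Ω)⁻¹ * (((b : MulAut P) ((c : MulAut P) z) : P) : Ω)) := by
        rw [mul_assoc, mul_inv_cancel_left]
        rfl
      rw [e]
      exact Subgroup.mul_mem _ h1 h2
    | inv b _ ihb =>
      intro z
      have h1 := ihb ((b : MulAut P)⁻¹ z)
      rw [MulAut.apply_inv_self] at h1
      have e : (z : Ω)⁻¹ * ((((b⁻¹ : F.autGroup P) : MulAut P) z : P) : Ω) =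
          ((((b : MulAut P)⁻¹ z : P) : Ω)⁻¹ * (z : Ω))⁻¹ := by
        rw [mul_inv_rev, inv_inv]
        rfl
      rw [e]
      exact Subgroup.inv_mem _ h1
  exact key α hα x

/-- A normal subsystem of `p`-power index has the same hyperfocal subgroup. -/
theorem hyperfocal_eq_of_invariant_pPowerIndex [Finite S] (p : ℕ) [Fact p.Prime] (hS : IsPGroup p S)
    (F : FusionSystem S) (E : FusionSystem T) (hEsat : E.IsSaturated p) (hinv : E.IsInvariantIn F)
    (hidx : E.HasPPowerIndexIn F p) : E.hyperfocalSubgroup p = F.hyperfocalSubgroup p := by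
  have hTsc : F.StronglyClosed T := hinv.2.1
  have hTS : T ≤ S := hTsc.1
  haveI : Finite T := finite_of_le hTS
  have hTp : IsPGroup p T := hS.to_le hTS
  have heq := hyperfocal_eq_hypIn p E F hidx
  have hKE : E.StronglyClosed (hypIn F p T) := by
    rw [← heq]
    exact stronglyClosed_hyperfocalSubgroup p hTp E hEsat
  have hK : F.StronglyClosed (hypIn F p T) :=
    stronglyClosed_of_invariant hinv hKE (fun α hα t ht => hypIn_aut_mem F p hTS hα t ht t.2)
  rw [heq]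
  exact le_antisymm (hypIn_le_hyperfocal F p hTS) (hyperfocal_le_hypIn p hS F hTsc hidx.2.1 hK)

end Cfsg.Agent.Lib.Helper88
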