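import Cfsg.Agent.Lib.Helper88.FusionBasic

set_option autoImplicit false
open Cfsg

namespace Cfsg.Agent.Lib.Helper88

variable {Ω : Type*} [Group Ω] {S : Subgroup Ω}

/-- Restriction of a map of the system to a smaller subgroup. -/
theorem restrict_mem (F : FusionSystem S) {A B : Subgroup Ω} (hBA : B ≤ A) {ψ : A →* Ω} (hψ : ψ ∈ F.Hom A) :
    ψ.comp (Subgroup.inclusion hBA) ∈ F.Hom B := by
  have hBS : B ≤ S := hBA.trans (F.le_of_mem hψ).1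
  have h1 : conjHom B (1 : Ω) ∈ F.Hom B := F.conj_mem hBS S.one_mem
  have hval : ∀ x : B, conjHom B (1 : Ω) x ∈ A := by
    intro x
    show (1 : Ω) * x * (1 : Ω)⁻¹ ∈ A
    simpa using hBA x.2
  have := F.comp_mem h1 hψ hval
  convert this using 1
  ext x
  show ψ ⟨x, _⟩ = ψ ⟨(1 : Ω) * x * (1 : Ω)⁻¹, _⟩
  congr 1
  simp

theorem mem_preimageAlong {Ω' : Type*} [Group Ω'] (θ : S →* Ω') (P' : Subgroup Ω') (x : Ω) :
    x ∈ FusionSystem.preimageAlong θ P' ↔ ∃ hx : x ∈ S, θ ⟨x, hx⟩ ∈ P' := by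
  constructor
  · rintro ⟨y, hy, rfl⟩
    exact ⟨y.2, hy⟩
  · rintro ⟨hx, h⟩
    exact ⟨⟨x, hx⟩, h, rfl⟩

theorem preimageAlong_le {Ω' : Type*} [Group Ω'] (θ : S →* Ω') (P' : Subgroup Ω') :
    FusionSystem.preimageAlong θ P' ≤ S := by
  intro x hx
  exact ((mem_preimageAlong θ P' x).mp hx).1

/-- A map of the system whose source lies in a strongly closed subgroup and which is injective on a finite group
maps the strongly closed subgroup onto itself. -/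
theorem stronglyClosed_map_eq [Finite S] (F : FusionSystem S) {S₀ : Subgroup Ω} (hS₀ : F.StronglyClosed S₀)
    {A : Subgroup Ω} (hA : S₀ ≤ A) {φ : A →* Ω} (hφ : φ ∈ F.Hom A) :
    (S₀.subgroupOf A).map φ = S₀ := by
  have hle : (S₀.subgroupOf A).map φ ≤ S₀ := by
    rintro _ ⟨x, hx, rfl⟩
    have hx' : (x : Ω) ∈ S₀ := Subgroup.mem_subgroupOf.mp hx
    have := hS₀.2 S₀ le_rfl _ (restrict_mem F hA hφ) ⟨x, hx'⟩
    exact this
  have hfin : Finite S₀ := Finite.of_injective (Subgroup.inclusion hS₀.1) (Subgroup.inclusion_injective _)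
  have hcard : Nat.card ((S₀.subgroupOf A).map φ) = Nat.card S₀ := by
    have e1 : Nat.card ((S₀.subgroupOf A).map φ) = Nat.card (S₀.subgroupOf A) :=
      Subgroup.card_map_of_injective (F.injective_of_mem hφ)
    rw [e1]
    exact Nat.card_congr (Subgroup.subgroupOfEquivOfLe hA).toEquiv
  exact Subgroup.eq_of_le_of_card_ge hle hcard.ge


section factor

variable {Ω' : Type*} [Group Ω'] {S' : Subgroup Ω'}

theorem kernel_le_preimageAlong (θ : S →* Ω') {S₀ : Subgroup Ω} (hS₀S : S₀ ≤ S)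
    (hker : ∀ s : S, θ s = 1 ↔ (s : Ω) ∈ S₀) (P' : Subgroup Ω') :
    S₀ ≤ FusionSystem.preimageAlong θ P' := by
  intro x hx
  rw [mem_preimageAlong]
  refine ⟨hS₀S hx, ?_⟩
  rw [(hker ⟨x, hS₀S hx⟩).mpr hx]
  exact P'.one_mem

/-- Every element of `P' ≤ θ(S)` is the image of an element of the full preimage. -/
theorem exists_preimage (θ : S →* Ω') (hrange : θ.range = S') {P' : Subgroup Ω'} (hP' : P' ≤ S') (y : P') :
    ∃ (s : Ω) (hs : s ∈ S) (_ : s ∈ FusionSystem.preimageAlong θ P'), θ ⟨s, hs⟩ = (y : Ω') := by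
  have hy : (y : Ω') ∈ θ.range := hrange ▸ hP' y.2
  obtain ⟨s, hs⟩ := hy
  refine ⟨s, s.2, ?_, hs⟩
  rw [mem_preimageAlong]
  exact ⟨s.2, by rw [Subtype.coe_eta, hs]; exact y.2⟩

theorem induced_injective (F : FusionSystem S) {S₀ : Subgroup Ω} (hS₀ : F.StronglyClosed S₀) (θ : S →* Ω')
    (hker : ∀ s : S, θ s = 1 ↔ (s : Ω) ∈ S₀) (hrange : θ.range = S') {P' : Subgroup Ω'} (hP' : P' ≤ S')
    {φ' : P' →* Ω'} {φ : FusionSystem.preimageAlong θ P' →* Ω} (hφ : φ ∈ F.Hom (FusionSystem.preimageAlong θ P'))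
    (hind : FusionSystem.InducedAlong θ φ φ') : Function.Injective φ' := by
  obtain ⟨hP, hφS, hPP', hind⟩ := hind
  rw [injective_iff_map_eq_one]
  intro y hy1
  obtain ⟨s, hsS, hsP, hs⟩ := exists_preimage θ hrange hP' y
  have h := hind ⟨s, hsP⟩
  have e : (⟨θ ⟨((⟨s, hsP⟩ : FusionSystem.preimageAlong θ P') : Ω), hP hsP⟩, hPP' ⟨s, hsP⟩⟩ : P') = y :=
    Subtype.ext hs
  rw [e, hy1] at h
  have h1 : φ ⟨s, hsP⟩ ∈ S₀ := (hker ⟨φ ⟨s, hsP⟩, hφS _⟩).mp h.symm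
  obtain ⟨ψ, hψ, hinv⟩ := F.inv_mem hφ
  have hle : φ.range ⊓ S₀ ≤ φ.range := inf_le_left
  have hmem : φ ⟨s, hsP⟩ ∈ φ.range ⊓ S₀ := ⟨⟨_, rfl⟩, h1⟩
  have h2 : ψ ⟨φ ⟨s, hsP⟩, ⟨_, rfl⟩⟩ ∈ S₀ :=
    hS₀.2 (φ.range ⊓ S₀) inf_le_right _ (restrict_mem F hle hψ) ⟨_, hmem⟩
  rw [hinv] at h2
  have h3 : θ ⟨s, hsS⟩ = 1 := (hker ⟨s, hsS⟩).mpr h2
  apply Subtype.ext
  rw [← hs, h3]
  rfl

/-- The full preimage of the image of the induced map is the image of the inducing map. -/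
theorem preimageAlong_range [Finite S] (F : FusionSystem S) {S₀ : Subgroup Ω} (hS₀ : F.StronglyClosed S₀) (θ : S →* Ω')
    (hker : ∀ s : S, θ s = 1 ↔ (s : Ω) ∈ S₀) (hrange : θ.range = S') {P' : Subgroup Ω'} (hP' : P' ≤ S')
    {φ' : P' →* Ω'} {φ : FusionSystem.preimageAlong θ P' →* Ω} (hφ : φ ∈ F.Hom (FusionSystem.preimageAlong θ P'))
    (hind : FusionSystem.InducedAlong θ φ φ') : φ.range = FusionSystem.preimageAlong θ φ'.range := by
  obtain ⟨hP, hφS, hPP', hind⟩ := hind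
  have hS₀P : S₀ ≤ FusionSystem.preimageAlong θ P' := kernel_le_preimageAlong θ hS₀.1 hker P'
  ext z
  rw [mem_preimageAlong]
  constructor
  · rintro ⟨x, rfl⟩
    exact ⟨hφS x, ⟨_, hind x⟩⟩
  · rintro ⟨hzS, y, hy⟩
    obtain ⟨s, hsS, hsP, hs⟩ := exists_preimage θ hrange hP' y
    have h := hind ⟨s, hsP⟩
    have e : (⟨θ ⟨((⟨s, hsP⟩ : FusionSystem.preimageAlong θ P') : Ω), hP hsP⟩, hPP' ⟨s, hsP⟩⟩ : P') = y :=
      Subtype.ext hs
    rw [e, hy] at h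
    -- θ z = θ (φ s), so (φ s)⁻¹ z ∈ S₀
    have hk : (φ ⟨s, hsP⟩)⁻¹ * z ∈ S₀ := by
      have : θ (⟨φ ⟨s, hsP⟩, hφS _⟩⁻¹ * ⟨z, hzS⟩) = 1 := by
        rw [map_mul, map_inv, h, inv_mul_cancel]
      exact (hker _).mp this
    rw [← stronglyClosed_map_eq F hS₀ hS₀P hφ] at hk
    obtain ⟨k, -, hk⟩ := hk
    refine ⟨⟨s, hsP⟩ * k, ?_⟩
    rw [map_mul, hk]
    group

/-- The factor system of `F` modulo a strongly closed subgroup, read through `θ`. -/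
def factorSystem [Finite S] (F : FusionSystem S) (S₀ : Subgroup Ω) (hS₀ : F.StronglyClosed S₀) (θ : S →* Ω')
    (hker : ∀ s : S, θ s = 1 ↔ (s : Ω) ∈ S₀) (hrange : θ.range = S') : FusionSystem S' where
  Hom P' := {φ' | P' ≤ S' ∧ ∃ φ ∈ F.Hom (FusionSystem.preimageAlong θ P'), FusionSystem.InducedAlong θ φ φ'}
  le_of_mem := by
    rintro P' φ' ⟨hP', φ, hφ, hP, hφS, hPP', hind⟩
    refine ⟨hP', fun y => ?_⟩
    obtain ⟨s, hsS, hsP, hs⟩ := exists_preimage θ hrange hP' y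
    have h := hind ⟨s, hsP⟩
    have e : (⟨θ ⟨((⟨s, hsP⟩ : FusionSystem.preimageAlong θ P') : Ω), hP hsP⟩, hPP' ⟨s, hsP⟩⟩ : P') = y :=
      Subtype.ext hs
    rw [e] at h
    rw [h, ← hrange]
    exact ⟨_, rfl⟩
  injective_of_mem := by
    rintro P' φ' ⟨hP', φ, hφ, hind⟩
    exact induced_injective F hS₀ θ hker hrange hP' hφ hind
  conj_mem := by
    intro P' g' hP' hg'
    refine ⟨hP', ?_⟩
    have hg : g' ∈ θ.range := hrange ▸ hg'
    obtain ⟨g, rfl⟩ := hg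
    refine ⟨conjHom _ (g : Ω), F.conj_mem (preimageAlong_le θ P') g.2, preimageAlong_le θ P', ?_, ?_, ?_⟩
    · intro x
      exact S.mul_mem (S.mul_mem g.2 (preimageAlong_le θ P' x.2)) (S.inv_mem g.2)
    · intro x
      exact ((mem_preimageAlong θ P' x).mp x.2).2
    · intro x
      show θ g * θ ⟨x, _⟩ * (θ g)⁻¹ = θ ⟨(g : Ω) * x * (g : Ω)⁻¹, _⟩
      rw [← map_inv, ← map_mul, ← map_mul]
      rfl
  comp_mem := by
    rintro P' Q' φ' ψ' ⟨hP', φ, hφ, hP, hφS, hPP', hind⟩ ⟨hQ', ψ, hψ, hQ, hψS, hQQ', hind'⟩ h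
    refine ⟨hP', ?_⟩
    have hval : ∀ x : FusionSystem.preimageAlong θ P', φ x ∈ FusionSystem.preimageAlong θ Q' := by
      intro x
      rw [mem_preimageAlong]
      refine ⟨hφS x, ?_⟩
      rw [← hind x]
      exact h _
    refine ⟨_, F.comp_mem hφ hψ hval, hP, fun x => hψS _, hPP', fun x => ?_⟩
    show ψ' ⟨φ' ⟨θ ⟨x, _⟩, _⟩, _⟩ = θ ⟨ψ ⟨φ x, _⟩, _⟩
    have := hind' ⟨φ x, hval x⟩
    rw [← this]
    congr 1
    exact Subtype.ext (hind x)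
  inv_mem := by
    rintro P' φ' ⟨hP', φ, hφ, hind⟩
    have hinj' : Function.Injective φ' := induced_injective F hS₀ θ hker hrange hP' hφ hind
    have hrg := preimageAlong_range F hS₀ θ hker hrange hP' hφ hind
    obtain ⟨hP, hφS, hPP', hind⟩ := hind
    obtain ⟨ψ, hψ, hinv⟩ := F.inv_mem hφ
    obtain ⟨ψ₀, hψ₀, hext⟩ := hom_cast F hrg ψ hψ
    have hrS' : φ'.range ≤ S' := by
      rintro _ ⟨y, rfl⟩
      obtain ⟨s, hsS, hsP, hs⟩ := exists_preimage θ hrange hP' y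
      have h := hind ⟨s, hsP⟩
      have e : (⟨θ ⟨((⟨s, hsP⟩ : FusionSystem.preimageAlong θ P') : Ω), hP hsP⟩, hPP' ⟨s, hsP⟩⟩ : P') = y :=
        Subtype.ext hs
      rw [e] at h
      rw [h, ← hrange]
      exact ⟨_, rfl⟩
    let ψ' : φ'.range →* Ω' := P'.subtype.comp (MonoidHom.ofInjective hinj').symm.toMonoidHom
    have hψ'inv : ∀ x : P', ψ' ⟨φ' x, ⟨x, rfl⟩⟩ = (x : Ω') := by
      intro x
      show ((MonoidHom.ofInjective hinj').symm ⟨φ' x, ⟨x, rfl⟩⟩ : Ω') = x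
      have : (⟨φ' x, ⟨x, rfl⟩⟩ : φ'.range) = MonoidHom.ofInjective hinj' x := rfl
      rw [this, MulEquiv.symm_apply_apply]
    refine ⟨ψ', ⟨hrS', ψ₀, hψ₀, preimageAlong_le θ _, ?_, ?_, ?_⟩, hψ'inv⟩
    · intro z
      have hz : (z : Ω) ∈ φ.range := by rw [hrg]; exact z.2
      obtain ⟨x, hx⟩ := hz
      rw [hext z ⟨x, hx⟩]
      have : (⟨(z : Ω), ⟨x, hx⟩⟩ : φ.range) = ⟨φ x, ⟨x, rfl⟩⟩ := Subtype.ext hx.symm
      rw [this, hinv]
      exact hP x.2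
    · intro z
      exact ((mem_preimageAlong θ _ z).mp z.2).2
    · intro z
      have hz : (z : Ω) ∈ φ.range := by rw [hrg]; exact z.2
      obtain ⟨x, hx⟩ := hz
      have e1 : ψ₀ z = (x : Ω) := by
        rw [hext z ⟨x, hx⟩]
        have : (⟨(z : Ω), ⟨x, hx⟩⟩ : φ.range) = ⟨φ x, ⟨x, rfl⟩⟩ := Subtype.ext hx.symm
        rw [this, hinv]
      have e2 : θ ⟨(z : Ω), preimageAlong_le θ _ z.2⟩ = φ' ⟨θ ⟨x, hP x.2⟩, hPP' x⟩ := by
        rw [hind x]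
        congr 1
        exact Subtype.ext hx.symm
      have e3 : (⟨θ ⟨(z : Ω), preimageAlong_le θ _ z.2⟩, ((mem_preimageAlong θ _ z).mp z.2).2⟩ : φ'.range)
          = ⟨φ' ⟨θ ⟨x, hP x.2⟩, hPP' x⟩, ⟨_, rfl⟩⟩ := Subtype.ext e2
      rw [e3, hψ'inv]
      show θ ⟨(x : Ω), hP x.2⟩ = θ ⟨ψ₀ z, _⟩
      congr 1
      exact Subtype.ext e1.symm

theorem isFactorSystem_factorSystem [Finite S] (F : FusionSystem S) (S₀ : Subgroup Ω) (hS₀ : F.StronglyClosed S₀)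
    (θ : S →* Ω') (hker : ∀ s : S, θ s = 1 ↔ (s : Ω) ∈ S₀) (hrange : θ.range = S') :
    F.IsFactorSystem S₀ θ (factorSystem F S₀ hS₀ θ hker hrange) :=
  ⟨hS₀.1, hker, hrange, fun _ _ => Iff.rfl⟩

end factor

end Cfsg.Agent.Lib.Helper88
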