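import Mathlib
import Cfsg.Prelude.Def_OddOrderLocal
import Cfsg.Agent.Lib.Helper55.Uniq2
import Cfsg.Agent.Lib.Helper71.BG11c
import Cfsg.Agent.S1360

/-!
# K-1381-E2 (keystone 138106, architect helper71, S1381): `isOfTypeF_derived`

`M' = M_σ ⋊ U` is of Frobenius type (subtype bookkeeping + S1360 for `U₀`).
-/

set_option autoImplicit false
set_option linter.unusedSectionVars false
set_option linter.unusedVariables false

namespace Cfsg.Agent.Lib.Helper88.BG1381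

open Cfsg Subgroup

variable {G : Type*} [Group G] [Finite G]

/-- KEYSTONE 138106  K-1381-E2. -/
theorem isOfTypeF_derived (hG : IsMinSimpleOddOrder G) {M K U : Subgroup G} (hM : IsCoatom M)
    (hKU : IsSigmaDecomposition M K U) (hU1 : U ≠ ⊥) (hUc : IsMulCommutative U)
    (hd : ⁅M, M⁆ = U ⊔ sigmaCore M) (hF' : fittingHallOf ⁅M, M⁆ = sigmaCore M)
    (hfc : IsComplIn (sigmaCore M) U ⁅M, M⁆) :
    IsOfTypeF ↥⁅M, M⁆ := by
  classical
  set D : Subgroup G := ⁅M, M⁆ with hD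
  have hUM : U ≤ M := hKU.compl.1
  have hσM : sigmaCore M ≤ M := Cfsg.Agent.Lib.Helper71.BG11.sigmaCore_le M
  have hDM : D ≤ M := by rw [hd]; exact sup_le hUM hσM
  have hσD : sigmaCore M ≤ D := hfc.1
  have hUD : U ≤ D := hfc.2.1
  have hσU : sigmaCore M ⊓ U = ⊥ := hfc.2.2.1
  have hprod : ∀ m ∈ D, ∃ a ∈ sigmaCore M, ∃ b ∈ U, m = a * b := hfc.2.2.2
  -- membership in the Fitting-Hall subgroup of `↥D`
  have hFmem : ∀ x : ↥D, x ∈ fittingHall ↥D ↔ (x : G) ∈ sigmaCore M := by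
    intro x
    rw [← hF']
    unfold fittingHallOf
    exact (Subgroup.mem_map_iff_mem D.subtype_injective (K := fittingHall ↥D) (x := x)).symm
  have hM1 : M ≠ ⊥ := by
    intro h
    apply hU1
    rw [h] at hUM
    exact le_bot_iff.mp hUM
  have hσ1 : sigmaCore M ≠ ⊥ := Cfsg.Agent.Lib.Helper71.BG11.sigmaCore_ne_bot hG hM hM1
  obtain ⟨u0, hu0, hu01⟩ : ∃ u ∈ U, u ≠ 1 := by
    by_contra h
    apply hU1
    rw [Subgroup.eq_bot_iff_forall]
    intro x hx
    by_contra hx1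
    exact h ⟨x, hx, hx1⟩
  refine ⟨?_, ?_, ?_, ?_, U.subgroupOf D, ?_, ?_, ?_, ?_⟩
  · -- solvable
    haveI : Group.IsSolvable ↥M := Cfsg.Agent.Lib.Helper55.ms_solvable hG hM.1
    exact Group.isSolvable_of_isSolvable_injective (Subgroup.inclusion_injective hDM)
  · exact Cfsg.Agent.Lib.Helper55.ms_odd hG D
  · -- `≠ ⊥`
    intro h
    apply hσ1
    rw [Subgroup.eq_bot_iff_forall]
    intro x hx
    have : (⟨x, hσD hx⟩ : ↥D) ∈ fittingHall ↥D := (hFmem _).2 hx
    rw [h, Subgroup.mem_bot] at this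
    exact congrArg Subtype.val this
  · -- `≠ ⊤`
    intro h
    apply hu01
    have h1 : (⟨u0, hUD hu0⟩ : ↥D) ∈ fittingHall ↥D := by rw [h]; exact Subgroup.mem_top _
    have h2 : u0 ∈ sigmaCore M := (hFmem _).1 h1
    have h3 : u0 ∈ sigmaCore M ⊓ U := ⟨h2, hu0⟩
    rw [hσU] at h3
    exact Subgroup.mem_bot.mp h3
  · -- `U' ≠ ⊥`
    intro h
    apply hu01
    have h1 : (⟨u0, hUD hu0⟩ : ↥D) ∈ U.subgroupOf D := by
      rw [Subgroup.mem_subgroupOf]; exact hu0
    rw [h, Subgroup.mem_bot] at h1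
    exact congrArg Subtype.val h1
  · -- complement
    apply Subgroup.isComplement'_of_disjoint_and_mul_eq_univ
    · rw [disjoint_iff, Subgroup.eq_bot_iff_forall]
      intro x hx
      have h1 : (x : G) ∈ sigmaCore M := (hFmem x).1 hx.1
      have h2 : (x : G) ∈ U := Subgroup.mem_subgroupOf.mp hx.2
      have h3 : (x : G) ∈ sigmaCore M ⊓ U := ⟨h1, h2⟩
      rw [hσU, Subgroup.mem_bot] at h3
      exact Subtype.ext h3
    · rw [Set.eq_univ_iff_forall]
      intro x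
      obtain ⟨a, ha, b, hb, hab⟩ := hprod (x : G) x.2
      refine ⟨⟨a, hσD ha⟩, (hFmem _).2 ha, ⟨b, hUD hb⟩, Subgroup.mem_subgroupOf.mpr hb, ?_⟩
      exact Subtype.ext hab.symm
  · -- `U₁ := U'`
    refine ⟨U.subgroupOf D, le_rfl, Subgroup.le_normalizer, ?_, fun x _ _ => inf_le_left⟩
    refine ⟨⟨fun a b => ?_⟩⟩
    have := hUc.is_comm.comm ⟨(a : ↥D), Subgroup.mem_subgroupOf.mp a.2⟩
      ⟨(b : ↥D), Subgroup.mem_subgroupOf.mp b.2⟩
    apply Subtype.ext
    apply Subtype.ext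
    show ((a : ↥D) : G) * ((b : ↥D) : G) = ((b : ↥D) : G) * ((a : ↥D) : G)
    exact congrArg Subtype.val this
  · -- `U₀`
    obtain ⟨U₀, hU₀U, hexp, hU₀⟩ := Cfsg.Agent.S1360.result hG M hM K U hKU
    have hU₀D : U₀ ≤ D := hU₀U.trans hUD
    refine ⟨U₀.subgroupOf D, ?_, ?_, ?_⟩
    · intro x hx
      rw [Subgroup.mem_subgroupOf] at hx ⊢
      exact hU₀U hx
    · rw [Monoid.exponent_eq_of_mulEquiv (Subgroup.subgroupOfEquivOfLe hU₀D),
        Monoid.exponent_eq_of_mulEquiv (Subgroup.subgroupOfEquivOfLe hUD), hexp]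
    · intro u hu hu1 x hx hcomm
      by_contra hx1
      apply hu1
      have hxσ : (x : G) ∈ sigmaCore M := (hFmem x).1 hx
      have huU₀ : (u : G) ∈ U₀ := Subgroup.mem_subgroupOf.mp hu
      have hsig : (u : G) ∈ sigmaHat M := by
        refine ⟨hDM u.2, (x : G), hxσ, ?_, ?_⟩
        · intro h; exact hx1 (Subtype.ext h)
        · exact congrArg Subtype.val hcomm
      exact Subtype.ext (hU₀ (u : G) huU₀ hsig)

end Cfsg.Agent.Lib.Helper88.BG1381
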