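import Mathlib
import Cfsg.Agent.Lib.Helper03.FrobSub

/-!
# Keystone 137809 K-S1378-L11b: the Frobenius–Wielandt fixed point formula forces `|E₁|` prime
-/

set_option autoImplicit false

namespace Cfsg.Agent.Lib.Helper88.BG139

variable {G : Type*} [Group G] [Finite G]

/-- Elements of a subgroup `K ≤ N_G(T)` conjugate `T` into itself. -/
theorem conj_mem_of_le_normalizer {K T : Subgroup G} (hK : K ≤ Subgroup.normalizer (T : Set G)) :
    ∀ x ∈ K, ∀ h ∈ T, x * h * x⁻¹ ∈ T := by
  intro x hx h hh
  have := hK hx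
  rw [Subgroup.mem_normalizer_iff] at this
  exact (this h).mp hh

/-- The centralizer of a cyclic subgroup is the centralizer of its generator. -/
theorem centralizer_zpowers_eq (g : G) :
    Subgroup.centralizer ((Subgroup.zpowers g : Subgroup G) : Set G) = Subgroup.centralizer ({g} : Set G) := by
  apply le_antisymm
  · apply Subgroup.centralizer_le
    intro x hx
    rw [Set.mem_singleton_iff] at hx
    subst hx
    exact Subgroup.mem_zpowers x
  · intro x hx
    rw [Subgroup.mem_centralizer_iff] at hx ⊢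
    intro y hy
    obtain ⟨k, rfl⟩ := Subgroup.mem_zpowers_iff.mp hy
    have h1 : Commute g x := hx g (Set.mem_singleton g)
    exact (h1.zpow_left k).eq

/-- KEYSTONE 137809 K-S1378-L11b. -/
theorem card_prime_of_wielandt {S E₁ T : Subgroup G} {t : ℕ} (ht : t.Prime) (hT : IsPGroup t T)
    (hE₁1 : E₁ ≠ ⊥) (hSnil : Group.IsNilpotent S)
    (hE₁S : E₁ ≤ Subgroup.normalizer (S : Set G))
    (hfpf : ∀ e ∈ E₁, e ≠ 1 → ∀ u ∈ S, e * u = u * e → u = 1)
    (hST : S ≤ Subgroup.normalizer (T : Set G)) (hE₁T : E₁ ≤ Subgroup.normalizer (T : Set G))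
    (hcop : ¬ t ∣ Nat.card ↥(S ⊔ E₁))
    (hprime : ∀ e ∈ E₁, e ≠ 1 →
      T ⊓ Subgroup.centralizer ({e} : Set G) ≤ Subgroup.centralizer (E₁ : Set G))
    (hnc : ¬ T ≤ Subgroup.centralizer (S : Set G)) : (Nat.card E₁).Prime := by
  classical
  haveI : Fact t.Prime := ⟨ht⟩
  have hcard1 : Nat.card E₁ ≠ 1 := fun h => hE₁1 (Subgroup.card_eq_one.mp h)
  obtain ⟨r, hr, hrdvd⟩ := Nat.exists_prime_and_dvd hcard1
  haveI : Fact r.Prime := ⟨hr⟩
  obtain ⟨g', hg'⟩ := exists_prime_orderOf_dvd_card' r hrdvd
  set g : G := (g' : G) with hg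
  have hgE : g ∈ E₁ := g'.2
  have hgord : orderOf g = r := by rw [hg, Subgroup.orderOf_coe, hg']
  have hg1 : g ≠ 1 := by
    intro h
    rw [h, orderOf_one] at hgord
    exact hr.one_lt.ne hgord
  set P : Subgroup G := Subgroup.zpowers g with hP
  have hPE : P ≤ E₁ := by
    rw [hP, Subgroup.zpowers_le]; exact hgE
  have hPcard : Nat.card P = r := by rw [hP, Nat.card_zpowers, hgord]
  -- solvability of `T`
  have hTsolv : Group.IsSolvable T := by
    haveI : Group.IsNilpotent T := hT.isNilpotent
    infer_instance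
  -- coprimality
  obtain ⟨k, hk⟩ := hT.exists_card_eq
  have hcop₂ : Nat.Coprime (Nat.card T) (Nat.card ↥(S ⊔ E₁)) := by
    rw [hk]
    exact Nat.Coprime.pow_left _ ((Nat.Prime.coprime_iff_not_dvd ht).mpr hcop)
  have hle : S ⊔ P ≤ S ⊔ E₁ := sup_le_sup_left hPE S
  have hcop₁ : Nat.Coprime (Nat.card T) (Nat.card ↥(S ⊔ P)) :=
    Nat.Coprime.coprime_dvd_right (Subgroup.card_dvd_of_le hle) hcop₂
  -- the two Frobenius–Wielandt identities
  have hSE₁T : S ⊔ E₁ ≤ Subgroup.normalizer (T : Set G) := sup_le hST hE₁T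
  have W₂ := Cfsg.Agent.Lib.Helper03.FrobSub.wielandt_sub S E₁ T
    (conj_mem_of_le_normalizer hE₁S) hfpf hSnil (conj_mem_of_le_normalizer hSE₁T) hTsolv hcop₂
  have W₁ := Cfsg.Agent.Lib.Helper03.FrobSub.wielandt_sub S P T
    (conj_mem_of_le_normalizer (hPE.trans hE₁S)) (fun e he => hfpf e (hPE he)) hSnil
    (conj_mem_of_le_normalizer (hle.trans hSE₁T)) hTsolv hcop₁
  -- identify the centralizers
  have hCP : T ⊓ Subgroup.centralizer (P : Set G) = T ⊓ Subgroup.centralizer (E₁ : Set G) := by
    apply le_antisymm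
    · apply le_inf inf_le_left
      rw [hP, centralizer_zpowers_eq]
      exact hprime g hgE hg1
    · exact inf_le_inf_left T (Subgroup.centralizer_le hPE)
  have hsup : ∀ A B : Subgroup G, Subgroup.centralizer ((A ⊔ B : Subgroup G) : Set G) =
      Subgroup.centralizer (A : Set G) ⊓ Subgroup.centralizer (B : Set G) := by
    intro A B
    apply le_antisymm
    · exact le_inf (Subgroup.centralizer_le (SetLike.coe_subset_coe.mpr le_sup_left))
        (Subgroup.centralizer_le (SetLike.coe_subset_coe.mpr le_sup_right))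
    · intro x hx
      rw [Subgroup.mem_inf] at hx
      have hA : A ≤ Subgroup.centralizer ({x} : Set G) := by
        intro a ha
        rw [Subgroup.mem_centralizer_iff]
        intro y hy
        rw [Set.mem_singleton_iff] at hy
        subst hy
        exact ((Subgroup.mem_centralizer_iff.mp hx.1) a ha).symm
      have hB : B ≤ Subgroup.centralizer ({x} : Set G) := by
        intro a ha
        rw [Subgroup.mem_centralizer_iff]
        intro y hy
        rw [Set.mem_singleton_iff] at hy
        subst hy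
        exact ((Subgroup.mem_centralizer_iff.mp hx.2) a ha).symm
      rw [Subgroup.mem_centralizer_iff]
      intro y hy
      have := (sup_le hA hB) hy
      rw [Subgroup.mem_centralizer_iff] at this
      exact (this x (Set.mem_singleton x)).symm
  have hCSP : T ⊓ Subgroup.centralizer ((S ⊔ P : Subgroup G) : Set G) =
      T ⊓ Subgroup.centralizer ((S ⊔ E₁ : Subgroup G) : Set G) := by
    rw [hsup S P, hsup S E₁]
    calc T ⊓ (Subgroup.centralizer (S : Set G) ⊓ Subgroup.centralizer (P : Set G))
        = Subgroup.centralizer (S : Set G) ⊓ (T ⊓ Subgroup.centralizer (P : Set G)) := by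
          rw [inf_left_comm]
      _ = Subgroup.centralizer (S : Set G) ⊓ (T ⊓ Subgroup.centralizer (E₁ : Set G)) := by rw [hCP]
      _ = T ⊓ (Subgroup.centralizer (S : Set G) ⊓ Subgroup.centralizer (E₁ : Set G)) := by
          rw [inf_left_comm]
  rw [hCSP, hCP, hPcard] at W₁
  -- notation
  set c := Nat.card ↥(T ⊓ Subgroup.centralizer ((S ⊔ E₁ : Subgroup G) : Set G)) with hc
  set a := Nat.card ↥(T ⊓ Subgroup.centralizer (E₁ : Set G)) with ha
  set s := Nat.card ↥(T ⊓ Subgroup.centralizer (S : Set G)) with hs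
  set e := Nat.card E₁ with he
  set n := Nat.card T with hn
  have hcpos : 0 < c := Nat.card_pos
  have hspos : 0 < s := Nat.card_pos
  have hca : c ∣ a := by
    rw [hc, ha]
    apply Subgroup.card_dvd_of_le
    exact inf_le_inf_left T (Subgroup.centralizer_le (SetLike.coe_subset_coe.mpr le_sup_right))
  obtain ⟨m, hm⟩ := hca
  -- `n = m ^ r * s` and `n = m ^ e * s`
  have h1 : n = m ^ r * s := by
    have : c ^ r * n = c ^ r * (m ^ r * s) := by
      rw [W₁, hm, mul_pow, mul_assoc]
    exact Nat.eq_of_mul_eq_mul_left (pow_pos hcpos r) this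
  have h2 : n = m ^ e * s := by
    have : c ^ e * n = c ^ e * (m ^ e * s) := by
      rw [W₂, hm, mul_pow, mul_assoc]
    exact Nat.eq_of_mul_eq_mul_left (pow_pos hcpos e) this
  -- `s < n`
  have hlt : s < n := by
    by_contra hcon
    have hge : Nat.card T ≤ Nat.card ↥(T ⊓ Subgroup.centralizer (S : Set G)) := by
      rw [← hs, ← hn]; omega
    have h := Subgroup.eq_of_le_of_card_ge (inf_le_left : T ⊓ Subgroup.centralizer (S : Set G) ≤ T) hge
    apply hnc
    rw [← h]
    exact inf_le_right
  -- `m ≥ 2`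
  have hm2 : 2 ≤ m := by
    by_contra hcon
    have hm1 : m ≤ 1 := by omega
    have : m ^ r ≤ 1 := by
      calc m ^ r ≤ 1 ^ r := Nat.pow_le_pow_left hm1 r
        _ = 1 := one_pow r
    have : n ≤ s := by
      rw [h1]
      calc m ^ r * s ≤ 1 * s := Nat.mul_le_mul_right s this
        _ = s := one_mul s
    omega
  have hpow : m ^ r = m ^ e := by
    have : m ^ r * s = m ^ e * s := by rw [← h1, ← h2]
    exact Nat.eq_of_mul_eq_mul_right hspos this
  have hre : r = e := Nat.pow_right_injective hm2 hpow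
  rw [← hre]
  exact hr

end Cfsg.Agent.Lib.Helper88.BG139
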