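import Mathlib
import Cfsg.Agent.Lib.Helper16.BG1363Defs
import Cfsg.Agent.Lib.Helper55.Basic
import Cfsg.Agent.Lib.Helper55.Uniq2
import Cfsg.Agent.Lib.Helper71.BG11a
import Cfsg.Agent.Lib.Helper12.CNMaxSub
import Cfsg.Agent.Lib.Helper13.BG12B
import Cfsg.Agent.Lib.Helper16.BG134Base
import Cfsg.Agent.S1378
import Cfsg.Agent.S1404
import Cfsg.Agent.S1418

/-!
# K-1435-P6σ (keystone 143509, architect helper31, S1435): `normalizer_le_star`

For an elementary abelian `r`-subgroup `B` of order `r²` normalized by `K`, with `r ∈ σ(M*)`: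
`N_G(B) ≤ M*`.
-/

set_option autoImplicit false
set_option linter.unusedSectionVars false
set_option linter.unusedVariables false

namespace Cfsg.Agent.Lib.Helper88.BG1435

open Cfsg Subgroup Cfsg.Agent.Lib.Helper55 Cfsg.Agent.Lib.Helper11.BG14D Cfsg.Agent.Lib.Helper16.BG1363

variable {G : Type*} [Group G] [Finite G]

/-- KEYSTONE 143509  K-1435-P6σ. -/
theorem normalizer_le_star (hG : IsMinSimpleOddOrder G) {M K Ms B : Subgroup G} (pf : PF M K Ms)
    (hp : (Nat.card K).Prime) {r : ℕ} (hr : r.Prime) (hrs : r ∈ sigma Ms)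
    (hBc : IsMulCommutative B) (hBcard : Nat.card B = r ^ 2) (hBexp : ∀ b ∈ B, b ^ r = 1)
    (hKB : K ≤ normalizer (B : Set G)) : normalizer (B : Set G) ≤ Ms := by
  haveI : Fact r.Prime := ⟨hr⟩
  have hfact : Fact (Nat.card K).Prime := ⟨hp⟩
  have hBp : IsPGroup r B := IsPGroup.of_card hBcard
  have hr2 : 2 ≤ r := hr.two_le
  have hB1 : B ≠ ⊥ := by
    intro h
    rw [h, Subgroup.card_bot] at hBcard
    have : 1 < r ^ 2 := Nat.one_lt_pow (by norm_num) hr.one_lt
    omega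
  have hBtop : B ≠ ⊤ := ms_pgroup_ne_top hG hBp
  obtain ⟨L, hL, hNL⟩ :=
    Cfsg.Agent.Lib.Helper12.CNMaxSub.exists_coatom_normalizer_le hG hB1 hBtop
  have hBL : B ≤ L := Subgroup.le_normalizer.trans hNL
  -- `r ∈ σ(L)`
  have hrL : r ∈ sigma L := by
    by_contra hrL
    have h2 : PRankLE r 2 ↥L := by
      by_contra h
      exact hrL (Cfsg.Agent.Lib.Helper13.BG12.mem_sigma_of_not_pRankLE_two hG hL hr h)
    have h1 : ¬ PRankLE r 1 ↥L := by
      intro h
      have hc : IsMulCommutative (B.subgroupOf L) :=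
        ⟨⟨fun a b => by
          have := hBc.is_comm.comm ⟨(a : L), a.2⟩ ⟨(b : L), b.2⟩
          apply Subtype.ext
          apply Subtype.ext
          show ((a : L) : G) * ((b : L) : G) = ((b : L) : G) * ((a : L) : G)
          exact congrArg Subtype.val this⟩⟩
      have he : ∀ a ∈ B.subgroupOf L, a ^ r = 1 := by
        intro a ha
        apply Subtype.ext
        have := hBexp (a : G) ha
        simpa using this
      have hle := h (B.subgroupOf L) hc he
      rw [Nat.card_congr (Subgroup.subgroupOfEquivOfLe hBL).toEquiv, hBcard, pow_one] at hle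
      have : r < r ^ 2 := by nlinarith
      omega
    have hτ : r ∈ tau2 L := ⟨hr, hrL, h2, h1⟩
    have hHall : IsPiHallOf (sigma L) (sigmaCore L) L :=
      Cfsg.Agent.Lib.Helper16.BG134.hall_sigma hG hL
    obtain ⟨E, hE, hBE⟩ := Cfsg.Agent.Lib.Helper13.BG12.exists_complIn_ge hG hL hHall hBL
      (fun q hq hqd => by
        rw [hBcard] at hqd
        have := (Nat.prime_dvd_prime_iff_eq hq hr).mp (hq.dvd_of_dvd_pow hqd)
        rw [this]; exact hrL)
    have h18 := (Cfsg.Agent.S1418.result hG L hL E hE r hτ B ⟨hBE, ⟨hBc, hBexp⟩, hBcard⟩).2.1.2.2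
    exact h18 hNL
  -- `L = cj g M*`
  obtain ⟨g, hg⟩ := (Cfsg.Agent.S1378.result hG).2 Ms L pf.hMs hL ⟨r, hrs, hrL⟩
  have hKL : K ≤ L := hKB.trans hNL
  have hK1 : K ≠ ⊥ := by
    intro h
    rw [h, Subgroup.card_bot] at hp
    exact Nat.not_prime_one hp
  have hpMs : Nat.card K ∈ sigma Ms :=
    Cfsg.Agent.Lib.Helper71.BG11.sigmaCore_pi hG pf.hMs hp (Subgroup.card_dvd_of_le pf.hKMs)
  have hKMs : K ≤ Ms := pf.hKMs.trans (Cfsg.Agent.Lib.Helper71.BG11.sigmaCore_le Ms)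
  have hKp : IsPGroup (Nat.card K) K := IsPGroup.of_card (n := 1) (by rw [pow_one])
  have hconj : K.map (MulAut.conj g⁻¹).toMonoidHom ≤ Ms := by
    rintro _ ⟨k, hk, rfl⟩
    have hkL := hKL hk
    rw [hg] at hkL
    obtain ⟨m, hm, hmk⟩ := hkL
    have h1 : (MulAut.conj g⁻¹).toMonoidHom k = m := by
      rw [← hmk]
      simp [MulAut.conj_apply, mul_assoc]
    rw [h1]
    exact hm
  obtain ⟨m, hm, c', hc', hgmc⟩ :=
    (Cfsg.Agent.S1404.result hG Ms pf.hMs (Nat.card K) hpMs K hKp hK1 hKMs).1 g⁻¹ hconj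
  have hc'Ms : c' ∈ Ms := pf.hCK hc'
  have hgMs : g ∈ Ms := by
    have h1 : g⁻¹ ∈ Ms := by rw [hgmc]; exact Ms.mul_mem hm hc'Ms
    have h2 := Ms.inv_mem h1
    rwa [inv_inv] at h2
  have hLMs : L = Ms := by
    rw [hg]
    ext x
    constructor
    · rintro ⟨y, hy, rfl⟩
      show g * y * g⁻¹ ∈ Ms
      exact Ms.mul_mem (Ms.mul_mem hgMs hy) (Ms.inv_mem hgMs)
    · intro hx
      refine ⟨g⁻¹ * x * g, Ms.mul_mem (Ms.mul_mem (Ms.inv_mem hgMs) hx) hgMs, ?_⟩
      show g * (g⁻¹ * x * g) * g⁻¹ = x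
      group
  rw [← hLMs]
  exact hNL

end Cfsg.Agent.Lib.Helper88.BG1435
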