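import Mathlib
import Cfsg.Agent.S1404
import Cfsg.Agent.Lib.Helper11.BG144Defs
import Cfsg.Agent.Lib.Helper71.BG11a

/-!
# K-144-A (137402, helper88): `HQ G → HA G`

`C_G(x)` is transitive on the conjugates of `M` through `x ∈ M_σ - 1` (BG Theorem 14.4, first part).
-/

set_option autoImplicit false

namespace Cfsg.Agent.Lib.Helper88.BG144

open Cfsg Subgroup Cfsg.Agent.Lib.Helper11.BG144

variable {G : Type*} [Group G] [Finite G]

theorem mem_cj_iff {g y : G} {M : Subgroup G} : y ∈ cj g M ↔ g⁻¹ * y * g ∈ M := by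
  constructor
  · rintro ⟨m, hm, rfl⟩
    have : g⁻¹ * ((MulAut.conj g).toMonoidHom m) * g = m := by
      simp [MulAut.conj_apply, mul_assoc]
    rw [this]
    exact hm
  · intro h
    refine ⟨g⁻¹ * y * g, h, ?_⟩
    simp [MulAut.conj_apply, mul_assoc]

theorem cj_mul (a b : G) (M : Subgroup G) : cj (a * b) M = cj a (cj b M) := by
  ext y
  rw [mem_cj_iff, mem_cj_iff, mem_cj_iff]
  have : (a * b)⁻¹ * y * (a * b) = b⁻¹ * (a⁻¹ * y * a) * b := by
    simp [mul_assoc]
  rw [this]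

theorem cj_of_mem {m : G} {M : Subgroup G} (hm : m ∈ M) : cj m M = M := by
  ext y
  rw [mem_cj_iff]
  constructor
  · intro h
    have := M.mul_mem (M.mul_mem hm h) (M.inv_mem hm)
    simpa [mul_assoc] using this
  · intro h
    exact M.mul_mem (M.mul_mem (M.inv_mem hm) h) hm

/-- K-144-A (137402).  Transitivity of `C_G(x)` on the conjugates of `M` through `x`. -/
theorem exists_cent_conj (hG : IsMinSimpleOddOrder G) (hQ : HQ G) : HA G := by
  intro M hM x hx hx1 g hxg
  -- a prime divisor of the order of `x`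
  have hox : orderOf x ≠ 1 := fun h => hx1 (orderOf_eq_one_iff.mp h)
  obtain ⟨p, hp, hpd⟩ := Nat.exists_prime_and_dvd hox
  haveI : Fact p.Prime := ⟨hp⟩
  have hox0 : 0 < orderOf x := orderOf_pos x
  -- the subgroup of order `p` of `⟨x⟩`
  set z : G := x ^ (orderOf x / p) with hz
  have hzord : orderOf z = p := by
    rw [hz, orderOf_pow_orderOf_div hox0.ne' hpd]
  set X : Subgroup G := zpowers z with hX
  have hXcard : Nat.card X = p := by rw [hX, Nat.card_zpowers, hzord]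
  have hXp : IsPGroup p X := IsPGroup.of_card (n := 1) (by rw [hXcard, pow_one])
  have hX1 : X ≠ ⊥ := by
    intro h
    rw [h, Subgroup.card_bot] at hXcard
    exact hp.one_lt.ne hXcard
  have hxM : x ∈ M := Cfsg.Agent.Lib.Helper71.BG11.sigmaCore_le M hx
  have hXx : X ≤ zpowers x := by
    rw [hX, zpowers_le]
    exact Subgroup.pow_mem _ (mem_zpowers x) _
  have hXσ : X ≤ sigmaCore M := hXx.trans (by rw [zpowers_le]; exact hx)
  have hXM : X ≤ M := hXσ.trans (Cfsg.Agent.Lib.Helper71.BG11.sigmaCore_le M)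
  have hpσ : p ∈ sigma M := by
    apply Cfsg.Agent.Lib.Helper71.BG11.sigmaCore_pi hG hM hp
    rw [← hXcard]
    exact Subgroup.card_dvd_of_le hXσ
  -- `x` centralizes `X`
  have hxC : x ∈ centralizer (X : Set G) := by
    rw [mem_centralizer_iff]
    intro y hy
    obtain ⟨k, rfl⟩ := mem_zpowers_iff.mp (hXx hy)
    exact (Commute.zpow_left (Commute.refl x) k).eq
  -- `g⁻¹ X g ≤ M`
  have hXg : X.map (MulAut.conj g⁻¹).toMonoidHom ≤ M := by
    rintro _ ⟨y, hy, rfl⟩
    have hyg : y ∈ cj g M := by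
      have : zpowers x ≤ cj g M := by rw [zpowers_le]; exact hxg
      exact this (hXx hy)
    have := mem_cj_iff.mp hyg
    simpa [MulAut.conj_apply] using this
  obtain ⟨m, hm, c, hc, hgmc⟩ := (Cfsg.Agent.S1404.result hG M hM p hpσ X hXp hX1 hXM).1 g⁻¹ hXg
  -- `g = c⁻¹ m⁻¹`
  have hg : g = c⁻¹ * m⁻¹ := by
    have := congrArg (fun t => t⁻¹) hgmc
    simpa using this
  have hcj : cj g M = cj c⁻¹ M := by
    rw [hg, cj_mul, cj_of_mem (M.inv_mem hm)]
  by_cases hCM : centralizer (X : Set G) ≤ M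
  · refine ⟨1, Subgroup.one_mem _, ?_⟩
    rw [hcj, cj_of_mem (M.inv_mem (hCM hc)), cj_of_mem (M.one_mem)]
  · -- a maximal subgroup over `N_G(X)`
    have hsimple : IsSimpleGroup G := hG.2.1
    have hXtop : X ≠ ⊤ := by
      intro h
      apply hCM
      rw [h]
      intro y hy
      have : y ∈ (⊤ : Subgroup G) := Subgroup.mem_top y
      rw [← h] at this
      exact hXM this
    have hNX : normalizer (X : Set G) ≠ ⊤ := by
      intro htop
      have hn : X.Normal := Subgroup.normalizer_eq_top_iff.mp htop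
      rcases hn.eq_bot_or_eq_top with h | h
      · exact hX1 h
      · exact hXtop h
    obtain ⟨N, hN, hNle⟩ := (eq_top_or_exists_le_coatom _).resolve_left hNX
    have hCN : centralizer (X : Set G) ≤ N := (Subgroup.centralizer_le_normalizer _).trans hNle
    have hNM : N ≠ M := by
      intro h
      apply hCM
      rw [← h]
      exact hCN
    obtain ⟨-, -, hbot, hcompl, -⟩ := hQ M hM p hp hpσ X hXp hX1 hXM N hN hNM hNle
    obtain ⟨-, hσN, hdisj, hprod⟩ := hcompl
    obtain ⟨e, he, a, ha, hcea⟩ := hprod c (hCN hc)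
    -- `cj g M = cj a⁻¹ M`
    have hcj2 : cj g M = cj a⁻¹ M := by
      rw [hcj, hcea, mul_inv_rev, cj_mul, cj_of_mem (M.inv_mem he.1)]
    refine ⟨a⁻¹, ?_, hcj2.symm⟩
    -- `a⁻¹` centralizes `x`
    have hxa : x ∈ cj a⁻¹ M := hcj2 ▸ hxg
    have h1 : a * x * a⁻¹ ∈ M := by
      have := mem_cj_iff.mp hxa
      simpa using this
    have hxN : x ∈ N := hCN hxC
    have haN : a ∈ N := hσN ha
    have h2 : a * x * a⁻¹ ∈ N := N.mul_mem (N.mul_mem haN hxN) (N.inv_mem haN)
    -- the commutator lies in `N_σ ∩ (M ∩ N)`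
    have hnorm : x * a⁻¹ * x⁻¹ ∈ sigmaCore N := by
      have hxn := Cfsg.Agent.Lib.Helper71.BG11.le_normalizer_sigmaCore N hxN
      have := (Subgroup.mem_normalizer_iff.mp hxn a⁻¹).mp ((sigmaCore N).inv_mem ha)
      exact this
    have hk1 : a * (x * a⁻¹ * x⁻¹) ∈ sigmaCore N := (sigmaCore N).mul_mem ha hnorm
    have hk2 : a * (x * a⁻¹ * x⁻¹) ∈ M ⊓ N := by
      have e1 : a * (x * a⁻¹ * x⁻¹) = (a * x * a⁻¹) * x⁻¹ := by simp [mul_assoc]
      rw [e1]
      exact Subgroup.mem_inf.mpr ⟨M.mul_mem h1 (M.inv_mem hxM), N.mul_mem h2 (N.inv_mem hxN)⟩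
    have hk : a * (x * a⁻¹ * x⁻¹) ∈ (M ⊓ N) ⊓ sigmaCore N := Subgroup.mem_inf.mpr ⟨hk2, hk1⟩
    rw [hdisj, Subgroup.mem_bot] at hk
    -- so `a x = x a`
    have hax : a * x = x * a := by
      have e2 : a * x = (a * (x * a⁻¹ * x⁻¹)) * (x * a) := by simp [mul_assoc]
      rw [e2, hk, one_mul]
    rw [mem_centralizer_iff]
    intro y hy
    rw [Set.mem_singleton_iff] at hy
    subst hy
    -- goal : y * a⁻¹ = a⁻¹ * y
    have : a⁻¹ * (a * y) * a⁻¹ = a⁻¹ * (y * a) * a⁻¹ := by rw [hax]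
    simpa [mul_assoc] using this

end Cfsg.Agent.Lib.Helper88.BG144
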