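import Cfsg.Agent.Lib.Helper88.FusionRD13

set_option autoImplicit false
open Cfsg

namespace Cfsg.Agent.Lib.Helper88

open Cfsg.FusionSystem Cfsg.Agent.Lib.Helper87
open Cfsg.Agent.Lib.Helper91 (isCentric_of_isConj isCentric_self)

variable {Ω : Type*} [Group Ω] {S T : Subgroup Ω}

/-- A good extension of a map `φ` with source `P`: a map of `F` on `P C_S(T)` that agrees with `φ` on `P` and moves every
element of `C_S(T)` only by an element of `T`. -/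
def GoodExt (F : FusionSystem S) (T : Subgroup Ω) {P : Subgroup Ω} (φ : P →* Ω) : Prop :=
  ∃ ψ ∈ F.Hom (P ⊔ centralizerIn S T), (∀ x : P, ψ (Subgroup.inclusion le_sup_left x) = φ x) ∧
    ∀ c : ↥(P ⊔ centralizerIn S T), (c : Ω) ∈ centralizerIn S T → (c : Ω)⁻¹ * ψ c ∈ T

/-- `C_S(T)` is normalized by `S` when `T` is. -/
theorem conj_mem_centralizerIn_of_le_normalizer (hn : S ≤ Subgroup.normalizer (T : Set Ω)) {s c : Ω} (hs : s ∈ S)
    (hc : c ∈ centralizerIn S T) : s * c * s⁻¹ ∈ centralizerIn S T := by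
  rw [mem_centralizerIn] at hc ⊢
  refine ⟨S.mul_mem (S.mul_mem hs hc.1) (S.inv_mem hs), fun x hx => ?_⟩
  have hsn : s⁻¹ ∈ Subgroup.normalizer (T : Set Ω) := hn (S.inv_mem hs)
  have hx' : s⁻¹ * x * s⁻¹⁻¹ ∈ T := (Subgroup.mem_normalizer_iff.mp hsn x).mp hx
  have h1 := hc.2 _ hx'
  have e1 : x * (s * c * s⁻¹) = s * ((s⁻¹ * x * s⁻¹⁻¹) * c) * s⁻¹ := by group
  have e2 : s * c * s⁻¹ * x = s * (c * (s⁻¹ * x * s⁻¹⁻¹)) * s⁻¹ := by group
  rw [e1, e2, h1]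

/-- Every element of `P C_S(T)` is a product. -/
theorem exists_mul_of_mem_sup_centralizerIn (hn : S ≤ Subgroup.normalizer (T : Set Ω)) {P : Subgroup Ω} (hPS : P ≤ S)
    {y : Ω} (hy : y ∈ P ⊔ centralizerIn S T) : ∃ x ∈ P, ∃ c ∈ centralizerIn S T, y = x * c :=
  exists_mul_of_mem_sup (fun _ hx _ hc => conj_mem_centralizerIn_of_le_normalizer hn (hPS hx) hc) hy

theorem GoodExt.restrict {F : FusionSystem S} {P R : Subgroup Ω} (hRP : R ≤ P) {φ : P →* Ω} (h : GoodExt F T φ) :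
    GoodExt F T (φ.comp (Subgroup.inclusion hRP)) := by
  obtain ⟨ψ, hψ, hψP, hψc⟩ := h
  have hle : R ⊔ centralizerIn S T ≤ P ⊔ centralizerIn S T := sup_le_sup_right hRP _
  refine ⟨ψ.comp (Subgroup.inclusion hle), restrict_mem F hle hψ, fun x => ?_, fun c hc => ?_⟩
  · exact hψP (Subgroup.inclusion hRP x)
  · exact hψc (Subgroup.inclusion hle c) hc

theorem goodExt_conj {F : FusionSystem S} (hTS : T ≤ S) {P : Subgroup Ω} (hPS : P ≤ S) {g : Ω} (hg : g ∈ T) :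
    GoodExt F T (conjHom P g) := by
  refine ⟨conjHom _ g, F.conj_mem (sup_le hPS (centralizerIn_le S T)) (hTS hg), fun x => rfl, fun c hc => ?_⟩
  show (c : Ω)⁻¹ * (g * (c : Ω) * g⁻¹) ∈ T
  have h1 := (mem_centralizerIn.mp hc).2 g hg
  have e : (c : Ω)⁻¹ * (g * (c : Ω) * g⁻¹) = 1 := by
    rw [h1]
    group
  rw [e]
  exact T.one_mem

/-- The image of a good extension lies in `Q C_S(T)` as soon as `Q` contains the image of `φ` and its centralizer in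
`T`. -/
theorem goodExt_apply_mem (hn : S ≤ Subgroup.normalizer (T : Set Ω)) {P : Subgroup Ω} (hPT : P ≤ T)
    (hTS : T ≤ S) {φ : P →* Ω} (hφT : ∀ x, φ x ∈ T)
    {ψ : ↥(P ⊔ centralizerIn S T) →* Ω} (hψP : ∀ x : P, ψ (Subgroup.inclusion le_sup_left x) = φ x)
    (hψc : ∀ c : ↥(P ⊔ centralizerIn S T), (c : Ω) ∈ centralizerIn S T → (c : Ω)⁻¹ * ψ c ∈ T)
    {Q : Subgroup Ω} (hφQ : ∀ x, φ x ∈ Q) (hcen : ∀ t ∈ T, (∀ x : P, t * φ x = φ x * t) → t ∈ Q) :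
    (∀ c : ↥(P ⊔ centralizerIn S T), (c : Ω) ∈ centralizerIn S T → (c : Ω)⁻¹ * ψ c ∈ Q) ∧
      ∀ z : ↥(P ⊔ centralizerIn S T), ψ z ∈ Q ⊔ centralizerIn S T := by
  have hc1 : ∀ c : ↥(P ⊔ centralizerIn S T), (c : Ω) ∈ centralizerIn S T → (c : Ω)⁻¹ * ψ c ∈ Q := by
    intro c hc
    apply hcen _ (hψc c hc)
    intro x
    have hcx : (Subgroup.inclusion le_sup_left x : ↥(P ⊔ centralizerIn S T)) * c =
        c * Subgroup.inclusion le_sup_left x := by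
      apply Subtype.ext
      exact (mem_centralizerIn.mp hc).2 _ (hPT x.2)
    have h1 : φ x * ψ c = ψ c * φ x := by
      rw [← hψP x, ← map_mul, ← map_mul, hcx]
    have h2 : φ x * (c : Ω) = (c : Ω) * φ x := (mem_centralizerIn.mp hc).2 _ (hφT x)
    have h3 : (c : Ω)⁻¹ * φ x = φ x * (c : Ω)⁻¹ := by
      have : φ x = (c : Ω) * φ x * (c : Ω)⁻¹ := by rw [← h2]; group
      calc (c : Ω)⁻¹ * φ x = (c : Ω)⁻¹ * ((c : Ω) * φ x * (c : Ω)⁻¹) := by rw [← this]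
        _ = φ x * (c : Ω)⁻¹ := by group
    calc (c : Ω)⁻¹ * ψ c * φ x = (c : Ω)⁻¹ * (ψ c * φ x) := by group
      _ = (c : Ω)⁻¹ * (φ x * ψ c) := by rw [h1]
      _ = ((c : Ω)⁻¹ * φ x) * ψ c := by group
      _ = φ x * (c : Ω)⁻¹ * ψ c := by rw [h3]
      _ = φ x * ((c : Ω)⁻¹ * ψ c) := by group
  refine ⟨hc1, fun z => ?_⟩
  obtain ⟨x, hx, c, hc, hz⟩ := exists_mul_of_mem_sup_centralizerIn hn (hPT.trans hTS) z.2
  have hzz : z = Subgroup.inclusion le_sup_left (⟨x, hx⟩ : P) *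
      (⟨c, (le_sup_right : centralizerIn S T ≤ P ⊔ centralizerIn S T) hc⟩ : ↥(P ⊔ centralizerIn S T)) :=
    Subtype.ext hz
  rw [hzz, map_mul, hψP]
  apply Subgroup.mul_mem _ ((le_sup_left : Q ≤ Q ⊔ centralizerIn S T) (hφQ _))
  have h4 := hc1 ⟨c, (le_sup_right : centralizerIn S T ≤ P ⊔ centralizerIn S T) hc⟩ hc
  have e : ψ ⟨c, (le_sup_right : centralizerIn S T ≤ P ⊔ centralizerIn S T) hc⟩ =
      c * (c⁻¹ * ψ ⟨c, (le_sup_right : centralizerIn S T ≤ P ⊔ centralizerIn S T) hc⟩) := by group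
  rw [e]
  exact Subgroup.mul_mem _ ((le_sup_right : centralizerIn S T ≤ Q ⊔ centralizerIn S T) hc)
    ((le_sup_left : Q ≤ Q ⊔ centralizerIn S T) h4)

end Cfsg.Agent.Lib.Helper88
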