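import Cfsg.Agent.Lib.Helper88.FusionCE1

set_option autoImplicit false
open Cfsg

namespace Cfsg.Agent.Lib.Helper88

open Cfsg.FusionSystem Cfsg.Agent.Lib.Helper87
open Cfsg.Agent.Lib.Helper91 (isCentric_of_isConj isCentric_self)

variable {Ω : Type*} [Group Ω] {S T : Subgroup Ω}

/-- Good extensions compose. -/
theorem GoodExt.comp {F : FusionSystem S} (hn : S ≤ Subgroup.normalizer (T : Set Ω)) (hTS : T ≤ S)
    {P Q : Subgroup Ω} (hPT : P ≤ T) {φ : P →* Ω} (hφT : ∀ x, φ x ∈ T) {ψ : Q →* Ω} (hψT : ∀ y, ψ y ∈ T)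
    (hφQ : ∀ x, φ x ∈ Q) (hcen : ∀ t ∈ T, (∀ x : P, t * φ x = φ x * t) → t ∈ Q)
    (h₁ : GoodExt F T φ) (h₂ : GoodExt F T ψ) : GoodExt F T (ψ.comp (φ.codRestrict Q hφQ)) := by
  obtain ⟨φh, hφh, hφhP, hφhc⟩ := h₁
  obtain ⟨ψh, hψh, hψhQ, hψhc⟩ := h₂
  obtain ⟨hc1, hmem⟩ := goodExt_apply_mem hn hPT hTS hφT hφhP hφhc hφQ hcen
  obtain ⟨χ, hχ, hχx⟩ := exists_comp F hφh hψh hmem
  refine ⟨χ, hχ, fun x => ?_, fun c hc => ?_⟩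
  · rw [hχx]
    have e : (⟨φh (Subgroup.inclusion le_sup_left x), hmem _⟩ : ↥(Q ⊔ centralizerIn S T)) =
        Subgroup.inclusion le_sup_left (⟨φ x, hφQ x⟩ : Q) := Subtype.ext (hφhP x)
    rw [e, hψhQ]
    rfl
  · rw [hχx]
    have ht := hc1 c hc
    have hcm : (c : Ω) ∈ Q ⊔ centralizerIn S T := (le_sup_right : centralizerIn S T ≤ _) hc
    have e : (⟨φh c, hmem c⟩ : ↥(Q ⊔ centralizerIn S T)) =
        (⟨(c : Ω), hcm⟩ : ↥(Q ⊔ centralizerIn S T)) *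
          Subgroup.inclusion le_sup_left (⟨(c : Ω)⁻¹ * φh c, ht⟩ : Q) := by
      apply Subtype.ext
      show φh c = (c : Ω) * ((c : Ω)⁻¹ * φh c)
      group
    rw [e, map_mul, hψhQ]
    have h1 := hψhc ⟨(c : Ω), hcm⟩ hc
    have h2 := hψT ⟨(c : Ω)⁻¹ * φh c, ht⟩
    have e2 : (c : Ω)⁻¹ * (ψh ⟨(c : Ω), hcm⟩ * ψ ⟨(c : Ω)⁻¹ * φh c, ht⟩) =
        ((c : Ω)⁻¹ * ψh ⟨(c : Ω), hcm⟩) * ψ ⟨(c : Ω)⁻¹ * φh c, ht⟩ := by group
    rw [e2]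
    exact T.mul_mem h1 h2

/-- The inverse of a map with a good extension has a good extension. -/
theorem GoodExt.inv {F : FusionSystem S} (hn : S ≤ Subgroup.normalizer (T : Set Ω)) (hTS : T ≤ S)
    {P : Subgroup Ω} (hPT : P ≤ T) {φ : P →* Ω} (hφT : ∀ x, φ x ∈ T)
    (hcen : ∀ t ∈ T, (∀ x : P, t * φ x = φ x * t) → t ∈ φ.range)
    (h₁ : GoodExt F T φ) {ψ : φ.range →* Ω} (hψ : ∀ x : P, ψ ⟨φ x, ⟨x, rfl⟩⟩ = (x : Ω)) : GoodExt F T ψ := by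
  obtain ⟨φh, hφh, hφhP, hφhc⟩ := h₁
  obtain ⟨hc1, hmem⟩ := goodExt_apply_mem hn hPT hTS hφT hφhP hφhc (Q := φ.range) (fun x => ⟨x, rfl⟩) hcen
  -- the range of the extension
  have hrange : φh.range = φ.range ⊔ centralizerIn S T := by
    apply le_antisymm
    · rintro _ ⟨z, rfl⟩
      exact hmem z
    · apply sup_le
      · rintro _ ⟨x, rfl⟩
        exact ⟨Subgroup.inclusion le_sup_left x, hφhP x⟩
      · intro c hc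
        have hcm : c ∈ P ⊔ centralizerIn S T := (le_sup_right : centralizerIn S T ≤ _) hc
        obtain ⟨q, hq⟩ := hc1 ⟨c, hcm⟩ hc
        refine ⟨⟨c, hcm⟩ * (Subgroup.inclusion le_sup_left q)⁻¹, ?_⟩
        rw [map_mul, map_inv, hφhP, hq]
        show φh ⟨c, hcm⟩ * (c⁻¹ * φh ⟨c, hcm⟩)⁻¹ = c
        group
  obtain ⟨χ, hχ, hχx, -⟩ := inv_mem' F hφh hrange
  refine ⟨χ, hχ, fun y => ?_, fun c hc => ?_⟩
  · obtain ⟨x, hx⟩ := y.2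
    have e : y = ⟨φ x, ⟨x, rfl⟩⟩ := Subtype.ext hx.symm
    rw [e, hψ]
    exact hχx (Subgroup.inclusion le_sup_left x) _ (hφhP x)
  · have hcm : (c : Ω) ∈ P ⊔ centralizerIn S T := (le_sup_right : centralizerIn S T ≤ _) hc
    obtain ⟨q, hq⟩ := hc1 ⟨(c : Ω), hcm⟩ hc
    have h1 : χ c = ((⟨(c : Ω), hcm⟩ * (Subgroup.inclusion le_sup_left q)⁻¹ : ↥(P ⊔ centralizerIn S T)) : Ω) := by
      apply hχx
      rw [map_mul, map_inv, hφhP, hq]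
      show φh ⟨(c : Ω), hcm⟩ * ((c : Ω)⁻¹ * φh ⟨(c : Ω), hcm⟩)⁻¹ = (c : Ω)
      group
    rw [h1]
    show (c : Ω)⁻¹ * ((c : Ω) * ((q : Ω))⁻¹) ∈ T
    have e : (c : Ω)⁻¹ * ((c : Ω) * ((q : Ω))⁻¹) = ((q : Ω))⁻¹ := by group
    rw [e]
    exact T.inv_mem (hPT q.2)

end Cfsg.Agent.Lib.Helper88
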