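import Cfsg.Agent.Lib.Helper88.FusionCE2

set_option autoImplicit false
open Cfsg

namespace Cfsg.Agent.Lib.Helper88

open Cfsg.FusionSystem Cfsg.Agent.Lib.Helper87
open Cfsg.Agent.Lib.Helper91 (isCentric_of_isConj isCentric_self)

variable {Ω : Type*} [Group Ω] {S T : Subgroup Ω}

/-- An element of `T` centralizing the image of a map with centric image lies in the image. -/
theorem mem_range_of_commute_of_isCentric (E : FusionSystem T) {P : Subgroup Ω} {φ : P →* Ω} (hrc : E.IsCentric φ.range)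
    {t : Ω} (ht : t ∈ T) (h : ∀ x : P, t * φ x = φ x * t) : t ∈ φ.range := by
  apply hrc.2 φ.range (isConj_refl E hrc.1)
  rw [mem_centralizerIn]
  refine ⟨ht, ?_⟩
  rintro _ ⟨x, rfl⟩
  exact (h x).symm

/-- The maps of `E` that have a good extension whenever their source is `E`-centric. -/
def goodSys (F : FusionSystem S) (E : FusionSystem T) (hn : S ≤ Subgroup.normalizer (T : Set Ω)) (hTS : T ≤ S) :
    FusionSystem T where
  Hom P := {φ | φ ∈ E.Hom P ∧ (E.IsCentric P → GoodExt F T φ)}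
  le_of_mem h := E.le_of_mem h.1
  injective_of_mem h := E.injective_of_mem h.1
  conj_mem hP hg := ⟨E.conj_mem hP hg, fun _ => goodExt_conj hTS (hP.trans hTS) hg⟩
  comp_mem := by
    rintro P Q φ ψ ⟨hφ, hφg⟩ ⟨hψ, hψg⟩ h
    refine ⟨E.comp_mem hφ hψ h, fun hPc => ?_⟩
    have hrc : E.IsCentric φ.range := isCentric_of_isConj E hPc ⟨φ, hφ, rfl⟩
    have hrQ : φ.range ≤ Q := by
      rintro _ ⟨x, rfl⟩
      exact h x
    have hQc : E.IsCentric Q := isCentric_of_le E hrc hrQ (hom_le E hψ)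
    exact GoodExt.comp hn hTS (hom_le E hφ) (hom_mem E hφ) (hom_mem E hψ) h
      (fun t ht hc => hrQ (mem_range_of_commute_of_isCentric E hrc ht hc)) (hφg hPc) (hψg hQc)
  inv_mem := by
    rintro P φ ⟨hφ, hφg⟩
    obtain ⟨ψ, hψ, hψx⟩ := E.inv_mem hφ
    refine ⟨ψ, ⟨hψ, fun hrc => ?_⟩, hψx⟩
    have hPc : E.IsCentric P := isCentric_of_isConj E hrc (isConj_symm E ⟨φ, hφ, rfl⟩)
    exact GoodExt.inv hn hTS (hom_le E hφ) (hom_mem E hφ)
      (fun t ht hc => mem_range_of_commute_of_isCentric E hrc ht hc) (hφg hPc) hψx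

theorem mem_goodSys {F : FusionSystem S} {E : FusionSystem T} {hn : S ≤ Subgroup.normalizer (T : Set Ω)} {hTS : T ≤ S}
    {P : Subgroup Ω} {φ : P →* Ω} :
    φ ∈ (goodSys F E hn hTS).Hom P ↔ φ ∈ E.Hom P ∧ (E.IsCentric P → GoodExt F T φ) := Iff.rfl

theorem goodSys_le (F : FusionSystem S) (E : FusionSystem T) (hn : S ≤ Subgroup.normalizer (T : Set Ω)) (hTS : T ≤ S)
    (P : Subgroup Ω) : (goodSys F E hn hTS).Hom P ⊆ E.Hom P := fun _ h => h.1

end Cfsg.Agent.Lib.Helper88
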