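import Cfsg.Agent.Lib.Helper88.FusionCE3

set_option autoImplicit false
open Cfsg

namespace Cfsg.Agent.Lib.Helper88

open Cfsg.FusionSystem Cfsg.Agent.Lib.Helper87
open Cfsg.Agent.Lib.Helper91 (isCentric_of_isConj isCentric_self)

variable {Ω : Type*} [Group Ω] {S T : Subgroup Ω}

/-- `C_S(T)` lies in the extender of every map with source `R ≤ T`. -/
theorem centralizerIn_le_extender {R : Subgroup Ω} (hRT : R ≤ T) (ξ : R →* Ω) :
    centralizerIn S T ≤ extender S R ξ := by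
  intro c hc
  have hcc := mem_centralizerIn.mp hc
  have hcx : ∀ x ∈ R, c * x * c⁻¹ = x := by
    intro x hx
    have := hcc.2 x (hRT hx)
    rw [← this]
    group
  rw [mem_extender_iff]
  refine ⟨hcc.1, ?_, 1, S.one_mem, ?_⟩
  · rw [Subgroup.mem_normalizer_iff]
    intro x
    constructor
    · intro hx
      rw [hcx x hx]
      exact hx
    · intro hx
      have h1 := hcx _ hx
      have e : c * (c * x * c⁻¹) * c⁻¹ = c * x * c⁻¹ := h1
      have e2 : c * x * c⁻¹ = x := by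
        have := congrArg (fun y => c⁻¹ * y * c) e
        simpa [mul_assoc] using this
      rw [← e2]
      exact hx
  · intro x hx
    have e : (⟨c * (x : Ω) * c⁻¹, hx⟩ : R) = x := Subtype.ext (hcx x x.2)
    rw [e]
    group

/-- An automorphism of an `E`-centric subgroup `R ≤ T` that is carried, by a map `ξ` of `F` onto a receptive subgroup containing
its centralizer in `T`, to conjugation by an element of `T`, has a good extension. -/
theorem goodExt_of_conj_eq (F : FusionSystem S) (hT : F.StronglyClosed T) {R : Subgroup Ω} (hRT : R ≤ T)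
    {ξ : R →* Ω} (hξ : ξ ∈ F.Hom R) (hrec : F.IsReceptive ξ.range) (hcen : centralizerIn T ξ.range ≤ ξ.range)
    (γ : MulAut R) {t₁ : Ω} (ht₁ : t₁ ∈ T) (hγ : ∀ x : R, ξ (γ x) = t₁ * ξ x * t₁⁻¹) :
    GoodExt F T (R.subtype.comp (γ : R ≃* R).toMonoidHom) := by
  have hTS : T ≤ S := hT.1
  have hn : S ≤ Subgroup.normalizer (T : Set Ω) := le_normalizer_of_stronglyClosed hT
  have hRS : R ≤ S := hRT.trans hTS
  have ht₁S : t₁ ∈ S := hTS ht₁
  -- the extension of `ξ`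
  obtain ⟨ξh, hξh, hξhx⟩ := hrec.2 R ξ hξ rfl
  have hle : R ⊔ centralizerIn S T ≤ extender S R ξ :=
    sup_le (le_extender hRS (hom_mem F hξ)) (centralizerIn_le_extender hRT ξ)
  set ξ' : ↥(R ⊔ centralizerIn S T) →* Ω := ξh.comp (Subgroup.inclusion hle) with hξ'def
  have hξ' : ξ' ∈ F.Hom (R ⊔ centralizerIn S T) := restrict_mem F hle hξh
  have hξ'R : ∀ x : R, ξ' (Subgroup.inclusion le_sup_left x) = ξ x := by
    intro x
    exact hξhx x x.2 (hle ((le_sup_left : R ≤ R ⊔ centralizerIn S T) x.2))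
  have hinj : Function.Injective ξ' := F.injective_of_mem hξ'
  -- conjugation by `t₁` inverse on the range of `ξ`
  have hγinv : ∀ x : R, t₁⁻¹ * ξ x * t₁ = ξ (γ⁻¹ x) := by
    intro x
    have := hγ (γ⁻¹ x)
    rw [MulAut.apply_inv_self] at this
    rw [this]
    group
  -- the element `w` attached to `c`
  have hw : ∀ c : ↥(R ⊔ centralizerIn S T), (c : Ω) ∈ centralizerIn S T →
      (ξ' c)⁻¹ * (t₁ * ξ' c * t₁⁻¹) ∈ ξ.range := by
    intro c hc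
    apply hcen
    rw [mem_centralizerIn]
    have hξcS : ξ' c ∈ S := hom_mem F hξ' c
    constructor
    · have h1 : (ξ' c)⁻¹ * t₁ * (ξ' c)⁻¹⁻¹ ∈ T :=
        (Subgroup.mem_normalizer_iff.mp (hn (S.inv_mem hξcS)) t₁).mp ht₁
      have e : (ξ' c)⁻¹ * (t₁ * ξ' c * t₁⁻¹) = ((ξ' c)⁻¹ * t₁ * (ξ' c)⁻¹⁻¹) * t₁⁻¹ := by group
      rw [e]
      exact T.mul_mem h1 (T.inv_mem ht₁)
    · rintro _ ⟨x, rfl⟩
      -- `ξ' c` commutes with the range of `ξ`
      have hcomm : ∀ y : R, ξ y * ξ' c = ξ' c * ξ y := by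
        intro y
        have hcy : (Subgroup.inclusion le_sup_left y : ↥(R ⊔ centralizerIn S T)) * c =
            c * Subgroup.inclusion le_sup_left y := by
          apply Subtype.ext
          exact (mem_centralizerIn.mp hc).2 _ (hRT y.2)
        rw [← hξ'R y, ← map_mul, ← map_mul, hcy]
      have h1 := hcomm x
      have h2 := hcomm (γ⁻¹ x)
      rw [← hγinv x] at h2
      -- h2 : t₁⁻¹ * ξ x * t₁ * ξ' c = ξ' c * (t₁⁻¹ * ξ x * t₁)
      have h3 : ξ x * (t₁ * ξ' c * t₁⁻¹) = (t₁ * ξ' c * t₁⁻¹) * ξ x := by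
        have e1 : ξ x * (t₁ * ξ' c * t₁⁻¹) = t₁ * ((t₁⁻¹ * ξ x * t₁) * ξ' c) * t₁⁻¹ := by group
        have e2 : (t₁ * ξ' c * t₁⁻¹) * ξ x = t₁ * (ξ' c * (t₁⁻¹ * ξ x * t₁)) * t₁⁻¹ := by group
        rw [e1, e2, h2]
      have h1' : ξ x * (ξ' c)⁻¹ = (ξ' c)⁻¹ * ξ x := by
        have e : ξ x = ξ' c * ξ x * (ξ' c)⁻¹ := by rw [← h1]; group
        calc ξ x * (ξ' c)⁻¹ = (ξ' c)⁻¹ * (ξ' c * ξ x * (ξ' c)⁻¹) := by group
          _ = (ξ' c)⁻¹ * ξ x := by rw [← e]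
      calc ξ x * ((ξ' c)⁻¹ * (t₁ * ξ' c * t₁⁻¹)) = (ξ x * (ξ' c)⁻¹) * (t₁ * ξ' c * t₁⁻¹) := by group
        _ = (ξ' c)⁻¹ * (ξ x * (t₁ * ξ' c * t₁⁻¹)) := by rw [h1']; group
        _ = (ξ' c)⁻¹ * ((t₁ * ξ' c * t₁⁻¹) * ξ x) := by rw [h3]
        _ = (ξ' c)⁻¹ * (t₁ * ξ' c * t₁⁻¹) * ξ x := by group
  -- conjugation by `t₁` preserves the range of `ξ'`
  have hconjM : ∀ z : ↥(R ⊔ centralizerIn S T), t₁ * ξ' z * t₁⁻¹ ∈ ξ'.range := by
    intro z
    obtain ⟨x, hx, c, hc, hz⟩ := exists_mul_of_mem_sup_centralizerIn hn hRS z.2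
    have hcm : c ∈ R ⊔ centralizerIn S T := (le_sup_right : centralizerIn S T ≤ _) hc
    have hzz : z = Subgroup.inclusion le_sup_left (⟨x, hx⟩ : R) * (⟨c, hcm⟩ : ↥(R ⊔ centralizerIn S T)) :=
      Subtype.ext hz
    obtain ⟨r, hr⟩ := hw ⟨c, hcm⟩ hc
    refine ⟨Subgroup.inclusion le_sup_left (γ ⟨x, hx⟩) * ⟨c, hcm⟩ * Subgroup.inclusion le_sup_left r, ?_⟩
    rw [map_mul, map_mul, hξ'R, hξ'R, hγ, hr, hzz, map_mul, hξ'R]
    group
  -- the maps
  have hMS : ξ'.range ≤ S := by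
    rintro _ ⟨z, rfl⟩
    exact hom_mem F hξ' z
  have hconj : conjHom ξ'.range t₁ ∈ F.Hom ξ'.range := F.conj_mem hMS ht₁S
  obtain ⟨χ₁, hχ₁, hχ₁x⟩ := exists_comp F hξ' hconj (fun z => (⟨z, rfl⟩ : ξ' z ∈ ξ'.range))
  have hχ₁v : ∀ z, χ₁ z = t₁ * ξ' z * t₁⁻¹ := fun z => hχ₁x z
  obtain ⟨ι, hι, hιx, -⟩ := inv_mem' F hξ' rfl
  obtain ⟨γh, hγh, hγhx⟩ := exists_comp F hχ₁ hι (fun z => by rw [hχ₁v]; exact hconjM z)
  refine ⟨γh, hγh, fun x => ?_, fun c hc => ?_⟩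
  · rw [hγhx]
    show _ = ((γ x : R) : Ω)
    have h1 := hιx (Subgroup.inclusion le_sup_left (γ x)) ⟨χ₁ (Subgroup.inclusion le_sup_left x), by
      rw [hχ₁v]; exact hconjM _⟩ (by
        show ξ' (Subgroup.inclusion le_sup_left (γ x)) = χ₁ (Subgroup.inclusion le_sup_left x)
        rw [hχ₁v, hξ'R, hξ'R, hγ])
    exact h1
  · rw [hγhx]
    obtain ⟨r, hr⟩ := hw c hc
    have h1 := hιx (c * Subgroup.inclusion le_sup_left r) ⟨χ₁ c, by rw [hχ₁v]; exact hconjM _⟩ (by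
      show ξ' (c * Subgroup.inclusion le_sup_left r) = χ₁ c
      rw [hχ₁v, map_mul, hξ'R, hr]
      group)
    rw [h1]
    show (c : Ω)⁻¹ * ((c : Ω) * (r : Ω)) ∈ T
    have e : (c : Ω)⁻¹ * ((c : Ω) * (r : Ω)) = (r : Ω) := by group
    rw [e]
    exact hRT r.2

end Cfsg.Agent.Lib.Helper88
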