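import Cfsg.Agent.Lib.Helper88.FusionCE4

set_option autoImplicit false
open Cfsg

namespace Cfsg.Agent.Lib.Helper88

open Cfsg.FusionSystem Cfsg.Agent.Lib.Helper87
open Cfsg.Agent.Lib.Helper91 (isCentric_of_isConj isCentric_self)

variable {Ω : Type*} [Group Ω] {S T : Subgroup Ω}

/-- Every conjugate, under `Aut_F(R)`, of an automorphism of `R` induced by an element of `T` has a good extension
(`R ≤ T` being `E`-centric). -/
theorem goodExt_conj_of_mem [Finite S] (p : ℕ) [Fact p.Prime] (hS : IsPGroup p S) (F : FusionSystem S)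
    (hF : F.IsSaturated p) (hT : F.StronglyClosed T) (E : FusionSystem T) (hEF : E.IsSubsystemOf F)
    (hfrat : ∀ (P : Subgroup Ω), P ≤ T → ∀ (φ : P →* Ω), φ ∈ F.Hom P →
      ∃ α ∈ F.autGroup T, ∃ φ₀ ∈ E.Hom P, ∀ (x : P) (hx : φ₀ x ∈ T), φ x = ((α ⟨φ₀ x, hx⟩ : T) : Ω))
    {R : Subgroup Ω} (hRc : E.IsCentric R) {δ : MulAut R} (hδ : δ ∈ F.autGroup R) {t : Ω} (ht : t ∈ T)
    (htn : t ∈ Subgroup.normalizer (R : Set Ω)) :
    GoodExt F T (R.subtype.comp ((δ⁻¹ * conjAut R t htn * δ : MulAut R) : R ≃* R).toMonoidHom) := by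
  have hTS : T ≤ S := hT.1
  have hRT : R ≤ T := hRc.1
  have hRS : R ≤ S := hRT.trans hTS
  obtain ⟨Q₁, hconj, hfn⟩ := exists_isFullyNormalized F hRS
  obtain ⟨hfc, hfa⟩ := fullyNormalized_props p hS F hF Q₁ hfn
  have hrec := isReceptive_of_isFullyCentralized p hS F hF Q₁ hfc
  obtain ⟨ψF, hψF, -, hmap, hmem⟩ := exists_normalizer_hom p hS F Q₁ R hfa hrec hconj
  have hRN : R ≤ normalizerIn S R := le_normalizerIn hRS
  have hδF : R.subtype.comp (δ : R ≃* R).toMonoidHom ∈ F.Hom R := autGroup_hom_mem F hRS hδ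
  have hψR : ψF.comp (Subgroup.inclusion hRN) ∈ F.Hom R := restrict_mem F hRN hψF
  obtain ⟨ξ, hξ, hξx⟩ := exists_comp F hδF hψR (fun x => (δ x).2)
  have hξv : ∀ x : R, ξ x = ψF ⟨((δ x : R) : Ω), hRN (δ x).2⟩ := fun x => hξx x
  have hξr : ξ.range = Q₁ := by
    ext y
    constructor
    · rintro ⟨x, rfl⟩
      rw [hξv]
      exact hmem _ (δ x).2
    · intro hy
      rw [← hmap] at hy
      obtain ⟨x, hx, rfl⟩ := hy
      have hxR : (x : Ω) ∈ R := Subgroup.mem_subgroupOf.mp hx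
      refine ⟨δ⁻¹ ⟨(x : Ω), hxR⟩, ?_⟩
      rw [hξv]
      congr 1
      apply Subtype.ext
      show ((δ (δ⁻¹ ⟨(x : Ω), hxR⟩) : R) : Ω) = (x : Ω)
      rw [MulAut.apply_inv_self]
  have htN : t ∈ normalizerIn S R := ⟨hTS ht, htn⟩
  -- the image of `t` lies in `T`
  have hNT : normalizerIn T R ≤ normalizerIn S R := fun g hg => ⟨hTS hg.1, hg.2⟩
  have ht₁ : ψF ⟨t, htN⟩ ∈ T :=
    hT.2 (normalizerIn T R) (normalizerIn_le T R) _ (restrict_mem F hNT hψF) ⟨t, ⟨ht, htn⟩⟩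
  have hrec' : F.IsReceptive ξ.range := hξr ▸ hrec
  have hQc : E.IsCentric ξ.range := isCentric_range_of_frattini F E hEF hfrat hRc hξ rfl
  have hcen : centralizerIn T ξ.range ≤ ξ.range := hQc.2 _ (isConj_refl E hQc.1)
  apply goodExt_of_conj_eq F hT hRT hξ hrec' hcen _ ht₁
  intro x
  rw [hξv, hξv]
  have e' : (⟨((δ ((δ⁻¹ * conjAut R t htn * δ : MulAut R) x) : R) : Ω), hRN (δ _).2⟩ : normalizerIn S R) =
      (⟨t, htN⟩ : normalizerIn S R) * ⟨((δ x : R) : Ω), hRN (δ x).2⟩ * (⟨t, htN⟩ : normalizerIn S R)⁻¹ := by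
    apply Subtype.ext
    show ((δ ((δ⁻¹ * conjAut R t htn * δ : MulAut R) x) : R) : Ω) = t * ((δ x : R) : Ω) * t⁻¹
    rw [MulAut.mul_apply, MulAut.mul_apply, MulAut.apply_inv_self, conjAut_apply]
  show ψF ⟨((δ ((δ⁻¹ * conjAut R t htn * δ : MulAut R) x) : R) : Ω), hRN (δ _).2⟩ = _
  rw [e', map_mul, map_mul, map_inv]

end Cfsg.Agent.Lib.Helper88
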