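import Cfsg.Agent.Lib.Helper88.FusionCE5

set_option autoImplicit false
open Cfsg
open scoped Pointwise

namespace Cfsg.Agent.Lib.Helper88

open Cfsg.FusionSystem Cfsg.Agent.Lib.Helper87
open Cfsg.Agent.Lib.Helper91 (isCentric_of_isConj isCentric_self)

variable {Ω : Type*} [Group Ω] {S T : Subgroup Ω}

/-- The step of the induction for the existence of good extensions. -/
theorem goodSys_step [Finite S] (p : ℕ) [Fact p.Prime] (hS : IsPGroup p S) (F : FusionSystem S) (E : FusionSystem T)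
    (hE : E.IsNormalIn F p) (hn : S ≤ Subgroup.normalizer (T : Set Ω)) (hTS : T ≤ S)
    (R : Subgroup Ω) (hRT : R ≤ T) (hRfn : E.IsFullyNormalized R)
    (hbig : ∀ R₁ : Subgroup Ω, R₁ ≤ T → Nat.card R < Nat.card R₁ → E.Hom R₁ ⊆ (goodSys F E hn hTS).Hom R₁)
    (β : MulAut R) (hβ : β ∈ E.autGroup R) :
    R.subtype.comp (β : R ≃* R).toMonoidHom ∈ (goodSys F E hn hTS).Hom R := by
  obtain ⟨⟨hEsat, hFsat, hEF, hT, -, hfrat⟩, hext⟩ := hE
  haveI : Finite T := finite_of_le hTS
  have hTp : IsPGroup p T := hS.to_le hTS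
  have hRS : R ≤ S := hRT.trans hTS
  refine ⟨autGroup_hom_mem E hRT hβ, fun hRc => ?_⟩
  by_cases hReqT : R = T
  · subst hReqT
    obtain ⟨β', hβ', hβ'x, hβ'c⟩ := hext β hβ
    have hle : R ⊔ centralizerIn S R ≤ S := sup_le hTS (centralizerIn_le S R)
    exact ⟨_, autGroup_hom_mem F hle hβ', fun x => hβ'x x, fun c hc => (hβ'c c hc).1⟩
  · set G := goodSys F E hn hTS with hG
    -- membership in `Aut_G(R)` from a good extension
    have hmemG : ∀ γ : MulAut R, γ ∈ E.autGroup R →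
        GoodExt F T (R.subtype.comp (γ : R ≃* R).toMonoidHom) → γ ∈ G.autGroup R := by
      intro γ hγ hg
      rw [mem_autGroup_iff G hRT]
      exact ⟨autGroup_hom_mem E hRT hγ, fun _ => hg⟩
    have hEFaut : ∀ γ : MulAut R, γ ∈ E.autGroup R → γ ∈ F.autGroup R := by
      intro γ hγ
      rw [mem_autGroup_iff F hRS]
      exact hEF R ((mem_autGroup_iff E hRT).mp hγ)
    -- conjugates of the automorphisms induced by `T`
    have hclaim1 : ∀ δ : MulAut R, δ ∈ E.autGroup R → ∀ c : MulAut R, c ∈ autInducedBy T R →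
        δ⁻¹ * c * δ ∈ G.autGroup R := by
      intro δ hδ c hc
      obtain ⟨g, hgT, hg⟩ := Cfsg.Agent.Lib.Helper87.mem_autInducedBy_iff.mp hc
      have hgn : g ∈ Subgroup.normalizer (R : Set Ω) := mem_normalizer_of_conj_eq hg
      have hceq : c = conjAut R g hgn := by
        ext x
        rw [hg, conjAut_apply]
      have hcE : c ∈ E.autGroup R := autInducedBy_le_autGroup E hRT hc
      apply hmemG _ (Subgroup.mul_mem _ (Subgroup.mul_mem _ (Subgroup.inv_mem _ hδ) hcE) hδ)
      rw [hceq]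
      exact goodExt_conj_of_mem p hS F hFsat hT E hEF hfrat hRc (hEFaut δ hδ) hgT hgn
    obtain ⟨hfc, hfa⟩ := fullyNormalized_props p hTp E hEsat R hRfn
    have hrecE := isReceptive_of_isFullyCentralized p hTp E hEsat R hfc
    obtain ⟨-, Sy, hSy⟩ := hfa
    haveI hfin : Finite (E.autGroup R) := finite_autGroup E hRT
    -- elements of `O^{p'}(Aut_E(R))`
    have hclaim2 : ∀ n ∈ pElemGen p (E.autGroup R), (n : MulAut R) ∈ G.autGroup R := by
      intro n hn'
      unfold pElemGen at hn'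
      induction hn' using Subgroup.closure_induction with
      | mem g hg =>
        obtain ⟨k, hk⟩ := hg
        have hDp : IsPGroup p (Subgroup.zpowers g) := by
          apply IsPGroup.of_card (n := k)
          rw [Nat.card_zpowers, hk]
        obtain ⟨γ₀, -, hγ₀⟩ := exists_conj_le_sylow_of_le_normal Sy ⊤ (le_top : Subgroup.zpowers g ≤ ⊤) hDp
        have h1 : γ₀ * g * γ₀⁻¹ ∈ (Sy : Subgroup (E.autGroup R)) := hγ₀ g (Subgroup.mem_zpowers g)
        rw [hSy, Subgroup.mem_subgroupOf] at h1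
        have h2 := hclaim1 (γ₀ : MulAut R) γ₀.2 _ h1
        have e : (g : MulAut R) = ((γ₀ : MulAut R))⁻¹ * ((γ₀ * g * γ₀⁻¹ : E.autGroup R) : MulAut R) *
            (γ₀ : MulAut R) := by
          push_cast
          group
        rw [e]
        exact h2
      | one => exact Subgroup.one_mem _
      | mul a b _ _ ha hb => exact Subgroup.mul_mem _ ha hb
      | inv a _ ha => exact Subgroup.inv_mem _ ha
    -- Frattini argument
    have hDp : IsPGroup p ↥(((autInducedBy T R).subgroupOf (E.autGroup R)).map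
        (MulAut.conj (⟨β, hβ⟩ : E.autGroup R)).toMonoidHom) :=
      ((isPGroup_autInducedBy hTp R).comap_subtype).map _
    have hDN : ((autInducedBy T R).subgroupOf (E.autGroup R)).map
        (MulAut.conj (⟨β, hβ⟩ : E.autGroup R)).toMonoidHom ≤ pElemGen p (E.autGroup R) :=
      le_pElemGen_of_isPGroup hDp
    obtain ⟨γ, hγN, hγD⟩ := exists_conj_le_sylow_of_le_normal Sy _ hDN hDp
    set ν : E.autGroup R := γ * ⟨β, hβ⟩ with hν
    set ν₀ : MulAut R := (ν : MulAut R) with hν₀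
    have hν₀E : R.subtype.comp (ν₀ : R ≃* R).toMonoidHom ∈ E.Hom R := (mem_autGroup_iff E hRT).mp ν.2
    have hNT : normalizerIn T R ≤ extender T R (R.subtype.comp (ν₀ : R ≃* R).toMonoidHom) := by
      intro g hg
      have hgN : g ∈ Subgroup.normalizer (R : Set Ω) := hg.2
      rw [mem_extender_iff]
      refine ⟨hg.1, hgN, ?_⟩
      have hcg : conjAut R g hgN ∈ autInducedBy T R := conjAut_mem_autInducedBy hg.1 hgN
      have hcgA : conjAut R g hgN ∈ E.autGroup R := autInducedBy_le_autGroup E hRT hcg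
      set c : E.autGroup R := ⟨conjAut R g hgN, hcgA⟩ with hc
      have hcD : (MulAut.conj (⟨β, hβ⟩ : E.autGroup R)) c ∈
          ((autInducedBy T R).subgroupOf (E.autGroup R)).map
            (MulAut.conj (⟨β, hβ⟩ : E.autGroup R)).toMonoidHom :=
        ⟨c, Subgroup.mem_subgroupOf.mpr hcg, rfl⟩
      have h3 : γ * ((MulAut.conj (⟨β, hβ⟩ : E.autGroup R)) c) * γ⁻¹ ∈ (Sy : Subgroup (E.autGroup R)) :=
        hγD _ hcD
      have h4 : γ * ((MulAut.conj (⟨β, hβ⟩ : E.autGroup R)) c) * γ⁻¹ = ν * c * ν⁻¹ := by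
        rw [hν, MulAut.conj_apply]
        group
      rw [h4, hSy, Subgroup.mem_subgroupOf] at h3
      obtain ⟨h, hhT, hh⟩ := Cfsg.Agent.Lib.Helper87.mem_autInducedBy_iff.mp h3
      refine ⟨h, hhT, fun x hx => ?_⟩
      have := hh (ν₀ x)
      show ((ν₀ ⟨g * (x : Ω) * g⁻¹, hx⟩ : R) : Ω) = h * ((ν₀ x : R) : Ω) * h⁻¹
      rw [← this]
      show ((ν₀ ⟨g * (x : Ω) * g⁻¹, hx⟩ : R) : Ω) = ((ν₀ ((conjAut R g hgN) (ν₀⁻¹ (ν₀ x))) : R) : Ω)
      rw [MulAut.inv_apply_self]
      rfl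
    obtain ⟨ψ, hψ, hψext⟩ := hrecE.2 R _ hν₀E (IsFIso.range_eq (ν₀ : R ≃* R))
    have hψ₁ : ψ.comp (Subgroup.inclusion hNT) ∈ E.Hom (normalizerIn T R) := restrict_mem E hNT hψ
    have hRN : R ≤ normalizerIn T R := le_normalizerIn hRT
    have hlt : Nat.card R < Nat.card (normalizerIn T R) := by
      obtain ⟨s, hsN, hsP⟩ := Cfsg.Agent.Lib.Helper89.exists_mem_normalizerIn_not_mem hTp hRT hReqT
      have : Finite (normalizerIn T R) := finite_of_le (normalizerIn_le T R)
      by_contra hge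
      have := Subgroup.eq_of_le_of_card_ge hRN (not_lt.mp hge)
      apply hsP
      rw [this]
      exact hsN
    have hψ₁G := hbig _ (normalizerIn_le T R) hlt hψ₁
    have hψ₂G := restrict_mem G hRN hψ₁G
    have hνG : R.subtype.comp (ν₀ : R ≃* R).toMonoidHom ∈ G.Hom R := by
      refine hom_congr _ hψ₂G (fun x => ?_)
      exact (hψext x x.2 (hNT (hRN x.2))).symm
    have hν₀G : ν₀ ∈ G.autGroup R := (mem_autGroup_iff G hRT).mpr hνG
    have hγinv : ((γ⁻¹ : E.autGroup R) : MulAut R) ∈ G.autGroup R :=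
      hclaim2 _ (Subgroup.inv_mem _ hγN)
    have e : β = ((γ⁻¹ : E.autGroup R) : MulAut R) * ν₀ := by
      have h5 : (⟨β, hβ⟩ : E.autGroup R) = γ⁻¹ * ν := by rw [hν, inv_mul_cancel_left]
      exact congrArg (fun z : E.autGroup R => (z : MulAut R)) h5
    have hβG : β ∈ G.autGroup R := by
      rw [e]
      exact Subgroup.mul_mem _ hγinv hν₀G
    exact ((mem_autGroup_iff G hRT).mp hβG).2 hRc

end Cfsg.Agent.Lib.Helper88
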