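import Cfsg.Agent.Lib.Helper88.FusionCE6

set_option autoImplicit false
open Cfsg

namespace Cfsg.Agent.Lib.Helper88

open Cfsg.FusionSystem Cfsg.Agent.Lib.Helper87
open Cfsg.Agent.Lib.Helper91 (isCentric_of_isConj isCentric_self)

variable {Ω : Type*} [Group Ω] {S T : Subgroup Ω}

/-- Lemma G: for a normal subsystem `E` of `F` over `T`, every map of `E` with `E`-centric source `Q` extends to a map of `F`
on `Q C_S(T)` that moves every element of `C_S(T)` only by an element of `T`. -/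
theorem goodExt_of_isNormalIn [Finite S] (p : ℕ) [Fact p.Prime] (hS : IsPGroup p S) (F : FusionSystem S)
    (E : FusionSystem T) (hE : E.IsNormalIn F p) {Q : Subgroup Ω} (hQ : E.IsCentric Q) {φ : Q →* Ω}
    (hφ : φ ∈ E.Hom Q) : GoodExt F T φ := by
  have hT : F.StronglyClosed T := hE.1.2.2.2.1
  have hTS : T ≤ S := hT.1
  have hn : S ≤ Subgroup.normalizer (T : Set Ω) := le_normalizer_of_stronglyClosed hT
  haveI : Finite T := finite_of_le hTS
  have hTp : IsPGroup p T := hS.to_le hTS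
  have h := hom_subset_of_aut_fullyNormalized p hTp E hE.1.1 (stronglyClosed_self E) (goodSys F E hn hTS)
    (goodSys_le F E hn hTS)
    (fun R hRT hRfn hbig β hβ => goodSys_step p hS F E hE hn hTS R hRT hRfn hbig β hβ) Q hQ.1 hφ
  exact h.2 hQ

/-- The displacement of an element of `C_S(T)` under a good extension of an automorphism of a subgroup `Q ≤ T` containing its
centralizer in `T` lies in `Q`, and the extension preserves `Q C_S(T)`. -/
theorem goodExt_aut_apply_mem (hn : S ≤ Subgroup.normalizer (T : Set Ω)) (hTS : T ≤ S)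
    {Q : Subgroup Ω} (hQT : Q ≤ T) (hQcen : centralizerIn T Q ≤ Q) (α : MulAut Q)
    {ψ : ↥(Q ⊔ centralizerIn S T) →* Ω}
    (hψQ : ∀ x : Q, ψ (Subgroup.inclusion le_sup_left x) = (Q.subtype.comp (α : Q ≃* Q).toMonoidHom) x)
    (hψc : ∀ c : ↥(Q ⊔ centralizerIn S T), (c : Ω) ∈ centralizerIn S T → (c : Ω)⁻¹ * ψ c ∈ T) :
    (∀ c : ↥(Q ⊔ centralizerIn S T), (c : Ω) ∈ centralizerIn S T → (c : Ω)⁻¹ * ψ c ∈ Q) ∧
      ∀ z : ↥(Q ⊔ centralizerIn S T), ψ z ∈ Q ⊔ centralizerIn S T := by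
  apply goodExt_apply_mem hn hQT hTS (fun x => hQT (α x).2) hψQ hψc (fun x => (α x).2)
  intro t ht hc
  apply hQcen
  rw [mem_centralizerIn]
  refine ⟨ht, fun y hy => ?_⟩
  have := hc (α⁻¹ ⟨y, hy⟩)
  have e : (Q.subtype.comp (α : Q ≃* Q).toMonoidHom) (α⁻¹ ⟨y, hy⟩) = y := by
    show ((α (α⁻¹ ⟨y, hy⟩) : Q) : Ω) = y
    rw [MulAut.apply_inv_self]
  rw [e] at this
  exact this.symm

end Cfsg.Agent.Lib.Helper88
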