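import Cfsg.Agent.Lib.Helper88.FusionCE7

set_option autoImplicit false
open Cfsg

namespace Cfsg.Agent.Lib.Helper88

open Cfsg.FusionSystem Cfsg.Agent.Lib.Helper87
open scoped commutatorElement

variable {Ω : Type*} [Group Ω] {S T : Subgroup Ω}

/-- A commutator is unchanged when its entries are multiplied by suitably commuting elements. -/
theorem commutatorElement_mul_mul_of_commute {G : Type*} [Group G] {a b z w : G} (h1 : Commute z b) (h2 : Commute z w)
    (h3 : Commute w a) : ⁅a * z, b * w⁆ = ⁅a, b⁆ := by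
  have e1 : z * (b * w) = (b * w) * z := (h1.mul_right h2).eq
  have e2 : w * a⁻¹ = a⁻¹ * w := (h3.inv_right).eq
  rw [commutatorElement_def, commutatorElement_def]
  calc a * z * (b * w) * (a * z)⁻¹ * (b * w)⁻¹ = a * (z * (b * w)) * z⁻¹ * a⁻¹ * w⁻¹ * b⁻¹ := by group
  _ = a * (b * w * z) * z⁻¹ * a⁻¹ * w⁻¹ * b⁻¹ := by rw [e1]
  _ = a * b * (w * a⁻¹) * w⁻¹ * b⁻¹ := by group
  _ = a * b * (a⁻¹ * w) * w⁻¹ * b⁻¹ := by rw [e2]
  _ = a * b * a⁻¹ * b⁻¹ := by group

/-- A good extension of an automorphism of a subgroup `Q ≤ T` containing its centralizer in `T` fixes the commutator subgroup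
of `C_S(T)` pointwise. -/
theorem exists_ext_fix_commutator (hn : S ≤ Subgroup.normalizer (T : Set Ω)) (hTS : T ≤ S) (F : FusionSystem S)
    {Q : Subgroup Ω} (hQT : Q ≤ T) (hQcen : centralizerIn T Q ≤ Q) {α : MulAut Q}
    (hαg : GoodExt F T (Q.subtype.comp (α : Q ≃* Q).toMonoidHom)) :
    ∃ χ ∈ F.Hom (Q ⊔ ⁅centralizerIn S T, centralizerIn S T⁆),
      (∀ x : Q, χ (Subgroup.inclusion le_sup_left x) = ((α x : Q) : Ω)) ∧
      ∀ y : ↥⁅centralizerIn S T, centralizerIn S T⁆, χ (Subgroup.inclusion le_sup_right y) = y := by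
  obtain ⟨ψ, hψ, hψQ, hψc⟩ := hαg
  obtain ⟨hzQ, -⟩ := goodExt_aut_apply_mem hn hTS hQT hQcen α hψQ hψc
  -- the displacement of `c` commutes with `Q`
  have hzc : ∀ c : ↥(Q ⊔ centralizerIn S T), (c : Ω) ∈ centralizerIn S T → ∀ x ∈ Q,
      Commute ((c : Ω)⁻¹ * ψ c) x := by
    intro c hc x hx
    set x' : Q := α⁻¹ ⟨x, hx⟩ with hx'
    have hψx : ψ (Subgroup.inclusion le_sup_left x') = x := by
      rw [hψQ x']
      show ((α (α⁻¹ ⟨x, hx⟩) : Q) : Ω) = x
      rw [MulAut.apply_inv_self]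
    have hcx : (Subgroup.inclusion le_sup_left x' : ↥(Q ⊔ centralizerIn S T)) * c =
        c * Subgroup.inclusion le_sup_left x' := by
      apply Subtype.ext
      exact (mem_centralizerIn.mp hc).2 _ (hQT x'.2)
    have h1 : Commute (ψ c) x := by
      show ψ c * x = x * ψ c
      rw [← hψx, ← map_mul, ← map_mul, hcx]
    have h2 : Commute (c : Ω) x := ((mem_centralizerIn.mp hc).2 _ (hQT hx)).symm
    exact h2.inv_left.mul_left h1
  -- the equalizer, pushed to `Ω`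
  set M : Subgroup Ω := Subgroup.map (Q ⊔ centralizerIn S T).subtype
    (MonoidHom.eqLocus ψ (Q ⊔ centralizerIn S T).subtype) with hM
  have hcomm : ⁅centralizerIn S T, centralizerIn S T⁆ ≤ M := by
    rw [Subgroup.commutator_le]
    intro a ha b hb
    have ha' : a ∈ Q ⊔ centralizerIn S T := le_sup_right (a := Q) ha
    have hb' : b ∈ Q ⊔ centralizerIn S T := le_sup_right (a := Q) hb
    refine ⟨⁅(⟨a, ha'⟩ : ↥(Q ⊔ centralizerIn S T)), ⟨b, hb'⟩⁆, ?_, ?_⟩
    · show ψ _ = (Q ⊔ centralizerIn S T).subtype _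
      rw [map_commutatorElement, map_commutatorElement]
      show ⁅ψ ⟨a, ha'⟩, ψ ⟨b, hb'⟩⁆ = ⁅a, b⁆
      have ea : ψ ⟨a, ha'⟩ = a * (a⁻¹ * ψ ⟨a, ha'⟩) := by group
      have eb : ψ ⟨b, hb'⟩ = b * (b⁻¹ * ψ ⟨b, hb'⟩) := by group
      rw [ea, eb]
      have hza := hzQ ⟨a, ha'⟩ ha
      have hzb := hzQ ⟨b, hb'⟩ hb
      apply commutatorElement_mul_mul_of_commute
      · exact ((mem_centralizerIn.mp hb).2 _ (hQT hza))
      · exact hzc ⟨a, ha'⟩ ha _ hzb
      · exact ((mem_centralizerIn.mp ha).2 _ (hQT hzb))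
    · rw [map_commutatorElement]
      rfl
  have hcs : ⁅centralizerIn S T, centralizerIn S T⁆ ≤ centralizerIn S T := by
    rw [Subgroup.commutator_le]
    intro a ha b hb
    rw [commutatorElement_def]
    exact Subgroup.mul_mem _ (Subgroup.mul_mem _ (Subgroup.mul_mem _ ha hb) (Subgroup.inv_mem _ ha))
      (Subgroup.inv_mem _ hb)
  have hle : Q ⊔ ⁅centralizerIn S T, centralizerIn S T⁆ ≤ Q ⊔ centralizerIn S T :=
    sup_le_sup_left hcs Q
  refine ⟨ψ.comp (Subgroup.inclusion hle), restrict_mem F hle hψ, fun x => hψQ x, fun y => ?_⟩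
  obtain ⟨z, hz, hzy⟩ := hcomm y.2
  have : Subgroup.inclusion hle (Subgroup.inclusion le_sup_right y) = z := by
    apply Subtype.ext
    exact hzy.symm
  show ψ (Subgroup.inclusion hle (Subgroup.inclusion le_sup_right y)) = y
  rw [this, hz]
  exact hzy

end Cfsg.Agent.Lib.Helper88
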