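import Cfsg.Agent.Lib.Helper88.FusionSC10
import Cfsg.Agent.Lib.Helper88.FusionOP4
import Cfsg.Agent.Lib.Helper88.FusionPP4
import Cfsg.Agent.Lib.Helper89.Subsystem

set_option autoImplicit false
open Cfsg

namespace Cfsg.Agent.Lib.Helper88

open Cfsg.FusionSystem Cfsg.Agent.Lib.Helper87
open Cfsg.Agent.Lib.Helper89 (fullSubsystem mem_fullSubsystem_iff autGroup_fullSubsystem)
open Cfsg.Agent.Lib.Helper90 (autMap mem_autMap autMap_le apply_mem_autMap)

variable {Ω : Type*} [Group Ω] {S T : Subgroup Ω}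

/-- `P ≤ T` is centric relative to `T`: every `F`-conjugate of `P` contains its centralizer in `T`. -/
def IsCen (F : FusionSystem S) (T P : Subgroup Ω) : Prop :=
  P ≤ T ∧ ∀ Q, F.IsConj P Q → centralizerIn T Q ≤ Q

theorem IsCen.of_isConj {F : FusionSystem S} {P Q : Subgroup Ω} (h : IsCen F T P) (hconj : F.IsConj P Q)
    (hQT : Q ≤ T) : IsCen F T Q :=
  ⟨hQT, fun R hR => h.2 R (isConj_trans F hconj hR)⟩

theorem IsCen.of_le {F : FusionSystem S} {P R : Subgroup Ω} (h : IsCen F T P)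
    (hPR : P ≤ R) (hRT : R ≤ T) : IsCen F T R := by
  refine ⟨hRT, fun R' hconj => ?_⟩
  obtain ⟨φ, hφ, hr⟩ := hconj
  have hφP : φ.comp (Subgroup.inclusion hPR) ∈ F.Hom P := restrict_mem F hPR hφ
  have hconjP : F.IsConj P (φ.comp (Subgroup.inclusion hPR)).range := ⟨_, hφP, rfl⟩
  have hle : (φ.comp (Subgroup.inclusion hPR)).range ≤ R' := by
    rintro _ ⟨x, rfl⟩
    rw [← hr]
    exact ⟨_, rfl⟩
  intro g hg
  obtain ⟨hgT, hgc⟩ := mem_centralizerIn.mp hg
  apply hle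
  apply h.2 _ hconjP
  exact mem_centralizerIn.mpr ⟨hgT, fun x hx => hgc x (hle hx)⟩

theorem isCen_of_isCentric {F : FusionSystem S} (hTS : T ≤ S) {P : Subgroup Ω} (hPT : P ≤ T) (hP : F.IsCentric P) :
    IsCen F T P := by
  refine ⟨hPT, fun Q hconj g hg => ?_⟩
  obtain ⟨hgT, hgc⟩ := mem_centralizerIn.mp hg
  exact hP.2 Q hconj (mem_centralizerIn.mpr ⟨hTS hgT, hgc⟩)

/-- The generators: the products of an element of `O^p(Aut_F(P))` and an element of `Aut_T(P)`, for `P` centric relative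
to `T`. -/
def hpGens (F : FusionSystem S) (p : ℕ) (T : Subgroup Ω) (P : Subgroup Ω) : Set (P →* Ω) :=
  {φ | IsCen F T P ∧ ∃ o ∈ (pResidual p (F.autGroup P)).map (F.autGroup P).subtype, ∃ τ ∈ autInducedBy T P,
    φ = P.subtype.comp ((o * τ : MulAut P) : P ≃* P).toMonoidHom}

theorem hpGens_subset (F : FusionSystem S) (p : ℕ) (hTS : T ≤ S) (P : Subgroup Ω) :
    hpGens F p T P ⊆ (fullSubsystem F T hTS).Hom P := by
  rintro _ ⟨hP, o, ho, τ, hτ, rfl⟩
  have hPS : P ≤ S := hP.1.trans hTS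
  have hoA : o ∈ F.autGroup P := Subgroup.map_subtype_le _ ho
  have hτA : τ ∈ F.autGroup P := autInducedBy_le_autGroup F hPS (autInducedBy_mono hTS hτ)
  exact ⟨autGroup_hom_mem F hPS (Subgroup.mul_mem _ hoA hτA), hP.1, fun x => hP.1 ((o * τ) x).2⟩

/-- The subsystem over `T` generated by the groups `O^p(Aut_F(P)) Aut_T(P)`. -/
def hpSystem (F : FusionSystem S) (p : ℕ) (T : Subgroup Ω) (hTS : T ≤ S) : FusionSystem T :=
  genSystem (fullSubsystem F T hTS) (hpGens F p T) (hpGens_subset F p hTS)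

theorem hpSystem_le_full (F : FusionSystem S) (p : ℕ) (hTS : T ≤ S) (P : Subgroup Ω) :
    (hpSystem F p T hTS).Hom P ⊆ (fullSubsystem F T hTS).Hom P :=
  genSystem_le _ _ _ _ (hpGens_subset F p hTS) P

theorem hpSystem_le (F : FusionSystem S) (p : ℕ) (hTS : T ≤ S) : (hpSystem F p T hTS).IsSubsystemOf F :=
  fun P _ hφ => (hpSystem_le_full F p hTS P hφ).1

theorem pResidual_le_hpSystem (F : FusionSystem S) (p : ℕ) (hTS : T ≤ S) {P : Subgroup Ω} (hP : IsCen F T P) :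
    (pResidual p (F.autGroup P)).map (F.autGroup P).subtype ≤ (hpSystem F p T hTS).autGroup P := by
  intro o ho
  rw [mem_autGroup_iff _ hP.1]
  refine subset_genSystem _ _ _ P ⟨hP, o, ho, 1, Subgroup.one_mem _, ?_⟩
  rw [mul_one]

theorem hpSystem_le_of (F : FusionSystem S) (p : ℕ) (hTS : T ≤ S) (D : FusionSystem T)
    (h : ∀ Q : Subgroup Ω, IsCen F T Q →
      (pResidual p (F.autGroup Q)).map (F.autGroup Q).subtype ≤ D.autGroup Q) (P : Subgroup Ω) :
    (hpSystem F p T hTS).Hom P ⊆ D.Hom P := by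
  apply genSystem_le
  rintro Q _ ⟨hQ, o, ho, τ, hτ, rfl⟩
  rw [← mem_autGroup_iff D hQ.1]
  exact Subgroup.mul_mem _ (h Q hQ ho) (autInducedBy_le_autGroup D hQ.1 hτ)

end Cfsg.Agent.Lib.Helper88
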