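import Cfsg.Agent.Lib.Helper88.FusionMN2

set_option autoImplicit false
open Cfsg

namespace Cfsg.Agent.Lib.Helper88

open Cfsg.FusionSystem Cfsg.Agent.Lib.Helper87
open Cfsg.Agent.Lib.Helper90 (autMap mem_autMap autMap_le apply_mem_autMap range_eq_of_forall_mem)
open Cfsg.Agent.Lib.Helper91 (isCentric_of_isConj isCentric_self)

variable {Ω : Type*} [Group Ω] {S T : Subgroup Ω}

/-- An element of `Aut_F(T)` of order prime to `p` whose restriction to a centric subgroup is a map of the saturated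
invariant subsystem `D` over `T` lies in `Aut_D(T)`. -/
theorem aut_mem_of_restrict_mem_coprime [Finite S] (p : ℕ) [Fact p.Prime] (hS : IsPGroup p S) (F : FusionSystem S)
    (hTS : T ≤ S) (D : FusionSystem T) (hD : D.IsSaturated p) (hDF : D.IsSubsystemOf F) (hinv : AutInvariant D F)
    {β : MulAut T} (hβ : β ∈ F.autGroup T) {m : ℕ} (hm : β ^ m = 1) (hmp : m.Coprime p) :
    ∀ (n : ℕ) (R : Subgroup Ω), Nat.card T - Nat.card R = n → D.IsCentric R →
      (∃ φ₁ ∈ D.Hom R, ∀ (x : Ω) (hx : x ∈ R) (hxT : x ∈ T), φ₁ ⟨x, hx⟩ = ((β ⟨x, hxT⟩ : T) : Ω)) →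
      T.subtype.comp (β : T ≃* T).toMonoidHom ∈ D.Hom T := by
  haveI : Finite T := finite_of_le hTS
  have hT : IsPGroup p T := hS.to_le hTS
  intro n
  induction n using Nat.strong_induction_on with
  | _ n ih =>
  intro R hn hRc hex
  obtain ⟨φ₁, hφ₁, hφ₁x⟩ := hex
  have hRT := hRc.1
  by_cases hReq : R = T
  · subst hReq
    exact hom_congr D hφ₁ (fun x => (hφ₁x x x.2 x.2).symm)
  obtain ⟨s, hsN, hsR⟩ := Cfsg.Agent.Lib.Helper89.exists_mem_normalizerIn_not_mem hT hRT hReq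
  have hNT : normalizerIn T R ≤ T := normalizerIn_le T R
  haveI : Finite (normalizerIn T R) := finite_of_le hNT
  have hRN : R ≤ normalizerIn T R := le_normalizerIn hRT
  have hlt : Nat.card R < Nat.card (normalizerIn T R) := card_lt_of_le_of_not_mem hRN hsN hsR
  -- the image is centric in `D`, hence receptive
  have hR₁c : D.IsCentric φ₁.range := isCentric_of_isConj D hRc ⟨φ₁, hφ₁, rfl⟩
  have hrec : D.IsReceptive φ₁.range :=
    ((isSaturated_iff p hT D).mp hD).2 _ (isFullyCentralized_of_isCentric D hR₁c)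
  obtain ⟨β', hβ', hβ'x⟩ := hrec.2 R φ₁ hφ₁ rfl
  have hNle : normalizerIn T R ≤ extender T R φ₁ := by
    intro g hg
    refine mem_extender_iff.mpr ⟨hg.1, hg.2, ((β ⟨g, hg.1⟩ : T) : Ω), (β ⟨g, hg.1⟩).2, fun x hx => ?_⟩
    rw [hφ₁x _ hx (hRT hx), hφ₁x _ x.2 (hRT x.2)]
    have e : (⟨g * (x : Ω) * g⁻¹, hRT hx⟩ : T) = ⟨g, hg.1⟩ * ⟨x, hRT x.2⟩ * ⟨g, hg.1⟩⁻¹ := Subtype.ext rfl
    rw [e, map_mul, map_mul, map_inv]
    rfl
  have hχ : β'.comp (Subgroup.inclusion hNle) ∈ D.Hom (normalizerIn T R) := restrict_mem D hNle hβ'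
  have hχx : ∀ x : normalizerIn T R, (x : Ω) ∈ R →
      (β'.comp (Subgroup.inclusion hNle)) x = ((β ⟨x, hNT x.2⟩ : T) : Ω) := by
    intro x hx
    show β' ⟨x, hNle x.2⟩ = ((β ⟨x, hNT x.2⟩ : T) : Ω)
    rw [hβ'x x hx (hNle x.2), hφ₁x x hx (hNT x.2)]
  have hβN := restrict_normalizer_mem p hS F hTS D hDF hinv hβ hm hmp hRN hNT inf_le_right
    (hRc.2 R (isConj_refl D hRT)) hχ hχx
  have hNc : D.IsCentric (normalizerIn T R) := Cfsg.Agent.Lib.Helper87.isCentric_of_le D hRc hRN hNT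
  have hcT := card_le_of_le hNT
  refine ih (Nat.card T - Nat.card (normalizerIn T R)) (by omega) (normalizerIn T R) rfl hNc ⟨_, hβN, ?_⟩
  intro x hx hxT
  rfl

/-- Let `E` and `D` be saturated subsystems of `F` over `T`, with `D` strongly invariant. An element of `Aut_E(T)` whose
restriction to a `D`-centric subgroup is a map of `D` lies in `Aut_D(T)`. -/
theorem aut_mem_of_restrict_mem_strongInv [Finite S] (p : ℕ) [Fact p.Prime] (hS : IsPGroup p S)
    (F : FusionSystem S) (hTS : T ≤ S) (E : FusionSystem T) (hE : E.IsSaturated p) (hEF : E.IsSubsystemOf F)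
    (D : FusionSystem T) (hD : D.IsSaturated p) (hDF : D.IsSubsystemOf F) (hSI : StrongInv D F)
    {α : MulAut T} (hα : α ∈ E.autGroup T) {R : Subgroup Ω} (hRc : D.IsCentric R)
    (hex : ∃ φ₁ ∈ D.Hom R, ∀ (x : Ω) (hx : x ∈ R) (hxT : x ∈ T), φ₁ ⟨x, hx⟩ = ((α ⟨x, hxT⟩ : T) : Ω)) :
    α ∈ D.autGroup T := by
  haveI : Finite T := finite_of_le hTS
  have hinv : AutInvariant D F := autInvariant_of_strongInv D F hTS hSI
  have hαF : α ∈ F.autGroup T :=
    (mem_autGroup_iff F hTS).mpr (hEF T ((mem_autGroup_iff E le_rfl).mp hα))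
  haveI : Finite (E.autGroup T) := finite_autGroup E le_rfl
  obtain ⟨φ₁, hφ₁, hφ₁x⟩ := hex
  -- the order of `α`
  set c : ℕ := Nat.card (E.autGroup T) with hc
  have hc0 : c ≠ 0 := Nat.card_pos.ne'
  have hαc : α ^ c = 1 := by
    have h1 : (⟨α, hα⟩ : E.autGroup T) ^ c = 1 := pow_card_eq_one'
    exact congrArg Subtype.val h1
  have hp : p.Prime := Fact.out
  obtain ⟨e, m, hpm, hcem⟩ := Nat.exists_eq_pow_mul_and_not_dvd hc0 p hp.ne_one
  have hmp : m.Coprime p := ((Nat.Prime.coprime_iff_not_dvd hp).mpr hpm).symm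
  -- the `p'`-part
  have hβm : (α ^ p ^ e) ^ m = 1 := by rw [← pow_mul, ← hcem, hαc]
  have hβF : α ^ p ^ e ∈ F.autGroup T := pow_mem hαF _
  have hβR := pow_restrict_mem F D hinv hαF hRc.1 hφ₁ hφ₁x (p ^ e)
  have hβD : α ^ p ^ e ∈ D.autGroup T := by
    rw [mem_autGroup_iff D le_rfl]
    exact aut_mem_of_restrict_mem_coprime p hS F hTS D hD hDF hinv hβF hβm hmp _ R rfl hRc
      ⟨_, hβR, fun x hx hxT => rfl⟩
  -- the `p`-part
  have hγ : (α ^ m) ^ p ^ e = 1 := by rw [← pow_mul, mul_comm, ← hcem, hαc]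
  have hγD : α ^ m ∈ D.autGroup T :=
    pElem_mem_autGroup_of_strongInv p hS F hTS E hE hEF D hSI le_rfl (pow_mem hα m) hγ
  exact mem_of_pow_mem_of_pow_mem_coprime _ (Nat.Coprime.pow_right e hmp) hγD hβD

/-- The `p'`-residual subsystem of a saturated subsystem `E` of `F` over `T` is contained in every saturated subsystem of
`F` over `T` that is invariant in `F`, provided `E` is invariant too. -/
theorem opRes_le_of_isInvariantIn [Finite S] (p : ℕ) [Fact p.Prime] (hS : IsPGroup p S) (F : FusionSystem S)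
    (E : FusionSystem T) (hE : E.IsSaturated p) (hEinv : E.IsInvariantIn F)
    (D : FusionSystem T) (hD : D.IsSaturated p) (hDinv : D.IsInvariantIn F) :
    (opRes E p).IsSubsystemOf D := by
  have hTS : T ≤ S := hEinv.2.1.1
  have hSI : StrongInv D F := strongInv_of_isInvariantIn hDinv
  have hEF : E.IsSubsystemOf F := hEinv.1
  have hDF : D.IsSubsystemOf F := hDinv.1
  have hbase : ∀ Q, (opBase E p).Hom Q ⊆ D.Hom Q := by
    apply opBase_le_of E p D
    intro Q hQ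
    rw [Subgroup.map_le_iff_le_comap]
    unfold pElemGen
    rw [Subgroup.closure_le]
    rintro a ⟨k, hk⟩
    rw [SetLike.mem_coe, Subgroup.mem_comap]
    have h1 : ((a : E.autGroup Q) : MulAut Q) ^ p ^ k = 1 := by
      have : a ^ p ^ k = 1 := by rw [← hk]; exact pow_orderOf_eq_one a
      exact congrArg Subtype.val this
    exact pElem_mem_autGroup_of_strongInv p hS F hTS E hE hEF D hSI hQ.1 a.2 h1
  rintro P φ ⟨α, hα, φ₀, hφ₀, hφx⟩
  have hαD : T.subtype.comp (α : T ≃* T).toMonoidHom ∈ D.Hom T := by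
    have hle : opAut E p ≤ D.autGroup T := by
      rw [opAut, Subgroup.closure_le]
      rintro γ ⟨hγ, R, hRc, φ₁, hφ₁, hφ₁x⟩
      rw [SetLike.mem_coe]
      exact aut_mem_of_restrict_mem_strongInv p hS F hTS E hE hEF D hD hDF hSI hγ
        (isCentric_of_isInvariantIn hEinv D hDF hRc) ⟨φ₁, hbase R hφ₁, hφ₁x⟩
    exact (mem_autGroup_iff D le_rfl).mp (hle hα)
  have hφ₀T : ∀ x : P, φ₀ x ∈ T := ((opBase E p).le_of_mem hφ₀).2
  exact comp_mem' D (hbase P hφ₀) hαD hφ₀T (fun x => hφx x (hφ₀T x))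

end Cfsg.Agent.Lib.Helper88
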