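import Cfsg.Agent.Lib.Helper88.FusionCE8
import Cfsg.Agent.Lib.Helper88.FusionMN3
import Cfsg.Agent.Lib.Helper88.FusionHP1

set_option autoImplicit false
open Cfsg

namespace Cfsg.Agent.Lib.Helper88

open Cfsg.FusionSystem Cfsg.Agent.Lib.Helper87

variable {Ω : Type*} [Group Ω] {S T : Subgroup Ω}

/-- A map of the system sends the elements of its source lying in a strongly closed subgroup into that subgroup. -/
theorem hom_apply_mem_of_stronglyClosed (F : FusionSystem S) (hT : F.StronglyClosed T) {P : Subgroup Ω}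
    {φ : P →* Ω} (hφ : φ ∈ F.Hom P) (x : P) (hx : (x : Ω) ∈ T) : φ x ∈ T := by
  have hle : T ⊓ P ≤ P := inf_le_right
  have h1 := restrict_mem F hle hφ
  exact hT.2 (T ⊓ P) inf_le_left _ h1 ⟨x, hx, x.2⟩

/-- The automorphisms in `Aut_F(X)` that fix the elements of `X ∩ T` and move every element of `X` only by an element of
`T`. -/
def tStab (F : FusionSystem S) (T X : Subgroup Ω) : Subgroup (MulAut X) where
  carrier := {χ | χ ∈ F.autGroup X ∧ (∀ x : X, (x : Ω) ∈ T → χ x = x) ∧ ∀ x : X, (x : Ω)⁻¹ * ((χ x : X) : Ω) ∈ T}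
  one_mem' := ⟨Subgroup.one_mem _, fun _ _ => rfl, fun x => by
    show (x : Ω)⁻¹ * (x : Ω) ∈ T
    rw [inv_mul_cancel]
    exact T.one_mem⟩
  mul_mem' := by
    rintro a b ⟨ha, hafix, hamove⟩ ⟨hb, hbfix, hbmove⟩
    refine ⟨Subgroup.mul_mem _ ha hb, fun x hx => ?_, fun x => ?_⟩
    · show a (b x) = x
      rw [hbfix x hx, hafix x hx]
    · show (x : Ω)⁻¹ * ((a (b x) : X) : Ω) ∈ T
      have e : (x : Ω)⁻¹ * ((a (b x) : X) : Ω) =
          ((x : Ω)⁻¹ * ((b x : X) : Ω)) * (((b x : X) : Ω)⁻¹ * ((a (b x) : X) : Ω)) := by group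
      rw [e]
      exact T.mul_mem (hbmove x) (hamove (b x))
  inv_mem' := by
    rintro a ⟨ha, hafix, hamove⟩
    refine ⟨Subgroup.inv_mem _ ha, fun x hx => ?_, fun x => ?_⟩
    · have := hafix x hx
      calc a⁻¹ x = a⁻¹ (a x) := by rw [this]
        _ = x := MulAut.inv_apply_self _ _ _
    · have h1 := hamove (a⁻¹ x)
      rw [MulAut.apply_inv_self] at h1
      have e : (x : Ω)⁻¹ * ((a⁻¹ x : X) : Ω) = (((a⁻¹ x : X) : Ω)⁻¹ * (x : Ω))⁻¹ := by group
      rw [e]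
      exact T.inv_mem h1

theorem mem_tStab {F : FusionSystem S} {X : Subgroup Ω} {χ : MulAut X} :
    χ ∈ tStab F T X ↔ χ ∈ F.autGroup X ∧ (∀ x : X, (x : Ω) ∈ T → χ x = x) ∧
      ∀ x : X, (x : Ω)⁻¹ * ((χ x : X) : Ω) ∈ T := Iff.rfl

/-- The elements of `tStab` have order dividing the order of `T`. -/
theorem tStab_pow_card [Finite T] {F : FusionSystem S} {X : Subgroup Ω} {χ : MulAut X} (h : χ ∈ tStab F T X) :
    χ ^ Nat.card T = 1 := by
  obtain ⟨-, hfix, hmove⟩ := h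
  apply pow_card_eq_one_of_stabilizes χ T hfix
  intro y
  refine ⟨y⁻¹ * χ y, hmove y, ?_⟩
  rw [mul_inv_cancel_left]

/-- `tStab` is normalized by `Aut_F(X)` when `T` is strongly closed. -/
theorem tStab_conj_mem {F : FusionSystem S} (hT : F.StronglyClosed T) {X : Subgroup Ω} (hXS : X ≤ S)
    {a χ : MulAut X} (ha : a ∈ F.autGroup X) (h : χ ∈ tStab F T X) : a * χ * a⁻¹ ∈ tStab F T X := by
  obtain ⟨hχ, hfix, hmove⟩ := h
  have hai : a⁻¹ ∈ F.autGroup X := Subgroup.inv_mem _ ha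
  refine ⟨Subgroup.mul_mem _ (Subgroup.mul_mem _ ha hχ) hai, fun x hx => ?_, fun x => ?_⟩
  · show a (χ (a⁻¹ x)) = x
    have h1 : ((a⁻¹ x : X) : Ω) ∈ T :=
      hom_apply_mem_of_stronglyClosed F hT ((mem_autGroup_iff F hXS).mp hai) x hx
    rw [hfix _ h1, MulAut.apply_inv_self]
  · show (x : Ω)⁻¹ * ((a (χ (a⁻¹ x)) : X) : Ω) ∈ T
    set y : X := a⁻¹ x with hy
    have hxy : x = a y := by rw [hy, MulAut.apply_inv_self]
    have h1 : ((y⁻¹ * χ y : X) : Ω) ∈ T := hmove y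
    have h2 : ((a (y⁻¹ * χ y) : X) : Ω) ∈ T :=
      hom_apply_mem_of_stronglyClosed F hT ((mem_autGroup_iff F hXS).mp ha) _ h1
    have e : (x : Ω)⁻¹ * ((a (χ y) : X) : Ω) = ((a (y⁻¹ * χ y) : X) : Ω) := by
      rw [hxy, map_mul, map_inv]
      rfl
    rw [e]
    exact h2

/-- `tStab` lies in `Aut_S(X)` when `X` is fully automized. -/
theorem tStab_le_autInducedBy [Finite S] (p : ℕ) [Fact p.Prime] (hS : IsPGroup p S) {F : FusionSystem S}
    (hT : F.StronglyClosed T) {X : Subgroup Ω} (hfa : F.IsFullyAutomized p X) :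
    tStab F T X ≤ autInducedBy S X := by
  obtain ⟨hXS, Sy, hSy⟩ := hfa
  haveI : Finite T := finite_of_le hT.1
  haveI hfin : Finite (F.autGroup X) := finite_autGroup F hXS
  have hTp : IsPGroup p T := hS.to_le hT.1
  intro χ hχ
  have hχA : χ ∈ F.autGroup X := hχ.1
  -- the subgroup of `Aut_F(X)` corresponding to `tStab`
  set D : Subgroup (F.autGroup X) := (tStab F T X).subgroupOf (F.autGroup X) with hD
  have hDp : IsPGroup p D := by
    rintro ⟨d, hd⟩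
    obtain ⟨n, hn⟩ := hTp.exists_card_eq
    refine ⟨n, Subtype.ext (Subtype.ext ?_)⟩
    have h1 : (d : MulAut X) ^ Nat.card T = 1 := tStab_pow_card (Subgroup.mem_subgroupOf.mp hd)
    rw [hn] at h1
    show (((d ^ p ^ n : F.autGroup X) : MulAut X)) = 1
    rw [Subgroup.coe_pow]
    exact h1
  obtain ⟨γ, -, hγ⟩ := exists_conj_le_sylow_of_le_normal Sy ⊤ (le_top : D ≤ ⊤) hDp
  -- conjugate back
  have h1 : (γ⁻¹ * ⟨χ, hχA⟩ * γ : F.autGroup X) ∈ D := by
    rw [hD, Subgroup.mem_subgroupOf]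
    have := tStab_conj_mem hT hXS (Subgroup.inv_mem _ γ.2) hχ
    simpa using this
  have h2 := hγ _ h1
  have e : γ * (γ⁻¹ * ⟨χ, hχA⟩ * γ) * γ⁻¹ = (⟨χ, hχA⟩ : F.autGroup X) := by group
  rw [e] at h2
  have h3 : (⟨χ, hχA⟩ : F.autGroup X) ∈ (Sy : Subgroup (F.autGroup X)) := h2
  rw [hSy, Subgroup.mem_subgroupOf] at h3
  exact h3

/-- Transport of `tStab` along an isomorphism of the system. -/
theorem congr_mem_tStab {F : FusionSystem S} (hT : F.StronglyClosed T) {X X₁ : Subgroup Ω} {e : X ≃* X₁} (he : IsFIso F e) {χ : MulAut X} (h : χ ∈ tStab F T X) :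
    MulAut.congr e χ ∈ tStab F T X₁ := by
  obtain ⟨hχ, hfix, hmove⟩ := h
  have hes : IsFIso F e.symm := IsFIso.symm F he
  refine ⟨(congr_mem_autGroup_iff F he χ).mpr hχ, fun x hx => ?_, fun x => ?_⟩
  · show e (χ (e.symm x)) = x
    have h1 : ((e.symm x : X) : Ω) ∈ T := hom_apply_mem_of_stronglyClosed F hT hes x hx
    rw [hfix _ h1, MulEquiv.apply_symm_apply]
  · show (x : Ω)⁻¹ * ((e (χ (e.symm x)) : X₁) : Ω) ∈ T
    set y : X := e.symm x with hy
    have hxy : x = e y := by rw [hy, MulEquiv.apply_symm_apply]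
    have h1 : ((y⁻¹ * χ y : X) : Ω) ∈ T := hmove y
    have h2 : ((e (y⁻¹ * χ y) : X₁) : Ω) ∈ T := hom_apply_mem_of_stronglyClosed F hT he _ h1
    have e' : (x : Ω)⁻¹ * ((e (χ y) : X₁) : Ω) = ((e (y⁻¹ * χ y) : X₁) : Ω) := by
      rw [hxy, map_mul, map_inv]
      rfl
    rw [e']
    exact h2

end Cfsg.Agent.Lib.Helper88
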