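import Cfsg.Agent.Lib.Helper88.FusionCrv1

set_option autoImplicit false
open Cfsg

namespace Cfsg.Agent.Lib.Helper88

open Cfsg.FusionSystem Cfsg.Agent.Lib.Helper87

variable {Ω : Type*} [Group Ω] {S T : Subgroup Ω}

/-- The automorphisms in `Aut_F(X)` that move every element of `X` only by an element of `T`. -/
def tMod (F : FusionSystem S) (T X : Subgroup Ω) : Subgroup (MulAut X) where
  carrier := {χ | χ ∈ F.autGroup X ∧ ∀ x : X, (x : Ω)⁻¹ * ((χ x : X) : Ω) ∈ T}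
  one_mem' := ⟨Subgroup.one_mem _, fun x => by
    show (x : Ω)⁻¹ * (x : Ω) ∈ T
    rw [inv_mul_cancel]
    exact T.one_mem⟩
  mul_mem' := by
    rintro a b ⟨ha, hamove⟩ ⟨hb, hbmove⟩
    refine ⟨Subgroup.mul_mem _ ha hb, fun x => ?_⟩
    show (x : Ω)⁻¹ * ((a (b x) : X) : Ω) ∈ T
    have e : (x : Ω)⁻¹ * ((a (b x) : X) : Ω) =
        ((x : Ω)⁻¹ * ((b x : X) : Ω)) * (((b x : X) : Ω)⁻¹ * ((a (b x) : X) : Ω)) := by group
    rw [e]
    exact T.mul_mem (hbmove x) (hamove (b x))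
  inv_mem' := by
    rintro a ⟨ha, hamove⟩
    refine ⟨Subgroup.inv_mem _ ha, fun x => ?_⟩
    have h1 := hamove (a⁻¹ x)
    rw [MulAut.apply_inv_self] at h1
    have e : (x : Ω)⁻¹ * ((a⁻¹ x : X) : Ω) = (((a⁻¹ x : X) : Ω)⁻¹ * (x : Ω))⁻¹ := by group
    rw [e]
    exact T.inv_mem h1

theorem mem_tMod {F : FusionSystem S} {X : Subgroup Ω} {χ : MulAut X} :
    χ ∈ tMod F T X ↔ χ ∈ F.autGroup X ∧ ∀ x : X, (x : Ω)⁻¹ * ((χ x : X) : Ω) ∈ T := Iff.rfl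

/-- `tMod` is normalized by `Aut_F(X)` when `T` is strongly closed. -/
theorem tMod_conj_mem {F : FusionSystem S} (hT : F.StronglyClosed T) {X : Subgroup Ω} (hXS : X ≤ S)
    {a χ : MulAut X} (ha : a ∈ F.autGroup X) (h : χ ∈ tMod F T X) : a * χ * a⁻¹ ∈ tMod F T X := by
  obtain ⟨hχ, hmove⟩ := h
  have hai : a⁻¹ ∈ F.autGroup X := Subgroup.inv_mem _ ha
  refine ⟨Subgroup.mul_mem _ (Subgroup.mul_mem _ ha hχ) hai, fun x => ?_⟩
  show (x : Ω)⁻¹ * ((a (χ (a⁻¹ x)) : X) : Ω) ∈ T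
  set y : X := a⁻¹ x with hy
  have hxy : x = a y := by rw [hy, MulAut.apply_inv_self]
  have h1 : ((y⁻¹ * χ y : X) : Ω) ∈ T := hmove y
  have h2 : ((a (y⁻¹ * χ y) : X) : Ω) ∈ T :=
    hom_apply_mem_of_stronglyClosed F hT ((mem_autGroup_iff F hXS).mp ha) _ h1
  have e : (x : Ω)⁻¹ * ((a (χ y) : X) : Ω) = ((a (y⁻¹ * χ y) : X) : Ω) := by
    rw [hxy, map_mul, map_inv]
    rfl
  rw [e]
  exact h2

/-- Conjugation by an element of `T` normalizing `X` lies in `tMod`. -/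
theorem conjAut_mem_tMod {F : FusionSystem S} (hT : F.StronglyClosed T) {X : Subgroup Ω} (hXS : X ≤ S)
    {t : Ω} (ht : t ∈ T) (htn : t ∈ Subgroup.normalizer (X : Set Ω)) : conjAut X t htn ∈ tMod F T X := by
  have hn : S ≤ Subgroup.normalizer (T : Set Ω) := le_normalizer_of_stronglyClosed hT
  refine ⟨autInducedBy_le_autGroup F hXS (conjAut_mem_autInducedBy (hT.1 ht) htn), fun x => ?_⟩
  rw [conjAut_apply]
  have hx : (x : Ω)⁻¹ ∈ Subgroup.normalizer (T : Set Ω) := hn (S.inv_mem (hXS x.2))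
  have h1 : (x : Ω)⁻¹ * t * ((x : Ω)⁻¹)⁻¹ ∈ T := (Subgroup.mem_normalizer_iff.mp hx t).mp ht
  have e : (x : Ω)⁻¹ * (t * (x : Ω) * t⁻¹) = ((x : Ω)⁻¹ * t * ((x : Ω)⁻¹)⁻¹) * t⁻¹ := by group
  rw [e]
  exact T.mul_mem h1 (T.inv_mem ht)

/-- The commutator of an automorphism `Ψ ∈ Aut_F(X)` fixing the elements of `X ∩ T` with the conjugation by an element of
`T` normalizing `X` and `X ∩ T`... lies in `tStab`. -/
theorem comm_conjAut_mem_tStab {F : FusionSystem S} (hT : F.StronglyClosed T) {X : Subgroup Ω} (hXS : X ≤ S)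
    {Ψ : MulAut X} (hΨ : Ψ ∈ F.autGroup X) (hfix : ∀ x : X, (x : Ω) ∈ T → Ψ x = x)
    {t : Ω} (ht : t ∈ T) (htn : t ∈ Subgroup.normalizer (X : Set Ω)) :
    Ψ * conjAut X t htn * Ψ⁻¹ * (conjAut X t htn)⁻¹ ∈ tStab F T X := by
  have hc := conjAut_mem_tMod (F := F) hT hXS ht htn
  have h1 : Ψ * conjAut X t htn * Ψ⁻¹ ∈ tMod F T X := tMod_conj_mem hT hXS hΨ hc
  have h2 : Ψ * conjAut X t htn * Ψ⁻¹ * (conjAut X t htn)⁻¹ ∈ tMod F T X :=
    Subgroup.mul_mem _ h1 (Subgroup.inv_mem _ hc)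
  refine ⟨h2.1, fun x hx => ?_, h2.2⟩
  have hn : S ≤ Subgroup.normalizer (T : Set Ω) := le_normalizer_of_stronglyClosed hT
  have hfix' : ∀ x : X, (x : Ω) ∈ T → Ψ⁻¹ x = x := by
    intro x hx
    calc Ψ⁻¹ x = Ψ⁻¹ (Ψ x) := by rw [hfix x hx]
      _ = x := MulAut.inv_apply_self _ _ _
  show Ψ (conjAut X t htn (Ψ⁻¹ ((conjAut X t htn)⁻¹ x))) = x
  -- the element `t⁻¹ x t` lies in `T`
  have h3 : (((conjAut X t htn)⁻¹ x : X) : Ω) ∈ T := by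
    have e : (conjAut X t htn)⁻¹ = conjAut X t⁻¹ (Subgroup.inv_mem _ htn) := by
      rw [inv_eq_iff_mul_eq_one]
      ext y
      show t * (t⁻¹ * (y : Ω) * t⁻¹⁻¹) * t⁻¹ = y
      group
    rw [e, conjAut_apply]
    exact T.mul_mem (T.mul_mem (T.inv_mem ht) hx) (T.inv_mem (T.inv_mem ht))
  rw [hfix' _ h3, MulAut.apply_inv_self, hfix x hx]

end Cfsg.Agent.Lib.Helper88
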