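import Cfsg.Agent.Lib.Helper88.FusionCrv2

set_option autoImplicit false
open Cfsg

namespace Cfsg.Agent.Lib.Helper88

open Cfsg.FusionSystem Cfsg.Agent.Lib.Helper87

variable {Ω : Type*} [Group Ω] {S T : Subgroup Ω}

/-- The elements of `R C_S(T)` lying in `T` lie in `R`, when `C_T(R) ≤ R`. -/
theorem mem_of_mem_sup_centralizerIn_of_mem (hn : S ≤ Subgroup.normalizer (T : Set Ω)) (hTS : T ≤ S)
    {R : Subgroup Ω} (hRT : R ≤ T) (hcen : centralizerIn T R ≤ R) {x : Ω}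
    (hx : x ∈ R ⊔ centralizerIn S T) (hxT : x ∈ T) : x ∈ R := by
  obtain ⟨r, hr, c, hc, rfl⟩ := exists_mul_of_mem_sup_centralizerIn hn (hRT.trans hTS) hx
  have hcT : c ∈ T := by
    have e : c = r⁻¹ * (r * c) := by group
    rw [e]
    exact T.mul_mem (T.inv_mem (hRT hr)) hxT
  have hcR : c ∈ R := by
    apply hcen
    rw [mem_centralizerIn]
    exact ⟨hcT, fun y hy => (mem_centralizerIn.mp hc).2 y (hRT hy)⟩
  exact R.mul_mem hr hcR

/-- Conjugation by an element of `N_T(R)` maps `R C_S(T)` into itself. -/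
theorem conj_mem_sup_centralizerIn (hn : S ≤ Subgroup.normalizer (T : Set Ω)) (hTS : T ≤ S)
    {R : Subgroup Ω} (hRT : R ≤ T) {t : Ω} (ht : t ∈ normalizerIn T R) {x : Ω}
    (hx : x ∈ R ⊔ centralizerIn S T) : t * x * t⁻¹ ∈ R ⊔ centralizerIn S T := by
  obtain ⟨r, hr, c, hc, rfl⟩ := exists_mul_of_mem_sup_centralizerIn hn (hRT.trans hTS) hx
  have h1 : t * r * t⁻¹ ∈ R := (Subgroup.mem_normalizer_iff.mp ht.2 r).mp hr
  have h2 : t * c = c * t := (mem_centralizerIn.mp hc).2 t ht.1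
  have e : t * (r * c) * t⁻¹ = (t * r * t⁻¹) * c := by
    calc t * (r * c) * t⁻¹ = t * r * (c * t⁻¹) := by group
      _ = t * r * (t⁻¹ * (t * c) * t⁻¹) := by group
      _ = t * r * (t⁻¹ * (c * t) * t⁻¹) := by rw [h2]
      _ = (t * r * t⁻¹) * c := by group
  rw [e]
  exact Subgroup.mul_mem _ (Subgroup.mem_sup_left h1) (Subgroup.mem_sup_right hc)

/-- `N_T(R)` normalizes `R C_S(T)`. -/
theorem normalizerIn_le_normalizer_sup_centralizerIn (hn : S ≤ Subgroup.normalizer (T : Set Ω)) (hTS : T ≤ S)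
    {R : Subgroup Ω} (hRT : R ≤ T) {t : Ω} (ht : t ∈ normalizerIn T R) :
    t ∈ Subgroup.normalizer ((R ⊔ centralizerIn S T : Subgroup Ω) : Set Ω) := by
  rw [Subgroup.mem_normalizer_iff]
  intro x
  constructor
  · exact fun hx => conj_mem_sup_centralizerIn hn hTS hRT ht hx
  · intro hx
    have hti : t⁻¹ ∈ normalizerIn T R := Subgroup.inv_mem _ ht
    have := conj_mem_sup_centralizerIn hn hTS hRT hti hx
    have e : t⁻¹ * (t * x * t⁻¹) * t⁻¹⁻¹ = x := by group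
    rw [e] at this
    exact this

/-- **The extension step.** Let `R ≤ T` be centric relative to `T` and `Ψ` an automorphism in `Aut_F(R C_S(T))` fixing the
elements of `T`. Then `Ψ` extends to an automorphism in `Aut_F(N_T(R) C_S(T))` moving each element of `N_T(R)` by an
element of `R`. -/
theorem exists_ext_normalizer [Finite S] (p : ℕ) [Fact p.Prime] (hS : IsPGroup p S) (F : FusionSystem S)
    (hF : F.IsSaturated p) (hT : F.StronglyClosed T) {R : Subgroup Ω} (hR : IsCen F T R)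
    {Ψ : MulAut ↥(R ⊔ centralizerIn S T)} (hΨ : Ψ ∈ F.autGroup (R ⊔ centralizerIn S T))
    (hfix : ∀ x : ↥(R ⊔ centralizerIn S T), (x : Ω) ∈ T → Ψ x = x) :
    ∃ Ψ₂ : MulAut ↥(normalizerIn T R ⊔ centralizerIn S T),
      Ψ₂ ∈ F.autGroup (normalizerIn T R ⊔ centralizerIn S T) ∧
      (∀ (x : Ω) (hx : x ∈ R ⊔ centralizerIn S T) (hy : x ∈ normalizerIn T R ⊔ centralizerIn S T),
        ((Ψ₂ ⟨x, hy⟩ : ↥(normalizerIn T R ⊔ centralizerIn S T)) : Ω) =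
          ((Ψ ⟨x, hx⟩ : ↥(R ⊔ centralizerIn S T)) : Ω)) ∧
      ∀ (t : Ω) (_ : t ∈ normalizerIn T R) (hy : t ∈ normalizerIn T R ⊔ centralizerIn S T),
        t⁻¹ * ((Ψ₂ ⟨t, hy⟩ : ↥(normalizerIn T R ⊔ centralizerIn S T)) : Ω) ∈ R := by
  have hTS : T ≤ S := hT.1
  have hn : S ≤ Subgroup.normalizer (T : Set Ω) := le_normalizer_of_stronglyClosed hT
  have hRT : R ≤ T := hR.1
  have hRS : R ≤ S := hRT.trans hTS
  have hcenR : centralizerIn T R ≤ R := hR.2 R (isConj_refl F hRS)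
  have hXS : R ⊔ centralizerIn S T ≤ S := sup_le hRS (centralizerIn_le S T)
  have hNT : normalizerIn T R ≤ T := normalizerIn_le T R
  have hNS : normalizerIn T R ≤ S := hNT.trans hTS
  have hYS : normalizerIn T R ⊔ centralizerIn S T ≤ S := sup_le hNS (centralizerIn_le S T)
  have hRN : R ≤ normalizerIn T R := le_normalizerIn hRT
  have hXY : R ⊔ centralizerIn S T ≤ normalizerIn T R ⊔ centralizerIn S T := sup_le_sup_right hRN _
  have hNX : ∀ t ∈ normalizerIn T R, t ∈ Subgroup.normalizer ((R ⊔ centralizerIn S T : Subgroup Ω) : Set Ω) :=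
    fun t ht => normalizerIn_le_normalizer_sup_centralizerIn hn hTS hRT ht
  have hXNX : R ⊔ centralizerIn S T ≤ normalizerIn S (R ⊔ centralizerIn S T) := le_normalizerIn hXS
  have hYNX : normalizerIn T R ⊔ centralizerIn S T ≤ normalizerIn S (R ⊔ centralizerIn S T) :=
    sup_le (fun t ht => ⟨hNS ht, hNX t ht⟩) (le_sup_right.trans hXNX)
  -- a fully normalized conjugate
  obtain ⟨X₁, hconj, hfn⟩ := exists_isFullyNormalized F hXS
  obtain ⟨hfc, hfa⟩ := fullyNormalized_props p hS F hF X₁ hfn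
  have hrec := isReceptive_of_isFullyCentralized p hS F hF X₁ hfc
  obtain ⟨ψF, hψF, -, hmap, hmem⟩ := exists_normalizer_hom p hS F X₁ (R ⊔ centralizerIn S T) hfa hrec hconj
  -- the restriction of `ψF` to `X`
  have hθ₀F : ψF.comp (Subgroup.inclusion hXNX) ∈ F.Hom (R ⊔ centralizerIn S T) := restrict_mem F hXNX hψF
  have hθ₀r : (ψF.comp (Subgroup.inclusion hXNX)).range = X₁ := by
    ext y
    constructor
    · rintro ⟨x, rfl⟩
      exact hmem _ x.2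
    · intro hy
      rw [← hmap] at hy
      obtain ⟨x, hx, rfl⟩ := hy
      exact ⟨⟨x, Subgroup.mem_subgroupOf.mp hx⟩, rfl⟩
  set e : ↥(R ⊔ centralizerIn S T) ≃* X₁ := homEquiv F hθ₀F hθ₀r with he
  have heF : IsFIso F e := isFIso_homEquiv F hθ₀F hθ₀r
  have hex : ∀ x : ↥(R ⊔ centralizerIn S T), ((e x : X₁) : Ω) = ψF ⟨x, hXNX x.2⟩ := fun x => rfl
  -- the composite `e ∘ Ψ`
  set e' : ↥(R ⊔ centralizerIn S T) ≃* X₁ := (Ψ : ↥(R ⊔ centralizerIn S T) ≃* ↥(R ⊔ centralizerIn S T)).trans e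
    with he'
  have he'F : IsFIso F e' := IsFIso.trans F ((isFIso_iff_mem_autGroup F hXS).mpr hΨ) heF
  have he'x : ∀ x : ↥(R ⊔ centralizerIn S T), ((e' x : X₁) : Ω) = ψF ⟨(Ψ x : ↥(R ⊔ centralizerIn S T)), hXNX (Ψ x).2⟩ :=
    fun x => rfl
  -- `N_T(R)` lies in the extender
  have hNext : normalizerIn T R ≤ extender S (R ⊔ centralizerIn S T) (X₁.subtype.comp e'.toMonoidHom) := by
    intro t ht
    have htN : t ∈ normalizerIn S (R ⊔ centralizerIn S T) := ⟨hNS ht, hNX t ht⟩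
    apply mem_extender_of_congr e' htN
    -- decompose
    have hε := comm_conjAut_mem_tStab hT hXS hΨ hfix ht.1 htN.2
    have hε₁ : MulAut.congr e (Ψ * conjAut _ t htN.2 * Ψ⁻¹ * (conjAut _ t htN.2)⁻¹) ∈ autInducedBy S X₁ :=
      tStab_le_autInducedBy p hS hT hfa (congr_mem_tStab hT heF hε)
    have hc₁ : MulAut.congr e (conjAut _ t htN.2) ∈ autInducedBy S X₁ := by
      rw [mem_autInducedBy_iff]
      refine ⟨ψF ⟨t, htN⟩, hom_mem F hψF _, fun y => ?_⟩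
      show ((e (conjAut _ t htN.2 (e.symm y)) : X₁) : Ω) = _
      rw [hex]
      have h1 : (⟨((conjAut _ t htN.2 (e.symm y) : ↥(R ⊔ centralizerIn S T)) : Ω), hXNX (conjAut _ t htN.2 (e.symm y)).2⟩ :
          normalizerIn S (R ⊔ centralizerIn S T)) =
          ⟨t, htN⟩ * ⟨((e.symm y : ↥(R ⊔ centralizerIn S T)) : Ω), hXNX (e.symm y).2⟩ * (⟨t, htN⟩)⁻¹ := by
        apply Subtype.ext
        rfl
      rw [h1, map_mul, map_mul, map_inv, ← hex, MulEquiv.apply_symm_apply]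
    have hprod : MulAut.congr e' (conjAut _ t htN.2) =
        MulAut.congr e (Ψ * conjAut _ t htN.2 * Ψ⁻¹ * (conjAut _ t htN.2)⁻¹) * MulAut.congr e (conjAut _ t htN.2) := by
      rw [← map_mul]
      ext y
      simp [MulAut.congr, he']
    rw [hprod]
    exact Subgroup.mul_mem _ hε₁ hc₁
  have hXext : R ⊔ centralizerIn S T ≤ extender S (R ⊔ centralizerIn S T) (X₁.subtype.comp e'.toMonoidHom) :=
    le_extender hXS (hom_mem F he'F)
  have hYext : normalizerIn T R ⊔ centralizerIn S T ≤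
      extender S (R ⊔ centralizerIn S T) (X₁.subtype.comp e'.toMonoidHom) :=
    sup_le hNext (le_sup_right.trans hXext)
  -- receptivity
  obtain ⟨Φ, hΦ, hΦext⟩ := hrec.2 _ _ he'F (IsFIso.range_eq e')
  have hΦY : Φ.comp (Subgroup.inclusion hYext) ∈ F.Hom (normalizerIn T R ⊔ centralizerIn S T) :=
    restrict_mem F hYext hΦ
  have hθY : ψF.comp (Subgroup.inclusion hYNX) ∈ F.Hom (normalizerIn T R ⊔ centralizerIn S T) :=
    restrict_mem F hYNX hψF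
  -- values of `Φ` on `X`
  have hΦX : ∀ (x : Ω) (hx : x ∈ R ⊔ centralizerIn S T),
      Φ ⟨x, hXext hx⟩ = ψF ⟨(Ψ ⟨x, hx⟩ : ↥(R ⊔ centralizerIn S T)), hXNX (Ψ ⟨x, hx⟩).2⟩ := by
    intro x hx
    rw [hΦext x hx (hXext hx)]
    rfl
  -- values of `Φ` on `N_T(R)`
  have hRX : R ≤ R ⊔ centralizerIn S T := le_sup_left
  have hΦN : ∀ (t : Ω) (ht : t ∈ normalizerIn T R), ∃ (r₀ : Ω) (hr₀ : r₀ ∈ R),
      Φ ⟨t, hNext ht⟩ = ψF ⟨t * r₀, hYNX (Subgroup.mem_sup_left (Subgroup.mul_mem _ ht (hRN hr₀)))⟩ := by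
    intro t ht
    have htN : t ∈ normalizerIn S (R ⊔ centralizerIn S T) := ⟨hNS ht, hNX t ht⟩
    have hψt : ψF ⟨t, htN⟩ ∈ T := hom_apply_mem_of_stronglyClosed F hT hψF ⟨t, htN⟩ ht.1
    have hΦt : Φ ⟨t, hNext ht⟩ ∈ T := hom_apply_mem_of_stronglyClosed F hT hΦ ⟨t, hNext ht⟩ ht.1
    -- the image of `R`
    have hρF : ψF.comp (Subgroup.inclusion (hRX.trans hXNX)) ∈ F.Hom R := restrict_mem F (hRX.trans hXNX) hψF
    have hcen₁ := hR.2 _ ⟨_, hρF, rfl⟩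
    have hg : (ψF ⟨t, htN⟩)⁻¹ * Φ ⟨t, hNext ht⟩ ∈ centralizerIn T (ψF.comp (Subgroup.inclusion (hRX.trans hXNX))).range := by
      rw [mem_centralizerIn]
      refine ⟨T.mul_mem (T.inv_mem hψt) hΦt, ?_⟩
      rintro _ ⟨r, rfl⟩
      show ψF ⟨(r : Ω), (hRX.trans hXNX) r.2⟩ * _ = _ * ψF ⟨(r : Ω), (hRX.trans hXNX) r.2⟩
      have hconjR : t * (r : Ω) * t⁻¹ ∈ R := (Subgroup.mem_normalizer_iff.mp ht.2 r).mp r.2
      -- first computation
      have h1 : Φ ⟨t * (r : Ω) * t⁻¹, hXext (hRX hconjR)⟩ =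
          Φ ⟨t, hNext ht⟩ * Φ ⟨(r : Ω), hXext (hRX r.2)⟩ * (Φ ⟨t, hNext ht⟩)⁻¹ := by
        rw [← map_inv, ← map_mul, ← map_mul]
        rfl
      have h2 : Φ ⟨t * (r : Ω) * t⁻¹, hXext (hRX hconjR)⟩ = ψF ⟨t * (r : Ω) * t⁻¹, hXNX (hRX hconjR)⟩ := by
        rw [hΦX _ (hRX hconjR)]
        congr 1
        apply Subtype.ext
        show ((Ψ ⟨t * (r : Ω) * t⁻¹, hRX hconjR⟩ : ↥(R ⊔ centralizerIn S T)) : Ω) = t * (r : Ω) * t⁻¹
        rw [hfix _ (hRT hconjR)]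
      have h3 : Φ ⟨(r : Ω), hXext (hRX r.2)⟩ = ψF ⟨(r : Ω), hXNX (hRX r.2)⟩ := by
        rw [hΦX _ (hRX r.2)]
        congr 1
        apply Subtype.ext
        show ((Ψ ⟨(r : Ω), hRX r.2⟩ : ↥(R ⊔ centralizerIn S T)) : Ω) = (r : Ω)
        rw [hfix _ (hRT r.2)]
      have h4 : ψF ⟨t * (r : Ω) * t⁻¹, hXNX (hRX hconjR)⟩ =
          ψF ⟨t, htN⟩ * ψF ⟨(r : Ω), hXNX (hRX r.2)⟩ * (ψF ⟨t, htN⟩)⁻¹ := by
        rw [← map_inv, ← map_mul, ← map_mul]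
        rfl
      rw [h2, h3, h4] at h1
      set a := ψF ⟨t, htN⟩
      set b := Φ ⟨t, hNext ht⟩
      set y := ψF ⟨(r : Ω), hXNX (hRX r.2)⟩
      calc y * (a⁻¹ * b) = a⁻¹ * (a * y * a⁻¹) * b := by group
        _ = a⁻¹ * (b * y * b⁻¹) * b := by rw [h1]
        _ = a⁻¹ * b * y := by group
    obtain ⟨r₀, hr₀⟩ := hcen₁ hg
    refine ⟨(r₀ : Ω), r₀.2, ?_⟩
    have h5 : ψF ⟨t * (r₀ : Ω), hYNX (Subgroup.mem_sup_left (Subgroup.mul_mem _ ht (hRN r₀.2)))⟩ =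
        ψF ⟨t, htN⟩ * ψF ⟨(r₀ : Ω), (hRX.trans hXNX) r₀.2⟩ := by
      rw [← map_mul]
      rfl
    rw [h5]
    have h6 : ψF ⟨(r₀ : Ω), (hRX.trans hXNX) r₀.2⟩ = (ψF ⟨t, htN⟩)⁻¹ * Φ ⟨t, hNext ht⟩ := hr₀
    rw [h6, mul_inv_cancel_left]
  -- the image of `Φ` on `Y` lies in the image of `ψF` on `Y`
  have hrange : ∀ y : ↥(normalizerIn T R ⊔ centralizerIn S T),
      (Φ.comp (Subgroup.inclusion hYext)) y ∈ (ψF.comp (Subgroup.inclusion hYNX)).range := by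
    intro y
    obtain ⟨t, ht, c, hc, hy⟩ := exists_mul_of_mem_sup_centralizerIn hn hNS y.2
    obtain ⟨r₀, hr₀, hΦt⟩ := hΦN t ht
    have hcX : c ∈ R ⊔ centralizerIn S T := Subgroup.mem_sup_right hc
    have hw : t * r₀ * ((Ψ ⟨c, hcX⟩ : ↥(R ⊔ centralizerIn S T)) : Ω) ∈ normalizerIn T R ⊔ centralizerIn S T :=
      Subgroup.mul_mem _ (Subgroup.mem_sup_left (Subgroup.mul_mem _ ht (hRN hr₀))) (hXY (Ψ ⟨c, hcX⟩).2)
    refine ⟨⟨_, hw⟩, ?_⟩
    show ψF ⟨t * r₀ * ((Ψ ⟨c, hcX⟩ : ↥(R ⊔ centralizerIn S T)) : Ω), hYNX hw⟩ = Φ ⟨(y : Ω), hYext y.2⟩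
    have e1 : (⟨(y : Ω), hYext y.2⟩ : ↥(extender S (R ⊔ centralizerIn S T) (X₁.subtype.comp e'.toMonoidHom))) =
        ⟨t, hNext ht⟩ * ⟨c, hXext hcX⟩ := Subtype.ext hy
    have e2 : (⟨t * r₀ * ((Ψ ⟨c, hcX⟩ : ↥(R ⊔ centralizerIn S T)) : Ω), hYNX hw⟩ :
        ↥(normalizerIn S (R ⊔ centralizerIn S T))) =
        ⟨t * r₀, hYNX (Subgroup.mem_sup_left (Subgroup.mul_mem _ ht (hRN hr₀)))⟩ *
          ⟨((Ψ ⟨c, hcX⟩ : ↥(R ⊔ centralizerIn S T)) : Ω), hXNX (Ψ ⟨c, hcX⟩).2⟩ := Subtype.ext rfl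
    rw [e1, e2, map_mul, map_mul, hΦt, hΦX c hcX]
  -- the inverse of `ψF` on `Y`
  obtain ⟨ι, hι, hιx, -⟩ := inv_mem' F hθY rfl
  have hχ : ι.comp ((Φ.comp (Subgroup.inclusion hYext)).codRestrict _ hrange) ∈
      F.Hom (normalizerIn T R ⊔ centralizerIn S T) := F.comp_mem hΦY hι hrange
  set χ := ι.comp ((Φ.comp (Subgroup.inclusion hYext)).codRestrict _ hrange) with hχdef
  -- values of `χ`
  have hχval : ∀ (y w : ↥(normalizerIn T R ⊔ centralizerIn S T)),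
      Φ ⟨(y : Ω), hYext y.2⟩ = ψF ⟨(w : Ω), hYNX w.2⟩ → χ y = (w : Ω) := by
    intro y w h
    apply hιx w ⟨(Φ.comp (Subgroup.inclusion hYext)) y, hrange y⟩
    exact h.symm
  have hχX : ∀ (x : Ω) (hx : x ∈ R ⊔ centralizerIn S T),
      χ ⟨x, hXY hx⟩ = ((Ψ ⟨x, hx⟩ : ↥(R ⊔ centralizerIn S T)) : Ω) :=
    fun x hx => hχval ⟨x, hXY hx⟩ ⟨_, hXY (Ψ ⟨x, hx⟩).2⟩ (hΦX x hx)
  have hχN : ∀ (t : Ω) (ht : t ∈ normalizerIn T R),
      t⁻¹ * χ ⟨t, Subgroup.mem_sup_left ht⟩ ∈ R := by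
    intro t ht
    obtain ⟨r₀, hr₀, hΦt⟩ := hΦN t ht
    have := hχval ⟨t, Subgroup.mem_sup_left ht⟩
      ⟨t * r₀, Subgroup.mem_sup_left (Subgroup.mul_mem _ ht (hRN hr₀))⟩ hΦt
    rw [this]
    show t⁻¹ * (t * r₀) ∈ R
    rw [inv_mul_cancel_left]
    exact hr₀
  have hχY : ∀ y : ↥(normalizerIn T R ⊔ centralizerIn S T), χ y ∈ normalizerIn T R ⊔ centralizerIn S T := by
    intro y
    obtain ⟨w, hw⟩ := hrange y
    have := hχval y w hw.symm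
    rw [this]
    exact w.2
  have hχr : χ.range = normalizerIn T R ⊔ centralizerIn S T :=
    Cfsg.Agent.Lib.Helper90.range_eq_of_forall_mem F hχ hχY
  refine ⟨homEquiv F hχ hχr, homEquiv_mem_autGroup F hχ hχr, fun x hx hy => ?_, fun t ht hy => ?_⟩
  · rw [homEquiv_apply]
    exact hχX x hx
  · rw [homEquiv_apply]
    exact hχN t ht

end Cfsg.Agent.Lib.Helper88
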