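import Cfsg.Agent.Lib.Helper88.FusionCrv3

set_option autoImplicit false
open Cfsg

namespace Cfsg.Agent.Lib.Helper88

open Cfsg.FusionSystem Cfsg.Agent.Lib.Helper87

variable {Ω : Type*} [Group Ω] {S T : Subgroup Ω}

/-- Powers of an automorphism on an element moved by a fixed element. -/
theorem pow_apply_of_fix {A : Type*} [Group A] (a : MulAut A) {y z : A} (hz : a z = z) (hyz : a y = y * z) (n : ℕ) :
    (a ^ n) y = y * z ^ n := by
  induction n with
  | zero => simp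
  | succ n ih =>
    rw [pow_succ', MulAut.mul_apply, ih, map_mul, map_pow, hz, hyz, pow_succ', mul_assoc]

/-- An automorphism in `Aut_F(T C_S(T))` maps `C_S(T)` into itself (`T` strongly closed). -/
theorem aut_sup_centralizerIn_mem {F : FusionSystem S} (hT : F.StronglyClosed T)
    {β : MulAut ↥(T ⊔ centralizerIn S T)} (hβ : β ∈ F.autGroup (T ⊔ centralizerIn S T))
    (c : ↥(T ⊔ centralizerIn S T)) (hc : (c : Ω) ∈ centralizerIn S T) :
    ((β c : ↥(T ⊔ centralizerIn S T)) : Ω) ∈ centralizerIn S T := by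
  have hUS : T ⊔ centralizerIn S T ≤ S := sup_le hT.1 (centralizerIn_le S T)
  have hβF := (mem_autGroup_iff F hUS).mp hβ
  have hβi := (mem_autGroup_iff F hUS).mp (Subgroup.inv_mem _ hβ)
  rw [mem_centralizerIn]
  refine ⟨hUS (β c).2, fun y hy => ?_⟩
  set yU : ↥(T ⊔ centralizerIn S T) := ⟨y, Subgroup.mem_sup_left hy⟩ with hyU
  have h1 : ((β⁻¹ yU : ↥(T ⊔ centralizerIn S T)) : Ω) ∈ T :=
    hom_apply_mem_of_stronglyClosed F hT hβi yU hy
  have h2 := (mem_centralizerIn.mp hc).2 _ h1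
  have h3 : β⁻¹ yU * c = c * β⁻¹ yU := Subtype.ext h2
  have h4 := congrArg β h3
  rw [map_mul, map_mul, MulAut.apply_inv_self] at h4
  exact congrArg Subtype.val h4

/-- The property propagated by the induction: an automorphism `Ψ ∈ Aut_F(R C_S(T))` fixing the elements of `T` and acting on
`C_S(T)` modulo `T` like the automorphism `b` of `T C_S(T)`. -/
def OKAt (F : FusionSystem S) (T : Subgroup Ω) (b : MulAut ↥(T ⊔ centralizerIn S T)) (R : Subgroup Ω) : Prop :=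
  ∃ Ψ : MulAut ↥(R ⊔ centralizerIn S T), Ψ ∈ F.autGroup (R ⊔ centralizerIn S T) ∧
    (∀ x : ↥(R ⊔ centralizerIn S T), (x : Ω) ∈ T → Ψ x = x) ∧
    ∀ (c : Ω) (hc : c ∈ centralizerIn S T),
      ((b ⟨c, Subgroup.mem_sup_right hc⟩ : ↥(T ⊔ centralizerIn S T)) : Ω)⁻¹ *
        ((Ψ ⟨c, Subgroup.mem_sup_right hc⟩ : ↥(R ⊔ centralizerIn S T)) : Ω) ∈ T

/-- Step C2: the property passes from `R` to `N_T(R)`. -/
theorem OKAt.normalizer [Finite S] (p : ℕ) [Fact p.Prime] (hS : IsPGroup p S) (F : FusionSystem S)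
    (hF : F.IsSaturated p) (hT : F.StronglyClosed T) {b : MulAut ↥(T ⊔ centralizerIn S T)}
    (hb : b ∈ F.autGroup (T ⊔ centralizerIn S T)) {m' : ℕ} (hbm : b ^ m' = 1) (hm'p : m'.Coprime p)
    {R : Subgroup Ω} (hR : IsCen F T R) (h : OKAt F T b R) : OKAt F T b (normalizerIn T R) := by
  obtain ⟨Ψ, hΨ, hfix, hshift⟩ := h
  have hTS : T ≤ S := hT.1
  haveI : Finite T := finite_of_le hTS
  have hTp : IsPGroup p T := hS.to_le hTS
  have hn : S ≤ Subgroup.normalizer (T : Set Ω) := le_normalizer_of_stronglyClosed hT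
  have hRT : R ≤ T := hR.1
  have hNT : normalizerIn T R ≤ T := normalizerIn_le T R
  have hRN : R ≤ normalizerIn T R := le_normalizerIn hRT
  have hNcen : IsCen F T (normalizerIn T R) := hR.of_le hRN hNT
  have hcenN : centralizerIn T (normalizerIn T R) ≤ normalizerIn T R :=
    hNcen.2 _ (isConj_refl F (hNT.trans hTS))
  have hYS : normalizerIn T R ⊔ centralizerIn S T ≤ S := sup_le (hNT.trans hTS) (centralizerIn_le S T)
  have hUS : T ⊔ centralizerIn S T ≤ S := sup_le hTS (centralizerIn_le S T)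
  obtain ⟨Ψ₂, hΨ₂, hΨ₂X, hΨ₂N⟩ := exists_ext_normalizer p hS F hF hT hR hΨ hfix
  -- the exponent
  obtain ⟨n, hn'⟩ := hTp.exists_card_eq
  have hcop : Nat.Coprime (Nat.card T) m' := by
    rw [hn']
    exact (Nat.Coprime.pow_left n hm'p.symm)
  -- `j₀ = card T * u` with `j₀ ≡ 1 mod m'`
  obtain ⟨j₀, hj₀T, hj₀m⟩ : ∃ j₀ : ℕ, Nat.card T ∣ j₀ ∧ b ^ j₀ = b := by
    by_cases hm1 : m' = 1
    · refine ⟨Nat.card T, dvd_rfl, ?_⟩
      subst hm1
      rw [pow_one] at hbm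
      rw [hbm, one_pow]
    · have hm0 : m' ≠ 0 := by
        rintro rfl
        have : p = 1 := by simpa using hm'p
        exact (Fact.out : p.Prime).one_lt.ne' this
      have hm'gt : 1 < m' := by omega
      obtain ⟨u, -, hu⟩ := Nat.exists_mul_mod_eq_one_of_coprime hcop hm'gt
      refine ⟨Nat.card T * u, dvd_mul_right _ _, ?_⟩
      have h1 : Nat.card T * u = m' * (Nat.card T * u / m') + 1 := by
        have := Nat.div_add_mod (Nat.card T * u) m'
        omega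
      rw [h1, pow_succ, pow_mul, hbm, one_pow, one_mul]
  have hΨ₂fixR : ∀ y : ↥(normalizerIn T R ⊔ centralizerIn S T), (y : Ω) ∈ R → Ψ₂ y = y := by
    intro y hy
    apply Subtype.ext
    have hyX : (y : Ω) ∈ R ⊔ centralizerIn S T := Subgroup.mem_sup_left hy
    have := hΨ₂X y hyX y.2
    rw [this, hfix ⟨y, hyX⟩ (hRT hy)]
  refine ⟨Ψ₂ ^ j₀, Subgroup.pow_mem _ hΨ₂ j₀, fun y hyT => ?_, fun c hc => ?_⟩
  · -- fixed points
    have hyN : (y : Ω) ∈ normalizerIn T R :=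
      mem_of_mem_sup_centralizerIn_of_mem hn hTS hNT hcenN y.2 hyT
    have hz : ((y⁻¹ * Ψ₂ y : ↥(normalizerIn T R ⊔ centralizerIn S T)) : Ω) ∈ R := hΨ₂N y hyN y.2
    have h1 := pow_apply_of_fix Ψ₂ (y := y) (z := y⁻¹ * Ψ₂ y) (hΨ₂fixR _ hz) (by rw [mul_inv_cancel_left]) j₀
    rw [h1]
    obtain ⟨u, rfl⟩ := hj₀T
    have h2 : ((y⁻¹ * Ψ₂ y : ↥(normalizerIn T R ⊔ centralizerIn S T)) : Ω) ^ Nat.card T = 1 :=
      pow_card_eq_one_of_mem (hRT hz)
    have h3 : (y⁻¹ * Ψ₂ y) ^ Nat.card T = 1 := Subtype.ext (by rw [Subgroup.coe_pow]; exact h2)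
    rw [pow_mul, h3, one_pow, mul_one]
  · -- the action on `C_S(T)`
    have key : ∀ (k : ℕ) (c : Ω) (hc : c ∈ centralizerIn S T),
        (((b ^ k) ⟨c, Subgroup.mem_sup_right hc⟩ : ↥(T ⊔ centralizerIn S T)) : Ω)⁻¹ *
          (((Ψ₂ ^ k) ⟨c, Subgroup.mem_sup_right hc⟩ : ↥(normalizerIn T R ⊔ centralizerIn S T)) : Ω) ∈ T := by
      intro k
      induction k with
      | zero =>
        intro c hc
        simp only [pow_zero, MulAut.one_apply]
        rw [inv_mul_cancel]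
        exact T.one_mem
      | succ k ih =>
        intro c hc
        have hbk : b ^ k ∈ F.autGroup (T ⊔ centralizerIn S T) := Subgroup.pow_mem _ hb k
        have hck : (((b ^ k) ⟨c, Subgroup.mem_sup_right hc⟩ : ↥(T ⊔ centralizerIn S T)) : Ω) ∈ centralizerIn S T :=
          aut_sup_centralizerIn_mem hT hbk _ hc
        set ck : Ω := (((b ^ k) ⟨c, Subgroup.mem_sup_right hc⟩ : ↥(T ⊔ centralizerIn S T)) : Ω) with hckdef
        set u : ↥(normalizerIn T R ⊔ centralizerIn S T) := (Ψ₂ ^ k) ⟨c, Subgroup.mem_sup_right hc⟩ with hu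
        have hτ : ck⁻¹ * (u : Ω) ∈ T := ih c hc
        set ckY : ↥(normalizerIn T R ⊔ centralizerIn S T) := ⟨ck, Subgroup.mem_sup_right hck⟩ with hckY
        have hu2 : u = ckY * (ckY⁻¹ * u) := by rw [mul_inv_cancel_left]
        have h1 : (Ψ₂ ^ (k + 1)) ⟨c, Subgroup.mem_sup_right hc⟩ = Ψ₂ ckY * Ψ₂ (ckY⁻¹ * u) := by
          rw [pow_succ', MulAut.mul_apply, ← hu, ← map_mul, ← hu2]
        have h2 : (b ^ (k + 1)) ⟨c, Subgroup.mem_sup_right hc⟩ = b ⟨ck, Subgroup.mem_sup_right hck⟩ := by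
          rw [pow_succ', MulAut.mul_apply]
        rw [h1, h2]
        have h3 : ((Ψ₂ (ckY⁻¹ * u) : ↥(normalizerIn T R ⊔ centralizerIn S T)) : Ω) ∈ T :=
          hom_apply_mem_of_stronglyClosed F hT ((mem_autGroup_iff F hYS).mp hΨ₂) _ hτ
        have h4 : ((Ψ₂ ckY : ↥(normalizerIn T R ⊔ centralizerIn S T)) : Ω) =
            ((Ψ ⟨ck, Subgroup.mem_sup_right hck⟩ : ↥(R ⊔ centralizerIn S T)) : Ω) :=
          hΨ₂X ck (Subgroup.mem_sup_right hck) _
        have h5 := hshift ck hck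
        rw [Subgroup.coe_mul, h4, ← mul_assoc]
        exact T.mul_mem h5 h3
    have := key j₀ c hc
    rw [hj₀m] at this
    exact this

end Cfsg.Agent.Lib.Helper88
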