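import Cfsg.Agent.Lib.Helper88.FusionCrv4

set_option autoImplicit false
open Cfsg

namespace Cfsg.Agent.Lib.Helper88

open Cfsg.FusionSystem Cfsg.Agent.Lib.Helper87

variable {Ω : Type*} [Group Ω] {S T : Subgroup Ω}

/-- An automorphism in `Aut_F(T)` of order prime to `p`, `T` strongly closed, extends to an element of
`Aut_F(T C_S(T))` of order prime to `p`. -/
theorem exists_ext_coprime_order [Finite S] (p : ℕ) [Fact p.Prime] (F : FusionSystem S)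
    (hF : F.IsSaturated p) (hT : F.StronglyClosed T) {α : MulAut T} (hα : α ∈ F.autGroup T)
    (hcop : Nat.Coprime (orderOf α) p) :
    ∃ ah ∈ F.autGroup (T ⊔ centralizerIn S T), (ah, α) ∈ extPairs (le_sup_left : T ≤ T ⊔ centralizerIn S T) ∧
      ∃ m' : ℕ, m'.Coprime p ∧ ah ^ m' = 1 := by
  have hUS : T ⊔ centralizerIn S T ≤ S := sup_le hT.1 (centralizerIn_le S T)
  obtain ⟨β, hβ, hpair⟩ := exists_ext_of_coprime p F hF hT hα hcop
  have hβA : β ∈ F.autGroup (T ⊔ centralizerIn S T) := Subgroup.map_subtype_le _ hβ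
  haveI : Finite (F.autGroup (T ⊔ centralizerIn S T)) := finite_autGroup F hUS
  have hordpos : 0 < orderOf (⟨β, hβA⟩ : F.autGroup (T ⊔ centralizerIn S T)) := orderOf_pos _
  have hord : orderOf β = orderOf (⟨β, hβA⟩ : F.autGroup (T ⊔ centralizerIn S T)) :=
    (Subgroup.orderOf_mk β hβA).symm
  have hβpos : orderOf β ≠ 0 := by rw [hord]; exact hordpos.ne'
  obtain ⟨a, m₀, hm₀, hfac⟩ := Nat.exists_eq_pow_mul_and_not_dvd hβpos p (Fact.out : p.Prime).ne_one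
  have hcop' : Nat.Coprime (p ^ a) (orderOf α) := (hcop.pow_right a).symm
  obtain ⟨j, hj⟩ := exists_pow_eq_self_of_coprime hcop'
  refine ⟨(β ^ p ^ a) ^ j, Subgroup.pow_mem _ (Subgroup.pow_mem _ hβA _) _, ?_, m₀, ?_, ?_⟩
  · have h1 := Subgroup.pow_mem _ (Subgroup.pow_mem _ hpair (p ^ a)) j
    have e : ((β, α) ^ p ^ a) ^ j = ((β ^ p ^ a) ^ j, (α ^ p ^ a) ^ j) := rfl
    rw [e, hj] at h1
    exact h1
  · exact ((Fact.out : p.Prime).coprime_iff_not_dvd.mpr hm₀).symm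
  · rw [← pow_mul, ← pow_mul]
    have e : p ^ a * (j * m₀) = orderOf β * j := by rw [hfac]; ring
    rw [e, pow_mul, pow_orderOf_eq_one, one_pow]

/-- The inverse pair of an extending pair. -/
theorem extPairs_inv_apply {U : Subgroup Ω} (hTU : T ≤ U) {β : MulAut U} {α : MulAut T}
    (h : (β, α) ∈ extPairs hTU) (x : T) : β⁻¹ (Subgroup.inclusion hTU x) = Subgroup.inclusion hTU (α⁻¹ x) := by
  have h1 : (β, α)⁻¹ ∈ extPairs hTU := Subgroup.inv_mem _ h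
  exact h1 x

/-- Step C1: a good extension of the restriction of `α` to `R` gives the property at `R`. -/
theorem OKAt.of_goodExt [Finite S] (F : FusionSystem S) (hT : F.StronglyClosed T) {α : MulAut T}
    {ah : MulAut ↥(T ⊔ centralizerIn S T)} (hah : ah ∈ F.autGroup (T ⊔ centralizerIn S T))
    (hpair : (ah, α) ∈ extPairs (le_sup_left : T ≤ T ⊔ centralizerIn S T)) {R : Subgroup Ω} (hRT : R ≤ T)
    (hcen : centralizerIn T R ≤ R)
    (hg : GoodExt F T ((T.subtype.comp (α : T ≃* T).toMonoidHom).comp (Subgroup.inclusion hRT))) :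
    OKAt F T ah⁻¹ R := by
  obtain ⟨ψ, hψ, hψR, hψc⟩ := hg
  have hTS : T ≤ S := hT.1
  have hn : S ≤ Subgroup.normalizer (T : Set Ω) := le_normalizer_of_stronglyClosed hT
  have hRS : R ≤ S := hRT.trans hTS
  have hUS : T ⊔ centralizerIn S T ≤ S := sup_le hTS (centralizerIn_le S T)
  have hXS : R ⊔ centralizerIn S T ≤ S := sup_le hRS (centralizerIn_le S T)
  have hb : ah⁻¹ ∈ F.autGroup (T ⊔ centralizerIn S T) := Subgroup.inv_mem _ hah
  have hbF := (mem_autGroup_iff F hUS).mp hb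
  -- values of `ψ`
  have hψr : ∀ (r : Ω) (hr : r ∈ R), ψ ⟨r, Subgroup.mem_sup_left hr⟩ = ((α ⟨r, hRT hr⟩ : T) : Ω) :=
    fun r hr => hψR ⟨r, hr⟩
  have hψcU : ∀ (c : Ω) (hc : c ∈ centralizerIn S T), ψ ⟨c, Subgroup.mem_sup_right hc⟩ ∈ T ⊔ centralizerIn S T := by
    intro c hc
    have h1 := hψc ⟨c, Subgroup.mem_sup_right hc⟩ hc
    have e : ψ ⟨c, Subgroup.mem_sup_right hc⟩ = c * (c⁻¹ * ψ ⟨c, Subgroup.mem_sup_right hc⟩) := by group
    rw [e]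
    exact Subgroup.mul_mem _ (Subgroup.mem_sup_right hc) (Subgroup.mem_sup_left h1)
  have hψU : ∀ x : ↥(R ⊔ centralizerIn S T), ψ x ∈ T ⊔ centralizerIn S T := by
    intro x
    obtain ⟨r, hr, c, hc, hx⟩ := exists_mul_of_mem_sup_centralizerIn hn hRS x.2
    have e : x = ⟨r, Subgroup.mem_sup_left hr⟩ * ⟨c, Subgroup.mem_sup_right hc⟩ := Subtype.ext hx
    rw [e, map_mul, hψr r hr]
    exact Subgroup.mul_mem _ (Subgroup.mem_sup_left (α ⟨r, hRT hr⟩).2) (hψcU c hc)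
  have hΨF : ((T ⊔ centralizerIn S T).subtype.comp ((ah⁻¹ : MulAut ↥(T ⊔ centralizerIn S T)) :
      ↥(T ⊔ centralizerIn S T) ≃* ↥(T ⊔ centralizerIn S T)).toMonoidHom).comp (ψ.codRestrict _ hψU) ∈
      F.Hom (R ⊔ centralizerIn S T) := F.comp_mem hψ hbF hψU
  set Ψh := ((T ⊔ centralizerIn S T).subtype.comp ((ah⁻¹ : MulAut ↥(T ⊔ centralizerIn S T)) :
      ↥(T ⊔ centralizerIn S T) ≃* ↥(T ⊔ centralizerIn S T)).toMonoidHom).comp (ψ.codRestrict _ hψU) with hΨh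
  have hΨhx : ∀ x : ↥(R ⊔ centralizerIn S T),
      Ψh x = ((ah⁻¹ ⟨ψ x, hψU x⟩ : ↥(T ⊔ centralizerIn S T)) : Ω) := fun x => rfl
  -- on `R`
  have hΨhR : ∀ (r : Ω) (hr : r ∈ R), Ψh ⟨r, Subgroup.mem_sup_left hr⟩ = r := by
    intro r hr
    rw [hΨhx]
    have e : (⟨ψ ⟨r, Subgroup.mem_sup_left hr⟩, hψU _⟩ : ↥(T ⊔ centralizerIn S T)) =
        Subgroup.inclusion le_sup_left (α ⟨r, hRT hr⟩) := Subtype.ext (hψr r hr)
    rw [e, extPairs_inv_apply _ hpair, MulAut.inv_apply_self]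
    rfl
  -- on `C_S(T)`
  have hΨhc : ∀ (c : Ω) (hc : c ∈ centralizerIn S T),
      ((ah⁻¹ ⟨c, Subgroup.mem_sup_right hc⟩ : ↥(T ⊔ centralizerIn S T)) : Ω)⁻¹ *
        Ψh ⟨c, Subgroup.mem_sup_right hc⟩ ∈ T := by
    intro c hc
    rw [hΨhx]
    have hτ : c⁻¹ * ψ ⟨c, Subgroup.mem_sup_right hc⟩ ∈ T := hψc ⟨c, Subgroup.mem_sup_right hc⟩ hc
    have e : (⟨ψ ⟨c, Subgroup.mem_sup_right hc⟩, hψU _⟩ : ↥(T ⊔ centralizerIn S T)) =
        ⟨c, Subgroup.mem_sup_right hc⟩ * Subgroup.inclusion le_sup_left (⟨_, hτ⟩ : T) := by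
      apply Subtype.ext
      show ψ ⟨c, Subgroup.mem_sup_right hc⟩ = c * (c⁻¹ * ψ ⟨c, Subgroup.mem_sup_right hc⟩)
      group
    rw [e, map_mul, extPairs_inv_apply _ hpair, Subgroup.coe_mul, inv_mul_cancel_left]
    exact (α⁻¹ ⟨_, hτ⟩).2
  -- the image lies in `R C_S(T)`
  have hΨhX : ∀ x : ↥(R ⊔ centralizerIn S T), Ψh x ∈ R ⊔ centralizerIn S T := by
    intro x
    obtain ⟨r, hr, c, hc, hx⟩ := exists_mul_of_mem_sup_centralizerIn hn hRS x.2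
    have e : x = ⟨r, Subgroup.mem_sup_left hr⟩ * ⟨c, Subgroup.mem_sup_right hc⟩ := Subtype.ext hx
    rw [e, map_mul, hΨhR r hr]
    refine Subgroup.mul_mem _ (Subgroup.mem_sup_left hr) ?_
    have hbc : ((ah⁻¹ ⟨c, Subgroup.mem_sup_right hc⟩ : ↥(T ⊔ centralizerIn S T)) : Ω) ∈ centralizerIn S T :=
      aut_sup_centralizerIn_mem hT hb _ hc
    set bc : Ω := ((ah⁻¹ ⟨c, Subgroup.mem_sup_right hc⟩ : ↥(T ⊔ centralizerIn S T)) : Ω) with hbcdef
    have hτ' := hΨhc c hc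
    have hτR : bc⁻¹ * Ψh ⟨c, Subgroup.mem_sup_right hc⟩ ∈ R := by
      apply hcen
      rw [mem_centralizerIn]
      refine ⟨hτ', fun y hy => ?_⟩
      have h1 : y * bc = bc * y := (mem_centralizerIn.mp hbc).2 y (hRT hy)
      have h2 : y * Ψh ⟨c, Subgroup.mem_sup_right hc⟩ = Ψh ⟨c, Subgroup.mem_sup_right hc⟩ * y := by
        have hyc : y * c = c * y := (mem_centralizerIn.mp hc).2 y (hRT hy)
        have h3 : (⟨y, Subgroup.mem_sup_left hy⟩ : ↥(R ⊔ centralizerIn S T)) * ⟨c, Subgroup.mem_sup_right hc⟩ =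
            ⟨c, Subgroup.mem_sup_right hc⟩ * ⟨y, Subgroup.mem_sup_left hy⟩ := Subtype.ext hyc
        have h4 := congrArg Ψh h3
        rw [map_mul, map_mul, hΨhR y hy] at h4
        exact h4
      have h1' : bc⁻¹ * y = y * bc⁻¹ := by
        calc bc⁻¹ * y = bc⁻¹ * (y * bc) * bc⁻¹ := by group
          _ = bc⁻¹ * (bc * y) * bc⁻¹ := by rw [h1]
          _ = y * bc⁻¹ := by group
      calc y * (bc⁻¹ * Ψh ⟨c, Subgroup.mem_sup_right hc⟩)
          = (y * bc⁻¹) * Ψh ⟨c, Subgroup.mem_sup_right hc⟩ := by group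
        _ = (bc⁻¹ * y) * Ψh ⟨c, Subgroup.mem_sup_right hc⟩ := by rw [h1']
        _ = bc⁻¹ * (y * Ψh ⟨c, Subgroup.mem_sup_right hc⟩) := by group
        _ = bc⁻¹ * (Ψh ⟨c, Subgroup.mem_sup_right hc⟩ * y) := by rw [h2]
        _ = bc⁻¹ * Ψh ⟨c, Subgroup.mem_sup_right hc⟩ * y := by group
    have e2 : Ψh ⟨c, Subgroup.mem_sup_right hc⟩ = bc * (bc⁻¹ * Ψh ⟨c, Subgroup.mem_sup_right hc⟩) := by group
    rw [e2]
    exact Subgroup.mul_mem _ (Subgroup.mem_sup_right hbc) (Subgroup.mem_sup_left hτR)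
  have hΨr : Ψh.range = R ⊔ centralizerIn S T :=
    Cfsg.Agent.Lib.Helper90.range_eq_of_forall_mem F hΨF hΨhX
  refine ⟨homEquiv F hΨF hΨr, homEquiv_mem_autGroup F hΨF hΨr, fun x hxT => ?_, fun c hc => ?_⟩
  · apply Subtype.ext
    rw [homEquiv_apply]
    have hxR : (x : Ω) ∈ R := mem_of_mem_sup_centralizerIn_of_mem hn hTS hRT hcen x.2 hxT
    exact hΨhR x hxR
  · rw [homEquiv_apply]
    exact hΨhc c hc

/-- Step C3: the property at `T` gives a good extension of `α`. -/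
theorem goodExt_of_OKAt (F : FusionSystem S) (hT : F.StronglyClosed T) {α : MulAut T}
    {ah : MulAut ↥(T ⊔ centralizerIn S T)} (hah : ah ∈ F.autGroup (T ⊔ centralizerIn S T))
    (hpair : (ah, α) ∈ extPairs (le_sup_left : T ≤ T ⊔ centralizerIn S T)) (h : OKAt F T ah⁻¹ T) :
    GoodExt F T (T.subtype.comp (α : T ≃* T).toMonoidHom) := by
  obtain ⟨Ψ, hΨ, hfix, hshift⟩ := h
  have hUS : T ⊔ centralizerIn S T ≤ S := sup_le hT.1 (centralizerIn_le S T)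
  have hβ : ah * Ψ ∈ F.autGroup (T ⊔ centralizerIn S T) := Subgroup.mul_mem _ hah hΨ
  refine ⟨_, (mem_autGroup_iff F hUS).mp hβ, fun x => ?_, fun c hc => ?_⟩
  · show ((ah (Ψ (Subgroup.inclusion le_sup_left x)) : ↥(T ⊔ centralizerIn S T)) : Ω) = ((α x : T) : Ω)
    rw [hfix _ x.2, hpair x]
    rfl
  · show (c : Ω)⁻¹ * ((ah (Ψ c) : ↥(T ⊔ centralizerIn S T)) : Ω) ∈ T
    have hτ := hshift c hc
    have hceq : (⟨(c : Ω), Subgroup.mem_sup_right hc⟩ : ↥(T ⊔ centralizerIn S T)) = c := Subtype.ext rfl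
    rw [hceq] at hτ
    have e : Ψ c = ah⁻¹ c * Subgroup.inclusion le_sup_left (⟨_, hτ⟩ : T) := by
      apply Subtype.ext
      show ((Ψ c : ↥(T ⊔ centralizerIn S T)) : Ω) =
        ((ah⁻¹ c : ↥(T ⊔ centralizerIn S T)) : Ω) * (((ah⁻¹ c : ↥(T ⊔ centralizerIn S T)) : Ω)⁻¹ * ((Ψ c : ↥(T ⊔ centralizerIn S T)) : Ω))
      group
    rw [e, map_mul, MulAut.apply_inv_self, hpair, Subgroup.coe_mul, inv_mul_cancel_left]
    exact (α ⟨_, hτ⟩).2

end Cfsg.Agent.Lib.Helper88
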