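import Cfsg.Agent.Lib.Helper88.FusionCrv5

set_option autoImplicit false
open Cfsg

namespace Cfsg.Agent.Lib.Helper88

open Cfsg.FusionSystem Cfsg.Agent.Lib.Helper87

variable {Ω : Type*} [Group Ω] {S T : Subgroup Ω}

/-- The induction: the property climbs from `R` to `T`. -/
theorem OKAt.top [Finite S] (p : ℕ) [Fact p.Prime] (hS : IsPGroup p S) (F : FusionSystem S)
    (hF : F.IsSaturated p) (hT : F.StronglyClosed T) {b : MulAut ↥(T ⊔ centralizerIn S T)}
    (hb : b ∈ F.autGroup (T ⊔ centralizerIn S T)) {m' : ℕ} (hbm : b ^ m' = 1) (hm'p : m'.Coprime p) :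
    ∀ (n : ℕ) (R : Subgroup Ω), Nat.card T - Nat.card R = n → IsCen F T R → OKAt F T b R → OKAt F T b T := by
  have hTS : T ≤ S := hT.1
  haveI : Finite T := finite_of_le hTS
  have hTp : IsPGroup p T := hS.to_le hTS
  intro n
  induction n using Nat.strong_induction_on with
  | _ n ih =>
    intro R hn hR hOK
    by_cases hReqT : R = T
    · subst hReqT
      exact hOK
    · have hRT : R ≤ T := hR.1
      have hNT : normalizerIn T R ≤ T := normalizerIn_le T R
      have hRN : R ≤ normalizerIn T R := le_normalizerIn hRT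
      have hlt : Nat.card R < Nat.card (normalizerIn T R) := by
        obtain ⟨s, hsN, hsP⟩ := Cfsg.Agent.Lib.Helper89.exists_mem_normalizerIn_not_mem hTp hRT hReqT
        have : Finite (normalizerIn T R) := finite_of_le hNT
        by_contra hge
        have := Subgroup.eq_of_le_of_card_ge hRN (not_lt.mp hge)
        apply hsP
        rw [this]
        exact hsN
      have hle : Nat.card (normalizerIn T R) ≤ Nat.card T := Subgroup.card_le_of_le hNT
      have hOK' := OKAt.normalizer p hS F hF hT hb hbm hm'p hR hOK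
      exact ih (Nat.card T - Nat.card (normalizerIn T R)) (by omega) (normalizerIn T R) rfl
        (hR.of_le hRN hNT) hOK'

/-- **Key theorem.** Let `T` be strongly closed in the saturated system `F`, `α ∈ Aut_F(T)` of order prime to `p`, and `R ≤ T`
centric relative to `T`. If the restriction of `α` to `R` has a good extension, so has `α`. -/
theorem goodExt_aut_of_goodExt_restrict [Finite S] (p : ℕ) [Fact p.Prime] (hS : IsPGroup p S) (F : FusionSystem S)
    (hF : F.IsSaturated p) (hT : F.StronglyClosed T) {α : MulAut T} (hα : α ∈ F.autGroup T) {m : ℕ}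
    (hm : α ^ m = 1) (hmp : m.Coprime p) {R : Subgroup Ω} (hR : IsCen F T R)
    (hg : GoodExt F T ((T.subtype.comp (α : T ≃* T).toMonoidHom).comp (Subgroup.inclusion hR.1))) :
    GoodExt F T (T.subtype.comp (α : T ≃* T).toMonoidHom) := by
  have hTS : T ≤ S := hT.1
  have hcop : Nat.Coprime (orderOf α) p := Nat.Coprime.coprime_dvd_left (orderOf_dvd_of_pow_eq_one hm) hmp
  obtain ⟨ah, hah, hpair, m', hm'p, hahm⟩ := exists_ext_coprime_order p F hF hT hα hcop
  have hb : ah⁻¹ ∈ F.autGroup (T ⊔ centralizerIn S T) := Subgroup.inv_mem _ hah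
  have hbm : ah⁻¹ ^ m' = 1 := by rw [inv_pow, hahm, inv_one]
  have hcen : centralizerIn T R ≤ R := hR.2 R (isConj_refl F (hR.1.trans hTS))
  have h0 : OKAt F T ah⁻¹ R := OKAt.of_goodExt F hT hah hpair hR.1 hcen hg
  have h1 := OKAt.top p hS F hF hT hb hbm hm'p _ R rfl hR h0
  exact goodExt_of_OKAt F hT hah hpair h1

end Cfsg.Agent.Lib.Helper88
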