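import Cfsg.Agent.Lib.Helper87.FusionSaturated
import Cfsg.Prelude.Def_FusionComponents

set_option autoImplicit false
open Cfsg

namespace Cfsg.Agent.Lib.Helper88

open Cfsg.FusionSystem Cfsg.Agent.Lib.Helper87

variable {Ω : Type*} [Group Ω]

/-- In a saturated system, a subgroup fully normalized in `F` and contained in a strongly closed subgroup `T` is fully
normalized in every subsystem over `T`. -/
theorem isFullyNormalized_of_subsystem {S : Subgroup Ω} [Finite S] (p : ℕ) [Fact p.Prime] (hS : IsPGroup p S)
    (F : FusionSystem S) (hF : F.IsSaturated p) {T : Subgroup Ω} (E : FusionSystem T) (hEF : E.IsSubsystemOf F)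
    (hT : F.StronglyClosed T) (P : Subgroup Ω) (hPT : P ≤ T) (hP : F.IsFullyNormalized P) :
    E.IsFullyNormalized P := by
  refine ⟨hPT, fun Q hQ => ?_⟩
  obtain ⟨hfc, hfa⟩ := fullyNormalized_props p hS F hF P hP
  have hrec := isReceptive_of_isFullyCentralized p hS F hF P hfc
  -- `Q` is `F`-conjugate to `P`
  have hQF : F.IsConj P Q := by
    obtain ⟨φ, hφ, hr⟩ := hQ
    exact ⟨φ, hEF P hφ, hr⟩
  obtain ⟨χ, hχ, hχN, -, -⟩ := exists_normalizer_hom p hS F P Q hfa hrec (isConj_symm F hQF)
  have hTS : T ≤ S := hT.1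
  have hle : normalizerIn T Q ≤ normalizerIn S Q := inf_le_inf_right _ hTS
  have hχ' := restrict_mem F hle hχ
  have hNT : normalizerIn T Q ≤ T := inf_le_left
  have hval : ∀ x : normalizerIn T Q, χ (Subgroup.inclusion hle x) ∈ normalizerIn T P := by
    intro x
    refine ⟨?_, (hχN _).2⟩
    exact hT.2 _ hNT _ hχ' x
  have : Finite T := finite_of_le hTS
  have : Finite (normalizerIn T P) := finite_of_le (inf_le_left : normalizerIn T P ≤ T)
  refine Nat.card_le_card_of_injective
    (fun x => (⟨χ (Subgroup.inclusion hle x), hval x⟩ : normalizerIn T P)) ?_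
  intro x y hxy
  have h1 : χ (Subgroup.inclusion hle x) = χ (Subgroup.inclusion hle y) := congrArg Subtype.val hxy
  have h2 := F.injective_of_mem hχ h1
  exact Subgroup.inclusion_injective hle h2

theorem le_of_isSubnormalIn {T S : Subgroup Ω} (E : FusionSystem T) (F : FusionSystem S) (p : ℕ)
    (hE : E.IsSubnormalIn F p) : T ≤ S := by
  induction hE with
  | refl F p => exact le_rfl
  | step _ hDF ih => exact ih.trans hDF.1.2.2.2.1.1

/-- A subgroup of `T` fully normalized in a saturated `F` is fully normalized in every subnormal subsystem over `T`. -/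
theorem isFullyNormalized_of_isSubnormalIn {T S : Subgroup Ω} (E : FusionSystem T) (F : FusionSystem S) (p : ℕ)
    (hE : E.IsSubnormalIn F p) :
    ∀ [Finite S] [Fact p.Prime], IsPGroup p S → F.IsSaturated p →
      ∀ P : Subgroup Ω, P ≤ T → F.IsFullyNormalized P → E.IsFullyNormalized P := by
  induction hE with
  | refl F p => intro _ _ _ _ P _ hP; exact hP
  | step hED hDF ih =>
    rename_i T U S E D F p
    intro _ _ hS hF P hPT hP
    obtain ⟨⟨hDsat, -, hDsub, hU, -, -⟩, -⟩ := hDF
    have hUS : U ≤ S := hU.1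
    have : Finite U := finite_of_le hUS
    have hUp : IsPGroup p U := hS.to_le hUS
    -- `T ≤ U`
    have hTU : T ≤ U := le_of_isSubnormalIn E D p hED
    have hPD : D.IsFullyNormalized P :=
      isFullyNormalized_of_subsystem p hS F hF D hDsub hU P (hPT.trans hTU) hP
    exact ih hUp hDsat P hPT hPD

end Cfsg.Agent.Lib.Helper88
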