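import Cfsg.Agent.Lib.Helper88.FusionCrv6
import Cfsg.Agent.Lib.Helper88.FusionSubnormal

set_option autoImplicit false
open Cfsg

namespace Cfsg.Agent.Lib.Helper88

open Cfsg.FusionSystem Cfsg.Agent.Lib.Helper87

variable {Ω : Type*} [Group Ω] {S T : Subgroup Ω}

/-- **Step A.** Let `E` be a saturated subsystem over `T` invariant in the saturated system `F`. Every element of `p`-power
order of `Aut_E(Q)`, `Q` an `E`-centric subgroup, has a good extension. -/
theorem goodExt_of_pElem [Finite S] (p : ℕ) [Fact p.Prime] (hS : IsPGroup p S) (F : FusionSystem S)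
    (hF : F.IsSaturated p) (E : FusionSystem T) (hEsat : E.IsSaturated p) (hinv : E.IsInvariantIn F)
    {Q : Subgroup Ω} (hQc : E.IsCentric Q) {γ : MulAut Q} (hγ : γ ∈ E.autGroup Q) {k : ℕ}
    (hk : γ ^ p ^ k = 1) : GoodExt F T (Q.subtype.comp (γ : Q ≃* Q).toMonoidHom) := by
  have hSI : StrongInv E F := strongInv_of_isInvariantIn hinv
  obtain ⟨hEF, hT, -, hfrat⟩ := hinv
  have hTS : T ≤ S := hT.1
  haveI : Finite T := finite_of_le hTS
  have hTp : IsPGroup p T := hS.to_le hTS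
  have hQT : Q ≤ T := hQc.1
  have hQS : Q ≤ S := hQT.trans hTS
  obtain ⟨Q₁, hconj, hfn⟩ := exists_isFullyNormalized F hQS
  obtain ⟨e₀, he₀⟩ := exists_isFIso_of_isConj F hconj
  have hQ₁T : Q₁ ≤ T := by
    intro y hy
    have := hT.2 Q hQT _ he₀ (e₀.symm ⟨y, hy⟩)
    have e : ((Q₁.subtype.comp e₀.toMonoidHom) (e₀.symm ⟨y, hy⟩) : Ω) = y := by
      show ((e₀ (e₀.symm ⟨y, hy⟩) : Q₁) : Ω) = y
      rw [MulEquiv.apply_symm_apply]
    rw [e] at this
    exact this
  have hQ₁nE : E.IsFullyNormalized Q₁ := isFullyNormalized_of_subsystem p hS F hF E hEF hT Q₁ hQ₁T hfn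
  have hQ₁a := (fullyNormalized_props p hTp E hEsat Q₁ hQ₁nE).2
  have hγ₁ : MulAut.congr e₀ γ ∈ E.autGroup Q₁ := congr_mem_autGroup_of_strongInv E F hSI hQT hQ₁T he₀ hγ
  have hγ₁k : (MulAut.congr e₀ γ) ^ p ^ k = 1 := by rw [← map_pow, hk, map_one]
  have hKp : IsPGroup p (Subgroup.zpowers (MulAut.congr e₀ γ)) := by
    rintro ⟨x, hx⟩
    obtain ⟨j, rfl⟩ := Subgroup.mem_zpowers_iff.mp hx
    refine ⟨k, Subtype.ext ?_⟩
    show ((MulAut.congr e₀ γ) ^ j) ^ p ^ k = 1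
    rw [← zpow_natCast, ← zpow_mul, mul_comm, zpow_mul, zpow_natCast, hγ₁k, one_zpow]
  have hKle : Subgroup.zpowers (MulAut.congr e₀ γ) ≤ E.autGroup Q₁ := (Subgroup.zpowers_le).mpr hγ₁
  obtain ⟨e, he, heK⟩ := exists_isFIso_into_autInducedBy p E hQ₁a (MulEquiv.refl Q₁) (IsFIso.refl E hQ₁T)
    _ hKp hKle
  have h1 : MulAut.congr e (MulAut.congr e₀ γ) ∈ autInducedBy T Q₁ := heK _ (Subgroup.mem_zpowers _)
  obtain ⟨t₁, ht₁, ht₁x⟩ := Cfsg.Agent.Lib.Helper87.mem_autInducedBy_iff.mp h1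
  have hξF : IsFIso F (e₀.trans e) := IsFIso.trans F he₀ (hEF Q₁ he)
  have hξr : (Q₁.subtype.comp (e₀.trans e).toMonoidHom).range = Q₁ := IsFIso.range_eq _
  obtain ⟨hfc, -⟩ := fullyNormalized_props p hS F hF Q₁ hfn
  have hrec := isReceptive_of_isFullyCentralized p hS F hF Q₁ hfc
  have hrec' : F.IsReceptive (Q₁.subtype.comp (e₀.trans e).toMonoidHom).range := by rw [hξr]; exact hrec
  have hQ₁c : E.IsCentric Q₁ := isCentric_range_of_frattini F E hEF hfrat hQc hξF hξr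
  have hcen : centralizerIn T (Q₁.subtype.comp (e₀.trans e).toMonoidHom).range ≤
      (Q₁.subtype.comp (e₀.trans e).toMonoidHom).range := by
    rw [hξr]
    exact hQ₁c.2 _ (isConj_refl E hQ₁T)
  apply goodExt_of_conj_eq F hT hQT hξF hrec' hcen γ ht₁
  intro x
  have := ht₁x ((e₀.trans e) x)
  have e2 : ((((MulAut.congr e) ((MulAut.congr e₀) γ)) ((e₀.trans e) x) : Q₁) : Ω) = ((e (e₀ (γ x)) : Q₁) : Ω) := by
    show ((e (e₀ (γ (e₀.symm (e.symm (e (e₀ x)))))) : Q₁) : Ω) = ((e (e₀ (γ x)) : Q₁) : Ω)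
    rw [MulEquiv.symm_apply_apply, MulEquiv.symm_apply_apply]
  rw [e2] at this
  exact this

/-- `O^{p'}(Aut_E(Q))` consists of automorphisms with good extensions. -/
theorem pElemGen_le_autGroup_goodSys [Finite S] (p : ℕ) [Fact p.Prime] (hS : IsPGroup p S) (F : FusionSystem S)
    (hF : F.IsSaturated p) (E : FusionSystem T) (hEsat : E.IsSaturated p) (hinv : E.IsInvariantIn F)
    (hn : S ≤ Subgroup.normalizer (T : Set Ω)) (hTS : T ≤ S) {Q : Subgroup Ω} (hQc : E.IsCentric Q) :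
    (pElemGen p (E.autGroup Q)).map (E.autGroup Q).subtype ≤ (goodSys F E hn hTS).autGroup Q := by
  have hQT : Q ≤ T := hQc.1
  rintro _ ⟨g, hg, rfl⟩
  unfold pElemGen at hg
  induction hg using Subgroup.closure_induction with
  | mem g hg =>
    obtain ⟨k, hk⟩ := hg
    rw [mem_autGroup_iff (goodSys F E hn hTS) hQT]
    refine ⟨autGroup_hom_mem E hQT g.2, fun _ => ?_⟩
    apply goodExt_of_pElem p hS F hF E hEsat hinv hQc g.2 (k := k)
    have h1 : g ^ p ^ k = 1 := by rw [← hk]; exact pow_orderOf_eq_one g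
    have h2 := congrArg (fun z : E.autGroup Q => (z : MulAut Q)) h1
    simpa using h2
  | one => exact Subgroup.one_mem _
  | mul a b _ _ ha hb => exact Subgroup.mul_mem _ ha hb
  | inv a _ ha => exact Subgroup.inv_mem _ ha

/-- The base of the `p'`-residual of `E` consists of maps with good extensions. -/
theorem opBase_le_goodSys [Finite S] (p : ℕ) [Fact p.Prime] (hS : IsPGroup p S) (F : FusionSystem S)
    (hF : F.IsSaturated p) (E : FusionSystem T) (hEsat : E.IsSaturated p) (hinv : E.IsInvariantIn F)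
    (hn : S ≤ Subgroup.normalizer (T : Set Ω)) (hTS : T ≤ S) (P : Subgroup Ω) :
    (opBase E p).Hom P ⊆ (goodSys F E hn hTS).Hom P :=
  opBase_le_of E p _ (fun _ hQ => pElemGen_le_autGroup_goodSys p hS F hF E hEsat hinv hn hTS hQ) P

end Cfsg.Agent.Lib.Helper88
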