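import Cfsg.Agent.Lib.Helper88.FusionCrv7
import Cfsg.Agent.Lib.Helper88.FusionRD6

set_option autoImplicit false
open Cfsg

namespace Cfsg.Agent.Lib.Helper88

open Cfsg.FusionSystem Cfsg.Agent.Lib.Helper87

variable {Ω : Type*} [Group Ω] {S T : Subgroup Ω}

/-- A good extension of an automorphism `α` of the strongly closed subgroup `T` gives an element of `Aut_F(T C_S(T))` extending
`α` and moving every element of `C_S(T)` only by an element of `Z(T)`. -/
theorem exists_normal_ext_of_goodExt [Finite S] (F : FusionSystem S) (hT : F.StronglyClosed T) (α : MulAut T)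
    (hg : GoodExt F T (T.subtype.comp (α : T ≃* T).toMonoidHom)) :
    ∃ β ∈ F.autGroup (T ⊔ centralizerIn S T),
      (∀ x : T, ((β (Subgroup.inclusion le_sup_left x) : ↥(T ⊔ centralizerIn S T)) : Ω) = ((α x : T) : Ω)) ∧
      ∀ c : ↥(T ⊔ centralizerIn S T), (c : Ω) ∈ centralizerIn S T →
        (c : Ω)⁻¹ * ((β c : ↥(T ⊔ centralizerIn S T)) : Ω) ∈ T ⊓ Subgroup.centralizer (T : Set Ω) := by
  obtain ⟨ψ, hψ, hψT, hψc⟩ := hg
  have hTS : T ≤ S := hT.1
  have hn : S ≤ Subgroup.normalizer (T : Set Ω) := le_normalizer_of_stronglyClosed hT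
  obtain ⟨-, hψU⟩ := goodExt_aut_apply_mem hn hTS (le_refl T) (centralizerIn_le T T) α hψT hψc
  have hψr : ψ.range = T ⊔ centralizerIn S T := Cfsg.Agent.Lib.Helper90.range_eq_of_forall_mem F hψ hψU
  refine ⟨homEquiv F hψ hψr, homEquiv_mem_autGroup F hψ hψr, fun x => ?_, fun c hc => ?_⟩
  · rw [homEquiv_apply]
    exact hψT x
  · rw [homEquiv_apply]
    refine ⟨hψc c hc, ?_⟩
    have hcc := (mem_centralizerIn.mp hc).2
    show (c : Ω)⁻¹ * ψ c ∈ Subgroup.centralizer (T : Set Ω)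
    rw [Subgroup.mem_centralizer_iff]
    intro y hy
    have hy' : y ∈ T := hy
    -- `ψ c` commutes with `y`
    have h1 : y * ψ c = ψ c * y := by
      have e1 : ψ (Subgroup.inclusion le_sup_left (α⁻¹ ⟨y, hy'⟩)) = y := by
        rw [hψT]
        show ((α (α⁻¹ ⟨y, hy'⟩) : T) : Ω) = y
        rw [MulAut.apply_inv_self]
      have hcomm : Subgroup.inclusion (le_sup_left : T ≤ T ⊔ centralizerIn S T) (α⁻¹ ⟨y, hy'⟩) * c =
          c * Subgroup.inclusion le_sup_left (α⁻¹ ⟨y, hy'⟩) :=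
        Subtype.ext (hcc _ (α⁻¹ ⟨y, hy'⟩).2)
      have e2 := congrArg ψ hcomm
      rw [map_mul, map_mul, e1] at e2
      exact e2
    have h2 : y * (c : Ω) = (c : Ω) * y := hcc y hy'
    have h2' : y * (c : Ω)⁻¹ = (c : Ω)⁻¹ * y := by
      calc y * (c : Ω)⁻¹ = (c : Ω)⁻¹ * ((c : Ω) * y) * (c : Ω)⁻¹ := by group
        _ = (c : Ω)⁻¹ * (y * (c : Ω)) * (c : Ω)⁻¹ := by rw [h2]
        _ = (c : Ω)⁻¹ * y := by group
    calc y * ((c : Ω)⁻¹ * ψ c) = (y * (c : Ω)⁻¹) * ψ c := by group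
      _ = ((c : Ω)⁻¹ * y) * ψ c := by rw [h2']
      _ = (c : Ω)⁻¹ * (y * ψ c) := by group
      _ = (c : Ω)⁻¹ * (ψ c * y) := by rw [h1]
      _ = (c : Ω)⁻¹ * ψ c * y := by group

/-- `Aut⁰` of a saturated subsystem `E` over `T` invariant in the saturated system `F` consists of automorphisms with good
extensions. -/
theorem opAut_le_autGroup_goodSys [Finite S] (p : ℕ) [Fact p.Prime] (hS : IsPGroup p S) (F : FusionSystem S)
    (hF : F.IsSaturated p) (E : FusionSystem T) (hEsat : E.IsSaturated p) (hinv : E.IsInvariantIn F)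
    (hn : S ≤ Subgroup.normalizer (T : Set Ω)) (hTS : T ≤ S) :
    opAut E p ≤ (goodSys F E hn hTS).autGroup T := by
  haveI : Finite T := finite_of_le hTS
  have hp : p.Prime := Fact.out
  have hTc : E.IsCentric T := Cfsg.Agent.Lib.Helper91.isCentric_self E
  have hEF : E.IsSubsystemOf F := hinv.1
  have hT : F.StronglyClosed T := hinv.2.1
  have hfrat := hinv.2.2.2
  have hAI : AutInvariant (opBase E p) F := autInvariant_of_le_conjCore _ F (opBase_le_conjCore p hinv)
  have hle : E.autGroup T ≤ F.autGroup T := Subgroup.closure_mono (fun δ hδ => hEF T hδ)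
  unfold opAut
  rw [Subgroup.closure_le]
  intro g hg
  obtain ⟨hgE, R, hRc, φ₁, hφ₁, hφ₁x⟩ := hg
  have hRT : R ≤ T := hRc.1
  haveI : Finite (MulAut T) := inferInstance
  have ho : 0 < orderOf g := orderOf_pos g
  obtain ⟨a, m₀, hm₀, hom⟩ := Nat.exists_eq_pow_mul_and_not_dvd (Nat.pos_iff_ne_zero.mp ho) p hp.ne_one
  have hm₀p : m₀.Coprime p := ((Nat.Prime.coprime_iff_not_dvd hp).mpr hm₀).symm
  have hcop : (p ^ a).Coprime m₀ := (Nat.Coprime.pow_right a hm₀p).symm
  refine mem_of_pow_mem_of_pow_mem_coprime _ hcop ?_ ?_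
  · -- the `p'`-part
    have hαE : g ^ p ^ a ∈ E.autGroup T := pow_mem hgE _
    have hαF : g ^ p ^ a ∈ F.autGroup T := hle hαE
    have hαm : (g ^ p ^ a) ^ m₀ = 1 := by
      rw [← pow_mul, ← hom]
      exact pow_orderOf_eq_one g
    have hR : IsCen F T R := by
      refine ⟨hRT, ?_⟩
      rintro Q ⟨φ, hφ, hr⟩
      have hQc : E.IsCentric Q := isCentric_range_of_frattini F E hEF hfrat hRc hφ hr
      exact hQc.2 Q (isConj_refl E hQc.1)
    have hres : (T.subtype.comp ((g ^ p ^ a : MulAut T) : T ≃* T).toMonoidHom).comp (Subgroup.inclusion hR.1) ∈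
        (opBase E p).Hom R := pow_restrict_mem F (opBase E p) hAI (hle hgE) hRT hφ₁ hφ₁x (p ^ a)
    have hgood := (opBase_le_goodSys p hS F hF E hEsat hinv hn hTS R hres).2 hRc
    have hkey := goodExt_aut_of_goodExt_restrict p hS F hF hT hαF hαm hm₀p hR hgood
    rw [mem_autGroup_iff (goodSys F E hn hTS) le_rfl]
    exact ⟨(mem_autGroup_iff E le_rfl).mp hαE, fun _ => hkey⟩
  · -- the `p`-part
    have hγE : g ^ m₀ ∈ E.autGroup T := pow_mem hgE _
    have hγk : (g ^ m₀) ^ p ^ a = 1 := by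
      rw [← pow_mul, mul_comm, ← hom]
      exact pow_orderOf_eq_one g
    have hkey := goodExt_of_pElem p hS F hF E hEsat hinv hTc hγE hγk
    rw [mem_autGroup_iff (goodSys F E hn hTS) le_rfl]
    exact ⟨(mem_autGroup_iff E le_rfl).mp hγE, fun _ => hkey⟩

/-- Every element of `Aut_{O^{p'}(E)}(T)` has a good extension. -/
theorem goodExt_of_mem_autGroup_opRes [Finite S] (p : ℕ) [Fact p.Prime] (hS : IsPGroup p S) (F : FusionSystem S)
    (hF : F.IsSaturated p) (E : FusionSystem T) (hEsat : E.IsSaturated p) (hinv : E.IsInvariantIn F)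
    {α : MulAut T} (hα : α ∈ (opRes E p).autGroup T) :
    GoodExt F T (T.subtype.comp (α : T ≃* T).toMonoidHom) := by
  have hT : F.StronglyClosed T := hinv.2.1
  have hTS : T ≤ S := hT.1
  have hn : S ≤ Subgroup.normalizer (T : Set Ω) := le_normalizer_of_stronglyClosed hT
  haveI : Finite T := finite_of_le hTS
  have hTc : E.IsCentric T := Cfsg.Agent.Lib.Helper91.isCentric_self E
  have h1 := (mem_autGroup_iff (opRes E p) le_rfl).mp hα
  obtain ⟨β, hβ, φ₀, hφ₀, hx⟩ := h1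
  have hβg := (mem_autGroup_iff (goodSys F E hn hTS) le_rfl).mp
    (opAut_le_autGroup_goodSys p hS F hF E hEsat hinv hn hTS hβ)
  have hφ₀g := opBase_le_goodSys p hS F hF E hEsat hinv hn hTS T hφ₀
  have hφ₀T : ∀ x : T, φ₀ x ∈ T := ((opBase E p).le_of_mem hφ₀).2
  have hcomp : T.subtype.comp (α : T ≃* T).toMonoidHom ∈ (goodSys F E hn hTS).Hom T :=
    comp_mem' (goodSys F E hn hTS) hφ₀g hβg hφ₀T (fun x => hx x (hφ₀T x))
  exact hcomp.2 hTc

/-- **Craven.** The `p'`-residual subsystem of a weakly normal subsystem of `F` is normal in `F`. -/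
theorem isNormalIn_pPrimeResidual [Finite S] (p : ℕ) [Fact p.Prime] (hS : IsPGroup p S) (F : FusionSystem S)
    (hF : F.IsSaturated p) (E : FusionSystem T) (hE : E.IsWeaklyNormalIn F p) (D : FusionSystem T)
    (hD : E.IsPPrimeResidual p D) : D.IsNormalIn F p := by
  obtain ⟨hEsat, -, hinv⟩ := hE
  have hT : F.StronglyClosed T := hinv.2.1
  have hTS : T ≤ S := hT.1
  haveI : Finite T := finite_of_le hTS
  have hTp : IsPGroup p T := hS.to_le hTS
  have hDinv := isInvariantIn_pPrimeResidual p hS F E hEsat hinv D hD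
  refine ⟨⟨hD.1, hF, hDinv⟩, fun α hα => ?_⟩
  rw [eq_opRes_of_isPPrimeResidual p hTp E hEsat D hD] at hα
  exact exists_normal_ext_of_goodExt F hT α (goodExt_of_mem_autGroup_opRes p hS F hF E hEsat hinv hα)

end Cfsg.Agent.Lib.Helper88
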