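import Cfsg.Agent.Lib.Helper88.FusionPP4

set_option autoImplicit false
open Cfsg

namespace Cfsg.Agent.Lib.Helper88

open Cfsg.FusionSystem Cfsg.Agent.Lib.Helper87

variable {Ω : Type*} [Group Ω] {S : Subgroup Ω}

theorem extender_mono {S₁ S P : Subgroup Ω} (h : S₁ ≤ S) (φ : P →* Ω) : extender S₁ P φ ≤ extender S P φ := by
  unfold extender
  apply Subgroup.closure_mono
  rintro g ⟨hg, hgN, k, hk, hx⟩
  exact ⟨h hg, hgN, k, h hk, hx⟩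

theorem extender_le (S P : Subgroup Ω) (φ : P →* Ω) : extender S P φ ≤ S := by
  unfold extender
  rw [Subgroup.closure_le]
  rintro g ⟨hg, -, -⟩
  exact hg

/-- If `S = S₁ C_S(S₁)` then `Aut_S(Q) = Aut_{S₁}(Q)` for `Q ≤ S₁`. -/
theorem autInducedBy_eq_of_decomp {S₁ : Subgroup Ω} (hS₁S : S₁ ≤ S)
    (hdec : ∀ s ∈ S, ∃ a ∈ S₁, ∃ c ∈ centralizerIn S S₁, s = a * c) {Q : Subgroup Ω} (hQ : Q ≤ S₁) :
    autInducedBy S₁ Q = autInducedBy S Q := by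
  apply le_antisymm (autInducedBy_mono hS₁S)
  unfold autInducedBy
  rw [Subgroup.closure_le]
  rintro α ⟨g, hg, hα⟩
  obtain ⟨a, ha, c, hc, rfl⟩ := hdec g hg
  apply Subgroup.subset_closure
  refine ⟨a, ha, fun x => ?_⟩
  rw [hα x]
  have hcx := (mem_centralizerIn.mp hc).2 (x : Ω) (hQ x.2)
  have e : a * c * (x : Ω) * (a * c)⁻¹ = a * (c * (x : Ω) * c⁻¹) * a⁻¹ := by group
  rw [e, ← hcx, mul_inv_cancel_right]

/-- The full subsystem over a strongly closed subgroup `S₁` with `S = S₁ C_S(S₁)` is saturated. -/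
theorem isSaturated_fullSubsystem [Finite S] (p : ℕ) [Fact p.Prime] (F : FusionSystem S) (hF : F.IsSaturated p)
    {S₁ : Subgroup Ω} (h₁ : F.StronglyClosed S₁)
    (hdec : ∀ s ∈ S, ∃ a ∈ S₁, ∃ c ∈ centralizerIn S S₁, s = a * c)
    (R : FusionSystem S₁) (hR : ∀ P : Subgroup Ω, P ≤ S₁ → R.Hom P = F.Hom P) : R.IsSaturated p := by
  intro P hP
  obtain ⟨Q, ⟨φ, hφ, hr⟩, hQfa, hQrec⟩ := hF P (hP.trans h₁.1)
  have hQS₁ : Q ≤ S₁ := by
    rw [← hr]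
    rintro _ ⟨x, rfl⟩
    exact h₁.2 P hP φ hφ x
  refine ⟨Q, ⟨φ, by rw [hR P hP]; exact hφ, hr⟩, ⟨hQS₁, ?_⟩, ⟨hQS₁, ?_⟩⟩
  · obtain ⟨-, Sy, hSy⟩ := hQfa
    have hA : R.autGroup Q = F.autGroup Q := by
      unfold autGroup
      rw [hR Q hQS₁]
    rw [hA, autInducedBy_eq_of_decomp h₁.1 hdec hQS₁]
    exact ⟨Sy, hSy⟩
  · intro P' φ' hφ' hr'
    have hP'S₁ : P' ≤ S₁ := (R.le_of_mem hφ').1
    have hφ'F : φ' ∈ F.Hom P' := by rw [← hR P' hP'S₁]; exact hφ'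
    obtain ⟨ψ, hψ, hψext⟩ := hQrec.2 P' φ' hφ'F hr'
    have hle : extender S₁ P' φ' ≤ extender S P' φ' := extender_mono h₁.1 φ'
    have hψ' := Cfsg.Agent.Lib.Helper87.restrict_mem F hle hψ
    refine ⟨ψ.comp (Subgroup.inclusion hle), ?_, fun x hP hN => hψext x hP (hle hN)⟩
    rw [hR _ (extender_le S₁ P' φ')]
    exact hψ'

end Cfsg.Agent.Lib.Helper88
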