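import Cfsg.Agent.Lib.Helper88.FusionDP1
import Cfsg.Agent.Lib.Helper87.FusionNormalizer
import Cfsg.Agent.S5099

set_option autoImplicit false
open Cfsg

namespace Cfsg.Agent.Lib.Helper88

open Cfsg.FusionSystem Cfsg.Agent.Lib.Helper87

variable {Ω : Type*} [Group Ω] {S : Subgroup Ω}

theorem dp_decomp {S₁ S₂ : Subgroup Ω} (hprod : IsInternalDirectProduct S₁ S₂ S) :
    ∀ s ∈ S, ∃ a ∈ S₁, ∃ b ∈ S₂, s = a * b := by
  obtain ⟨-, -, hcomm, -, hsup⟩ := hprod
  intro s hs
  rw [← hsup] at hs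
  exact exists_mul_of_mem_sup (fun x hx t ht => by
    rw [hcomm x hx t ht, mul_inv_cancel_right]
    exact ht) hs

theorem dp_le_centralizerIn_left {S₁ S₂ : Subgroup Ω} (hprod : IsInternalDirectProduct S₁ S₂ S) :
    S₂ ≤ centralizerIn S S₁ := by
  intro b hb
  rw [mem_centralizerIn]
  exact ⟨hprod.2.1 hb, fun x hx => hprod.2.2.1 x hx b hb⟩

theorem dp_le_centralizerIn_right {S₁ S₂ : Subgroup Ω} (hprod : IsInternalDirectProduct S₁ S₂ S) :
    S₁ ≤ centralizerIn S S₂ := by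
  intro a ha
  rw [mem_centralizerIn]
  exact ⟨hprod.1 ha, fun x hx => (hprod.2.2.1 a ha x hx).symm⟩

theorem isFullyCentralized_of_stronglyClosed [Finite S] (F : FusionSystem S) {T : Subgroup Ω}
    (hT : F.StronglyClosed T) : F.IsFullyCentralized T := by
  refine ⟨hT.1, ?_⟩
  rintro Q ⟨θ, hθ, hr⟩
  have : Q = T := by
    rw [← hr]
    exact Cfsg.Agent.Lib.Helper90.range_eq_of_forall_mem F hθ (fun x => hT.2 T le_rfl θ hθ x)
  rw [this]

/-- The full subsystem over the factor `S₁`. -/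
theorem dp_isSaturated_full [Finite S] (p : ℕ) [Fact p.Prime] (F : FusionSystem S) (hF : F.IsSaturated p)
    {S₁ S₂ : Subgroup Ω} (hprod : IsInternalDirectProduct S₁ S₂ S) (h₁ : F.StronglyClosed S₁)
    (R : FusionSystem S₁) (hR : ∀ P : Subgroup Ω, P ≤ S₁ → R.Hom P = F.Hom P) : R.IsSaturated p := by
  apply isSaturated_fullSubsystem p F hF h₁ _ R hR
  intro s hs
  obtain ⟨a, ha, b, hb, rfl⟩ := dp_decomp hprod s hs
  exact ⟨a, ha, b, dp_le_centralizerIn_left hprod hb, rfl⟩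

/-- The part of the full subsystem over `S₁` centralizing `S₂` is saturated. -/
theorem dp_isSaturated_cent [Finite S] (p : ℕ) [Fact p.Prime] (hS : IsPGroup p S) (F : FusionSystem S)
    (hF : F.IsSaturated p)
    {S₁ S₂ : Subgroup Ω} (hprod : IsInternalDirectProduct S₁ S₂ S) (h₁ : F.StronglyClosed S₁)
    (h₂ : F.StronglyClosed S₂)
    (R' : FusionSystem S₁) (hR' : ∀ P : Subgroup Ω, P ≤ S₁ → R'.Hom P = F.centralizerHom S₂ P) :
    R'.IsSaturated p := by
  have hCsat : (centralizerSystem F S₂ h₂.1).IsSaturated p :=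
    Cfsg.Agent.S5099.result p hS F hF S₂ (isFullyCentralized_of_stronglyClosed F h₂) _
      (centralizerSystem_isCentralizerSystem F S₂ h₂.1)
  have hfin : Finite (centralizerIn S S₂) := finite_of_le (inf_le_left : centralizerIn S S₂ ≤ S)
  have h₁C : (centralizerSystem F S₂ h₂.1).StronglyClosed S₁ :=
    ⟨dp_le_centralizerIn_right hprod, fun P hP φ hφ x => h₁.2 P hP φ hφ.1 x⟩
  apply isSaturated_fullSubsystem p (centralizerSystem F S₂ h₂.1) hCsat h₁C _ R' (fun P hP => hR' P hP)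
  intro s hs
  obtain ⟨a, ha, b, hb, rfl⟩ := dp_decomp hprod s (inf_le_left (a := S) hs)
  refine ⟨a, ha, b, ?_, rfl⟩
  have hbC : b ∈ centralizerIn S S₂ := by
    have haC := dp_le_centralizerIn_right hprod ha
    have : b = a⁻¹ * (a * b) := by group
    rw [this]
    exact Subgroup.mul_mem _ (Subgroup.inv_mem _ haC) hs
  rw [mem_centralizerIn]
  exact ⟨hbC, fun x hx => hprod.2.2.1 x hx b hb⟩

end Cfsg.Agent.Lib.Helper88
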