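import Cfsg.Agent.Lib.Helper88.FusionDP2

set_option autoImplicit false
open Cfsg

namespace Cfsg.Agent.Lib.Helper88

open Cfsg.FusionSystem Cfsg.Agent.Lib.Helper87
open Cfsg.Agent.Lib.Helper90 (autMap mem_autMap autMap_le apply_mem_autMap)

variable {Ω : Type*} [Group Ω] {S : Subgroup Ω}

/-- Extension of automorphisms of a strongly closed subgroup `T` with `S = T C_S(T)` to `S`. -/
theorem exists_extPair_of_stronglyClosed [Finite S] (p : ℕ) [Fact p.Prime] (F : FusionSystem S)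
    (hF : F.IsSaturated p) {T : Subgroup Ω} (hT : F.StronglyClosed T) (hTC : S ≤ T ⊔ centralizerIn S T)
    {α : MulAut T} (hα : α ∈ F.autGroup T) : ∃ β ∈ F.autGroup S, (β, α) ∈ extPairs hT.1 := by
  have hTS : T ≤ S := hT.1
  have hrec := isReceptive_of_stronglyClosed p F hF hT
  have hαF := (mem_autGroup_iff F hTS).mp hα
  obtain ⟨ψ, hψ, hψext⟩ := hrec.2 T _ hαF (IsFIso.range_eq (α : T ≃* T))
  have hSle : S ≤ extender S T (T.subtype.comp (α : T ≃* T).toMonoidHom) :=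
    hTC.trans (sup_le (le_extender hTS (fun x => hTS (α x).2)) (centralizerIn_le_extender S T _))
  have hψS : ψ.comp (Subgroup.inclusion hSle) ∈ F.Hom S := Cfsg.Agent.Lib.Helper87.restrict_mem F hSle hψ
  have hr : (ψ.comp (Subgroup.inclusion hSle)).range = S :=
    Cfsg.Agent.Lib.Helper90.range_eq_of_forall_mem F hψS (fun x => hom_mem F hψS x)
  refine ⟨homEquiv F hψS hr, homEquiv_mem_autGroup F hψS hr, fun x => ?_⟩
  apply Subtype.ext
  show ψ ⟨(x : Ω), hSle (hTS x.2)⟩ = ((α x : T) : Ω)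
  exact hψext x x.2 (hSle (hTS x.2))

/-- Restriction of automorphisms of `S` to a strongly closed subgroup. -/
theorem exists_extPair_restrict [Finite S] (F : FusionSystem S) {T : Subgroup Ω} (hT : F.StronglyClosed T)
    {β : MulAut S} (hβ : β ∈ F.autGroup S) : ∃ α ∈ F.autGroup T, (β, α) ∈ extPairs hT.1 := by
  have hTS : T ≤ S := hT.1
  have hβF := (mem_autGroup_iff F le_rfl).mp hβ
  have hρ : (S.subtype.comp (β : S ≃* S).toMonoidHom).comp (Subgroup.inclusion hTS) ∈ F.Hom T :=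
    Cfsg.Agent.Lib.Helper87.restrict_mem F hTS hβF
  have hr : ((S.subtype.comp (β : S ≃* S).toMonoidHom).comp (Subgroup.inclusion hTS)).range = T :=
    Cfsg.Agent.Lib.Helper90.range_eq_of_forall_mem F hρ (fun x => hT.2 T le_rfl _ hρ x)
  refine ⟨homEquiv F hρ hr, homEquiv_mem_autGroup F hρ hr, fun x => ?_⟩
  apply Subtype.ext
  rfl

/-- `F` is invariant under conjugation by `Aut_F(S)`. -/
theorem exists_conj_of_mem_autGroup (F : FusionSystem S) {β : MulAut S} (hβ : β ∈ F.autGroup S)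
    {U : Subgroup Ω} {ψ : U →* Ω} (hψ : ψ ∈ F.Hom U) :
    ∃ χ ∈ F.Hom (autMap β U), ∀ (u : U) (hu : (u : Ω) ∈ S) (hψu : ψ u ∈ S)
      (hβu : ((β ⟨u, hu⟩ : S) : Ω) ∈ autMap β U), χ ⟨β ⟨u, hu⟩, hβu⟩ = ((β ⟨ψ u, hψu⟩ : S) : Ω) := by
  have hUS : U ≤ S := hom_le F hψ
  have hψS : ∀ u : U, ψ u ∈ S := hom_mem F hψ
  obtain ⟨a, haF, hax⟩ := exists_autMap_equiv' F le_rfl hβ hUS
  have ha' := IsFIso.symm F haF
  have hβF := (mem_autGroup_iff F le_rfl).mp hβ
  have h1 : ψ.comp (a.symm : autMap β U ≃* U).toMonoidHom ∈ F.Hom (autMap β U) :=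
    comp_mem' F ha' hψ (fun z => (a.symm z).2) (fun z => rfl)
  have h1S : ∀ z : autMap β U, (ψ.comp (a.symm : autMap β U ≃* U).toMonoidHom) z ∈ S := fun z => hψS _
  refine ⟨(S.subtype.comp (β : S ≃* S).toMonoidHom).comp
    ((ψ.comp (a.symm : autMap β U ≃* U).toMonoidHom).codRestrict S h1S), F.comp_mem h1 hβF h1S, ?_⟩
  intro u hu hψu hβu
  have e1 : (⟨β ⟨u, hu⟩, hβu⟩ : autMap β U) = a u := Subtype.ext (hax u).symm
  rw [e1]
  show ((β ⟨ψ (a.symm (a u)), _⟩ : S) : Ω) = _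
  congr 2
  apply Subtype.ext
  show ψ (a.symm (a u)) = ψ u
  rw [MulEquiv.symm_apply_apply]

end Cfsg.Agent.Lib.Helper88
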