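import Cfsg.Agent.Lib.Helper88.FusionDP3

set_option autoImplicit false
open Cfsg

namespace Cfsg.Agent.Lib.Helper88

open Cfsg.FusionSystem Cfsg.Agent.Lib.Helper87
open Cfsg.Agent.Lib.Helper90 (autMap mem_autMap autMap_le apply_mem_autMap)

variable {Ω : Type*} [Group Ω] {S : Subgroup Ω}

theorem dp_le_sup_centralizerIn {S₁ S₂ : Subgroup Ω} (hprod : IsInternalDirectProduct S₁ S₂ S) :
    S ≤ S₁ ⊔ centralizerIn S S₁ := by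
  have h := hprod.2.2.2.2
  rw [← h]
  exact sup_le_sup_left (by rw [h]; exact dp_le_centralizerIn_left hprod) S₁

theorem dp_symm {S₁ S₂ : Subgroup Ω} (hprod : IsInternalDirectProduct S₁ S₂ S) :
    IsInternalDirectProduct S₂ S₁ S := by
  obtain ⟨h1, h2, hcomm, hinf, hsup⟩ := hprod
  exact ⟨h2, h1, fun a ha b hb => (hcomm b hb a ha).symm, by rw [inf_comm]; exact hinf, by rw [sup_comm]; exact hsup⟩

/-- The image under an automorphism `β` of `S` extending `α ∈ Aut(S₁)` of `P ⊔ S₂`, `P ≤ S₁`. -/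
theorem autMap_sup_eq [Finite S] (F : FusionSystem S) {S₁ S₂ : Subgroup Ω}
    (hprod : IsInternalDirectProduct S₁ S₂ S) (h₁ : F.StronglyClosed S₁) (h₂ : F.StronglyClosed S₂)
    {β : MulAut S} (hβ : β ∈ F.autGroup S) {α : MulAut S₁} (hpair : (β, α) ∈ extPairs h₁.1)
    {P : Subgroup Ω} (hP : P ≤ S₁) : autMap β (P ⊔ S₂) = autMap α P ⊔ S₂ := by
  have hβ' : β⁻¹ ∈ F.autGroup S := Subgroup.inv_mem _ hβ
  apply le_antisymm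
  · intro y hy
    obtain ⟨s, hs, rfl⟩ := (mem_autMap β _ y).mp hy
    obtain ⟨t, ht, b, hb, hsb⟩ := exists_mul_of_mem_sup (P := P) (T := S₂) (fun x hx c hc => by
      rw [hprod.2.2.1 x (hP hx) c hc, mul_inv_cancel_right]
      exact hc) hs
    have e : s = Subgroup.inclusion h₁.1 (⟨t, hP ht⟩ : S₁) * ⟨b, h₂.1 hb⟩ := Subtype.ext hsb
    rw [e, map_mul, hpair ⟨t, hP ht⟩]
    apply Subgroup.mul_mem
    · exact le_sup_left (a := autMap α P) (apply_mem_autMap α ⟨t, hP ht⟩ ht)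
    · exact le_sup_right (a := autMap α P)
        (Cfsg.Agent.Lib.Helper90.StronglyClosed.aut_mem F h₂ le_rfl hβ ⟨b, h₂.1 hb⟩ hb)
  · apply sup_le
    · intro y hy
      obtain ⟨t, ht, rfl⟩ := (mem_autMap α P y).mp hy
      rw [mem_autMap]
      refine ⟨Subgroup.inclusion h₁.1 t, le_sup_left (a := P) ht, ?_⟩
      rw [hpair t]
      rfl
    · intro y hy
      rw [mem_autMap]
      refine ⟨β⁻¹ ⟨y, h₂.1 hy⟩, le_sup_right (a := P)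
        (Cfsg.Agent.Lib.Helper90.StronglyClosed.aut_mem F h₂ le_rfl hβ' ⟨y, h₂.1 hy⟩ hy), ?_⟩
      rw [MulAut.apply_inv_self]

/-- The subsystem of maps over `S₁` centralizing `S₂` is invariant under `Aut_F(S₁)`. -/
theorem dp_autInvariant_cent [Finite S] (p : ℕ) [Fact p.Prime] (F : FusionSystem S)
    (hF : F.IsSaturated p)
    {S₁ S₂ : Subgroup Ω} (hprod : IsInternalDirectProduct S₁ S₂ S) (h₁ : F.StronglyClosed S₁)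
    (h₂ : F.StronglyClosed S₂)
    (R' : FusionSystem S₁) (hR' : ∀ P : Subgroup Ω, P ≤ S₁ → R'.Hom P = F.centralizerHom S₂ P) :
    AutInvariant R' F := by
  apply autInvariant_of_forall
  intro P hPS₁ φ hφ α hα
  rw [hR' P hPS₁] at hφ
  obtain ⟨hφF, hPC, hφC, ψ, hψ, hψP, hψS₂⟩ := hφ
  obtain ⟨β, hβ, hpair⟩ := exists_extPair_of_stronglyClosed p F hF h₁ (dp_le_sup_centralizerIn hprod) hα
  have hβ' : β⁻¹ ∈ F.autGroup S := Subgroup.inv_mem _ hβ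
  obtain ⟨χ₀, hχ₀, hχ₀eq⟩ := exists_conj_of_mem_autGroup F hβ hψ
  have heq := autMap_sup_eq F hprod h₁ h₂ hβ hpair hPS₁
  obtain ⟨χ', hχ', hcast⟩ := hom_cast F heq χ₀ hχ₀
  have hle : autMap α P ≤ autMap α P ⊔ S₂ := le_sup_left
  have hχ := Cfsg.Agent.Lib.Helper87.restrict_mem F hle hχ'
  have hAS₁ : autMap α P ≤ S₁ := autMap_le α P
  have hψS : ∀ u : ↥(P ⊔ S₂), ψ u ∈ S := hom_mem F hψ
  have hUS : P ⊔ S₂ ≤ S := hom_le F hψ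
  show ∃ χ ∈ R'.Hom (autMap α P), _
  refine ⟨χ'.comp (Subgroup.inclusion hle), ?_, ?_⟩
  · rw [hR' _ hAS₁]
    refine ⟨hχ, hAS₁.trans (dp_le_centralizerIn_right hprod),
      fun z => dp_le_centralizerIn_right hprod (h₁.2 _ hAS₁ _ hχ z), χ', hχ', fun z => rfl, fun y => ?_⟩
    -- `χ'` fixes `S₂`
    have hy'S₂ : ((β⁻¹ ⟨y, h₂.1 y.2⟩ : S) : Ω) ∈ S₂ :=
      Cfsg.Agent.Lib.Helper90.StronglyClosed.aut_mem F h₂ le_rfl hβ' ⟨y, h₂.1 y.2⟩ y.2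
    have hu : ((β⁻¹ ⟨y, h₂.1 y.2⟩ : S) : Ω) ∈ P ⊔ S₂ := le_sup_right (a := P) hy'S₂
    have hβu : ((β ⟨((⟨((β⁻¹ ⟨y, h₂.1 y.2⟩ : S) : Ω), hu⟩ : ↥(P ⊔ S₂)) : Ω), hUS hu⟩ : S) : Ω) ∈ autMap β (P ⊔ S₂) :=
      apply_mem_autMap β _ hu
    have h1 := hχ₀eq ⟨_, hu⟩ (hUS hu) (hψS _) hβu
    have h2 : ψ ⟨((β⁻¹ ⟨y, h₂.1 y.2⟩ : S) : Ω), hu⟩ = ((β⁻¹ ⟨y, h₂.1 y.2⟩ : S) : Ω) :=
      hψS₂ ⟨_, hy'S₂⟩
    have e1 : (⟨((β⁻¹ ⟨y, h₂.1 y.2⟩ : S) : Ω), hUS hu⟩ : S) = β⁻¹ ⟨y, h₂.1 y.2⟩ := rfl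
    have e2 : ((β ⟨((⟨((β⁻¹ ⟨y, h₂.1 y.2⟩ : S) : Ω), hu⟩ : ↥(P ⊔ S₂)) : Ω), hUS hu⟩ : S) : Ω) = (y : Ω) := by
      rw [e1, MulAut.apply_inv_self]
    have h3 := hcast _ hβu (heq ▸ hβu)
    have e3 : (Subgroup.inclusion (le_sup_right : S₂ ≤ autMap α P ⊔ S₂) y : ↥(autMap α P ⊔ S₂)) =
        ⟨((β ⟨((⟨((β⁻¹ ⟨y, h₂.1 y.2⟩ : S) : Ω), hu⟩ : ↥(P ⊔ S₂)) : Ω), hUS hu⟩ : S) : Ω), heq ▸ hβu⟩ :=
      Subtype.ext e2.symm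
    rw [e3, h3, h1]
    have e4 : (⟨ψ ⟨((β⁻¹ ⟨y, h₂.1 y.2⟩ : S) : Ω), hu⟩, hψS _⟩ : S) = β⁻¹ ⟨y, h₂.1 y.2⟩ := Subtype.ext h2
    rw [e4, MulAut.apply_inv_self]
  · intro x hφx hαx
    have hu : (x : Ω) ∈ P ⊔ S₂ := le_sup_left (a := P) x.2
    have hβu : ((β ⟨((⟨(x : Ω), hu⟩ : ↥(P ⊔ S₂)) : Ω), hUS hu⟩ : S) : Ω) ∈ autMap β (P ⊔ S₂) :=
      apply_mem_autMap β _ hu
    have h1 := hχ₀eq ⟨_, hu⟩ (hUS hu) (hψS _) hβu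
    have h2 : ψ ⟨(x : Ω), hu⟩ = φ x := hψP x
    have e1 : (⟨(x : Ω), hUS hu⟩ : S) = Subgroup.inclusion h₁.1 ⟨x, hPS₁ x.2⟩ := rfl
    have e2 : ((β ⟨((⟨(x : Ω), hu⟩ : ↥(P ⊔ S₂)) : Ω), hUS hu⟩ : S) : Ω) = ((α ⟨x, hPS₁ x.2⟩ : S₁) : Ω) := by
      rw [e1, hpair]
      rfl
    have h3 := hcast _ hβu (heq ▸ hβu)
    show χ' ⟨((α ⟨x, hPS₁ x.2⟩ : S₁) : Ω), hle hαx⟩ = _
    have e3 : (⟨((α ⟨x, hPS₁ x.2⟩ : S₁) : Ω), hle hαx⟩ : ↥(autMap α P ⊔ S₂)) =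
        ⟨((β ⟨((⟨(x : Ω), hu⟩ : ↥(P ⊔ S₂)) : Ω), hUS hu⟩ : S) : Ω), heq ▸ hβu⟩ := Subtype.ext e2.symm
    rw [e3, h3, h1]
    have e4 : (⟨ψ ⟨(x : Ω), hu⟩, hψS _⟩ : S) = Subgroup.inclusion h₁.1 ⟨φ x, hφx⟩ := Subtype.ext h2
    rw [e4, hpair]
    rfl

end Cfsg.Agent.Lib.Helper88
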