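import Cfsg.Agent.Lib.Helper88.FusionDP4

set_option autoImplicit false
open Cfsg

namespace Cfsg.Agent.Lib.Helper88

open Cfsg.FusionSystem Cfsg.Agent.Lib.Helper87
open Cfsg.Agent.Lib.Helper90 (autMap mem_autMap autMap_le apply_mem_autMap)

variable {Ω : Type*} [Group Ω] {S : Subgroup Ω}

theorem dp_cent_isSubsystemOf (F : FusionSystem S) {S₁ S₂ : Subgroup Ω}
    (R' : FusionSystem S₁) (hR' : ∀ P : Subgroup Ω, P ≤ S₁ → R'.Hom P = F.centralizerHom S₂ P) :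
    R'.IsSubsystemOf F := by
  intro P φ hφ
  have hP : P ≤ S₁ := (R'.le_of_mem hφ).1
  rw [hR' P hP] at hφ
  exact hφ.1

/-- The Frattini property of the subsystem of maps over `S₁` centralizing `S₂`. -/
theorem dp_frattini_cent [Finite S] (p : ℕ) [Fact p.Prime] (hS : IsPGroup p S) (F : FusionSystem S)
    (hF : F.IsSaturated p)
    {S₁ S₂ : Subgroup Ω} (hprod : IsInternalDirectProduct S₁ S₂ S) (h₁ : F.StronglyClosed S₁)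
    (h₂ : F.StronglyClosed S₂)
    (R' : FusionSystem S₁) (hR' : ∀ P : Subgroup Ω, P ≤ S₁ → R'.Hom P = F.centralizerHom S₂ P) :
    ∀ (P : Subgroup Ω), P ≤ S₁ → ∀ (φ : P →* Ω), φ ∈ F.Hom P →
      ∃ α ∈ F.autGroup S₁, ∃ φ₀ ∈ R'.Hom P, ∀ (x : P) (hx : φ₀ x ∈ S₁), φ x = ((α ⟨φ₀ x, hx⟩ : S₁) : Ω) := by
  have hinv := dp_autInvariant_cent p F hF hprod h₁ h₂ R' hR'
  have hR'F := dp_cent_isSubsystemOf F R' hR'
  intro P hP φ hφ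
  refine hom_subset_of_aut_fullyNormalized p hS F hF h₁ (frattiniSystem R' F hinv)
    (frattiniSystem_le R' F hinv h₁.1 hR'F) ?_ P hP hφ
  intro Q hQS₁ hQfn _ β hβ
  have hQS : Q ≤ S := hQS₁.trans h₁.1
  obtain ⟨hfc, -⟩ := fullyNormalized_props p hS F hF Q hQfn
  have hrec := isReceptive_of_isFullyCentralized p hS F hF Q hfc
  have hβF := (mem_autGroup_iff F hQS).mp hβ
  obtain ⟨ψ, hψ, hψext⟩ := hrec.2 Q _ hβF (IsFIso.range_eq (β : Q ≃* Q))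
  have hS₂C : S₂ ≤ centralizerIn S Q := by
    intro b hb
    rw [mem_centralizerIn]
    exact ⟨h₂.1 hb, fun x hx => hprod.2.2.1 x (hQS₁ hx) b hb⟩
  have hUle : Q ⊔ S₂ ≤ extender S Q (Q.subtype.comp (β : Q ≃* Q).toMonoidHom) :=
    sup_le (le_extender hQS (fun x => hQS (β x).2)) (hS₂C.trans (centralizerIn_le_extender S Q _))
  have hβ₁ : ψ.comp (Subgroup.inclusion hUle) ∈ F.Hom (Q ⊔ S₂) :=
    Cfsg.Agent.Lib.Helper87.restrict_mem F hUle hψ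
  set β₁ := ψ.comp (Subgroup.inclusion hUle) with hβ₁_def
  have hβ₁Q : ∀ x : Q, β₁ (Subgroup.inclusion le_sup_left x) = ((β x : Q) : Ω) := by
    intro x
    exact hψext x x.2 (hUle (le_sup_left (a := Q) x.2))
  have hγ₀ : β₁.comp (Subgroup.inclusion (le_sup_right : S₂ ≤ Q ⊔ S₂)) ∈ F.Hom S₂ :=
    Cfsg.Agent.Lib.Helper87.restrict_mem F le_sup_right hβ₁
  have hr : (β₁.comp (Subgroup.inclusion (le_sup_right : S₂ ≤ Q ⊔ S₂))).range = S₂ :=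
    Cfsg.Agent.Lib.Helper90.range_eq_of_forall_mem F hγ₀ (fun x => h₂.2 S₂ le_rfl _ hγ₀ x)
  have hγ := homEquiv_mem_autGroup F hγ₀ hr
  set γ : MulAut S₂ := homEquiv F hγ₀ hr with hγ_def
  have hγy : ∀ y : S₂, ((γ y : S₂) : Ω) = β₁ (Subgroup.inclusion le_sup_right y) := fun y => rfl
  obtain ⟨γ₁, hγ₁, hpair₂⟩ :=
    exists_extPair_of_stronglyClosed p F hF h₂ (dp_le_sup_centralizerIn (dp_symm hprod)) hγ
  obtain ⟨α, hα, hpair₁⟩ := exists_extPair_restrict F h₁ hγ₁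
  have hpair₁' : (γ₁⁻¹, α⁻¹) ∈ extPairs h₁.1 := Subgroup.inv_mem _ hpair₁
  have hpair₂' : (γ₁⁻¹, γ⁻¹) ∈ extPairs h₂.1 := Subgroup.inv_mem _ hpair₂
  have hα'F := (mem_autGroup_iff F h₁.1).mp (Subgroup.inv_mem _ hα)
  have hγ₁'F := (mem_autGroup_iff F le_rfl).mp (Subgroup.inv_mem _ hγ₁)
  have hβS₁ : ∀ x : Q, (Q.subtype.comp (β : Q ≃* Q).toMonoidHom) x ∈ S₁ := fun x => hQS₁ (β x).2
  have hφ₀F := F.comp_mem hβF hα'F hβS₁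
  have hβ₁S : ∀ u : ↥(Q ⊔ S₂), β₁ u ∈ S := hom_mem F hβ₁
  have hψ₀ := F.comp_mem hβ₁ hγ₁'F hβ₁S
  refine ⟨α, hα, (S₁.subtype.comp ((α⁻¹ : MulAut S₁) : S₁ ≃* S₁).toMonoidHom).comp
    ((Q.subtype.comp (β : Q ≃* Q).toMonoidHom).codRestrict S₁ hβS₁), ?_, fun x hx => ?_⟩
  · rw [hR' Q hQS₁]
    refine ⟨hφ₀F, hQS₁.trans (dp_le_centralizerIn_right hprod),
      fun x => dp_le_centralizerIn_right hprod ((α⁻¹ : MulAut S₁) _).2,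
      (S.subtype.comp ((γ₁⁻¹ : MulAut S) : S ≃* S).toMonoidHom).comp (β₁.codRestrict S hβ₁S),
      hψ₀, fun x => ?_, fun y => ?_⟩
    · show (((γ₁⁻¹ : MulAut S) ⟨β₁ (Subgroup.inclusion le_sup_left x), hβ₁S _⟩ : S) : Ω) =
        (((α⁻¹ : MulAut S₁) ⟨((β x : Q) : Ω), hβS₁ x⟩ : S₁) : Ω)
      have e : (⟨β₁ (Subgroup.inclusion le_sup_left x), hβ₁S _⟩ : S) =
          Subgroup.inclusion h₁.1 ⟨((β x : Q) : Ω), hβS₁ x⟩ := Subtype.ext (hβ₁Q x)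
      rw [e, hpair₁']
      rfl
    · show (((γ₁⁻¹ : MulAut S) ⟨β₁ (Subgroup.inclusion le_sup_right y), hβ₁S _⟩ : S) : Ω) = (y : Ω)
      have e : (⟨β₁ (Subgroup.inclusion le_sup_right y), hβ₁S _⟩ : S) =
          Subgroup.inclusion h₂.1 (γ y) := Subtype.ext (hγy y).symm
      rw [e, hpair₂', MulAut.inv_apply_self]
      rfl
  · show ((β x : Q) : Ω) = ((α ⟨(((α⁻¹ : MulAut S₁) ⟨((β x : Q) : Ω), hβS₁ x⟩ : S₁) : Ω), hx⟩ : S₁) : Ω)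
    have e : (⟨(((α⁻¹ : MulAut S₁) ⟨((β x : Q) : Ω), hβS₁ x⟩ : S₁) : Ω), hx⟩ : S₁) =
        (α⁻¹ : MulAut S₁) ⟨((β x : Q) : Ω), hβS₁ x⟩ := rfl
    rw [e, MulAut.apply_inv_self]

end Cfsg.Agent.Lib.Helper88
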