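import Cfsg.Agent.Lib.Helper88.FusionDP5

set_option autoImplicit false
open Cfsg

namespace Cfsg.Agent.Lib.Helper88

open Cfsg.FusionSystem Cfsg.Agent.Lib.Helper87
open Cfsg.Agent.Lib.Helper90 (autMap mem_autMap autMap_le apply_mem_autMap)

variable {Ω : Type*} [Group Ω] {S : Subgroup Ω}

/-- Conjugating a map of `F` between subgroups of `T` by an element of `Aut_F(T)`. -/
theorem exists_conj_of_mem_autGroup' (F : FusionSystem S) {T : Subgroup Ω} (hTS : T ≤ S) {α : MulAut T}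
    (hα : α ∈ F.autGroup T) {U : Subgroup Ω} (hUT : U ≤ T) {ψ : U →* Ω} (hψ : ψ ∈ F.Hom U)
    (hψT : ∀ u : U, ψ u ∈ T) :
    ∃ χ ∈ F.Hom (autMap α U), ∀ (u : U) (hαu : ((α ⟨u, hUT u.2⟩ : T) : Ω) ∈ autMap α U),
      χ ⟨α ⟨u, hUT u.2⟩, hαu⟩ = ((α ⟨ψ u, hψT u⟩ : T) : Ω) := by
  obtain ⟨a, haF, hax⟩ := exists_autMap_equiv' F hTS hα hUT
  have ha' := IsFIso.symm F haF
  have hαF := (mem_autGroup_iff F hTS).mp hα
  have h1 : ψ.comp (a.symm : autMap α U ≃* U).toMonoidHom ∈ F.Hom (autMap α U) :=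
    comp_mem' F ha' hψ (fun z => (a.symm z).2) (fun z => rfl)
  have h1T : ∀ z : autMap α U, (ψ.comp (a.symm : autMap α U ≃* U).toMonoidHom) z ∈ T := fun z => hψT _
  refine ⟨(T.subtype.comp (α : T ≃* T).toMonoidHom).comp
    ((ψ.comp (a.symm : autMap α U ≃* U).toMonoidHom).codRestrict T h1T), F.comp_mem h1 hαF h1T, ?_⟩
  intro u hαu
  have e1 : (⟨α ⟨u, hUT u.2⟩, hαu⟩ : autMap α U) = a u := Subtype.ext (hax u).symm
  rw [e1]
  show ((α ⟨ψ (a.symm (a u)), _⟩ : T) : Ω) = _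
  congr 2
  apply Subtype.ext
  show ψ (a.symm (a u)) = ψ u
  rw [MulEquiv.symm_apply_apply]

/-- The full subsystem on a strongly closed subgroup is invariant. -/
theorem isInvariantIn_full (F : FusionSystem S) {T : Subgroup Ω} (hT : F.StronglyClosed T)
    (R : FusionSystem T) (hR : ∀ P : Subgroup Ω, P ≤ T → R.Hom P = F.Hom P) : R.IsInvariantIn F := by
  have hsub : R.IsSubsystemOf F := by
    intro P φ hφ
    rw [hR P (R.le_of_mem hφ).1] at hφ
    exact hφ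
  refine ⟨hsub, hT, ?_, ?_⟩
  · intro P hPT φ hφ α hα
    rw [hR P hPT] at hφ
    have hφT : ∀ x : P, φ x ∈ T := fun x => hT.2 P hPT φ hφ x
    obtain ⟨χ, hχ, hχeq⟩ := exists_conj_of_mem_autGroup' F hT.1 hα hPT hφ hφT
    refine ⟨χ, ?_, fun x hφx hαx => hχeq x hαx⟩
    have hle : autMap α P ≤ T := autMap_le α P
    have := hR (autMap α P) hle
    show χ ∈ R.Hom (autMap α P)
    rw [this]
    exact hχ
  · intro P hPT φ hφ
    refine ⟨1, Subgroup.one_mem _, φ, ?_, fun x hx => rfl⟩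
    rw [hR P hPT]
    exact hφ

theorem autGroup_eq_of_full (F : FusionSystem S) {T : Subgroup Ω} (R : FusionSystem T)
    (hR : ∀ P : Subgroup Ω, P ≤ T → R.Hom P = F.Hom P) {P : Subgroup Ω} (hPT : P ≤ T) :
    R.autGroup P = F.autGroup P := by
  unfold FusionSystem.autGroup
  rw [hR P hPT]

end Cfsg.Agent.Lib.Helper88
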