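import Cfsg.Agent.Lib.Helper88.FusionDP6

set_option autoImplicit false
open Cfsg

namespace Cfsg.Agent.Lib.Helper88

open Cfsg.FusionSystem Cfsg.Agent.Lib.Helper87
open Cfsg.Agent.Lib.Helper90 (autMap mem_autMap autMap_le apply_mem_autMap)

variable {Ω : Type*} [Group Ω] {S : Subgroup Ω}

/-- An automorphism of `T` maps the centre of `T` into the centralizer of `T`. -/
theorem aut_center_mem {T : Subgroup Ω} (α : MulAut T) {a : T}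
    (ha : (a : Ω) ∈ Subgroup.centralizer (T : Set Ω)) :
    ((α a : T) : Ω) ∈ Subgroup.centralizer (T : Set Ω) := by
  rw [Subgroup.mem_centralizer_iff] at ha ⊢
  intro s hs
  have h1 : (⟨s, hs⟩ : T) = α (α⁻¹ ⟨s, hs⟩) := by rw [MulAut.apply_inv_self]
  have h2 : (α⁻¹ ⟨s, hs⟩ : T) * a = a * (α⁻¹ ⟨s, hs⟩ : T) := by
    apply Subtype.ext
    exact ha _ (α⁻¹ ⟨s, hs⟩ : T).2
  have h3 : (⟨s, hs⟩ : T) * α a = α a * ⟨s, hs⟩ := by
    rw [h1, ← map_mul, ← map_mul, h2]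
  exact congrArg Subtype.val h3

/-- The extension condition for the subsystem of maps over `S₁` centralizing `S₂`, in `F`. -/
theorem dp_ext_cent [Finite S] (F : FusionSystem S) {S₁ S₂ : Subgroup Ω}
    (hprod : IsInternalDirectProduct S₁ S₂ S)
    (R' : FusionSystem S₁) (hR' : ∀ P : Subgroup Ω, P ≤ S₁ → R'.Hom P = F.centralizerHom S₂ P) :
    ∀ α ∈ R'.autGroup S₁, ∃ β ∈ F.autGroup (S₁ ⊔ centralizerIn S S₁),
      (∀ x : S₁, ((β (Subgroup.inclusion le_sup_left x) : ↥(S₁ ⊔ centralizerIn S S₁)) : Ω) = ((α x : S₁) : Ω)) ∧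
      ∀ c : ↥(S₁ ⊔ centralizerIn S S₁), (c : Ω) ∈ centralizerIn S S₁ →
        (c : Ω)⁻¹ * ((β c : ↥(S₁ ⊔ centralizerIn S S₁)) : Ω) ∈ S₁ ⊓ Subgroup.centralizer (S₁ : Set Ω) := by
  intro α hα
  have hαR' := (mem_autGroup_iff R' le_rfl).mp hα
  rw [hR' S₁ le_rfl] at hαR'
  obtain ⟨hαF, -, -, ψ, hψ, hψ₁, hψ₂⟩ := hαR'
  have hsup : S₁ ⊔ S₂ = S := hprod.2.2.2.2
  have hsup' : S₁ ⊔ centralizerIn S S₁ = S :=
    le_antisymm (sup_le hprod.1 (centralizerIn_le S S₁)) (dp_le_sup_centralizerIn hprod)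
  have heq : S₁ ⊔ S₂ = S₁ ⊔ centralizerIn S S₁ := by rw [hsup, hsup']
  obtain ⟨ψ', hψ', hcast⟩ := hom_cast F heq ψ hψ
  have hr : ψ'.range = S₁ ⊔ centralizerIn S S₁ :=
    Cfsg.Agent.Lib.Helper90.range_eq_of_forall_mem F hψ' (fun x => hsup'.ge (hom_mem F hψ' x))
  refine ⟨homEquiv F hψ' hr, homEquiv_mem_autGroup F hψ' hr, fun x => ?_, fun c hc => ?_⟩
  · show ψ' (Subgroup.inclusion le_sup_left x) = _
    have h1 := hcast (x : Ω) (le_sup_left (a := S₁) x.2) (le_sup_left (a := S₁) x.2)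
    have h2 := hψ₁ x
    exact h1.trans h2
  · show (c : Ω)⁻¹ * ψ' c ∈ _
    have hcS : (c : Ω) ∈ S := (centralizerIn_le S S₁) hc
    obtain ⟨a, ha, b, hb, hcab⟩ := dp_decomp hprod (c : Ω) hcS
    have hcc := (mem_centralizerIn.mp hc).2
    have hbc := (mem_centralizerIn.mp (dp_le_centralizerIn_left hprod hb)).2
    -- `a` is central in `S₁`
    have hac : a ∈ Subgroup.centralizer (S₁ : Set Ω) := by
      rw [Subgroup.mem_centralizer_iff]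
      intro s hs
      have e : a = (c : Ω) * b⁻¹ := by rw [hcab, mul_inv_cancel_right]
      rw [e]
      have h1 : Commute s (c : Ω) := hcc s hs
      have h2 : Commute s b := hbc s hs
      exact (h1.mul_right h2.inv_right).eq
    have hαac := aut_center_mem α (a := ⟨a, ha⟩) hac
    have hA : a ∈ S₁ ⊔ S₂ := le_sup_left (a := S₁) ha
    have hB : b ∈ S₁ ⊔ S₂ := le_sup_right (a := S₁) hb
    have hc' : (c : Ω) ∈ S₁ ⊔ S₂ := by rw [hsup]; exact hcS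
    have h1 := hcast (c : Ω) hc' c.2
    have e1 : (⟨(c : Ω), c.2⟩ : ↥(S₁ ⊔ centralizerIn S S₁)) = c := rfl
    rw [e1] at h1
    have e2 : (⟨(c : Ω), hc'⟩ : ↥(S₁ ⊔ S₂)) = (⟨a, hA⟩ : ↥(S₁ ⊔ S₂)) * ⟨b, hB⟩ := Subtype.ext hcab
    have ha' : ψ ⟨a, hA⟩ = ((α ⟨a, ha⟩ : S₁) : Ω) := hψ₁ ⟨a, ha⟩
    have hb' : ψ ⟨b, hB⟩ = b := hψ₂ ⟨b, hb⟩
    rw [h1, e2, map_mul, ha', hb']
    have hαa : ((α ⟨a, ha⟩ : S₁) : Ω) ∈ S₁ := (α ⟨a, ha⟩).2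
    have ht : a⁻¹ * ((α ⟨a, ha⟩ : S₁) : Ω) ∈ S₁ := S₁.mul_mem (S₁.inv_mem ha) hαa
    have hkey : (c : Ω)⁻¹ * (((α ⟨a, ha⟩ : S₁) : Ω) * b) = a⁻¹ * ((α ⟨a, ha⟩ : S₁) : Ω) := by
      have e0 : (c : Ω)⁻¹ * (((α ⟨a, ha⟩ : S₁) : Ω) * b) = b⁻¹ * (a⁻¹ * ((α ⟨a, ha⟩ : S₁) : Ω) * b) := by
        rw [hcab]
        group
      rw [e0, hbc _ ht, inv_mul_cancel_left]
    rw [hkey]
    exact ⟨S₁.mul_mem (S₁.inv_mem ha) hαa, Subgroup.mul_mem _ (Subgroup.inv_mem _ hac) hαac⟩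

end Cfsg.Agent.Lib.Helper88
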