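import Cfsg.Agent.Lib.Helper88.FusionDP7
import Cfsg.Agent.Lib.Helper88.FusionFrat7

set_option autoImplicit false
open Cfsg

namespace Cfsg.Agent.Lib.Helper88

open Cfsg.FusionSystem Cfsg.Agent.Lib.Helper87
open Cfsg.Agent.Lib.Helper90 (autMap mem_autMap autMap_le apply_mem_autMap)

variable {Ω : Type*} [Group Ω] {S : Subgroup Ω}

/-- The extension condition for a subsystem over the same group: trivially satisfied. -/
theorem ext_self [Finite S] (R : FusionSystem S) :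
    ∀ α ∈ R.autGroup S, ∃ β ∈ R.autGroup (S ⊔ centralizerIn S S),
      (∀ x : S, ((β (Subgroup.inclusion le_sup_left x) : ↥(S ⊔ centralizerIn S S)) : Ω) = ((α x : S) : Ω)) ∧
      ∀ c : ↥(S ⊔ centralizerIn S S), (c : Ω) ∈ centralizerIn S S →
        (c : Ω)⁻¹ * ((β c : ↥(S ⊔ centralizerIn S S)) : Ω) ∈ S ⊓ Subgroup.centralizer (S : Set Ω) := by
  intro α hα
  have hαR := (mem_autGroup_iff R le_rfl).mp hα
  have heq : S = S ⊔ centralizerIn S S := (sup_eq_left.mpr (centralizerIn_le S S)).symm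
  obtain ⟨ψ', hψ', hcast⟩ := hom_cast R heq _ hαR
  have hr : ψ'.range = S ⊔ centralizerIn S S :=
    Cfsg.Agent.Lib.Helper90.range_eq_of_forall_mem R hψ' (fun x => heq.le (hom_mem R hψ' x))
  refine ⟨homEquiv R hψ' hr, homEquiv_mem_autGroup R hψ' hr, fun x => ?_, fun c hc => ?_⟩
  · show ψ' (Subgroup.inclusion le_sup_left x) = _
    exact hcast (x : Ω) x.2 (le_sup_left (a := S) x.2)
  · show (c : Ω)⁻¹ * ψ' c ∈ _
    have hcS : (c : Ω) ∈ S := (centralizerIn_le S S) hc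
    have h1 := hcast (c : Ω) hcS c.2
    have e1 : (⟨(c : Ω), c.2⟩ : ↥(S ⊔ centralizerIn S S)) = c := rfl
    rw [e1] at h1
    rw [h1]
    have hcc : (c : Ω) ∈ Subgroup.centralizer (S : Set Ω) := hc.2
    have hαc := aut_center_mem α (a := ⟨(c : Ω), hcS⟩) hcc
    exact ⟨S.mul_mem (S.inv_mem hcS) (α ⟨(c : Ω), hcS⟩).2, Subgroup.mul_mem _ (Subgroup.inv_mem _ hcc) hαc⟩

theorem autGroup_mono' {T : Subgroup Ω} (E : FusionSystem T) (F : FusionSystem S) (h : E.IsSubsystemOf F)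
    (P : Subgroup Ω) : E.autGroup P ≤ F.autGroup P := by
  unfold FusionSystem.autGroup
  apply Subgroup.closure_mono
  intro α hα
  exact h P hα

/-- The centralizing subsystem over a direct factor is normal in `F` and in the full subsystem on the factor, and the latter
is weakly normal. -/
theorem dp_normal [Finite S] (p : ℕ) [Fact p.Prime] (hS : IsPGroup p S) (F : FusionSystem S)
    (hF : F.IsSaturated p)
    {S₁ S₂ : Subgroup Ω} (hprod : IsInternalDirectProduct S₁ S₂ S) (h₁ : F.StronglyClosed S₁)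
    (h₂ : F.StronglyClosed S₂)
    (R R' : FusionSystem S₁) (hR : ∀ P : Subgroup Ω, P ≤ S₁ → R.Hom P = F.Hom P)
    (hR' : ∀ P : Subgroup Ω, P ≤ S₁ → R'.Hom P = F.centralizerHom S₂ P) :
    R'.IsNormalIn F p ∧ R'.IsNormalIn R p ∧ R.IsWeaklyNormalIn F p := by
  have hfin₁ : Finite S₁ := finite_of_le hprod.1
  have hRsat := dp_isSaturated_full p F hF hprod h₁ R hR
  have hR'sat := dp_isSaturated_cent p hS F hF hprod h₁ h₂ R' hR'
  have hinv := dp_autInvariant_cent p F hF hprod h₁ h₂ R' hR'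
  have hR'F := dp_cent_isSubsystemOf F R' hR'
  have hfrat := dp_frattini_cent p hS F hF hprod h₁ h₂ R' hR'
  have hR'R : R'.IsSubsystemOf R := by
    intro P φ hφ
    rw [hR P (R'.le_of_mem hφ).1]
    exact hR'F P hφ
  have hautS₁ : R.autGroup S₁ = F.autGroup S₁ := autGroup_eq_of_full F R hR le_rfl
  refine ⟨⟨⟨hR'sat, hF, hR'F, h₁, forall_of_autInvariant R' F hinv, hfrat⟩, dp_ext_cent F hprod R' hR'⟩,
    ⟨⟨hR'sat, hRsat, hR'R, stronglyClosed_self R, ?_, ?_⟩, ?_⟩,
    ⟨hRsat, hF, isInvariantIn_full F h₁ R hR⟩⟩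
  · intro P hPT φ hφ α hα
    rw [hautS₁] at hα
    exact forall_of_autInvariant R' F hinv P hPT φ hφ α hα
  · intro P hPT φ hφ
    rw [hR P hPT] at hφ
    rw [hautS₁]
    exact hfrat P hPT φ hφ
  · intro α hα
    exact ext_self R α (autGroup_mono' R' R hR'R S₁ hα)

end Cfsg.Agent.Lib.Helper88
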