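import Cfsg.Agent.Lib.Helper87.FusionSaturated
import Cfsg.Agent.Lib.Helper88.FusionFactor

set_option autoImplicit false
open Cfsg

namespace Cfsg.Agent.Lib.Helper88

open Cfsg.FusionSystem

variable {Ω : Type*} [Group Ω] {S : Subgroup Ω}

/-- The map `φ` with source `P` has an extension modulo `T`: a map of the system defined on a subgroup containing
`P` and `T` which agrees with `φ` on `P` modulo `T`. -/
def HasExtMod (F : FusionSystem S) (T : Subgroup Ω) {P : Subgroup Ω} (φ : P →* Ω) : Prop :=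
  ∃ (R : Subgroup Ω) (hPR : P ≤ R) (_ : T ≤ R), ∃ ψ ∈ F.Hom R, ∀ x : P, (φ x)⁻¹ * ψ ⟨x, hPR x.2⟩ ∈ T

/-- A map of the system on a subgroup containing the strongly closed `T` maps `T` into `T`. -/
theorem stronglyClosed_map_mem {F : FusionSystem S} {T : Subgroup Ω} (hT : F.StronglyClosed T) {R : Subgroup Ω}
    (hTR : T ≤ R) {ψ : R →* Ω} (hψ : ψ ∈ F.Hom R) {t : Ω} (ht : t ∈ T) : ψ ⟨t, hTR ht⟩ ∈ T :=
  hT.2 T le_rfl _ (Cfsg.Agent.Lib.Helper87.restrict_mem F hTR hψ) ⟨t, ht⟩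

theorem HasExtMod.exists_sup {F : FusionSystem S} {T : Subgroup Ω} {P : Subgroup Ω} {φ : P →* Ω}
    (h : HasExtMod F T φ) :
    ∃ ψ ∈ F.Hom (P ⊔ T), ∀ x : P, (φ x)⁻¹ * ψ ⟨x, (le_sup_left : P ≤ P ⊔ T) x.2⟩ ∈ T := by
  obtain ⟨R, hPR, hTR, ψ, hψ, hag⟩ := h
  exact ⟨_, Cfsg.Agent.Lib.Helper87.restrict_mem F (sup_le hPR hTR) hψ, fun x => hag x⟩

theorem hasExtMod_conj (F : FusionSystem S) {T : Subgroup Ω} (hTS : T ≤ S) {P : Subgroup Ω} (hP : P ≤ S) {g : Ω}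
    (hg : g ∈ S) : HasExtMod F T (conjHom P g) := by
  refine ⟨P ⊔ T, le_sup_left, le_sup_right, conjHom (P ⊔ T) g, F.conj_mem (sup_le hP hTS) hg, fun x => ?_⟩
  have : (conjHom P g x)⁻¹ * conjHom (P ⊔ T) g ⟨x, (le_sup_left : P ≤ P ⊔ T) x.2⟩ = 1 := by
    show (g * (x : Ω) * g⁻¹)⁻¹ * (g * (x : Ω) * g⁻¹) = 1
    group
  rw [this]
  exact T.one_mem

theorem hasExtMod_comp (F : FusionSystem S) {T : Subgroup Ω} (hT : F.StronglyClosed T) {P Q : Subgroup Ω}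
    {φ : P →* Ω} {ψ : Q →* Ω} (h : ∀ x : P, φ x ∈ Q)
    (hφe : HasExtMod F T φ) (hψe : HasExtMod F T ψ) : HasExtMod F T (ψ.comp (φ.codRestrict Q h)) := by
  obtain ⟨φ', hφ', hφag⟩ := hφe.exists_sup
  obtain ⟨ψ', hψ', hψag⟩ := hψe.exists_sup
  have hPle : P ≤ P ⊔ T := le_sup_left
  have hTle : T ≤ P ⊔ T := le_sup_right
  have hQle : Q ≤ Q ⊔ T := le_sup_left
  have hTle' : T ≤ Q ⊔ T := le_sup_right
  -- `φ'` maps `P ⊔ T` into `Q ⊔ T`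
  have hmaps : ∀ y : ↥(P ⊔ T), φ' y ∈ Q ⊔ T := by
    have hle : P ⊔ T ≤ ((Q ⊔ T).comap φ').map (P ⊔ T).subtype := by
      refine sup_le ?_ ?_
      · intro x hx
        refine ⟨⟨x, hPle hx⟩, ?_, rfl⟩
        show φ' ⟨x, hPle hx⟩ ∈ Q ⊔ T
        have h1 := hφag ⟨x, hx⟩
        have e : φ' ⟨x, hPle hx⟩ = φ ⟨x, hx⟩ * ((φ ⟨x, hx⟩)⁻¹ * φ' ⟨x, hPle hx⟩) := by group
        rw [e]
        exact Subgroup.mul_mem _ (hQle (h ⟨x, hx⟩)) (hTle' h1)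
      · intro t ht
        exact ⟨⟨t, hTle ht⟩, hTle' (stronglyClosed_map_mem hT hTle hφ' ht), rfl⟩
    intro y
    obtain ⟨y', hy', hyy'⟩ := hle y.2
    have : y' = y := Subtype.ext hyy'
    rw [← this]
    exact hy'
  refine ⟨P ⊔ T, hPle, hTle, _, F.comp_mem hφ' hψ' hmaps, fun x => ?_⟩
  show (ψ ⟨φ x, h x⟩)⁻¹ * ψ' ⟨φ' ⟨x, hPle x.2⟩, hmaps _⟩ ∈ T
  set t := (φ x)⁻¹ * φ' ⟨x, hPle x.2⟩ with ht
  have htT : t ∈ T := hφag x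
  have e1 : (⟨φ' ⟨x, hPle x.2⟩, hmaps _⟩ : ↥(Q ⊔ T)) = ⟨φ x, hQle (h x)⟩ * ⟨t, hTle' htT⟩ := by
    apply Subtype.ext
    show φ' ⟨x, hPle x.2⟩ = φ x * t
    rw [ht]; group
  rw [e1, map_mul, ← mul_assoc]
  exact T.mul_mem (hψag ⟨φ x, h x⟩) (stronglyClosed_map_mem hT hTle' hψ' htT)

theorem hasExtMod_inv [Finite S] (F : FusionSystem S) {T : Subgroup Ω} (hT : F.StronglyClosed T) {P : Subgroup Ω}
    {φ : P →* Ω} (hφe : HasExtMod F T φ) {ψ : φ.range →* Ω}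
    (hinv : ∀ x : P, ψ ⟨φ x, ⟨x, rfl⟩⟩ = (x : Ω)) : HasExtMod F T ψ := by
  obtain ⟨φ', hφ', hφag⟩ := hφe.exists_sup
  have hPle : P ≤ P ⊔ T := le_sup_left
  have hTle : T ≤ P ⊔ T := le_sup_right
  obtain ⟨χ, hχ, hχinv⟩ := F.inv_mem hφ'
  have hmapT := stronglyClosed_map_eq F hT hTle hφ'
  -- every element of `T` is the image of an element of `T`
  have hTsurj : ∀ t ∈ T, ∃ t₁ : ↥(P ⊔ T), (t₁ : Ω) ∈ T ∧ φ' t₁ = t := by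
    intro t ht
    rw [← hmapT] at ht
    obtain ⟨t₁, ht₁, rfl⟩ := ht
    exact ⟨t₁, Subgroup.mem_subgroupOf.mp ht₁, rfl⟩
  -- key: `φ x = φ' (x * t₁)` with `t₁ ∈ T`
  have hkey : ∀ x : P, ∃ t₁ : ↥(P ⊔ T), (t₁ : Ω) ∈ T ∧ φ x = φ' (⟨x, hPle x.2⟩ * t₁) := by
    intro x
    have h1 : ((φ x)⁻¹ * φ' ⟨x, hPle x.2⟩)⁻¹ ∈ T := T.inv_mem (hφag x)
    obtain ⟨t₁, ht₁, ht₁'⟩ := hTsurj _ h1
    refine ⟨t₁, ht₁, ?_⟩
    rw [map_mul, ht₁']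
    group
  have hrange : φ.range ≤ φ'.range := by
    rintro _ ⟨x, rfl⟩
    obtain ⟨t₁, -, h⟩ := hkey x
    exact ⟨_, h.symm⟩
  have hTrange : T ≤ φ'.range := by
    intro t ht
    obtain ⟨t₁, -, h⟩ := hTsurj t ht
    exact ⟨t₁, h⟩
  refine ⟨φ'.range, hrange, hTrange, χ, hχ, ?_⟩
  rintro ⟨_, x, rfl⟩
  rw [hinv]
  obtain ⟨t₁, ht₁, h⟩ := hkey x
  have e : (⟨φ x, hrange ⟨x, rfl⟩⟩ : φ'.range) = ⟨φ' (⟨x, hPle x.2⟩ * t₁), ⟨_, rfl⟩⟩ := Subtype.ext h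
  rw [e, hχinv]
  show (x : Ω)⁻¹ * ((x : Ω) * (t₁ : Ω)) ∈ T
  rw [inv_mul_cancel_left]
  exact ht₁

end Cfsg.Agent.Lib.Helper88
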