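import Cfsg.Agent.Lib.Helper88.FusionExtMod1

set_option autoImplicit false
open Cfsg

namespace Cfsg.Agent.Lib.Helper88

open Cfsg.FusionSystem Cfsg.Agent.Lib.Helper87

variable {Ω : Type*} [Group Ω] {S : Subgroup Ω}

/-- Index-filtered subsystem: the maps of `F` which have an extension modulo `T` whenever their source is large. -/
def extSystem [Finite S] (F : FusionSystem S) (T : Subgroup Ω) (hT : F.StronglyClosed T) (n : ℕ) : FusionSystem S where
  Hom P := {φ | φ ∈ F.Hom P ∧ (Nat.card S < Nat.card P + n → HasExtMod F T φ)}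
  le_of_mem h := F.le_of_mem h.1
  injective_of_mem h := F.injective_of_mem h.1
  conj_mem := by
    intro P g hP hg
    exact ⟨F.conj_mem hP hg, fun _ => hasExtMod_conj F hT.1 hP hg⟩
  comp_mem := by
    rintro P Q φ ψ ⟨hφ, hφe⟩ ⟨hψ, hψe⟩ h
    refine ⟨F.comp_mem hφ hψ h, fun hc => ?_⟩
    have hQ : Q ≤ S := hom_le F hψ
    have : Finite Q := finite_of_le hQ
    have hcard : Nat.card P ≤ Nat.card Q := by
      refine Nat.card_le_card_of_injective (φ.codRestrict Q h) ?_
      intro a b hab
      exact F.injective_of_mem hφ (congrArg Subtype.val hab)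
    exact hasExtMod_comp F hT h (hφe hc) (hψe (by omega))
  inv_mem := by
    rintro P φ ⟨hφ, hφe⟩
    obtain ⟨ψ, hψ, hψx⟩ := F.inv_mem hφ
    refine ⟨ψ, ⟨hψ, fun hc => ?_⟩, hψx⟩
    have hcard : Nat.card φ.range = Nat.card P :=
      (Nat.card_congr (MonoidHom.ofInjective (F.injective_of_mem hφ)).toEquiv).symm
    rw [hcard] at hc
    exact hasExtMod_inv F hT (hφe hc) hψx

end Cfsg.Agent.Lib.Helper88
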