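import Cfsg.Agent.Lib.Helper88.FusionExtMod3

set_option autoImplicit false
open Cfsg
open scoped Pointwise

namespace Cfsg.Agent.Lib.Helper88

open Cfsg.FusionSystem Cfsg.Agent.Lib.Helper87

variable {Ω : Type*} [Group Ω] {S : Subgroup Ω}

/-- If `T ≰ P` (inside a finite `p`-group `S` normalizing `T`), some element of `N_T(P)` lies outside `P`. -/
theorem exists_mem_normalizerIn_T_not_mem [Finite S] {p : ℕ} [Fact p.Prime] (hS : IsPGroup p S)
    {T P : Subgroup Ω} (hTS : T ≤ S) (hPS : P ≤ S) (hn : ∀ x ∈ S, ∀ t ∈ T, x * t * x⁻¹ ∈ T) (hTP : ¬ T ≤ P) :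
    ∃ g ∈ normalizerIn T P, g ∉ P := by
  have hle : P ⊔ T ≤ S := sup_le hPS hTS
  have : Finite ↥(P ⊔ T) := finite_of_le hle
  have hp : IsPGroup p ↥(P ⊔ T) := hS.to_le hle
  have hne : P ≠ P ⊔ T := by
    intro h
    apply hTP
    rw [h]
    exact le_sup_right
  obtain ⟨s, hsN, hsP⟩ := exists_mem_normalizerIn_not_mem hp (le_sup_left : P ≤ P ⊔ T) hne
  obtain ⟨x, hx, t, ht, rfl⟩ := exists_mul_of_mem_sup (fun x hx t ht => hn x (hPS hx) t ht) hsN.1
  refine ⟨t, ⟨ht, ?_⟩, fun htP => hsP (P.mul_mem hx htP)⟩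
  have h1 : x⁻¹ ∈ Subgroup.normalizer (P : Set Ω) := Subgroup.le_normalizer (P.inv_mem hx)
  have h2 := Subgroup.mul_mem _ h1 hsN.2
  rwa [inv_mul_cancel_left] at h2

/-- The key step: an automorphism of a fully normalized subgroup has an extension modulo `T`, provided all maps with
larger source do. -/
theorem hasExtMod_aut_of_fullyNormalized [Finite S] (p : ℕ) [Fact p.Prime] (hS : IsPGroup p S)
    (F : FusionSystem S) (hF : F.IsSaturated p) {T : Subgroup Ω} (hT : F.StronglyClosed T) {P : Subgroup Ω}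
    (hPfn : F.IsFullyNormalized P)
    (hbig : ∀ (P₁ : Subgroup Ω) (ν₁ : P₁ →* Ω), ν₁ ∈ F.Hom P₁ → Nat.card P < Nat.card P₁ → HasExtMod F T ν₁)
    (α : MulAut P) (hα : α ∈ F.autGroup P) : HasExtMod F T (P.subtype.comp α.toMonoidHom) := by
  have hPS : P ≤ S := hPfn.1
  have hαF := (mem_autGroup_iff F hPS).mp hα
  by_cases hTP : T ≤ P
  · refine ⟨P, le_rfl, hTP, _, hαF, fun x => ?_⟩
    have : ((P.subtype.comp α.toMonoidHom) x)⁻¹ * (P.subtype.comp α.toMonoidHom) ⟨x, (le_rfl : P ≤ P) x.2⟩ = 1 := by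
      simp
    rw [this]
    exact T.one_mem
  · obtain ⟨hfc, hfa⟩ := fullyNormalized_props p hS F hF P hPfn
    have hrec := isReceptive_of_isFullyCentralized p hS F hF P hfc
    obtain ⟨-, Sy, hSy⟩ := hfa
    have : Finite (F.autGroup P) := finite_autGroup F hPS
    have hKn : (autModKer F T P).Normal := autModKer_normal hT hPS
    obtain ⟨ν, hν, κ, hκ, hακ⟩ := Cfsg.Agent.Lib.Helper90.exists_mul_of_normal Sy (autModKer F T P) ⟨α, hα⟩
    have hTS : T ≤ S := hT.1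
    have hTn : ∀ x ∈ S, ∀ t ∈ T, x * t * x⁻¹ ∈ T := fun x hx t ht => stronglyClosed_conj_mem hT hx ht
    set ν₀ : MulAut P := (ν : MulAut P) with hν₀
    have hν₀F : P.subtype.comp (ν₀ : P ≃* P).toMonoidHom ∈ F.Hom P := (mem_autGroup_iff F hPS).mp ν.2
    -- `N_T(P)` lies in the extender of `ν`
    have hNT : normalizerIn T P ≤ extender S P (P.subtype.comp (ν₀ : P ≃* P).toMonoidHom) := by
      intro g hg
      have hgS : g ∈ S := hTS hg.1
      have hgN : g ∈ Subgroup.normalizer (P : Set Ω) := hg.2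
      rw [mem_extender_iff]
      refine ⟨hgS, hgN, ?_⟩
      -- the automorphism `c_g`
      have hcg : conjAut P g hgN ∈ autInducedBy S P := conjAut_mem_autInducedBy hgS hgN
      have hcgA : conjAut P g hgN ∈ F.autGroup P := autInducedBy_le_autGroup F hPS hcg
      set c : F.autGroup P := ⟨conjAut P g hgN, hcgA⟩ with hc
      have hcSy : c ∈ (Sy : Subgroup (F.autGroup P)) := by
        rw [hSy, Subgroup.mem_subgroupOf]
        exact hcg
      have hcK : c ∈ autModKer F T P := by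
        rw [mem_autModKer]
        intro x
        show (x : Ω)⁻¹ * (g * (x : Ω) * g⁻¹) ∈ T
        have h1 : (x : Ω)⁻¹ * g * (x : Ω)⁻¹⁻¹ ∈ T := hTn _ (S.inv_mem (hPS x.2)) g hg.1
        have e : (x : Ω)⁻¹ * (g * (x : Ω) * g⁻¹) = ((x : Ω)⁻¹ * g * (x : Ω)⁻¹⁻¹) * g⁻¹ := by group
        rw [e]
        exact T.mul_mem h1 (T.inv_mem hg.1)
      have hcmem : c ∈ ((Sy : Subgroup (F.autGroup P)) ⊓ autModKer F T P : Subgroup (F.autGroup P)) := ⟨hcSy, hcK⟩
      have h2 := (Subgroup.mem_normalizer_iff.mp hν c).mp hcmem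
      have h3 : ν * c * ν⁻¹ ∈ (Sy : Subgroup (F.autGroup P)) := h2.1
      rw [hSy, Subgroup.mem_subgroupOf] at h3
      obtain ⟨h, hhS, hh⟩ := mem_autInducedBy_iff.mp h3
      refine ⟨h, hhS, fun x hx => ?_⟩
      have := hh (ν₀ x)
      show ((ν₀ ⟨g * (x : Ω) * g⁻¹, hx⟩ : P) : Ω) = h * ((ν₀ x : P) : Ω) * h⁻¹
      rw [← this]
      show ((ν₀ ⟨g * (x : Ω) * g⁻¹, hx⟩ : P) : Ω) = ((ν₀ ((conjAut P g hgN) (ν₀⁻¹ (ν₀ x))) : P) : Ω)
      rw [MulAut.inv_apply_self]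
      rfl
    have hP₁ : P ⊔ normalizerIn T P ≤ extender S P (P.subtype.comp (ν₀ : P ≃* P).toMonoidHom) :=
      sup_le (le_extender hPS (fun x => hPS (ν₀ x).2)) hNT
    obtain ⟨νt, hνt, hνtext⟩ := hrec.2 P _ hν₀F (IsFIso.range_eq (ν₀ : P ≃* P))
    set ν₁ := νt.comp (Subgroup.inclusion hP₁) with hν₁
    have hν₁F : ν₁ ∈ F.Hom (P ⊔ normalizerIn T P) := restrict_mem F hP₁ hνt
    -- the source grows
    obtain ⟨g, hgN, hgP⟩ := exists_mem_normalizerIn_T_not_mem hS hTS hPS hTn hTP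
    have hP₁S : P ⊔ normalizerIn T P ≤ S := sup_le hPS ((normalizerIn_le T P).trans hTS)
    have : Finite ↥(P ⊔ normalizerIn T P) := finite_of_le hP₁S
    have hlt : Nat.card P < Nat.card ↥(P ⊔ normalizerIn T P) := by
      by_contra hge
      have := Subgroup.eq_of_le_of_card_ge (le_sup_left : P ≤ P ⊔ normalizerIn T P) (not_lt.mp hge)
      apply hgP
      rw [this]
      exact (le_sup_right : normalizerIn T P ≤ P ⊔ normalizerIn T P) hgN
    obtain ⟨R, hP₁R, hTR, ψ, hψ, hag⟩ := hbig _ ν₁ hν₁F hlt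
    have hPR : P ≤ R := le_sup_left.trans hP₁R
    refine ⟨R, hPR, hTR, ψ, hψ, fun x => ?_⟩
    -- `α x = ν (κ x)` and `κ x = x * w` with `w ∈ T`
    have hακ' : α = ν₀ * (κ : MulAut P) := congrArg (fun z : F.autGroup P => (z : MulAut P)) hακ
    set w : P := x⁻¹ * (κ : MulAut P) x with hw
    have hwT : (w : Ω) ∈ T := hκ x
    have hνw : ((ν₀ w : P) : Ω) ∈ T := aut_map_mem_of_stronglyClosed hT hPS ν.2 hwT
    have h1 := hag ⟨x, (le_sup_left : P ≤ P ⊔ normalizerIn T P) x.2⟩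
    have h2 : ν₁ ⟨x, (le_sup_left : P ≤ P ⊔ normalizerIn T P) x.2⟩ = ((ν₀ x : P) : Ω) :=
      hνtext x x.2 (hP₁ ((le_sup_left : P ≤ P ⊔ normalizerIn T P) x.2))
    rw [h2] at h1
    have e : ((P.subtype.comp α.toMonoidHom) x)⁻¹ * ψ ⟨x, hPR x.2⟩ =
        (((ν₀ w : P) : Ω))⁻¹ * ((((ν₀ x : P) : Ω))⁻¹ * ψ ⟨x, hPR x.2⟩) := by
      have e1 : (P.subtype.comp α.toMonoidHom) x = ((ν₀ x : P) : Ω) * ((ν₀ w : P) : Ω) := by
        show ((α x : P) : Ω) = _
        rw [hακ', MulAut.mul_apply, hw, ← Subgroup.coe_mul, ← map_mul, mul_inv_cancel_left]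
      rw [e1]
      group
    rw [e]
    exact T.mul_mem (T.inv_mem hνw) h1

end Cfsg.Agent.Lib.Helper88
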