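import Cfsg.Agent.Lib.Helper88.FusionFactor2

set_option autoImplicit false
open Cfsg

namespace Cfsg.Agent.Lib.Helper88

section InducedAut

variable {G H : Type*} [Group G] [Group H] (f : G →* H) (hf : Function.Surjective f)

/-- The endomorphism of `H` induced through the surjection `f : G →* H` by an automorphism of `G` preserving the kernel. -/
noncomputable def inducedEnd (a : MulAut G) (ha : ∀ x, f x = 1 → f (a x) = 1) : H →* H :=
  f.liftOfSurjective hf ⟨f.comp a.toMonoidHom, fun x hx => ha x hx⟩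

theorem inducedEnd_apply (a : MulAut G) (ha : ∀ x, f x = 1 → f (a x) = 1) (x : G) :
    inducedEnd f hf a ha (f x) = f (a x) :=
  MonoidHom.liftOfRightInverse_comp_apply f _ _ ⟨f.comp a.toMonoidHom, fun x hx => ha x hx⟩ x

/-- The automorphism of `H` induced by an element of a group of automorphisms of `G` preserving the kernel of `f`. -/
noncomputable def inducedEquiv (A : Subgroup (MulAut G)) (hA : ∀ a ∈ A, ∀ x, f x = 1 → f (a x) = 1) (a : A) :
    H ≃* H where
  toFun := inducedEnd f hf a.1 (hA a.1 a.2)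
  invFun := inducedEnd f hf (a⁻¹ : A).1 (hA _ (a⁻¹ : A).2)
  left_inv := by
    intro y
    obtain ⟨x, rfl⟩ := hf y
    rw [inducedEnd_apply, inducedEnd_apply]
    congr 1
    show (a.1)⁻¹ (a.1 x) = x
    exact MulAut.inv_apply_self _ _ _
  right_inv := by
    intro y
    obtain ⟨x, rfl⟩ := hf y
    rw [inducedEnd_apply, inducedEnd_apply]
    congr 1
    show a.1 ((a.1)⁻¹ x) = x
    exact MulAut.apply_inv_self _ _ _
  map_mul' := map_mul _

theorem inducedEquiv_apply (A : Subgroup (MulAut G)) (hA : ∀ a ∈ A, ∀ x, f x = 1 → f (a x) = 1) (a : A) (x : G) :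
    inducedEquiv f hf A hA a (f x) = f (a.1 x) :=
  inducedEnd_apply f hf a.1 (hA a.1 a.2) x

/-- The action on `H` of a group of automorphisms of `G` preserving the kernel of the surjection `f : G →* H`. -/
noncomputable def inducedAutHom (A : Subgroup (MulAut G)) (hA : ∀ a ∈ A, ∀ x, f x = 1 → f (a x) = 1) :
    A →* MulAut H where
  toFun a := inducedEquiv f hf A hA a
  map_one' := by
    apply MulEquiv.ext
    intro y
    obtain ⟨x, rfl⟩ := hf y
    rw [inducedEquiv_apply]
    rfl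
  map_mul' := by
    intro a b
    apply MulEquiv.ext
    intro y
    obtain ⟨x, rfl⟩ := hf y
    rw [MulAut.mul_apply, inducedEquiv_apply, inducedEquiv_apply, inducedEquiv_apply]
    rfl

theorem inducedAutHom_apply (A : Subgroup (MulAut G)) (hA : ∀ a ∈ A, ∀ x, f x = 1 → f (a x) = 1) (a : A) (x : G) :
    inducedAutHom f hf A hA a (f x) = f (a.1 x) :=
  inducedEquiv_apply f hf A hA a x

end InducedAut

variable {Ω : Type*} [Group Ω] {S : Subgroup Ω}

section resHom

variable {Ω' : Type*} [Group Ω'] {S' : Subgroup Ω'}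

/-- `θ` restricted to the full preimage of `P'`, with values in `P'`. -/
def resHom (θ : S →* Ω') (P' : Subgroup Ω') : ↥(FusionSystem.preimageAlong θ P') →* ↥P' where
  toFun x := ⟨θ ⟨x, preimageAlong_le θ P' x.2⟩, ((mem_preimageAlong θ P' x).mp x.2).2⟩
  map_one' := by
    apply Subtype.ext
    show θ ⟨1, _⟩ = 1
    exact map_one θ
  map_mul' := by
    intro x y
    apply Subtype.ext
    show θ ⟨x * y, _⟩ = θ ⟨x, _⟩ * θ ⟨y, _⟩
    rw [← map_mul]
    rfl

theorem resHom_coe (θ : S →* Ω') (P' : Subgroup Ω') (x : ↥(FusionSystem.preimageAlong θ P')) :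
    ((resHom θ P' x : P') : Ω') = θ ⟨x, preimageAlong_le θ P' x.2⟩ := rfl

theorem resHom_surjective (θ : S →* Ω') (hrange : θ.range = S') {P' : Subgroup Ω'} (hP' : P' ≤ S') :
    Function.Surjective (resHom θ P') := by
  intro y
  obtain ⟨s, hsS, hsP, hs⟩ := exists_preimage θ hrange hP' y
  exact ⟨⟨s, hsP⟩, Subtype.ext hs⟩

theorem resHom_eq_one_iff (θ : S →* Ω') {T : Subgroup Ω} (hker : ∀ s : S, θ s = 1 ↔ (s : Ω) ∈ T)
    (P' : Subgroup Ω') (x : ↥(FusionSystem.preimageAlong θ P')) : resHom θ P' x = 1 ↔ (x : Ω) ∈ T := by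
  rw [← hker ⟨x, preimageAlong_le θ P' x.2⟩]
  constructor
  · intro h
    exact congrArg Subtype.val h
  · intro h
    exact Subtype.ext h

theorem preimageAlong_mono (θ : S →* Ω') {P' Q' : Subgroup Ω'} (h : P' ≤ Q') :
    FusionSystem.preimageAlong θ P' ≤ FusionSystem.preimageAlong θ Q' := by
  intro x hx
  rw [mem_preimageAlong] at hx ⊢
  exact ⟨hx.1, h hx.2⟩

theorem imageAlong_preimageAlong (θ : S →* Ω') (hrange : θ.range = S') {P' : Subgroup Ω'} (hP' : P' ≤ S') :
    FusionSystem.imageAlong θ (FusionSystem.preimageAlong θ P') = P' := by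
  ext y
  constructor
  · rintro ⟨x, hx, rfl⟩
    have hx' : (x : Ω) ∈ FusionSystem.preimageAlong θ P' := Subgroup.mem_subgroupOf.mp hx
    exact ((mem_preimageAlong θ P' x).mp hx').2
  · intro hy
    obtain ⟨s, hsS, hsP, hs⟩ := exists_preimage θ hrange hP' ⟨y, hy⟩
    exact ⟨⟨s, hsS⟩, Subgroup.mem_subgroupOf.mpr hsP, hs⟩

theorem preimageAlong_injective (θ : S →* Ω') (hrange : θ.range = S') {P' Q' : Subgroup Ω'} (hP' : P' ≤ S')
    (hQ' : Q' ≤ S') (h : FusionSystem.preimageAlong θ P' = FusionSystem.preimageAlong θ Q') : P' = Q' := by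
  rw [← imageAlong_preimageAlong θ hrange hP', ← imageAlong_preimageAlong θ hrange hQ', h]

/-- An element of `S` whose image normalizes `P'` normalizes the full preimage of `P'`. -/
theorem mem_normalizer_preimageAlong [Finite S] (θ : S →* Ω') {P' : Subgroup Ω'} {g : Ω} (hg : g ∈ S)
    (hg' : θ ⟨g, hg⟩ ∈ Subgroup.normalizer (P' : Set Ω')) :
    g ∈ Subgroup.normalizer (FusionSystem.preimageAlong θ P' : Set Ω) := by
  have : Finite ↥(FusionSystem.preimageAlong θ P') :=
    Cfsg.Agent.Lib.Helper87.finite_of_le (preimageAlong_le θ P')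
  apply Cfsg.Agent.Lib.Helper87.mem_normalizer_of_conj_mem
  intro y hy
  rw [mem_preimageAlong] at hy ⊢
  obtain ⟨hyS, hyP⟩ := hy
  refine ⟨S.mul_mem (S.mul_mem hg hyS) (S.inv_mem hg), ?_⟩
  have e : (⟨g * y * g⁻¹, S.mul_mem (S.mul_mem hg hyS) (S.inv_mem hg)⟩ : S) = ⟨g, hg⟩ * ⟨y, hyS⟩ * ⟨g, hg⟩⁻¹ := rfl
  rw [e, map_mul, map_mul, map_inv]
  exact (Subgroup.mem_normalizer_iff.mp hg' _).mp hyP

end resHom

end Cfsg.Agent.Lib.Helper88
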