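import Cfsg.Agent.Lib.Helper88.FusionFactor3
import Cfsg.Agent.Lib.Helper87.FusionSaturated

set_option autoImplicit false
open Cfsg

namespace Cfsg.Agent.Lib.Helper88

open Cfsg.FusionSystem Cfsg.Agent.Lib.Helper87

variable {Ω : Type*} [Group Ω] {S : Subgroup Ω}

section factor4

variable {Ω' : Type*} [Group Ω'] {S' : Subgroup Ω'}

/-- A conjugate in `F` of a full preimage is the full preimage of a conjugate in the factor system. -/
theorem exists_isConj_of_isConj_preimageAlong [Finite S] (F : FusionSystem S) {T : Subgroup Ω}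
    (hT : F.StronglyClosed T) (θ : S →* Ω')
    (hker : ∀ s : S, θ s = 1 ↔ (s : Ω) ∈ T) (hrange : θ.range = S') (E : FusionSystem S')
    (hE : ∀ (P' : Subgroup Ω') (φ' : P' →* Ω'),
      φ' ∈ E.Hom P' ↔ P' ≤ S' ∧ ∃ φ ∈ F.Hom (preimageAlong θ P'), InducedAlong θ φ φ')
    {P' : Subgroup Ω'} (hP' : P' ≤ S') {Q : Subgroup Ω} (hQ : F.IsConj (preimageAlong θ P') Q) :
    ∃ Q' : Subgroup Ω', Q' ≤ S' ∧ Q = preimageAlong θ Q' ∧ E.IsConj P' Q' := by
  obtain ⟨φ, hφ, hr⟩ := hQ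
  obtain ⟨φ', hind⟩ := exists_inducedAlong F hT θ hker hrange hP' hφ
  have hφ' : φ' ∈ E.Hom P' := (hE P' φ').mpr ⟨hP', φ, hφ, hind⟩
  refine ⟨φ'.range, ?_, ?_, φ', hφ', rfl⟩
  · rintro _ ⟨y, rfl⟩
    exact (E.le_of_mem hφ').2 y
  · rw [← hr]
    exact preimageAlong_range F hT θ hker hrange hP' hφ hind

/-- The homomorphism from `Aut_F` of a full preimage to the automorphism group of the image. -/
noncomputable def autFactorHom [Finite S] (F : FusionSystem S) {T : Subgroup Ω}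
    (hT : F.StronglyClosed T) (θ : S →* Ω')
    (hker : ∀ s : S, θ s = 1 ↔ (s : Ω) ∈ T) (hrange : θ.range = S') {Q' : Subgroup Ω'} (hQ' : Q' ≤ S') :
    F.autGroup (preimageAlong θ Q') →* MulAut Q' :=
  inducedAutHom (resHom θ Q') (resHom_surjective θ hrange hQ') (F.autGroup (preimageAlong θ Q'))
    (fun a ha x hx => by
      rw [resHom_eq_one_iff θ hker] at hx ⊢
      exact aut_map_mem_of_stronglyClosed hT (preimageAlong_le θ Q') ha hx)

theorem autFactorHom_apply [Finite S] (F : FusionSystem S) {T : Subgroup Ω}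
    (hT : F.StronglyClosed T) (θ : S →* Ω')
    (hker : ∀ s : S, θ s = 1 ↔ (s : Ω) ∈ T) (hrange : θ.range = S') {Q' : Subgroup Ω'} (hQ' : Q' ≤ S')
    (a : F.autGroup (preimageAlong θ Q')) (x : ↥(preimageAlong θ Q')) :
    autFactorHom F hT θ hker hrange hQ' a (resHom θ Q' x) = resHom θ Q' ((a : MulAut _) x) :=
  inducedAutHom_apply _ _ _ _ a x

theorem autFactorHom_mem [Finite S] (F : FusionSystem S) {T : Subgroup Ω}
    (hT : F.StronglyClosed T) (θ : S →* Ω')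
    (hker : ∀ s : S, θ s = 1 ↔ (s : Ω) ∈ T) (hrange : θ.range = S') (E : FusionSystem S')
    (hE : ∀ (P' : Subgroup Ω') (φ' : P' →* Ω'),
      φ' ∈ E.Hom P' ↔ P' ≤ S' ∧ ∃ φ ∈ F.Hom (preimageAlong θ P'), InducedAlong θ φ φ')
    {Q' : Subgroup Ω'} (hQ' : Q' ≤ S') (a : F.autGroup (preimageAlong θ Q')) :
    autFactorHom F hT θ hker hrange hQ' a ∈ E.autGroup Q' := by
  rw [mem_autGroup_iff E hQ', hE]
  have hQS : preimageAlong θ Q' ≤ S := preimageAlong_le θ Q'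
  have haF := (mem_autGroup_iff F hQS).mp a.2
  refine ⟨hQ', _, haF, hQS, fun x => hQS ((a : MulAut _) x).2,
    fun x => ((mem_preimageAlong θ Q' x).mp x.2).2, fun x => ?_⟩
  exact congrArg Subtype.val (autFactorHom_apply F hT θ hker hrange hQ' a x)

/-- `autFactorHom` is onto `Aut_E(Q')`. -/
theorem exists_autFactorHom_eq [Finite S] (F : FusionSystem S) {T : Subgroup Ω}
    (hT : F.StronglyClosed T) (θ : S →* Ω')
    (hker : ∀ s : S, θ s = 1 ↔ (s : Ω) ∈ T) (hrange : θ.range = S') (E : FusionSystem S')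
    (hE : ∀ (P' : Subgroup Ω') (φ' : P' →* Ω'),
      φ' ∈ E.Hom P' ↔ P' ≤ S' ∧ ∃ φ ∈ F.Hom (preimageAlong θ P'), InducedAlong θ φ φ')
    {Q' : Subgroup Ω'} (hQ' : Q' ≤ S') {β' : MulAut Q'} (hβ' : β' ∈ E.autGroup Q') :
    ∃ a : F.autGroup (preimageAlong θ Q'), autFactorHom F hT θ hker hrange hQ' a = β' := by
  have h1 := (mem_autGroup_iff E hQ').mp hβ'
  obtain ⟨-, φ, hφ, hind⟩ := (hE _ _).mp h1
  have hr : φ.range = preimageAlong θ Q' := by
    rw [preimageAlong_range F hT θ hker hrange hQ' hφ hind, IsFIso.range_eq (β' : Q' ≃* Q')]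
  refine ⟨⟨homEquiv F hφ hr, homEquiv_mem_autGroup F hφ hr⟩, ?_⟩
  apply MulEquiv.ext
  intro y
  obtain ⟨x, rfl⟩ := resHom_surjective θ hrange hQ' y
  rw [autFactorHom_apply]
  obtain ⟨hP, hφS, hPP', hind⟩ := hind
  apply Subtype.ext
  exact (hind x).symm

/-- `autFactorHom` maps `Aut_S(Q)` into `Aut_{S'}(Q')`. -/
theorem autFactorHom_mem_autInducedBy [Finite S] (F : FusionSystem S) {T : Subgroup Ω}
    (hT : F.StronglyClosed T) (θ : S →* Ω')
    (hker : ∀ s : S, θ s = 1 ↔ (s : Ω) ∈ T) (hrange : θ.range = S')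
    {Q' : Subgroup Ω'} (hQ' : Q' ≤ S') (a : F.autGroup (preimageAlong θ Q'))
    (ha : (a : MulAut _) ∈ autInducedBy S (preimageAlong θ Q')) :
    autFactorHom F hT θ hker hrange hQ' a ∈ autInducedBy S' Q' := by
  obtain ⟨g, hg, hga⟩ := mem_autInducedBy_iff.mp ha
  have hQS : preimageAlong θ Q' ≤ S := preimageAlong_le θ Q'
  refine mem_autInducedBy_iff.mpr ⟨θ ⟨g, hg⟩, hrange ▸ ⟨_, rfl⟩, fun y => ?_⟩
  obtain ⟨x, rfl⟩ := resHom_surjective θ hrange hQ' y
  rw [autFactorHom_apply, resHom_coe, resHom_coe]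
  have e : (⟨(((a : MulAut _) x : ↥(preimageAlong θ Q')) : Ω), hQS ((a : MulAut _) x).2⟩ : S) =
      ⟨g, hg⟩ * ⟨x, hQS x.2⟩ * ⟨g, hg⟩⁻¹ := Subtype.ext (hga x)
  rw [e, map_mul, map_mul, map_inv]

/-- Every element of `Aut_{S'}(Q')` is the image under `autFactorHom` of an element of `Aut_S(Q)`. -/
theorem exists_autFactorHom_eq_of_mem_autInducedBy [Finite S] (F : FusionSystem S) {T : Subgroup Ω}
    (hT : F.StronglyClosed T) (θ : S →* Ω')
    (hker : ∀ s : S, θ s = 1 ↔ (s : Ω) ∈ T) (hrange : θ.range = S')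
    {Q' : Subgroup Ω'} (hQ' : Q' ≤ S') {β' : MulAut Q'} (hβ' : β' ∈ autInducedBy S' Q') :
    ∃ a : F.autGroup (preimageAlong θ Q'), (a : MulAut _) ∈ autInducedBy S (preimageAlong θ Q') ∧
      autFactorHom F hT θ hker hrange hQ' a = β' := by
  obtain ⟨g', hg', hgβ⟩ := mem_autInducedBy_iff.mp hβ'
  have hg'r : g' ∈ θ.range := hrange ▸ hg'
  obtain ⟨⟨g, hg⟩, rfl⟩ := hg'r
  have hQS : preimageAlong θ Q' ≤ S := preimageAlong_le θ Q'
  have hgN' : θ ⟨g, hg⟩ ∈ Subgroup.normalizer (Q' : Set Ω') := mem_normalizer_of_conj_eq hgβ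
  have hgN : g ∈ Subgroup.normalizer (preimageAlong θ Q' : Set Ω) := mem_normalizer_preimageAlong θ hg hgN'
  have hc : conjAut (preimageAlong θ Q') g hgN ∈ autInducedBy S (preimageAlong θ Q') :=
    conjAut_mem_autInducedBy hg hgN
  refine ⟨⟨conjAut (preimageAlong θ Q') g hgN, autInducedBy_le_autGroup F hQS hc⟩, hc, ?_⟩
  apply MulEquiv.ext
  intro y
  obtain ⟨x, rfl⟩ := resHom_surjective θ hrange hQ' y
  rw [autFactorHom_apply]
  apply Subtype.ext
  rw [hgβ, resHom_coe, resHom_coe]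
  have e : (⟨((conjAut (preimageAlong θ Q') g hgN x : ↥(preimageAlong θ Q')) : Ω),
      hQS (conjAut (preimageAlong θ Q') g hgN x).2⟩ : S) = ⟨g, hg⟩ * ⟨x, hQS x.2⟩ * ⟨g, hg⟩⁻¹ := rfl
  rw [e, map_mul, map_mul, map_inv]

/-- The image of a fully automized full preimage is fully automized in the factor system. -/
theorem isFullyAutomized_image [Finite S] (p : ℕ) [Fact p.Prime] (F : FusionSystem S) {T : Subgroup Ω}
    (hT : F.StronglyClosed T) (θ : S →* Ω')
    (hker : ∀ s : S, θ s = 1 ↔ (s : Ω) ∈ T) (hrange : θ.range = S') (E : FusionSystem S')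
    (hE : ∀ (P' : Subgroup Ω') (φ' : P' →* Ω'),
      φ' ∈ E.Hom P' ↔ P' ≤ S' ∧ ∃ φ ∈ F.Hom (preimageAlong θ P'), InducedAlong θ φ φ')
    {Q' : Subgroup Ω'} (hQ' : Q' ≤ S') (hQ : F.IsFullyAutomized p (preimageAlong θ Q')) :
    E.IsFullyAutomized p Q' := by
  obtain ⟨hQS, R, hR⟩ := hQ
  have : Finite (F.autGroup (preimageAlong θ Q')) := finite_autGroup F hQS
  let Φ : F.autGroup (preimageAlong θ Q') →* E.autGroup Q' :=
    (autFactorHom F hT θ hker hrange hQ').codRestrict (E.autGroup Q')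
      (fun a => autFactorHom_mem F hT θ hker hrange E hE hQ' a)
  have hΦ : Function.Surjective Φ := by
    rintro ⟨β', hβ'⟩
    obtain ⟨a, ha⟩ := exists_autFactorHom_eq F hT θ hker hrange E hE hQ' hβ'
    exact ⟨a, Subtype.ext ha⟩
  refine ⟨hQ', R.mapSurjective hΦ, ?_⟩
  rw [Sylow.coe_mapSurjective, hR]
  ext β'
  rw [Subgroup.mem_subgroupOf]
  constructor
  · rintro ⟨a, ha, rfl⟩
    exact autFactorHom_mem_autInducedBy F hT θ hker hrange hQ' a (Subgroup.mem_subgroupOf.mp ha)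
  · intro hβ'
    obtain ⟨a, ha, hab⟩ := exists_autFactorHom_eq_of_mem_autInducedBy F hT θ hker hrange hQ' hβ'
    exact ⟨a, Subgroup.mem_subgroupOf.mpr ha, Subtype.ext hab⟩

end factor4

end Cfsg.Agent.Lib.Helper88
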