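import Cfsg.Agent.Lib.Helper88.FusionFactor4
import Cfsg.Agent.Lib.Helper88.SylowConj

set_option autoImplicit false
open Cfsg

namespace Cfsg.Agent.Lib.Helper88

open Cfsg.FusionSystem Cfsg.Agent.Lib.Helper87

variable {Ω : Type*} [Group Ω] {S : Subgroup Ω}

section factor5

variable {Ω' : Type*} [Group Ω'] {S' : Subgroup Ω'}

/-- The image of a fully automized and receptive full preimage is receptive in the factor system. -/
theorem isReceptive_image [Finite S] (p : ℕ) [Fact p.Prime] (hS : IsPGroup p S) (F : FusionSystem S) {T : Subgroup Ω}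
    (hT : F.StronglyClosed T) (θ : S →* Ω')
    (hker : ∀ s : S, θ s = 1 ↔ (s : Ω) ∈ T) (hrange : θ.range = S') (E : FusionSystem S')
    (hE : ∀ (P' : Subgroup Ω') (φ' : P' →* Ω'),
      φ' ∈ E.Hom P' ↔ P' ≤ S' ∧ ∃ φ ∈ F.Hom (preimageAlong θ P'), InducedAlong θ φ φ')
    {Q' : Subgroup Ω'} (hQ' : Q' ≤ S') (hQa : F.IsFullyAutomized p (preimageAlong θ Q'))
    (hQr : F.IsReceptive (preimageAlong θ Q')) :
    E.IsReceptive Q' := by
  refine ⟨hQ', fun P₁' φ' hφ' hr' => ?_⟩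
  have hP₁' : P₁' ≤ S' := (E.le_of_mem hφ').1
  obtain ⟨-, φ, hφ, hind⟩ := (hE _ _).mp hφ'
  have hr : φ.range = preimageAlong θ Q' := by
    rw [preimageAlong_range F hT θ hker hrange hP₁' hφ hind, hr']
  obtain ⟨hP₁S, hφS, hP₁P₁', hindφ⟩ := hind
  have hFinS' : Finite S' := by
    rw [← hrange]
    exact Finite.of_surjective θ.rangeRestrict θ.rangeRestrict_surjective
  have hFinQ' : Finite Q' := finite_of_le hQ'
  -- the `F`-isomorphism `e`
  set e : ↥(preimageAlong θ P₁') ≃* ↥(preimageAlong θ Q') := homEquiv F hφ hr with he_def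
  have he : IsFIso F e := isFIso_homEquiv F hφ hr
  have heφ : ∀ x, ((e x : ↥(preimageAlong θ Q')) : Ω) = φ x := fun x => rfl
  -- the extender
  have hN'S' : extender S' P₁' φ' ≤ S' := (extender_le S' P₁' φ').trans (normalizerIn_le S' P₁')
  have hNS : preimageAlong θ (extender S' P₁' φ') ≤ S := preimageAlong_le θ _
  obtain ⟨hQS, R, hR⟩ := hQa
  have hFinA : Finite (F.autGroup (preimageAlong θ Q')) := finite_autGroup F hQS
  have hKn : (autModKer F T (preimageAlong θ Q')).Normal := autModKer_normal hT hQS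
  -- analysis of an element of `N`
  have key : ∀ g ∈ preimageAlong θ (extender S' P₁' φ'),
      ∃ (hgS : g ∈ S) (hgN : g ∈ Subgroup.normalizer (preimageAlong θ P₁' : Set Ω))
        (h : Ω) (hhS : h ∈ S) (hhN : h ∈ Subgroup.normalizer (preimageAlong θ Q' : Set Ω)),
        ∀ x : ↥(preimageAlong θ P₁'),
          θ ⟨φ (conjAut (preimageAlong θ P₁') g hgN x), hφS _⟩ =
            θ ⟨h, hhS⟩ * θ ⟨φ x, hφS x⟩ * (θ ⟨h, hhS⟩)⁻¹ := by
    intro g hg
    obtain ⟨hgS, hg'⟩ := (mem_preimageAlong θ _ g).mp hg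
    obtain ⟨-, hg'N, h', hh'S, hh'⟩ := mem_extender_iff.mp hg'
    have hgN : g ∈ Subgroup.normalizer (preimageAlong θ P₁' : Set Ω) := mem_normalizer_preimageAlong θ hgS hg'N
    have hh'r : h' ∈ θ.range := hrange ▸ hh'S
    obtain ⟨⟨h, hhS⟩, rfl⟩ := hh'r
    have hcomp : ∀ x : ↥(preimageAlong θ P₁'),
        θ ⟨φ (conjAut (preimageAlong θ P₁') g hgN x), hφS _⟩ =
          θ ⟨h, hhS⟩ * θ ⟨φ x, hφS x⟩ * (θ ⟨h, hhS⟩)⁻¹ := by
      intro x
      rw [← hindφ x, ← hindφ (conjAut (preimageAlong θ P₁') g hgN x)]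
      have hx' : θ ⟨g, hgS⟩ * ((⟨θ ⟨x, hP₁S x.2⟩, hP₁P₁' x⟩ : P₁') : Ω') * (θ ⟨g, hgS⟩)⁻¹ ∈ P₁' :=
        (Subgroup.mem_normalizer_iff.mp hg'N _).mp (hP₁P₁' x)
      rw [← hh' ⟨θ ⟨x, hP₁S x.2⟩, hP₁P₁' x⟩ hx']
      congr 1
      apply Subtype.ext
      show θ ⟨g * (x : Ω) * g⁻¹, _⟩ = θ ⟨g, hgS⟩ * θ ⟨x, hP₁S x.2⟩ * (θ ⟨g, hgS⟩)⁻¹
      rw [← map_inv, ← map_mul, ← map_mul]
      rfl
    have hhN' : θ ⟨h, hhS⟩ ∈ Subgroup.normalizer (Q' : Set Ω') := by
      apply mem_normalizer_of_conj_mem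
      intro y' hy'
      rw [← hr'] at hy'
      obtain ⟨x', rfl⟩ := hy'
      obtain ⟨x, rfl⟩ := resHom_surjective θ hrange hP₁' x'
      have h1 := hcomp x
      have h2 := hindφ x
      have h3 : φ' (resHom θ P₁' x) = θ ⟨φ x, hφS x⟩ := h2
      rw [h3, ← h1, ← hindφ, ← hr']
      exact ⟨_, rfl⟩
    exact ⟨hgS, hgN, h, hhS, mem_normalizer_preimageAlong θ hhS hhN', hcomp⟩
  -- the `p`-subgroup `D`
  have hDp : IsPGroup p ↥(((autInducedBy (preimageAlong θ (extender S' P₁' φ')) (preimageAlong θ P₁')).map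
      (MulAut.congr e).toMonoidHom).subgroupOf (F.autGroup (preimageAlong θ Q'))) :=
    ((isPGroup_autInducedBy (hS.to_le hNS) _).map _).comap_subtype
  have hDle : ((autInducedBy (preimageAlong θ (extender S' P₁' φ')) (preimageAlong θ P₁')).map
      (MulAut.congr e).toMonoidHom).subgroupOf (F.autGroup (preimageAlong θ Q')) ≤
        (R : Subgroup (F.autGroup (preimageAlong θ Q'))) ⊔ autModKer F T (preimageAlong θ Q') := by
    intro d hd
    rw [Subgroup.mem_subgroupOf] at hd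
    obtain ⟨β, hβ, hβd⟩ := hd
    obtain ⟨g, hg, hgβ⟩ := mem_autInducedBy_iff.mp hβ
    obtain ⟨hgS, hgN, h, hhS, hhN, hcomp⟩ := key g hg
    have hβeq : β = conjAut (preimageAlong θ P₁') g hgN := by
      apply MulEquiv.ext
      intro x
      apply Subtype.ext
      rw [hgβ]
      rfl
    have hch : conjAut (preimageAlong θ Q') h hhN ∈ autInducedBy S (preimageAlong θ Q') :=
      conjAut_mem_autInducedBy hhS hhN
    set ch : F.autGroup (preimageAlong θ Q') :=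
      ⟨conjAut (preimageAlong θ Q') h hhN, autInducedBy_le_autGroup F hQS hch⟩ with hch_def
    have hchR : ch ∈ (R : Subgroup (F.autGroup (preimageAlong θ Q'))) := by
      rw [hR, Subgroup.mem_subgroupOf]
      exact hch
    have hk : ch⁻¹ * d ∈ autModKer F T (preimageAlong θ Q') := by
      rw [mem_autModKer]
      intro y
      set k := ch⁻¹ * d with hk_def
      have hck : (ch : MulAut _) ((k : MulAut _) y) = (d : MulAut _) y := by
        have : ch * k = d := by rw [hk_def, mul_inv_cancel_left]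
        rw [← this]
        rfl
      have hck' : h * (((k : MulAut _) y : ↥(preimageAlong θ Q')) : Ω) * h⁻¹ =
          (((d : MulAut _) y : ↥(preimageAlong θ Q')) : Ω) := congrArg Subtype.val hck
      -- `d y = φ (g x g⁻¹)` with `y = e x`
      set x := e.symm y with hx_def
      have hyx : y = e x := by rw [hx_def, MulEquiv.apply_symm_apply]
      have hdy : (((d : MulAut _) y : ↥(preimageAlong θ Q')) : Ω) =
          φ (conjAut (preimageAlong θ P₁') g hgN x) := by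
        rw [← hβd, hβeq]
        show ((e ((conjAut (preimageAlong θ P₁') g hgN) (e.symm y)) : ↥(preimageAlong θ Q')) : Ω) = _
        rfl
      have hky : (((k : MulAut _) y : ↥(preimageAlong θ Q')) : Ω) ∈ S := hQS ((k : MulAut _) y).2
      have h1 : θ ⟨h, hhS⟩ * θ ⟨_, hky⟩ * (θ ⟨h, hhS⟩)⁻¹ =
          θ ⟨h, hhS⟩ * θ ⟨φ x, hφS x⟩ * (θ ⟨h, hhS⟩)⁻¹ := by
        rw [← hcomp x, ← map_inv, ← map_mul, ← map_mul]
        congr 1
        apply Subtype.ext
        show h * (((k : MulAut _) y : ↥(preimageAlong θ Q')) : Ω) * h⁻¹ = _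
        rw [hck', hdy]
      have h2 : θ ⟨_, hky⟩ = θ ⟨φ x, hφS x⟩ := by
        have := mul_right_cancel h1
        exact mul_left_cancel this
      have h3 : (y : Ω) = φ x := by rw [hyx]; rfl
      have h4 : θ (⟨(y : Ω), hQS y.2⟩⁻¹ * ⟨_, hky⟩) = 1 := by
        rw [map_mul, map_inv, h2, inv_mul_eq_one]
        congr 1
        exact Subtype.ext h3
      exact (hker _).mp h4
    have : d = ch * (ch⁻¹ * d) := by rw [mul_inv_cancel_left]
    rw [this]
    exact Subgroup.mul_mem_sup hchR hk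
  obtain ⟨χ, hχK, hχD⟩ := exists_conj_le_sylow_of_le_sup_normal R (autModKer F T (preimageAlong θ Q')) hDle hDp
  -- the corrected isomorphism
  set e₂ : ↥(preimageAlong θ P₁') ≃* ↥(preimageAlong θ Q') := e.trans (χ : MulAut _) with he₂_def
  have he₂ : IsFIso F e₂ := IsFIso.trans F he ((isFIso_iff_mem_autGroup F hQS).mpr χ.2)
  have hNle : preimageAlong θ (extender S' P₁' φ') ≤
      extender S (preimageAlong θ P₁') ((preimageAlong θ Q').subtype.comp e₂.toMonoidHom) := by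
    intro g hg
    obtain ⟨hgS, hgN, -, -, -, -⟩ := key g hg
    have hcg : conjAut (preimageAlong θ P₁') g hgN ∈
        autInducedBy (preimageAlong θ (extender S' P₁' φ')) (preimageAlong θ P₁') :=
      conjAut_mem_autInducedBy hg hgN
    have hcgF : conjAut (preimageAlong θ P₁') g hgN ∈ F.autGroup (preimageAlong θ P₁') :=
      autInducedBy_le_autGroup F hP₁S (autInducedBy_mono hNS hcg)
    have hd₀ : MulAut.congr e (conjAut (preimageAlong θ P₁') g hgN) ∈ F.autGroup (preimageAlong θ Q') :=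
      (congr_mem_autGroup_iff F he _).mpr hcgF
    have hdD : (⟨_, hd₀⟩ : F.autGroup (preimageAlong θ Q')) ∈
        ((autInducedBy (preimageAlong θ (extender S' P₁' φ')) (preimageAlong θ P₁')).map
          (MulAut.congr e).toMonoidHom).subgroupOf (F.autGroup (preimageAlong θ Q')) := by
      rw [Subgroup.mem_subgroupOf]
      exact ⟨_, hcg, rfl⟩
    have h1 : χ * (⟨_, hd₀⟩ : F.autGroup (preimageAlong θ Q')) * χ⁻¹ ∈
        (R : Subgroup (F.autGroup (preimageAlong θ Q'))) := hχD _ hdD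
    rw [hR, Subgroup.mem_subgroupOf] at h1
    obtain ⟨h, hhS, hh⟩ := mem_autInducedBy_iff.mp h1
    rw [mem_extender_iff]
    refine ⟨hgS, hgN, h, hhS, fun x hx => ?_⟩
    have h2 := hh (e₂ x)
    show ((e₂ ⟨g * (x : Ω) * g⁻¹, hx⟩ : ↥(preimageAlong θ Q')) : Ω) = h * ((e₂ x : ↥(preimageAlong θ Q')) : Ω) * h⁻¹
    rw [← h2]
    show _ = (((χ : MulAut _) ((MulAut.congr e (conjAut (preimageAlong θ P₁') g hgN))
      ((χ : MulAut _)⁻¹ (e₂ x))) : ↥(preimageAlong θ Q')) : Ω)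
    have h3 : (χ : MulAut _)⁻¹ (e₂ x) = e x := by
      rw [he₂_def]
      show (χ : MulAut _)⁻¹ ((χ : MulAut _) (e x)) = e x
      exact MulAut.inv_apply_self _ _ _
    rw [h3]
    show _ = (((χ : MulAut _) (e ((conjAut (preimageAlong θ P₁') g hgN) (e.symm (e x)))) :
      ↥(preimageAlong θ Q')) : Ω)
    rw [MulEquiv.symm_apply_apply]
    rfl
  obtain ⟨ψ, hψ, hψext⟩ := hQr.2 (preimageAlong θ P₁') _ he₂ (IsFIso.range_eq e₂)
  have hψN : ψ.comp (Subgroup.inclusion hNle) ∈ F.Hom (preimageAlong θ (extender S' P₁' φ')) :=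
    Cfsg.Agent.Lib.Helper87.restrict_mem F hNle hψ
  obtain ⟨ψ', hind'⟩ := exists_inducedAlong F hT θ hker hrange hN'S' hψN
  refine ⟨ψ', (hE _ _).mpr ⟨hN'S', _, hψN, hind'⟩, fun x' hx'P hx'N => ?_⟩
  obtain ⟨hNS', hψS, hNN', hindψ⟩ := hind'
  obtain ⟨x, hxx'⟩ := resHom_surjective θ hrange hP₁' ⟨x', hx'P⟩
  have hxx'' : x' = ((resHom θ P₁' x : P₁') : Ω') := (congrArg Subtype.val hxx').symm
  subst hxx''
  have hP₁N' : P₁' ≤ extender S' P₁' φ' := le_extender hP₁' (E.le_of_mem hφ').2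
  have hxN : (x : Ω) ∈ preimageAlong θ (extender S' P₁' φ') := preimageAlong_mono θ hP₁N' x.2
  have h1 := hindψ ⟨x, hxN⟩
  have h2 : ψ' ⟨((resHom θ P₁' x : P₁') : Ω'), hx'N⟩ =
      θ ⟨(ψ.comp (Subgroup.inclusion hNle)) ⟨x, hxN⟩, hψS _⟩ := h1
  rw [h2]
  have h3 : (ψ.comp (Subgroup.inclusion hNle)) ⟨x, hxN⟩ = ((e₂ x : ↥(preimageAlong θ Q')) : Ω) :=
    hψext x x.2 (hNle hxN)
  have h4 := hindφ x
  have h5 : φ' (resHom θ P₁' x) = θ ⟨φ x, hφS x⟩ := h4
  have h6 : φ' ⟨((resHom θ P₁' x : P₁') : Ω'), hx'P⟩ = φ' (resHom θ P₁' x) := rfl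
  rw [h6, h5]
  -- `θ (χ (e x)) = θ (e x)`
  have h7 : ((e x : ↥(preimageAlong θ Q')) : Ω)⁻¹ * (((χ : MulAut _) (e x) : ↥(preimageAlong θ Q')) : Ω) ∈ T :=
    (mem_autModKer.mp hχK) (e x)
  have h8 : θ (⟨φ x, hφS x⟩⁻¹ * ⟨(ψ.comp (Subgroup.inclusion hNle)) ⟨x, hxN⟩, hψS _⟩) = 1 := by
    apply (hker _).mpr
    show (φ x)⁻¹ * (ψ.comp (Subgroup.inclusion hNle)) ⟨x, hxN⟩ ∈ T
    rw [h3]
    exact h7
  rw [map_mul, map_inv, inv_mul_eq_one] at h8
  exact h8.symm

end factor5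

end Cfsg.Agent.Lib.Helper88
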