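import Cfsg.Agent.Lib.Helper88.FusionBasic
import Cfsg.Agent.Lib.Helper87.FusionAut

set_option autoImplicit false
open Cfsg

namespace Cfsg.Agent.Lib.Helper88

open Cfsg.FusionSystem Cfsg.Agent.Lib.Helper87

variable {Ω : Type*} [Group Ω] {S : Subgroup Ω}

/-- The invariance condition of `IsInvariantIn` (invariance of `E` under `Aut_F(T)`), in a form free of casts: the target
subgroup is any subgroup with the elements of `α(P)`. -/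
def AutInvariant {T : Subgroup Ω} (E : FusionSystem T) (F : FusionSystem S) : Prop :=
  ∀ (α : MulAut T), α ∈ F.autGroup T → ∀ (P : Subgroup Ω) (hPT : P ≤ T) (φ : P →* Ω), φ ∈ E.Hom P →
    ∀ (P₂ : Subgroup Ω), (∀ y, y ∈ P₂ ↔ ∃ x : P, ((α ⟨x, hPT x.2⟩ : T) : Ω) = y) →
      ∃ χ ∈ E.Hom P₂, ∀ (x : P) (hφx : φ x ∈ T) (hαx : ((α ⟨x, hPT x.2⟩ : T) : Ω) ∈ P₂),
        χ ⟨(α ⟨x, hPT x.2⟩ : T), hαx⟩ = ((α ⟨φ x, hφx⟩ : T) : Ω)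

theorem autInvariant_of_forall {T : Subgroup Ω} (E : FusionSystem T) (F : FusionSystem S)
    (h : ∀ (P : Subgroup Ω) (hPT : P ≤ T) (φ : P →* Ω), φ ∈ E.Hom P → ∀ α ∈ F.autGroup T,
      ∃ χ ∈ E.Hom ((P.subgroupOf T).map (T.subtype.comp α.toMonoidHom)),
        ∀ (x : P) (hφx : φ x ∈ T)
          (hαx : ((α ⟨x, hPT x.2⟩ : T) : Ω) ∈ (P.subgroupOf T).map (T.subtype.comp α.toMonoidHom)),
          χ ⟨(α ⟨x, hPT x.2⟩ : T), hαx⟩ = ((α ⟨φ x, hφx⟩ : T) : Ω)) : AutInvariant E F := by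
  intro α hα P hPT φ hφ P₂ hP₂
  have heq : (P.subgroupOf T).map (T.subtype.comp α.toMonoidHom) = P₂ := by
    ext y
    rw [hP₂ y]
    constructor
    · rintro ⟨t, ht, rfl⟩
      exact ⟨⟨t, Subgroup.mem_subgroupOf.mp ht⟩, rfl⟩
    · rintro ⟨x, rfl⟩
      exact ⟨⟨x, hPT x.2⟩, Subgroup.mem_subgroupOf.mpr x.2, rfl⟩
  subst heq
  exact h P hPT φ hφ α hα

/-- The maps of the form `α ∘ φ₀` with `α ∈ Aut_F(T)` and `φ₀` a map of `E`. -/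
def frattiniSystem {T : Subgroup Ω} (E : FusionSystem T) (F : FusionSystem S) (hinv : AutInvariant E F) :
    FusionSystem T where
  Hom P := {φ | ∃ α ∈ F.autGroup T, ∃ φ₀ ∈ E.Hom P, ∀ (x : P) (hx : φ₀ x ∈ T), φ x = ((α ⟨φ₀ x, hx⟩ : T) : Ω)}
  le_of_mem := by
    rintro P φ ⟨α, -, φ₀, hφ₀, h⟩
    refine ⟨(E.le_of_mem hφ₀).1, fun x => ?_⟩
    rw [h x ((E.le_of_mem hφ₀).2 x)]
    exact (α _).2
  injective_of_mem := by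
    rintro P φ ⟨α, -, φ₀, hφ₀, h⟩ x y hxy
    rw [h x ((E.le_of_mem hφ₀).2 x), h y ((E.le_of_mem hφ₀).2 y)] at hxy
    have h1 := α.injective (Subtype.ext hxy)
    exact E.injective_of_mem hφ₀ (congrArg Subtype.val h1)
  conj_mem := by
    intro P g hP hg
    exact ⟨1, Subgroup.one_mem _, conjHom P g, E.conj_mem hP hg, fun x hx => rfl⟩
  comp_mem := by
    rintro P Q φ ψ ⟨α, hα, φ₀, hφ₀, hφ⟩ ⟨β, hβ, ψ₀, hψ₀, hψ⟩ h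
    have hQT : Q ≤ T := (E.le_of_mem hψ₀).1
    have hα' : α⁻¹ ∈ F.autGroup T := Subgroup.inv_mem _ hα
    obtain ⟨χ, hχ, hχeq⟩ := hinv α⁻¹ hα' Q hQT ψ₀ hψ₀
      ((Q.subgroupOf T).map (T.subtype.comp (α⁻¹ : MulAut T).toMonoidHom)) (by
        intro y
        constructor
        · rintro ⟨t, ht, rfl⟩
          exact ⟨⟨t, Subgroup.mem_subgroupOf.mp ht⟩, rfl⟩
        · rintro ⟨x, rfl⟩
          exact ⟨⟨x, hQT x.2⟩, Subgroup.mem_subgroupOf.mpr x.2, rfl⟩)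
    have hφ₀T : ∀ x : P, φ₀ x ∈ T := (E.le_of_mem hφ₀).2
    have hφ₀mem : ∀ x : P, φ₀ x ∈ (Q.subgroupOf T).map (T.subtype.comp (α⁻¹ : MulAut T).toMonoidHom) := by
      intro x
      refine ⟨⟨φ x, hQT (h x)⟩, Subgroup.mem_subgroupOf.mpr (h x), ?_⟩
      show (((α⁻¹ : MulAut T) ⟨φ x, hQT (h x)⟩ : T) : Ω) = φ₀ x
      have e : (⟨φ x, hQT (h x)⟩ : T) = α ⟨φ₀ x, hφ₀T x⟩ := Subtype.ext (hφ x (hφ₀T x))
      rw [e, MulAut.inv_apply_self]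
    refine ⟨β * α, Subgroup.mul_mem _ hβ hα, χ.comp (φ₀.codRestrict _ hφ₀mem), E.comp_mem hφ₀ hχ hφ₀mem,
      fun x hx => ?_⟩
    show ψ ⟨φ x, h x⟩ = (((β * α) ⟨χ ⟨φ₀ x, hφ₀mem x⟩, hx⟩ : T) : Ω)
    have hψ₀T : ∀ y : Q, ψ₀ y ∈ T := (E.le_of_mem hψ₀).2
    rw [hψ ⟨φ x, h x⟩ (hψ₀T _), MulAut.mul_apply]
    congr 2
    -- `α (χ (φ₀ x)) = ψ₀ (φ x)`
    have hmem : (((α⁻¹ : MulAut T) ⟨((⟨φ x, h x⟩ : Q) : Ω), hQT (h x)⟩ : T) : Ω) ∈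
        (Q.subgroupOf T).map (T.subtype.comp (α⁻¹ : MulAut T).toMonoidHom) :=
      ⟨⟨φ x, hQT (h x)⟩, Subgroup.mem_subgroupOf.mpr (h x), rfl⟩
    have h1 := hχeq ⟨φ x, h x⟩ (hψ₀T _) hmem
    have e : (⟨φ x, hQT (h x)⟩ : T) = α ⟨φ₀ x, hφ₀T x⟩ := Subtype.ext (hφ x (hφ₀T x))
    have e2 : ((α⁻¹ : MulAut T) ⟨φ x, hQT (h x)⟩ : T) = ⟨φ₀ x, hφ₀T x⟩ := by
      rw [e, MulAut.inv_apply_self]
    have h3 : (⟨χ ⟨φ₀ x, hφ₀mem x⟩, hx⟩ : T) = (α⁻¹ : MulAut T) ⟨ψ₀ ⟨φ x, h x⟩, hψ₀T _⟩ := by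
      apply Subtype.ext
      rw [← h1]
      show χ ⟨φ₀ x, hφ₀mem x⟩ = χ ⟨_, hmem⟩
      congr 1
      apply Subtype.ext
      exact (congrArg Subtype.val e2).symm
    rw [h3, MulAut.apply_inv_self]
  inv_mem := by
    rintro P φ ⟨α, hα, φ₀, hφ₀, hφ⟩
    have hφ₀T : ∀ x : P, φ₀ x ∈ T := (E.le_of_mem hφ₀).2
    obtain ⟨ψ₀, hψ₀, hψ₀inv⟩ := E.inv_mem hφ₀
    have hrT : φ₀.range ≤ T := by
      rintro _ ⟨x, rfl⟩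
      exact hφ₀T x
    obtain ⟨χ, hχ, hχeq⟩ := hinv α hα φ₀.range hrT ψ₀ hψ₀ φ.range (by
      intro y
      constructor
      · rintro ⟨x, rfl⟩
        exact ⟨⟨φ₀ x, ⟨x, rfl⟩⟩, (hφ x (hφ₀T x)).symm⟩
      · rintro ⟨⟨_, x, rfl⟩, rfl⟩
        exact ⟨x, hφ x (hφ₀T x)⟩)
    have hχT : ∀ z : φ.range, χ z ∈ T := (E.le_of_mem hχ).2
    have hα' : α⁻¹ ∈ F.autGroup T := Subgroup.inv_mem _ hα
    let ψ : φ.range →* Ω := (T.subtype.comp (α⁻¹ : MulAut T).toMonoidHom).comp (χ.codRestrict T hχT)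
    refine ⟨ψ, ⟨α⁻¹, hα', χ, hχ, fun z hz => rfl⟩, fun x => ?_⟩
    show (((α⁻¹ : MulAut T) ⟨χ ⟨φ x, ⟨x, rfl⟩⟩, hχT _⟩ : T) : Ω) = x
    have hψ₀T : ∀ z : φ₀.range, ψ₀ z ∈ T := (E.le_of_mem hψ₀).2
    have hmem : ((α ⟨((⟨φ₀ x, ⟨x, rfl⟩⟩ : φ₀.range) : Ω), hrT ⟨x, rfl⟩⟩ : T) : Ω) ∈ φ.range :=
      ⟨x, hφ x (hφ₀T x)⟩
    have h1 := hχeq ⟨φ₀ x, ⟨x, rfl⟩⟩ (hψ₀T _) hmem
    have h2 : (⟨χ ⟨φ x, ⟨x, rfl⟩⟩, hχT _⟩ : T) = α ⟨ψ₀ ⟨φ₀ x, ⟨x, rfl⟩⟩, hψ₀T _⟩ := by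
      apply Subtype.ext
      rw [← h1]
      show χ ⟨φ x, ⟨x, rfl⟩⟩ = χ ⟨_, hmem⟩
      congr 1
      apply Subtype.ext
      exact hφ x (hφ₀T x)
    rw [h2, MulAut.inv_apply_self]
    exact hψ₀inv x

theorem mem_frattiniSystem_hom {T : Subgroup Ω} (E : FusionSystem T) (F : FusionSystem S) (hinv : AutInvariant E F)
    {P : Subgroup Ω} {φ : P →* Ω} :
    φ ∈ (frattiniSystem E F hinv).Hom P ↔
      ∃ α ∈ F.autGroup T, ∃ φ₀ ∈ E.Hom P, ∀ (x : P) (hx : φ₀ x ∈ T), φ x = ((α ⟨φ₀ x, hx⟩ : T) : Ω) := Iff.rfl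

theorem le_frattiniSystem {T : Subgroup Ω} (E : FusionSystem T) (F : FusionSystem S) (hinv : AutInvariant E F)
    (P : Subgroup Ω) : E.Hom P ⊆ (frattiniSystem E F hinv).Hom P :=
  fun φ hφ => ⟨1, Subgroup.one_mem _, φ, hφ, fun _ _ => rfl⟩

theorem frattiniSystem_le {T : Subgroup Ω} (E : FusionSystem T) (F : FusionSystem S) (hinv : AutInvariant E F)
    (hTS : T ≤ S) (hEF : E.IsSubsystemOf F) (P : Subgroup Ω) : (frattiniSystem E F hinv).Hom P ⊆ F.Hom P := by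
  rintro φ ⟨α, hα, φ₀, hφ₀, hφ⟩
  have hαF := (mem_autGroup_iff F hTS).mp hα
  have hφ₀T : ∀ x : P, φ₀ x ∈ T := (E.le_of_mem hφ₀).2
  exact comp_mem' F (hEF P hφ₀) hαF hφ₀T (fun x => hφ x (hφ₀T x))

end Cfsg.Agent.Lib.Helper88
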