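import Cfsg.Agent.Lib.Helper88.FusionFrat1
import Cfsg.Agent.Lib.Helper88.FusionRS1
import Cfsg.Agent.Lib.Helper87.FusionSaturated
import Cfsg.Agent.Lib.Helper91.FusionCentralizerCrit
import Cfsg.Agent.Lib.Helper90.FusionExt

set_option autoImplicit false
open Cfsg

namespace Cfsg.Agent.Lib.Helper88

open Cfsg.FusionSystem Cfsg.Agent.Lib.Helper87

variable {Ω : Type*} [Group Ω] {S : Subgroup Ω}

theorem card_eq_of_isConj' [Finite S] (F : FusionSystem S) {P Q : Subgroup Ω} (h : F.IsConj P Q) :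
    Nat.card P = Nat.card Q := by
  obtain ⟨φ, hφ, hr⟩ := h
  exact Nat.card_congr (homEquiv F hφ hr).toEquiv

/-- Induction principle: to show that a system `E'` over a strongly closed subgroup `T` contains all maps of the saturated
system `F` between subgroups of `T`, it suffices to treat the automorphisms of the fully normalized subgroups `R ≤ T`,
assuming the result for all larger subgroups. -/
theorem hom_subset_of_aut_fullyNormalized [Finite S] (p : ℕ) [Fact p.Prime] (hS : IsPGroup p S) (F : FusionSystem S)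
    (hF : F.IsSaturated p) {T : Subgroup Ω} (hT : F.StronglyClosed T) (E' : FusionSystem T)
    (hE'F : ∀ P : Subgroup Ω, E'.Hom P ⊆ F.Hom P)
    (hstep : ∀ R : Subgroup Ω, R ≤ T → F.IsFullyNormalized R →
      (∀ R₁ : Subgroup Ω, R₁ ≤ T → Nat.card R < Nat.card R₁ → F.Hom R₁ ⊆ E'.Hom R₁) →
      ∀ β : MulAut R, β ∈ F.autGroup R → R.subtype.comp (β : R ≃* R).toMonoidHom ∈ E'.Hom R) :
    ∀ P : Subgroup Ω, P ≤ T → F.Hom P ⊆ E'.Hom P := by
  have hTS : T ≤ S := hT.1
  have hfinT : Finite T := finite_of_le hTS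
  have hTp : IsPGroup p T := hS.to_le hTS
  have body : ∀ P : Subgroup Ω, P ≤ T →
      (∀ R₁ : Subgroup Ω, R₁ ≤ T → Nat.card P < Nat.card R₁ → F.Hom R₁ ⊆ E'.Hom R₁) → F.Hom P ⊆ E'.Hom P := by
    intro P hPT hbig φ hφ
    have hPS : P ≤ S := hPT.trans hTS
    by_cases hPeqT : P = T
    · subst hPeqT
      have hr : φ.range = P :=
        Cfsg.Agent.Lib.Helper90.range_eq_of_forall_mem F hφ (fun x => hT.2 P le_rfl φ hφ x)
      have hfn : F.IsFullyNormalized P := by
        refine ⟨hPS, fun Q hQ => ?_⟩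
        obtain ⟨θ, hθ, hθr⟩ := hQ
        have : Q = P := by
          rw [← hθr]
          exact Cfsg.Agent.Lib.Helper90.range_eq_of_forall_mem F hθ (fun x => hT.2 P le_rfl θ hθ x)
        rw [this]
      have hβ := homEquiv_mem_autGroup F hφ hr
      have h1 := hstep P le_rfl hfn hbig _ hβ
      exact hom_congr E' h1 (fun x => rfl)
    · obtain ⟨R, hPR, hRfn⟩ := exists_isFullyNormalized F hPS
      have hRS : R ≤ S := hRfn.1
      have hRT : R ≤ T := by
        obtain ⟨θ, hθ, hr⟩ := hPR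
        rw [← hr]
        rintro _ ⟨x, rfl⟩
        exact hT.2 P hPT θ hθ x
      obtain ⟨hRfc, hRfa⟩ := fullyNormalized_props p hS F hF R hRfn
      have hRrec := isReceptive_of_isFullyCentralized p hS F hF R hRfc
      have hcardPR : Nat.card P = Nat.card R := card_eq_of_isConj' F hPR
      have sub : ∀ P₁ : Subgroup Ω, P₁ ≤ T → F.IsConj P₁ R → ∃ χ ∈ E'.Hom P₁, χ.range = R := by
        intro P₁ hP₁T hconj
        have hcard₁ : Nat.card P₁ = Nat.card R := card_eq_of_isConj' F hconj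
        have hP₁ne : P₁ ≠ T := by
          intro h
          apply hPeqT
          have : Finite T := hfinT
          apply Subgroup.eq_of_le_of_card_ge hPT
          rw [hcardPR, ← hcard₁, h]
        obtain ⟨χ, hχ, hχN, hχmap, hχP⟩ := exists_normalizer_hom p hS F R P₁ hRfa hRrec hconj
        have hNT : normalizerIn T P₁ ≤ normalizerIn S P₁ := fun x hx => ⟨hTS hx.1, hx.2⟩
        have hχ₁ := Cfsg.Agent.Lib.Helper87.restrict_mem F hNT hχ
        have hP₁N : P₁ ≤ normalizerIn T P₁ := le_normalizerIn hP₁T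
        have hlt : Nat.card P < Nat.card (normalizerIn T P₁) := by
          obtain ⟨s, hsN, hsP⟩ := exists_mem_normalizerIn_not_mem hTp hP₁T hP₁ne
          have : Finite (normalizerIn T P₁) := finite_of_le ((normalizerIn_le T P₁).trans hTS)
          rw [hcardPR, ← hcard₁]
          by_contra hge
          have := Subgroup.eq_of_le_of_card_ge hP₁N (not_lt.mp hge)
          apply hsP
          rw [this]
          exact hsN
        have hχ₁E := hbig _ (normalizerIn_le T P₁) hlt hχ₁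
        refine ⟨_, Cfsg.Agent.Lib.Helper87.restrict_mem E' hP₁N hχ₁E, ?_⟩
        rw [← hχmap]
        ext y
        constructor
        · rintro ⟨x, rfl⟩
          exact ⟨⟨x, hNT (hP₁N x.2)⟩, Subgroup.mem_subgroupOf.mpr x.2, rfl⟩
        · rintro ⟨x, hx, rfl⟩
          exact ⟨⟨x, Subgroup.mem_subgroupOf.mp hx⟩, rfl⟩
      have hQT : φ.range ≤ T := by
        rintro _ ⟨x, rfl⟩
        exact hT.2 P hPT φ hφ x
      have hQR : F.IsConj φ.range R := isConj_trans F (isConj_symm F ⟨φ, hφ, rfl⟩) hPR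
      obtain ⟨χ₁, hχ₁, hr₁⟩ := sub P hPT hPR
      obtain ⟨χ₂, hχ₂, hr₂⟩ := sub φ.range hQT hQR
      have hχ₁F := hE'F _ hχ₁
      have hχ₂F := hE'F _ hχ₂
      set e₁ := homEquiv F hχ₁F hr₁ with he₁
      set e₂ := homEquiv F hχ₂F hr₂ with he₂
      set eφ := homEquiv F hφ rfl with heφ
      set β : MulAut R := (e₁.symm.trans eφ).trans e₂ with hβ_def
      have hβF : IsFIso F (β : R ≃* R) :=
        IsFIso.trans F (IsFIso.trans F (IsFIso.symm F (isFIso_homEquiv F hχ₁F hr₁)) (isFIso_homEquiv F hφ rfl))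
          (isFIso_homEquiv F hχ₂F hr₂)
      have hβ : β ∈ F.autGroup R := (isFIso_iff_mem_autGroup F hRS).mp hβF
      have hβE := hstep R hRT hRfn (fun R₁ h h' => hbig R₁ h (by rw [hcardPR]; exact h')) β hβ
      have hχ₁R : ∀ x : P, χ₁ x ∈ R := fun x => hr₁ ▸ ⟨x, rfl⟩
      have hφQ : ∀ x : P, φ x ∈ φ.range := fun x => ⟨x, rfl⟩
      have hc : χ₂.comp (φ.codRestrict φ.range hφQ) ∈ E'.Hom P := by
        refine comp_mem' E' hχ₁ hβE hχ₁R (fun x => ?_)
        show χ₂ ⟨φ x, hφQ x⟩ = ((β ⟨χ₁ x, hχ₁R x⟩ : R) : Ω)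
        have h1 : (⟨χ₁ x, hχ₁R x⟩ : R) = e₁ x := rfl
        rw [h1, hβ_def]
        show _ = ((e₂ (eφ (e₁.symm (e₁ x))) : R) : Ω)
        rw [MulEquiv.symm_apply_apply]
        rfl
      exact Cfsg.Agent.Lib.Helper91.hom_mem_of_comp_mem E' hφQ hχ₂ hc
  have key : ∀ n : ℕ, ∀ P : Subgroup Ω, P ≤ T → Nat.card T ≤ Nat.card P + n → F.Hom P ⊆ E'.Hom P := by
    intro n
    induction n with
    | zero =>
      intro P hPT hcard
      refine body P hPT (fun R₁ hR₁ hlt => ?_)
      have := card_le_of_le hR₁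
      omega
    | succ n ih =>
      intro P hPT hcard
      exact body P hPT (fun R₁ hR₁ hlt => ih R₁ hR₁ (by omega))
  intro P hPT
  exact key (Nat.card T) P hPT (by omega)

end Cfsg.Agent.Lib.Helper88
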