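import Cfsg.Agent.Lib.Helper88.FusionFrat2
import Cfsg.Agent.Lib.Helper88.SylowConj
import Cfsg.Agent.Lib.Helper90.SylowNormal

set_option autoImplicit false
open Cfsg
open scoped Pointwise

namespace Cfsg.Agent.Lib.Helper88

open Cfsg.FusionSystem Cfsg.Agent.Lib.Helper87

section sylow

variable {G : Type*} [Group G]

/-- A `p`-subgroup of a normal subgroup `N` is conjugate into a given Sylow `p`-subgroup of `G` by an element of `N`. -/
theorem exists_conj_le_sylow_of_le_normal [Finite G] {p : ℕ} [Fact p.Prime] (Sy : Sylow p G) (N : Subgroup G)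
    [N.Normal] {D : Subgroup G} (hDN : D ≤ N) (hD : IsPGroup p D) :
    ∃ γ ∈ N, ∀ x ∈ D, γ * x * γ⁻¹ ∈ Sy := by
  obtain ⟨Sy', hSy'⟩ := Cfsg.Agent.Lib.Helper90.exists_sylow_eq_subgroupOf Sy N
  have hD' : IsPGroup p (D.subgroupOf N) := hD.comap_subtype
  obtain ⟨Q, hQ⟩ := hD'.exists_le_sylow
  obtain ⟨k, hk⟩ := MulAction.exists_smul_eq N Q Sy'
  refine ⟨k, k.2, fun x hx => ?_⟩
  have hxQ : (⟨x, hDN hx⟩ : N) ∈ (Q : Subgroup N) := hQ (Subgroup.mem_subgroupOf.mpr hx)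
  have h1 : MulAut.conj k • (⟨x, hDN hx⟩ : N) ∈ MulAut.conj k • (Q : Subgroup N) :=
    Subgroup.smul_mem_pointwise_smul _ _ _ hxQ
  rw [← Sylow.coe_subgroup_smul, hk, hSy', Subgroup.mem_subgroupOf] at h1
  exact h1

end sylow

variable {Ω : Type*} [Group Ω] {S : Subgroup Ω}

/-- The strong invariance condition. -/
def StrongInv {T : Subgroup Ω} (E : FusionSystem T) (F : FusionSystem S) : Prop :=
  ∀ (P Q : Subgroup Ω) (hPQ : P ≤ Q) (_ : Q ≤ T) (φ : P →* Ω) (_ : φ ∈ E.Hom P) (hφQ : ∀ x : P, φ x ∈ Q)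
    (ψ : Q →* Ω) (_ : ψ ∈ F.Hom Q), ∃ χ ∈ E.Hom ((P.subgroupOf Q).map ψ),
      ∀ (x : P) (hx : ψ (Subgroup.inclusion hPQ x) ∈ (P.subgroupOf Q).map ψ),
        χ ⟨ψ (Subgroup.inclusion hPQ x), hx⟩ = ψ ⟨φ x, hφQ x⟩

theorem autInvariant_of_strongInv {T : Subgroup Ω} (E : FusionSystem T) (F : FusionSystem S) (hTS : T ≤ S)
    (hSI : StrongInv E F) : AutInvariant E F := by
  apply autInvariant_of_forall
  intro P hPT φ hφ α hα
  obtain ⟨χ, hχ, hχeq⟩ := hSI P T hPT le_rfl φ hφ (fun x => (E.le_of_mem hφ).2 x)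
    (T.subtype.comp α.toMonoidHom) ((mem_autGroup_iff F hTS).mp hα)
  exact ⟨χ, hχ, fun x hφx hαx => hχeq x hαx⟩

/-- Under strong invariance `Aut_E(R)` is normalized by `Aut_F(R)`. -/
theorem conj_mem_autGroup_of_strongInv {T : Subgroup Ω} (E : FusionSystem T) (F : FusionSystem S) (hTS : T ≤ S)
    (hSI : StrongInv E F) {R : Subgroup Ω} (hRT : R ≤ T) {a n : MulAut R} (ha : a ∈ F.autGroup R)
    (hn : n ∈ E.autGroup R) : a * n * a⁻¹ ∈ E.autGroup R := by
  have hRS : R ≤ S := hRT.trans hTS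
  obtain ⟨χ, hχ, hχeq⟩ := hSI R R le_rfl hRT _ ((mem_autGroup_iff E hRT).mp hn) (fun x => (n x).2)
    _ ((mem_autGroup_iff F hRS).mp ha)
  have heq : (R.subgroupOf R).map (R.subtype.comp (a : R ≃* R).toMonoidHom) = R := by
    ext y
    constructor
    · rintro ⟨t, -, rfl⟩
      exact (a t).2
    · intro hy
      refine ⟨a⁻¹ ⟨y, hy⟩, Subgroup.mem_subgroupOf.mpr (a⁻¹ ⟨y, hy⟩).2, ?_⟩
      show ((a (a⁻¹ ⟨y, hy⟩) : R) : Ω) = y
      rw [MulAut.apply_inv_self]
  obtain ⟨χ', hχ', hcast⟩ := hom_cast E heq χ hχ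
  rw [mem_autGroup_iff E hRT]
  refine hom_congr E hχ' (fun y => ?_)
  show (((a * n * a⁻¹) y : R) : Ω) = χ' y
  have hy : ((a (a⁻¹ y) : R) : Ω) ∈ (R.subgroupOf R).map (R.subtype.comp (a : R ≃* R).toMonoidHom) :=
    ⟨a⁻¹ y, Subgroup.mem_subgroupOf.mpr (a⁻¹ y).2, rfl⟩
  have h1 := hχeq (a⁻¹ y) hy
  have h2 : χ' y = χ ⟨((a (a⁻¹ y) : R) : Ω), hy⟩ := by
    have e : (⟨((a (a⁻¹ y) : R) : Ω), (a (a⁻¹ y)).2⟩ : R) = y := by
      apply Subtype.ext
      show ((a (a⁻¹ y) : R) : Ω) = (y : Ω)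
      rw [MulAut.apply_inv_self]
    have h3 : χ' ⟨((a (a⁻¹ y) : R) : Ω), (a (a⁻¹ y)).2⟩ = χ ⟨((a (a⁻¹ y) : R) : Ω), hy⟩ := hcast _ hy _
    exact (congrArg χ' e).symm.trans h3
  rw [h2]
  exact h1.symm

/-- The step of the induction for the Frattini property. -/
theorem frattini_step [Finite S] (p : ℕ) [Fact p.Prime] (hS : IsPGroup p S) (F : FusionSystem S)
    (hF : F.IsSaturated p) {T : Subgroup Ω} (hT : F.StronglyClosed T) (E : FusionSystem T) (hSI : StrongInv E F)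
    (hinv : AutInvariant E F) (R : Subgroup Ω) (hRT : R ≤ T) (hRfn : F.IsFullyNormalized R)
    (hbig : ∀ R₁ : Subgroup Ω, R₁ ≤ T → Nat.card R < Nat.card R₁ → F.Hom R₁ ⊆ (frattiniSystem E F hinv).Hom R₁)
    (β : MulAut R) (hβ : β ∈ F.autGroup R) :
    R.subtype.comp (β : R ≃* R).toMonoidHom ∈ (frattiniSystem E F hinv).Hom R := by
  have hTS : T ≤ S := hT.1
  have hTp : IsPGroup p T := hS.to_le hTS
  have hRS : R ≤ S := hRT.trans hTS
  by_cases hReqT : R = T
  · subst hReqT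
    exact ⟨β, hβ, R.subtype, subtype_mem E le_rfl, fun x hx => rfl⟩
  · obtain ⟨hfc, hfa⟩ := fullyNormalized_props p hS F hF R hRfn
    have hrec := isReceptive_of_isFullyCentralized p hS F hF R hfc
    obtain ⟨-, Sy, hSy⟩ := hfa
    have hfin : Finite (F.autGroup R) := finite_autGroup F hRS
    have hNn : ((E.autGroup R).subgroupOf (F.autGroup R)).Normal := by
      constructor
      intro n hn a
      rw [Subgroup.mem_subgroupOf] at hn ⊢
      exact conj_mem_autGroup_of_strongInv E F hTS hSI hRT a.2 hn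
    have hDp : IsPGroup p ↥(((autInducedBy T R).subgroupOf (F.autGroup R)).map
        (MulAut.conj (⟨β, hβ⟩ : F.autGroup R)).toMonoidHom) :=
      ((isPGroup_autInducedBy hTp R).comap_subtype).map _
    have hDN : ((autInducedBy T R).subgroupOf (F.autGroup R)).map
        (MulAut.conj (⟨β, hβ⟩ : F.autGroup R)).toMonoidHom ≤ (E.autGroup R).subgroupOf (F.autGroup R) := by
      rintro _ ⟨c, hc, rfl⟩
      have hc' : c ∈ (autInducedBy T R).subgroupOf (F.autGroup R) := hc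
      rw [Subgroup.mem_subgroupOf] at hc'
      have hcE : (c : MulAut R) ∈ E.autGroup R := autInducedBy_le_autGroup E hRT hc'
      show (MulAut.conj (⟨β, hβ⟩ : F.autGroup R)) c ∈ (E.autGroup R).subgroupOf (F.autGroup R)
      rw [MulAut.conj_apply, Subgroup.mem_subgroupOf]
      exact conj_mem_autGroup_of_strongInv E F hTS hSI hRT hβ hcE
    obtain ⟨γ, hγN, hγD⟩ := exists_conj_le_sylow_of_le_normal Sy _ hDN hDp
    set ν : F.autGroup R := γ * ⟨β, hβ⟩ with hν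
    set ν₀ : MulAut R := (ν : MulAut R) with hν₀
    have hν₀F : R.subtype.comp (ν₀ : R ≃* R).toMonoidHom ∈ F.Hom R := (mem_autGroup_iff F hRS).mp ν.2
    have hNT : normalizerIn T R ≤ extender S R (R.subtype.comp (ν₀ : R ≃* R).toMonoidHom) := by
      intro g hg
      have hgS : g ∈ S := hTS hg.1
      have hgN : g ∈ Subgroup.normalizer (R : Set Ω) := hg.2
      rw [mem_extender_iff]
      refine ⟨hgS, hgN, ?_⟩
      have hcg : conjAut R g hgN ∈ autInducedBy T R := conjAut_mem_autInducedBy hg.1 hgN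
      have hcgA : conjAut R g hgN ∈ F.autGroup R :=
        autInducedBy_le_autGroup F hRS (autInducedBy_mono hTS hcg)
      set c : F.autGroup R := ⟨conjAut R g hgN, hcgA⟩ with hc
      have hcD : (MulAut.conj (⟨β, hβ⟩ : F.autGroup R)) c ∈
          ((autInducedBy T R).subgroupOf (F.autGroup R)).map
            (MulAut.conj (⟨β, hβ⟩ : F.autGroup R)).toMonoidHom :=
        ⟨c, Subgroup.mem_subgroupOf.mpr hcg, rfl⟩
      have h3 : γ * ((MulAut.conj (⟨β, hβ⟩ : F.autGroup R)) c) * γ⁻¹ ∈ (Sy : Subgroup (F.autGroup R)) :=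
        hγD _ hcD
      have h4 : γ * ((MulAut.conj (⟨β, hβ⟩ : F.autGroup R)) c) * γ⁻¹ = ν * c * ν⁻¹ := by
        rw [hν, MulAut.conj_apply]
        group
      rw [h4, hSy, Subgroup.mem_subgroupOf] at h3
      obtain ⟨h, hhS, hh⟩ := mem_autInducedBy_iff.mp h3
      refine ⟨h, hhS, fun x hx => ?_⟩
      have := hh (ν₀ x)
      show ((ν₀ ⟨g * (x : Ω) * g⁻¹, hx⟩ : R) : Ω) = h * ((ν₀ x : R) : Ω) * h⁻¹
      rw [← this]
      show ((ν₀ ⟨g * (x : Ω) * g⁻¹, hx⟩ : R) : Ω) = ((ν₀ ((conjAut R g hgN) (ν₀⁻¹ (ν₀ x))) : R) : Ω)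
      rw [MulAut.inv_apply_self]
      rfl
    obtain ⟨ψ, hψ, hψext⟩ := hrec.2 R _ hν₀F (IsFIso.range_eq (ν₀ : R ≃* R))
    have hψ₁ : ψ.comp (Subgroup.inclusion hNT) ∈ F.Hom (normalizerIn T R) :=
      Cfsg.Agent.Lib.Helper87.restrict_mem F hNT hψ
    have hRN : R ≤ normalizerIn T R := le_normalizerIn hRT
    have hlt : Nat.card R < Nat.card (normalizerIn T R) := by
      have hfinT : Finite T := finite_of_le hTS
      obtain ⟨s, hsN, hsP⟩ := exists_mem_normalizerIn_not_mem hTp hRT hReqT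
      have : Finite (normalizerIn T R) := finite_of_le ((normalizerIn_le T R).trans hTS)
      by_contra hge
      have := Subgroup.eq_of_le_of_card_ge hRN (not_lt.mp hge)
      apply hsP
      rw [this]
      exact hsN
    have hψ₁E := hbig _ (normalizerIn_le T R) hlt hψ₁
    have hψ₂E := Cfsg.Agent.Lib.Helper87.restrict_mem (frattiniSystem E F hinv) hRN hψ₁E
    have hνE : R.subtype.comp (ν₀ : R ≃* R).toMonoidHom ∈ (frattiniSystem E F hinv).Hom R := by
      refine hom_congr _ hψ₂E (fun x => ?_)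
      exact (hψext x x.2 (hNT (hRN x.2))).symm
    have hγinv : R.subtype.comp ((γ⁻¹ : F.autGroup R) : R ≃* R).toMonoidHom ∈ (frattiniSystem E F hinv).Hom R := by
      apply le_frattiniSystem E F hinv R
      rw [← mem_autGroup_iff E hRT]
      have : (γ⁻¹ : F.autGroup R) ∈ (E.autGroup R).subgroupOf (F.autGroup R) := Subgroup.inv_mem _ hγN
      exact Subgroup.mem_subgroupOf.mp this
    refine comp_mem' (frattiniSystem E F hinv) hνE hγinv (fun x => (ν₀ x).2) (fun x => ?_)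
    show ((β x : R) : Ω) = ((((γ⁻¹ : F.autGroup R) : MulAut R) (ν₀ x) : R) : Ω)
    have e : β = ((γ⁻¹ : F.autGroup R) : MulAut R) * ν₀ := by
      have h5 : (⟨β, hβ⟩ : F.autGroup R) = γ⁻¹ * ν := by rw [hν, inv_mul_cancel_left]
      exact congrArg (fun z : F.autGroup R => (z : MulAut R)) h5
    rw [e]
    rfl

/-- Strong invariance implies the Frattini condition. -/
theorem frattini_of_strongInv [Finite S] (p : ℕ) [Fact p.Prime] (hS : IsPGroup p S) (F : FusionSystem S)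
    (hF : F.IsSaturated p) {T : Subgroup Ω} (hT : F.StronglyClosed T) (E : FusionSystem T)
    (hEF : E.IsSubsystemOf F) (hSI : StrongInv E F) :
    ∀ (P : Subgroup Ω), P ≤ T → ∀ (φ : P →* Ω), φ ∈ F.Hom P →
      ∃ α ∈ F.autGroup T, ∃ φ₀ ∈ E.Hom P, ∀ (x : P) (hx : φ₀ x ∈ T), φ x = ((α ⟨φ₀ x, hx⟩ : T) : Ω) := by
  have hinv := autInvariant_of_strongInv E F hT.1 hSI
  intro P hPT φ hφ
  exact hom_subset_of_aut_fullyNormalized p hS F hF hT (frattiniSystem E F hinv)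
    (frattiniSystem_le E F hinv hT.1 hEF)
    (fun R hRT hRfn hbig β hβ => frattini_step p hS F hF hT E hSI hinv R hRT hRfn hbig β hβ) P hPT hφ

end Cfsg.Agent.Lib.Helper88
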