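import Cfsg.Agent.Lib.Helper88.FusionFrat3

set_option autoImplicit false
open Cfsg

namespace Cfsg.Agent.Lib.Helper88

open Cfsg.FusionSystem Cfsg.Agent.Lib.Helper87

variable {Ω : Type*} [Group Ω] {S : Subgroup Ω}

/-- Invariance (under `Aut_F(T)`) and the Frattini condition give strong invariance. -/
theorem strongInv_of_invariant {T : Subgroup Ω} (E : FusionSystem T) (F : FusionSystem S)
    (hinv : AutInvariant E F)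
    (hfrat : ∀ (P : Subgroup Ω), P ≤ T → ∀ (φ : P →* Ω), φ ∈ F.Hom P →
      ∃ α ∈ F.autGroup T, ∃ φ₀ ∈ E.Hom P, ∀ (x : P) (hx : φ₀ x ∈ T), φ x = ((α ⟨φ₀ x, hx⟩ : T) : Ω)) :
    StrongInv E F := by
  intro P Q hPQ hQT φ hφ hφQ ψ hψ
  obtain ⟨α, hα, ψ₀, hψ₀, hψeq⟩ := hfrat Q hQT ψ hψ
  have hψ₀T : ∀ y : Q, ψ₀ y ∈ T := (E.le_of_mem hψ₀).2
  have hPT : P ≤ T := hPQ.trans hQT
  -- the restriction of `ψ₀` to `P`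
  have hres : ψ₀.comp (Subgroup.inclusion hPQ) ∈ E.Hom P := restrict_mem E hPQ hψ₀
  obtain ⟨P₁, hP₁⟩ : ∃ P₁ : Subgroup Ω, (ψ₀.comp (Subgroup.inclusion hPQ)).range = P₁ := ⟨_, rfl⟩
  obtain ⟨θ, hθ, hθeq, hθrange⟩ := inv_mem' E hres hP₁
  have hP₁T : P₁ ≤ T := by
    rw [← hP₁]
    rintro _ ⟨x, rfl⟩
    exact hψ₀T _
  have hθP : ∀ z : P₁, θ z ∈ P := by
    intro z
    rw [← hθrange]
    exact ⟨z, rfl⟩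
  -- `χ₀ = ψ₀ ∘ φ ∘ θ`
  have h1 : (φ.comp (θ.codRestrict P hθP)) ∈ E.Hom P₁ := E.comp_mem hθ hφ hθP
  have h1Q : ∀ z : P₁, (φ.comp (θ.codRestrict P hθP)) z ∈ Q := fun z => hφQ _
  have h2 : ψ₀.comp ((φ.comp (θ.codRestrict P hθP)).codRestrict Q h1Q) ∈ E.Hom P₁ := E.comp_mem h1 hψ₀ h1Q
  obtain ⟨χ, hχ, hχeq⟩ := hinv α hα P₁ hP₁T _ h2 ((P.subgroupOf Q).map ψ) (by
    intro y
    constructor
    · rintro ⟨t, ht, rfl⟩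
      have htP : (t : Ω) ∈ P := Subgroup.mem_subgroupOf.mp ht
      have hmem : ψ₀ t ∈ P₁ := by
        rw [← hP₁]
        exact ⟨⟨t, htP⟩, rfl⟩
      exact ⟨⟨ψ₀ t, hmem⟩, (hψeq t (hψ₀T t)).symm⟩
    · rintro ⟨⟨z, hz⟩, rfl⟩
      have hz' := hz
      rw [← hP₁] at hz'
      obtain ⟨x, rfl⟩ := hz'
      refine ⟨Subgroup.inclusion hPQ x, Subgroup.mem_subgroupOf.mpr x.2, ?_⟩
      exact hψeq _ (hψ₀T _))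
  refine ⟨χ, hχ, fun x hx => ?_⟩
  have hz : ψ₀ (Subgroup.inclusion hPQ x) ∈ P₁ := by
    rw [← hP₁]
    exact ⟨x, rfl⟩
  have hθx : θ ⟨ψ₀ (Subgroup.inclusion hPQ x), hz⟩ = (x : Ω) := hθeq x ⟨_, hz⟩ rfl
  have hαx : ((α ⟨((⟨ψ₀ (Subgroup.inclusion hPQ x), hz⟩ : P₁) : Ω), hP₁T hz⟩ : T) : Ω) ∈ (P.subgroupOf Q).map ψ := by
    have : ((α ⟨ψ₀ (Subgroup.inclusion hPQ x), hP₁T hz⟩ : T) : Ω) = ψ (Subgroup.inclusion hPQ x) :=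
      (hψeq _ _).symm
    rw [this]
    exact hx
  have h3 := hχeq ⟨ψ₀ (Subgroup.inclusion hPQ x), hz⟩ (hψ₀T _) hαx
  have e1 : (⟨ψ (Subgroup.inclusion hPQ x), hx⟩ : ((P.subgroupOf Q).map ψ : Subgroup Ω)) =
      ⟨((α ⟨((⟨ψ₀ (Subgroup.inclusion hPQ x), hz⟩ : P₁) : Ω), hP₁T hz⟩ : T) : Ω), hαx⟩ :=
    Subtype.ext (hψeq _ (hψ₀T _))
  rw [e1, h3, hψeq ⟨φ x, hφQ x⟩ (hψ₀T _)]
  have e2 : (θ.codRestrict P hθP) ⟨ψ₀ (Subgroup.inclusion hPQ x), hz⟩ = x := Subtype.ext hθx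
  congr 3
  show ψ₀ ⟨φ ((θ.codRestrict P hθP) ⟨ψ₀ (Subgroup.inclusion hPQ x), hz⟩), _⟩ = ψ₀ ⟨φ x, hφQ x⟩
  congr 2
  rw [e2]

end Cfsg.Agent.Lib.Helper88
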