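import Cfsg.Agent.Lib.Helper88.FusionFrat4
import Cfsg.Agent.Lib.Helper90.FusionInvariant

set_option autoImplicit false
open Cfsg

namespace Cfsg.Agent.Lib.Helper88

open Cfsg.FusionSystem Cfsg.Agent.Lib.Helper87
open Cfsg.Agent.Lib.Helper90 (autMap mem_autMap autMap_le apply_mem_autMap)

variable {Ω : Type*} [Group Ω] {S : Subgroup Ω}

theorem autMap_mul (α β : MulAut S) (P : Subgroup Ω) : autMap (α * β) P = autMap α (autMap β P) := by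
  ext y
  rw [mem_autMap, mem_autMap]
  constructor
  · rintro ⟨t, ht, rfl⟩
    exact ⟨β t, apply_mem_autMap β t ht, rfl⟩
  · rintro ⟨s, hs, rfl⟩
    obtain ⟨t, ht, hts⟩ := (mem_autMap β P _).mp hs
    refine ⟨t, ht, ?_⟩
    have : β t = s := Subtype.ext hts
    rw [← this]
    rfl

/-- A map all of whose transports by elements of `Aut_F(S)` are maps of `E`. -/
def IsCoreMap (E F : FusionSystem S) {P : Subgroup Ω} (φ : P →* Ω) : Prop :=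
  ∀ α ∈ F.autGroup S, ∃ χ ∈ E.Hom (autMap α P), ∀ (x : P) (hx : (x : Ω) ∈ S) (hφx : φ x ∈ S)
    (hαx : ((α ⟨x, hx⟩ : S) : Ω) ∈ autMap α P), χ ⟨α ⟨x, hx⟩, hαx⟩ = ((α ⟨φ x, hφx⟩ : S) : Ω)

/-- The largest subsystem of `E` invariant under `Aut_F(S)`: the maps of `E` all of whose `Aut_F(S)`-transports are maps of `E`. -/
def coreSystem (E F : FusionSystem S) : FusionSystem S where
  Hom P := {φ | φ ∈ E.Hom P ∧ IsCoreMap E F φ}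
  le_of_mem h := E.le_of_mem h.1
  injective_of_mem h := E.injective_of_mem h.1
  conj_mem := by
    intro P g hP hg
    refine ⟨E.conj_mem hP hg, fun α _ => ?_⟩
    refine ⟨conjHom (autMap α P) ((α ⟨g, hg⟩ : S) : Ω), E.conj_mem (autMap_le α P) (α ⟨g, hg⟩).2, ?_⟩
    intro x hx hφx hαx
    show ((α ⟨g, hg⟩ : S) : Ω) * ((α ⟨x, hx⟩ : S) : Ω) * ((α ⟨g, hg⟩ : S) : Ω)⁻¹ = _
    have : (⟨conjHom P g x, hφx⟩ : S) = ⟨g, hg⟩ * ⟨x, hx⟩ * ⟨g, hg⟩⁻¹ := Subtype.ext rfl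
    rw [this, map_mul, map_mul, map_inv]
    rfl
  comp_mem := by
    rintro P Q φ ψ ⟨hφ, hφc⟩ ⟨hψ, hψc⟩ h
    refine ⟨E.comp_mem hφ hψ h, fun α hα => ?_⟩
    obtain ⟨χφ, hχφ, hχφeq⟩ := hφc α hα
    obtain ⟨χψ, hχψ, hχψeq⟩ := hψc α hα
    have hφS : ∀ x : P, φ x ∈ S := (E.le_of_mem hφ).2
    have hψS : ∀ y : Q, ψ y ∈ S := (E.le_of_mem hψ).2
    have hPS : P ≤ S := (E.le_of_mem hφ).1
    have hχ : ∀ z : autMap α P, χφ z ∈ autMap α Q := by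
      rintro ⟨z, hz⟩
      obtain ⟨t, ht, rfl⟩ := (mem_autMap α P z).mp hz
      have e1 := hχφeq ⟨t, ht⟩ t.2 (hφS _) hz
      rw [e1]
      exact apply_mem_autMap α ⟨φ ⟨t, ht⟩, hφS _⟩ (h ⟨t, ht⟩)
    refine ⟨χψ.comp (χφ.codRestrict _ hχ), E.comp_mem hχφ hχψ hχ, ?_⟩
    intro x hx hcx hαx
    have e1 := hχφeq x hx (hφS x) hαx
    have e2 := hχψeq ⟨φ x, h x⟩ (hφS x) (hψS _) (apply_mem_autMap α ⟨φ x, hφS x⟩ (h x))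
    show χψ ⟨χφ ⟨α ⟨x, hx⟩, hαx⟩, hχ _⟩ = ((α ⟨ψ ⟨φ x, h x⟩, hcx⟩ : S) : Ω)
    rw [← e2]
    congr 1
    exact Subtype.ext e1
  inv_mem := by
    rintro P φ ⟨hφ, hφc⟩
    obtain ⟨ψ, hψ, hψx⟩ := E.inv_mem hφ
    refine ⟨ψ, ⟨hψ, fun α hα => ?_⟩, hψx⟩
    obtain ⟨χφ, hχφ, hχφeq⟩ := hφc α hα
    have hφS : ∀ x : P, φ x ∈ S := (E.le_of_mem hφ).2
    have hPS : P ≤ S := (E.le_of_mem hφ).1
    have hrange : χφ.range = autMap α φ.range := by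
      ext y
      constructor
      · rintro ⟨⟨z, hz⟩, rfl⟩
        obtain ⟨t, ht, rfl⟩ := (mem_autMap α P z).mp hz
        have e1 := hχφeq ⟨t, ht⟩ t.2 (hφS _) hz
        rw [e1]
        exact apply_mem_autMap α ⟨φ ⟨t, ht⟩, hφS _⟩ ⟨⟨t, ht⟩, rfl⟩
      · intro hy
        obtain ⟨s, ⟨x, hxs⟩, rfl⟩ := (mem_autMap α φ.range y).mp hy
        have hαx : ((α ⟨x, hPS x.2⟩ : S) : Ω) ∈ autMap α P := apply_mem_autMap α ⟨x, hPS x.2⟩ x.2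
        refine ⟨⟨_, hαx⟩, ?_⟩
        rw [hχφeq x (hPS x.2) (hφS x) hαx]
        congr 2
        exact Subtype.ext hxs
    obtain ⟨χ', hχ', hχ'eq, -⟩ := inv_mem' E hχφ hrange
    refine ⟨χ', hχ', ?_⟩
    rintro ⟨_, x, rfl⟩ hy hψy hαy
    have hαx : ((α ⟨x, hPS x.2⟩ : S) : Ω) ∈ autMap α P := apply_mem_autMap α ⟨x, hPS x.2⟩ x.2
    have e1 := hχφeq x (hPS x.2) (hφS x) hαx
    have e2 := hχ'eq ⟨_, hαx⟩ ⟨_, hαy⟩ e1
    rw [e2]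
    show ((α ⟨x, hPS x.2⟩ : S) : Ω) = ((α ⟨ψ ⟨φ x, ⟨x, rfl⟩⟩, hψy⟩ : S) : Ω)
    congr 2
    exact Subtype.ext (hψx x).symm

theorem coreSystem_le (E F : FusionSystem S) : ∀ P : Subgroup Ω, (coreSystem E F).Hom P ⊆ E.Hom P :=
  fun _ _ h => h.1

theorem autInvariant_coreSystem (E F : FusionSystem S) : AutInvariant (coreSystem E F) F := by
  apply autInvariant_of_forall
  intro P hPS φ hφ β hβ
  obtain ⟨χ, hχ, hχeq⟩ := hφ.2 β hβ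
  have hφS : ∀ x : P, φ x ∈ S := (E.le_of_mem hφ.1).2
  have hχS : ∀ z : autMap β P, χ z ∈ S := (E.le_of_mem hχ).2
  refine ⟨χ, ⟨hχ, fun α hα => ?_⟩, fun x hφx hαx => hχeq x (hPS x.2) hφx hαx⟩
  obtain ⟨χ', hχ', hχ'eq⟩ := hφ.2 (α * β) (Subgroup.mul_mem _ hα hβ)
  obtain ⟨χ'', hχ'', hcast⟩ := hom_cast E (autMap_mul α β P) χ' hχ'
  refine ⟨χ'', hχ'', ?_⟩
  rintro ⟨z, hz⟩ hzS hχz hαz
  obtain ⟨t, ht, rfl⟩ := (mem_autMap β P z).mp hz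
  have hmem : (((α * β) t : S) : Ω) ∈ autMap (α * β) P := apply_mem_autMap (α * β) t ht
  have e1 := hχeq ⟨t, ht⟩ t.2 (hφS _) hz
  have e2 := hχ'eq ⟨t, ht⟩ t.2 (hφS _) hmem
  have e3 := hcast _ hmem hαz
  show χ'' ⟨((α (β t) : S) : Ω), hαz⟩ = ((α ⟨χ ⟨β t, hz⟩, hχz⟩ : S) : Ω)
  have e4 : (⟨χ ⟨β t, hz⟩, hχz⟩ : S) = β ⟨φ ⟨t, ht⟩, hφS _⟩ := Subtype.ext e1
  rw [e4]
  exact e3.trans e2

end Cfsg.Agent.Lib.Helper88
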