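import Cfsg.Agent.Lib.Helper88.FusionFrat7
import Cfsg.Agent.Lib.Helper87.FusionCentric

set_option autoImplicit false
open Cfsg

namespace Cfsg.Agent.Lib.Helper88

open Cfsg.FusionSystem Cfsg.Agent.Lib.Helper87

variable {Ω : Type*} [Group Ω] {S : Subgroup Ω}

/-- The Frattini property (over the same `S`) gives index prime to `p`. -/
theorem pElemGen_le_of_frattini [Finite S] (p : ℕ) [Fact p.Prime] (F : FusionSystem S)
    (hF : F.IsSaturated p) (E : FusionSystem S)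
    (hfrat : ∀ (P : Subgroup Ω) (φ : P →* Ω), φ ∈ F.Hom P → ∃ α ∈ F.autGroup S, ∃ φ₀ ∈ E.Hom P,
      ∀ (x : P) (hx : φ₀ x ∈ S), φ x = ((α ⟨φ₀ x, hx⟩ : S) : Ω))
    (P : Subgroup Ω) (hPS : P ≤ S) :
    (pElemGen p (F.autGroup P)).map (F.autGroup P).subtype ≤ E.autGroup P := by
  rw [Subgroup.map_le_iff_le_comap]
  unfold pElemGen
  rw [Subgroup.closure_le]
  rintro β ⟨k, hk⟩
  show (β : MulAut P) ∈ E.autGroup P
  have hk' : orderOf (β : MulAut P) = p ^ k := by rw [Subgroup.orderOf_coe, hk]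
  have hKp : IsPGroup p (Subgroup.zpowers (β : MulAut P)) := by
    rintro ⟨g, hg⟩
    obtain ⟨n, rfl⟩ := Subgroup.mem_zpowers_iff.mp hg
    refine ⟨k, Subtype.ext ?_⟩
    show ((β : MulAut P) ^ n) ^ (p ^ k) = 1
    rw [← zpow_natCast, ← zpow_mul, mul_comm, zpow_mul, zpow_natCast, ← hk', pow_orderOf_eq_one, one_zpow]
  have hKF : Subgroup.zpowers (β : MulAut P) ≤ F.autGroup P := Subgroup.zpowers_le.mpr β.2
  obtain ⟨Q, hPQ, hQfa, -⟩ := hF P hPS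
  obtain ⟨e₀, he₀⟩ := exists_isFIso_of_isConj F hPQ
  obtain ⟨e, heF, heK⟩ := exists_isFIso_into_autInducedBy p F hQfa e₀ he₀ _ hKp hKF
  have h1 := heK (β : MulAut P) (Subgroup.mem_zpowers _)
  obtain ⟨s, hsS, hs⟩ := mem_autInducedBy_iff.mp h1
  obtain ⟨α, hα, φ₀, hφ₀, hφeq⟩ := hfrat P _ heF
  have hφ₀S : ∀ x : P, φ₀ x ∈ S := (E.le_of_mem hφ₀).2
  set s' : S := α⁻¹ ⟨s, hsS⟩ with hs'
  have claim : ∀ x : P, φ₀ ((β : MulAut P) x) = (s' : Ω) * φ₀ x * (s' : Ω)⁻¹ := by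
    intro x
    have h2 : (⟨φ₀ ((β : MulAut P) x), hφ₀S _⟩ : S) = s' * ⟨φ₀ x, hφ₀S x⟩ * s'⁻¹ := by
      apply α.injective
      apply Subtype.ext
      rw [map_mul, map_mul, map_inv, hs', MulAut.apply_inv_self]
      show ((α ⟨φ₀ ((β : MulAut P) x), hφ₀S _⟩ : S) : Ω) = s * ((α ⟨φ₀ x, hφ₀S x⟩ : S) : Ω) * s⁻¹
      rw [← hφeq _ (hφ₀S _), ← hφeq x (hφ₀S x)]
      have h3 := hs (e x)
      show ((e ((β : MulAut P) x) : Q) : Ω) = s * ((e x : Q) : Ω) * s⁻¹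
      rw [← h3]
      show _ = ((e ((β : MulAut P) (e.symm (e x))) : Q) : Ω)
      rw [MulEquiv.symm_apply_apply]
    exact congrArg Subtype.val h2
  obtain ⟨θ, hθ, hθx⟩ := E.inv_mem hφ₀
  have hrS : φ₀.range ≤ S := by
    rintro _ ⟨x, rfl⟩
    exact hφ₀S x
  have hc : conjHom φ₀.range (s' : Ω) ∈ E.Hom φ₀.range := E.conj_mem hrS s'.2
  have hχ₁ : φ₀.comp ((β : MulAut P) : P ≃* P).toMonoidHom ∈ E.Hom P :=
    comp_mem' E hφ₀ hc (fun x => ⟨x, rfl⟩) (fun x => claim x)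
  rw [mem_autGroup_iff E hPS]
  refine comp_mem' E hχ₁ hθ (fun x => ⟨(β : MulAut P) x, rfl⟩) (fun x => ?_)
  exact (hθx ((β : MulAut P) x)).symm

/-- The Frattini property (over the same `S`) gives that centric subgroups of the subsystem are centric in the system. -/
theorem isCentric_of_frattini (F : FusionSystem S) (E : FusionSystem S)
    (hfrat : ∀ (P : Subgroup Ω) (φ : P →* Ω), φ ∈ F.Hom P → ∃ α ∈ F.autGroup S, ∃ φ₀ ∈ E.Hom P,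
      ∀ (x : P) (hx : φ₀ x ∈ S), φ x = ((α ⟨φ₀ x, hx⟩ : S) : Ω))
    {P : Subgroup Ω} (hP : E.IsCentric P) : F.IsCentric P := by
  refine ⟨hP.1, ?_⟩
  rintro Q ⟨φ, hφ, hr⟩
  obtain ⟨α, hα, φ₀, hφ₀, hφeq⟩ := hfrat P φ hφ
  have hφ₀S : ∀ x : P, φ₀ x ∈ S := (E.le_of_mem hφ₀).2
  have hcen := hP.2 φ₀.range ⟨φ₀, hφ₀, rfl⟩
  intro c hc
  rw [mem_centralizerIn] at hc
  obtain ⟨hcS, hcQ⟩ := hc
  set c' : S := α⁻¹ ⟨c, hcS⟩ with hc'
  have hαc' : α c' = ⟨c, hcS⟩ := by rw [hc', MulAut.apply_inv_self]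
  have h1 : (c' : Ω) ∈ centralizerIn S φ₀.range := by
    rw [mem_centralizerIn]
    refine ⟨c'.2, ?_⟩
    rintro _ ⟨x, rfl⟩
    have h2 : (⟨φ₀ x, hφ₀S x⟩ : S) * c' = c' * ⟨φ₀ x, hφ₀S x⟩ := by
      apply α.injective
      apply Subtype.ext
      rw [map_mul, map_mul, hαc']
      show ((α ⟨φ₀ x, hφ₀S x⟩ : S) : Ω) * c = c * ((α ⟨φ₀ x, hφ₀S x⟩ : S) : Ω)
      rw [← hφeq x (hφ₀S x)]
      apply hcQ
      rw [← hr]
      exact ⟨x, rfl⟩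
    exact congrArg Subtype.val h2
  obtain ⟨x₀, hx₀⟩ := hcen h1
  rw [← hr]
  refine ⟨x₀, ?_⟩
  rw [hφeq x₀ (hφ₀S x₀)]
  have : (⟨φ₀ x₀, hφ₀S x₀⟩ : S) = c' := Subtype.ext hx₀
  rw [this, hαc']

end Cfsg.Agent.Lib.Helper88
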