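import Cfsg.Agent.Lib.Helper88.FusionHypFactor
import Cfsg.Agent.Lib.Helper90.FusionCenter
import Cfsg.Agent.Lib.Helper89.FusionConj
import Cfsg.Agent.S5082
import Cfsg.Agent.S5084

set_option autoImplicit false
open Cfsg

namespace Cfsg.Agent.Lib.Helper88

open Cfsg.FusionSystem Cfsg.Agent.Lib.Helper87

variable {Ω : Type*} [Group Ω] {S : Subgroup Ω}

/-- The subsystem of the maps of `F` that fix the elements of `W` (in both directions). -/
def fixSystem (F : FusionSystem S) (W : Subgroup Ω) (hW : ∀ g ∈ S, ∀ w ∈ W, g * w * g⁻¹ = w) : FusionSystem S where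
  Hom P := {φ | φ ∈ F.Hom P ∧ ∀ x : P, ((x : Ω) ∈ W → φ x = x) ∧ (φ x ∈ W → φ x = x)}
  le_of_mem h := F.le_of_mem h.1
  injective_of_mem h := F.injective_of_mem h.1
  conj_mem := by
    intro P g hP hg
    refine ⟨F.conj_mem hP hg, fun x => ⟨fun hx => hW g hg x hx, fun hx => ?_⟩⟩
    have h1 : g⁻¹ * (g * (x : Ω) * g⁻¹) * g⁻¹⁻¹ = g * (x : Ω) * g⁻¹ := hW g⁻¹ (S.inv_mem hg) _ hx
    have h2 : g⁻¹ * (g * (x : Ω) * g⁻¹) * g⁻¹⁻¹ = x := by group
    show g * (x : Ω) * g⁻¹ = x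
    rw [← h1, h2]
  comp_mem := by
    rintro P Q φ ψ ⟨hφ, hφW⟩ ⟨hψ, hψW⟩ h
    refine ⟨F.comp_mem hφ hψ h, fun x => ⟨fun hx => ?_, fun hx => ?_⟩⟩
    · show ψ ⟨φ x, h x⟩ = x
      have e : φ x = x := (hφW x).1 hx
      have hx' : ((⟨φ x, h x⟩ : Q) : Ω) ∈ W := by
        show φ x ∈ W
        rw [e]; exact hx
      rw [(hψW ⟨φ x, h x⟩).1 hx']
      exact e
    · have hx' : ψ ⟨φ x, h x⟩ ∈ W := hx
      show ψ ⟨φ x, h x⟩ = x
      have e1 : ψ ⟨φ x, h x⟩ = φ x := (hψW ⟨φ x, h x⟩).2 hx'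
      rw [e1] at hx' ⊢
      exact (hφW x).2 hx'
  inv_mem := by
    rintro P φ ⟨hφ, hφW⟩
    obtain ⟨ψ, hψ, hinv⟩ := F.inv_mem hφ
    refine ⟨ψ, ⟨hψ, ?_⟩, hinv⟩
    rintro ⟨_, x, rfl⟩
    have hx := hinv x
    constructor
    · intro hy
      have hy' : φ x ∈ W := hy
      have e : φ x = x := (hφW x).2 hy'
      rw [hx]
      exact e.symm
    · intro hy
      rw [hx] at hy ⊢
      exact ((hφW x).1 hy).symm

theorem mem_fixSystem_hom (F : FusionSystem S) (W : Subgroup Ω) (hW : ∀ g ∈ S, ∀ w ∈ W, g * w * g⁻¹ = w)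
    {P : Subgroup Ω} {φ : P →* Ω} :
    φ ∈ (fixSystem F W hW).Hom P ↔
      φ ∈ F.Hom P ∧ ∀ x : P, ((x : Ω) ∈ W → φ x = x) ∧ (φ x ∈ W → φ x = x) := Iff.rfl

/-- If the automorphism groups of `S` and of the essential subgroups fix `W` pointwise, so do all maps of `F`. -/
theorem le_fixSystem [Finite S] (p : ℕ) [Fact p.Prime] (hS : IsPGroup p S) (F : FusionSystem S)
    (hF : F.IsSaturated p) (W : Subgroup Ω) (hW : ∀ g ∈ S, ∀ w ∈ W, g * w * g⁻¹ = w)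
    (hfix : ∀ P : Subgroup Ω, F.IsFullyNormalized P → ∀ α ∈ F.autGroup P, ∀ x : P, (x : Ω) ∈ W → α x = x) :
    F ≤ fixSystem F W hW := by
  apply Cfsg.Agent.S5082.result p hS F hF
  intro P hP
  have hPfn : F.IsFullyNormalized P := by
    rcases hP with rfl | hP
    · exact Cfsg.Agent.Lib.Helper89.isFullyNormalized_self F
    · exact hP.2.1
  have hPS : P ≤ S := hPfn.1
  intro α hα
  apply Subgroup.subset_closure
  refine ⟨(mem_autGroup_iff F hPS).mp hα, fun x => ⟨fun hx => ?_, fun hx => ?_⟩⟩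
  · show ((α x : P) : Ω) = x
    rw [hfix P hPfn α hα x hx]
  · have hx' : ((α x : P) : Ω) ∈ W := hx
    have h1 := hfix P hPfn α⁻¹ (Subgroup.inv_mem _ hα) (α x) hx'
    rw [MulAut.inv_apply_self] at h1
    show ((α x : P) : Ω) = x
    rw [← h1]

end Cfsg.Agent.Lib.Helper88
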