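import Cfsg.Agent.Lib.Helper88.FusionGrun2

set_option autoImplicit false
open Cfsg

namespace Cfsg.Agent.Lib.Helper88

open Cfsg.FusionSystem Cfsg.Agent.Lib.Helper87

variable {Ω : Type*} [Group Ω] {S : Subgroup Ω}

section grun

variable {Ω' : Type*} [Group Ω'] {S' : Subgroup Ω'}

/-- Step B: automorphisms of fully normalized subgroups fix the central elements of `S` whose image is central in
`F/Z(F)`. -/
theorem aut_fix_of_mem_preimage_central [Finite S] (p : ℕ) [Fact p.Prime] (hS : IsPGroup p S) (F : FusionSystem S)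
    (hF : F.IsSaturated p) (θ : S →* Ω')
    (hker : ∀ s : S, θ s = 1 ↔ (s : Ω) ∈ F.center) (hrange : θ.range = S') (E : FusionSystem S')
    (hE : ∀ (P' : Subgroup Ω') (φ' : P' →* Ω'),
      φ' ∈ E.Hom P' ↔ P' ≤ S' ∧ ∃ φ ∈ F.Hom (preimageAlong θ P'), InducedAlong θ φ φ')
    {Q' : Subgroup Ω'} (hQ' : E.IsCentral Q')
    (hW : ∀ g ∈ S, ∀ w ∈ preimageAlong θ Q', g * w * g⁻¹ = w)
    {P : Subgroup Ω} (hPfn : F.IsFullyNormalized P) {α : MulAut P} (hα : α ∈ F.autGroup P) (x : P)
    (hx : (x : Ω) ∈ preimageAlong θ Q') : α x = x := by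
  have hZc : F.IsCentral F.center := isCentral_center F
  have hZ : F.StronglyClosed F.center := IsCentral.stronglyClosed F hZc
  have hPS : P ≤ S := hPfn.1
  have hP'S' : imageAlong θ P ≤ S' := imageAlong_le θ hrange P
  obtain ⟨hxS, hx'⟩ := (mem_preimageAlong θ Q' x).mp hx
  obtain ⟨-, R, hR⟩ := (fullyNormalized_props p hS F hF P hPfn).2
  have hfin : Finite (F.autGroup P) := finite_autGroup F hPS
  have hsup := Cfsg.Agent.Lib.Helper54.pResidual_sup_sylow R
  let St : Subgroup (F.autGroup P) :=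
    { carrier := {a | (a : MulAut P) x = x}
      one_mem' := rfl
      mul_mem' := by
        intro a b ha hb
        show (a : MulAut P) ((b : MulAut P) x) = x
        rw [hb, ha]
      inv_mem' := by
        intro a ha
        show (a : MulAut P)⁻¹ x = x
        calc (a : MulAut P)⁻¹ x = (a : MulAut P)⁻¹ ((a : MulAut P) x) := by rw [ha]
          _ = x := MulAut.inv_apply_self _ _ _ }
  have hStR : (R : Subgroup (F.autGroup P)) ≤ St := by
    intro a ha
    rw [hR, Subgroup.mem_subgroupOf] at ha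
    obtain ⟨g, hg, hga⟩ := mem_autInducedBy_iff.mp ha
    show (a : MulAut P) x = x
    apply Subtype.ext
    rw [hga x]
    exact hW g hg x hx
  have hStres : pResidual p (F.autGroup P) ≤ St := by
    unfold pResidual
    rw [Subgroup.closure_le]
    intro a ha
    have hcop : Nat.Coprime (orderOf a) p := ha
    show (a : MulAut P) x = x
    -- `ζ = x⁻¹ a(x)` lies in the centre of `F`
    set ζ : P := x⁻¹ * (a : MulAut P) x with hζ
    have hζZ : (ζ : Ω) ∈ F.center := by
      apply (hker ⟨ζ, hPS ζ.2⟩).mp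
      have e : (⟨(ζ : Ω), hPS ζ.2⟩ : S) = ⟨x, hPS x.2⟩⁻¹ * ⟨((a : MulAut P) x : P), hPS ((a : MulAut P) x).2⟩ := rfl
      rw [e, map_mul, map_inv, inv_mul_eq_one]
      have hα' := autImgHom_mem p hS F hF hZ θ hker hrange E hE hPS a
      have h1 := Cfsg.Agent.Lib.Helper90.IsCentral.aut_fix E hQ' hP'S' hα' (imgHom θ hPS x) hx'
      rw [autImgHom_apply] at h1
      exact (congrArg Subtype.val h1).symm
    have haζ : (a : MulAut P) ζ = ζ := Cfsg.Agent.Lib.Helper90.IsCentral.aut_fix F hZc hPS a.2 ζ hζZ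
    have hpow : ∀ k : ℕ, ((a : MulAut P) ^ k) x = x * ζ ^ k := by
      intro k
      induction k with
      | zero => simp
      | succ k ih =>
        rw [pow_succ', MulAut.mul_apply, ih, map_mul, map_pow, haζ, pow_succ', ← mul_assoc]
        congr 1
        rw [hζ, mul_inv_cancel_left]
    have h1 : ((a : MulAut P) ^ orderOf a) = 1 := by
      have := pow_orderOf_eq_one a
      exact congrArg (fun z : F.autGroup P => (z : MulAut P)) this
    have h2 := hpow (orderOf a)
    rw [h1] at h2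
    have h3 : ζ ^ orderOf a = 1 := by
      have : x = x * ζ ^ orderOf a := h2
      exact (left_eq_mul.mp this)
    have hPp : IsPGroup p P := hS.to_le hPS
    obtain ⟨j, hj⟩ := hPp ζ
    have hd1 : orderOf ζ ∣ orderOf a := orderOf_dvd_of_pow_eq_one h3
    have hd2 : orderOf ζ ∣ p ^ j := orderOf_dvd_of_pow_eq_one hj
    have hc : Nat.Coprime (orderOf ζ) (p ^ j) :=
      Nat.Coprime.coprime_dvd_left hd1 (Nat.Coprime.pow_right j hcop)
    have h4 : orderOf ζ = 1 := Nat.Coprime.eq_one_of_dvd hc hd2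
    have h5 : ζ = 1 := orderOf_eq_one_iff.mp h4
    have h6 : (a : MulAut P) x = x * ζ := by rw [hζ, mul_inv_cancel_left]
    rw [h6, h5, mul_one]
  have hall : (⟨α, hα⟩ : F.autGroup P) ∈ St := by
    have : (⟨α, hα⟩ : F.autGroup P) ∈ (⊤ : Subgroup (F.autGroup P)) := Subgroup.mem_top _
    rw [← hsup] at this
    exact (sup_le hStres hStR) this
  exact hall

/-- Grün's lemma for fusion systems: if `hyp(F) = S` then the factor system `F/Z(F)` has trivial centre. -/
theorem center_factor_eq_bot [Finite S] (p : ℕ) [Fact p.Prime] (hS : IsPGroup p S) (F : FusionSystem S)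
    (hF : F.IsSaturated p) (hperf : F.hyperfocalSubgroup p = S) (θ : S →* Ω')
    (hker : ∀ s : S, θ s = 1 ↔ (s : Ω) ∈ F.center) (hrange : θ.range = S') (E : FusionSystem S')
    (hE : ∀ (P' : Subgroup Ω') (φ' : P' →* Ω'),
      φ' ∈ E.Hom P' ↔ P' ≤ S' ∧ ∃ φ ∈ F.Hom (preimageAlong θ P'), InducedAlong θ φ φ') :
    E.center = ⊥ := by
  rw [eq_bot_iff]
  apply sSup_le
  intro Q' hQ'
  have hQ'S' : Q' ≤ S' := hQ'.1
  have hZ₂S : preimageAlong θ Q' ≤ S := preimageAlong_le θ Q'
  have hW : ∀ g ∈ S, ∀ w ∈ preimageAlong θ Q', g * w * g⁻¹ = w := by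
    intro g hg w hw
    have := commute_of_mem_preimage_central p hS F hF hperf θ hker hrange E hE hQ' hw hg
    rw [← this, mul_inv_cancel_right]
  have hle := le_fixSystem p hS F hF (preimageAlong θ Q') hW
    (fun P hPfn α hα x hx =>
      aut_fix_of_mem_preimage_central p hS F hF θ hker hrange E hE hQ' hW hPfn hα x hx)
  have hcen : F.IsCentral (preimageAlong θ Q') := by
    rw [Cfsg.Agent.S5084.result p hS F hF]
    refine ⟨hZ₂S, fun x hx y hxy => ?_⟩
    obtain ⟨φ, hφ, hφx⟩ := hxy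
    have h1 := ((hle _ hφ).2 ⟨x, Subgroup.mem_zpowers x⟩).1 hx
    rw [← hφx]
    exact h1
  have hZ₂Z : preimageAlong θ Q' ≤ F.center := le_sSup hcen
  intro y' hy'
  obtain ⟨s, hsS, hsP, hs⟩ := exists_preimage θ hrange hQ'S' ⟨y', hy'⟩
  have h1 : θ ⟨s, hsS⟩ = 1 := (hker _).mpr (hZ₂Z hsP)
  rw [Subgroup.mem_bot]
  have h2 : θ ⟨s, hsS⟩ = y' := hs
  rw [← h2, h1]

end grun

end Cfsg.Agent.Lib.Helper88
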