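import Cfsg.Agent.Lib.Helper88.FusionHP9
import Cfsg.Agent.Lib.Helper54.Subnormal

set_option autoImplicit false
open Cfsg

namespace Cfsg.Agent.Lib.Helper88

open Cfsg.FusionSystem Cfsg.Agent.Lib.Helper87

variable {Ω : Type*} [Group Ω] {S T : Subgroup Ω}

/-- The automorphism of `X` induced by the image of `g` under a lift of `α`. -/
theorem lift_conjAut {R X : Subgroup Ω} (hXR : X ≤ R) {β : R →* Ω} {α : MulAut X} (hres : Restr β α) {g : Ω}
    (hgR : g ∈ R) (hgN : g ∈ Subgroup.normalizer (X : Set Ω)) :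
    ∃ h : β ⟨g, hgR⟩ ∈ Subgroup.normalizer (X : Set Ω), conjAut X (β ⟨g, hgR⟩) h = α * conjAut X g hgN * α⁻¹ := by
  have h1 := QCtx.conj_lift hXR hres hgR (γ := conjAut X g hgN) (fun x => conjAut_apply X g hgN x)
  have hN : β ⟨g, hgR⟩ ∈ Subgroup.normalizer (X : Set Ω) := mem_normalizer_of_conj_eq h1
  refine ⟨hN, ?_⟩
  ext x
  rw [conjAut_apply, h1 x]

theorem conjAut_mul_eq {X : Subgroup Ω} {a b : Ω} (ha : a ∈ Subgroup.normalizer (X : Set Ω))
    (hb : b ∈ Subgroup.normalizer (X : Set Ω)) (hab : a * b ∈ Subgroup.normalizer (X : Set Ω)) :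
    conjAut X (a * b) hab = conjAut X a ha * conjAut X b hb := by
  ext x
  show a * b * x * (a * b)⁻¹ = a * (b * x * b⁻¹) * a⁻¹
  group

theorem conjAut_inv_eq {X : Subgroup Ω} {a : Ω} (ha : a ∈ Subgroup.normalizer (X : Set Ω))
    (hai : a⁻¹ ∈ Subgroup.normalizer (X : Set Ω)) : conjAut X a⁻¹ hai = (conjAut X a ha)⁻¹ := by
  apply eq_inv_of_mul_eq_one_left
  ext x
  show a⁻¹ * (a * x * a⁻¹) * a⁻¹⁻¹ = x
  group

theorem conjAut_conj_eq {X : Subgroup Ω} {a b : Ω} (ha : a ∈ Subgroup.normalizer (X : Set Ω))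
    (hb : b ∈ Subgroup.normalizer (X : Set Ω)) (hab : a * b * a⁻¹ ∈ Subgroup.normalizer (X : Set Ω)) :
    conjAut X (a * b * a⁻¹) hab = conjAut X a ha * conjAut X b hb * (conjAut X a ha)⁻¹ := by
  rw [conjAut_mul_eq (Subgroup.mul_mem _ ha hb) (Subgroup.inv_mem _ ha), conjAut_mul_eq ha hb,
    conjAut_inv_eq ha]

namespace QCtx

variable [Finite S] {p : ℕ} [Fact p.Prime] {F : FusionSystem S} {X : Subgroup Ω}

omit [Fact (Nat.Prime p)] in
/-- An element of `S` inducing on the centric subgroup `X` an automorphism induced by `R₀ ≥ X` lies in `R₀`. -/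
theorem mem_of_conjAut_mem (q : QCtx p F T X) {R₀ : Subgroup Ω} (hXR₀ : X ≤ R₀) (hR₀S : R₀ ≤ S) {g : Ω} (hgS : g ∈ S)
    (hgN : g ∈ Subgroup.normalizer (X : Set Ω)) (h : conjAut X g hgN ∈ autInducedBy R₀ X) : g ∈ R₀ := by
  obtain ⟨r, hr, hrx⟩ := Cfsg.Agent.Lib.Helper87.mem_autInducedBy_iff.mp h
  have hc : r⁻¹ * g ∈ centralizerIn S X := by
    refine mem_centralizerIn.mpr ⟨S.mul_mem (S.inv_mem (hR₀S hr)) hgS, fun x hx => ?_⟩
    have h1 := hrx ⟨x, hx⟩
    rw [conjAut_apply] at h1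
    have h2 : g * x = r * x * r⁻¹ * g := by
      rw [← h1]; group
    calc x * (r⁻¹ * g) = r⁻¹ * (r * x * r⁻¹ * g) := by group
      _ = r⁻¹ * (g * x) := by rw [h2]
      _ = r⁻¹ * g * x := by group
  have h3 := q.hcent hc
  have e : g = r * (r⁻¹ * g) := by group
  rw [e]
  exact R₀.mul_mem hr (hXR₀ h3)

omit [Fact (Nat.Prime p)] in
/-- A lift of an automorphism of `X` defined on a subgroup of `N_T(X)` takes its values in `N_T(X)`. -/
theorem lift_mem_normalizerIn (q : QCtx p F T X) {R : Subgroup Ω} (hXR : X ≤ R) (hRN : R ≤ normalizerIn T X)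
    {β : R →* Ω} (hβ : β ∈ F.Hom R) {α : MulAut X} (hres : Restr β α) (g : R) : β g ∈ normalizerIn T X := by
  obtain ⟨hN, -⟩ := lift_conjAut hXR hres g.2 (hRN g.2).2
  exact ⟨q.hsc.2 R (hRN.trans (normalizerIn_le T X)) β hβ g, hN⟩

/-- A map of `F` agreeing on `X` with a map of the generated system defined on the same subgroup of `T` lies in the
generated system. -/
theorem lift_unique_mem (q : QCtx p F T X) {R : Subgroup Ω} (hXR : X ≤ R) {β β' : R →* Ω}
    (hβ : β ∈ q.E.Hom R) (hβ' : β' ∈ F.Hom R) (hagree : ∀ x : R, (x : Ω) ∈ X → β x = β' x) : β' ∈ q.E.Hom R := by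
  have hRT : R ≤ T := (q.E.le_of_mem hβ).1
  obtain ⟨z, hzX, -, hz⟩ := hom_agree_on_centric_aux p q.hS F q.hF _ R X rfl hXR q.hXc β β' (q.E_le hβ) hβ' hagree
  have hc : conjHom R (z : Ω) ∈ q.E.Hom R := q.E.conj_mem hRT (q.hXT hzX)
  have hmem : ∀ y : R, conjHom R (z : Ω) y ∈ R := fun y => R.mul_mem (R.mul_mem z.2 y.2) (R.inv_mem z.2)
  refine comp_mem' q.E hc hβ hmem (fun y => ?_)
  rw [hz y]
  rfl

/-- An element of `Aut_T(X) O^p(Aut_F(X))` normalizing `Aut_{R₀}(X)`, the latter being fully normalized with respect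
to `Aut_T(X)`, lifts to an automorphism of `R₀` in the generated system. -/
theorem exists_E_lift (q : QCtx p F T X) {R₀ : Subgroup Ω} (hXR₀ : X ≤ R₀) (hR₀N : R₀ ≤ normalizerIn T X)
    (hfn : IsSylIn p
      (autInducedBy T X ⊓ Subgroup.normalizer ((autInducedBy R₀ X : Subgroup (MulAut X)) : Set (MulAut X)))
      (kAut F p T X ⊓ Subgroup.normalizer ((autInducedBy R₀ X : Subgroup (MulAut X)) : Set (MulAut X))))
    {ν : MulAut X} (hνK : ν ∈ kAut F p T X)
    (hνN : ν ∈ Subgroup.normalizer ((autInducedBy R₀ X : Subgroup (MulAut X)) : Set (MulAut X))) :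
    ∃ ε ∈ q.E.Hom R₀, Restr ε ν := by
  haveI := q.finA
  have hTS := q.hTS
  have hR₀T : R₀ ≤ T := hR₀N.trans (normalizerIn_le T X)
  have hR₀S : R₀ ≤ S := hR₀T.trans hTS
  have hR₀NS : R₀ ≤ normalizerIn S X := fun g hg => ⟨hR₀S hg, (hR₀N hg).2⟩
  set B₀ := autInducedBy R₀ X with hB₀
  set H := kAut F p T X ⊓ Subgroup.normalizer ((B₀ : Subgroup (MulAut X)) : Set (MulAut X)) with hH
  have hHA : H ≤ F.autGroup X := inf_le_left.trans q.kAut_le
  haveI : Finite H := Finite.of_injective (Subgroup.inclusion hHA) (Subgroup.inclusion_injective _)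
  obtain ⟨o, ho, y, hy, rfl⟩ := hfn.exists_mul (⟨hνK, hνN⟩ : ν ∈ H)
  -- the part in `Aut_T(X)`
  obtain ⟨t, htT, htx⟩ := Cfsg.Agent.Lib.Helper87.mem_autInducedBy_iff.mp hy.1
  have htN : t ∈ Subgroup.normalizer (X : Set Ω) := mem_normalizer_of_conj_eq htx
  have hy' : y = conjAut X t htN := by
    ext x
    rw [htx, conjAut_apply]
  have ht_conj : ∀ r ∈ R₀, t * r * t⁻¹ ∈ R₀ := by
    intro r hr
    have hrN : r ∈ Subgroup.normalizer (X : Set Ω) := (hR₀N hr).2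
    have hcN : t * r * t⁻¹ ∈ Subgroup.normalizer (X : Set Ω) :=
      Subgroup.mul_mem _ (Subgroup.mul_mem _ htN hrN) (Subgroup.inv_mem _ htN)
    apply q.mem_of_conjAut_mem hXR₀ hR₀S (S.mul_mem (S.mul_mem (hTS htT) (hR₀S hr)) (S.inv_mem (hTS htT))) hcN
    rw [conjAut_conj_eq htN hrN, ← hy']
    exact (Subgroup.mem_normalizer_iff.mp hy.2 _).mp (conjAut_mem_autInducedBy hr hrN)
  have hτE : conjHom R₀ t ∈ q.E.Hom R₀ := q.E.conj_mem hR₀T htT
  have hτres : Restr (conjHom R₀ t) y := by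
    rw [hy']
    exact restr_conjHom htN
  -- the part in the residual
  set A₁ := stabAut F R₀ X with hA₁
  haveI : Finite (F.autGroup R₀) := finite_autGroup F hR₀S
  haveI : Finite A₁ := Finite.of_injective (Subgroup.inclusion (stabAut_le F R₀ X)) (Subgroup.inclusion_injective _)
  have hHle : H ≤ (stabResHom F hXR₀).range := by
    intro h hh
    obtain ⟨β, hβ, hres⟩ := q.exists_lift (hHA hh) hR₀NS (fun g hg hgN =>
      autInducedBy_mono hR₀S ((Subgroup.mem_normalizer_iff.mp hh.2 _).mp (conjAut_mem_autInducedBy hg hgN)))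
    have hmem : ∀ x : R₀, β x ∈ R₀ := by
      intro x
      obtain ⟨hN, he⟩ := lift_conjAut hXR₀ hres x.2 (hR₀N x.2).2
      apply q.mem_of_conjAut_mem hXR₀ hR₀S (hom_mem F hβ x) hN
      rw [he]
      exact (Subgroup.mem_normalizer_iff.mp hh.2 _).mp (conjAut_mem_autInducedBy x.2 (hR₀N x.2).2)
    obtain ⟨κ, hκ, -⟩ := exists_stab_lift F hXR₀ hβ hmem hres
    exact ⟨κ, hκ⟩
  obtain ⟨γ, hγ, hγo⟩ := map_pResidual_le_of_le_range p (stabResHom F hXR₀) H hHle ho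
  have hγE : (γ : MulAut R₀) ∈ q.E.autGroup R₀ := by
    apply q.pResidual_le_E R₀ hR₀T
    apply Cfsg.Agent.Lib.Helper54.map_pResidual_subtype_mono p (stabAut_le F R₀ X)
    exact ⟨γ, hγ, rfl⟩
  have hoE : R₀.subtype.comp ((γ : MulAut R₀) : R₀ ≃* R₀).toMonoidHom ∈ q.E.Hom R₀ :=
    (mem_autGroup_iff q.E hR₀T).mp hγE
  have hores : Restr (R₀.subtype.comp ((γ : MulAut R₀) : R₀ ≃* R₀).toMonoidHom) o := by
    rw [← hγo]
    exact restr_stabResHom F hXR₀ γ
  have hmem : ∀ x : R₀, conjHom R₀ t x ∈ R₀ := fun x => ht_conj x x.2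
  refine ⟨(R₀.subtype.comp ((γ : MulAut R₀) : R₀ ≃* R₀).toMonoidHom).comp ((conjHom R₀ t).codRestrict R₀ hmem),
    q.E.comp_mem hτE hoE hmem, ?_⟩
  exact Restr.comp hmem (fun x => rfl) hτres hores

end QCtx

end Cfsg.Agent.Lib.Helper88
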