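import Cfsg.Agent.Lib.Helper88.FusionHP10
import Cfsg.Agent.Lib.Helper87.KNormalizer2

set_option autoImplicit false
open Cfsg

namespace Cfsg.Agent.Lib.Helper88

open Cfsg.FusionSystem Cfsg.Agent.Lib.Helper87

variable {Ω : Type*} [Group Ω] {S T : Subgroup Ω}

namespace QCtx

variable [Finite S] {p : ℕ} [Fact p.Prime] {F : FusionSystem S} {X : Subgroup Ω}

/-- The inductive hypothesis: lifts of elements of `Aut_T(X) O^p(Aut_F(X))` to subgroups of `N_T(X)` of index smaller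
than `d` are maps of the generated system. -/
def LiftIH (q : QCtx p F T X) (d : ℕ) : Prop :=
  ∀ R : Subgroup Ω, X ≤ R → R ≤ normalizerIn T X → Nat.card (normalizerIn T X) - Nat.card R < d →
    ∀ κ ∈ kAut F p T X, ∀ β ∈ F.Hom R, Restr β κ → β ∈ q.E.Hom R

omit [Fact (Nat.Prime p)] in
theorem finN (q : QCtx p F T X) : Finite (normalizerIn T X) :=
  finite_of_le ((normalizerIn_le T X).trans q.hTS)

omit [Fact (Nat.Prime p)] in
/-- Conjugation by an element of `N_T(X)` normalizing `R'` normalizes `Aut_{R'}(X)`. -/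
theorem conjAut_mem_normalizer (q : QCtx p F T X) {R' : Subgroup Ω} (hR'N : R' ≤ normalizerIn T X) {g : Ω}
    (hgN : g ∈ Subgroup.normalizer (X : Set Ω)) (hgR' : g ∈ Subgroup.normalizer (R' : Set Ω)) :
    conjAut X g hgN ∈ Subgroup.normalizer ((autInducedBy R' X : Subgroup (MulAut X)) : Set (MulAut X)) := by
  haveI : Finite X := finite_of_le q.hXS
  apply mem_normalizer_of_forall_conj_mem
  intro b hb
  obtain ⟨r, hr, hn, rfl⟩ := autInducedBy_eq_conjAut hb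
  have hc : g * r * g⁻¹ ∈ R' := (Subgroup.mem_normalizer_iff.mp hgR' r).mp hr
  have hcN : g * r * g⁻¹ ∈ Subgroup.normalizer (X : Set Ω) := (hR'N hc).2
  rw [← conjAut_conj_eq hgN hn hcN]
  exact conjAut_mem_autInducedBy hc hcN

/-- Straightening: a subgroup `R'` of `N_T(X)` whose automizer is carried by `ν'` onto the fully normalized `B₀` admits
a lift in the generated system of `ζ ν'` for some `ζ` normalizing `B₀`. -/
theorem straighten (q : QCtx p F T X) {d : ℕ} (IH : q.LiftIH d) {R' : Subgroup Ω} (hXR' : X ≤ R')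
    (hR'N : R' ≤ normalizerIn T X) (hd : Nat.card (normalizerIn T X) - Nat.card R' = d)
    (hne : R' ≠ normalizerIn T X) {B₀ : Subgroup (MulAut X)}
    (hfn : IsSylIn p (autInducedBy T X ⊓ Subgroup.normalizer ((B₀ : Subgroup (MulAut X)) : Set (MulAut X)))
      (kAut F p T X ⊓ Subgroup.normalizer ((B₀ : Subgroup (MulAut X)) : Set (MulAut X))))
    {ν' : MulAut X} (hν'K : ν' ∈ kAut F p T X)
    (hB₀ : ∀ b, b ∈ autInducedBy R' X ↔ ν' * b * ν'⁻¹ ∈ B₀) :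
    ∃ ζ ∈ kAut F p T X ⊓ Subgroup.normalizer ((B₀ : Subgroup (MulAut X)) : Set (MulAut X)),
      ∃ b' ∈ q.E.Hom R', Restr b' (ζ * ν') := by
  haveI := q.finA
  haveI : Finite X := finite_of_le q.hXS
  haveI := q.finN
  have hTS := q.hTS
  have hTp : IsPGroup p T := q.hS.to_le hTS
  have hNp : IsPGroup p (normalizerIn T X) := hTp.to_le (normalizerIn_le T X)
  set Tb := autInducedBy T X with hTb
  set K := kAut F p T X with hK
  have hTbK : Tb ≤ K := le_sup_left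
  have hTbp : IsPGroup p Tb := isPGroup_autInducedBy hTp X
  -- Sylow conjugation
  have hP'le : Tb.map (MulAut.conj ν').toMonoidHom ⊓
      Subgroup.normalizer ((B₀ : Subgroup (MulAut X)) : Set (MulAut X)) ≤
      K ⊓ Subgroup.normalizer ((B₀ : Subgroup (MulAut X)) : Set (MulAut X)) := by
    apply inf_le_inf_right
    rintro _ ⟨b, hb, rfl⟩
    exact K.mul_mem (K.mul_mem hν'K (hTbK hb)) (K.inv_mem hν'K)
  have hP'p : IsPGroup p (Tb.map (MulAut.conj ν').toMonoidHom ⊓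
      Subgroup.normalizer ((B₀ : Subgroup (MulAut X)) : Set (MulAut X)) : Subgroup (MulAut X)) :=
    (hTbp.map _).to_le inf_le_left
  haveI : Finite (K ⊓ Subgroup.normalizer ((B₀ : Subgroup (MulAut X)) : Set (MulAut X)) : Subgroup (MulAut X)) :=
    inferInstance
  obtain ⟨ζ, hζ, hζc⟩ := hfn.exists_conj_le hP'le hP'p
  refine ⟨ζ, hζ, ?_⟩
  have hη'K : ζ * ν' ∈ K := K.mul_mem hζ.1 hν'K
  -- the normalizer of `R'` in `N_T(X)`
  set R₁ := normalizerIn (normalizerIn T X) R' with hR₁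
  have hR'R₁ : R' ≤ R₁ := le_normalizerIn hR'N
  have hR₁N : R₁ ≤ normalizerIn T X := normalizerIn_le _ _
  obtain ⟨g₀, hg₀, hg₀R'⟩ := Cfsg.Agent.Lib.Helper89.exists_mem_normalizerIn_not_mem hNp hR'N hne
  haveI : Finite R₁ := finite_of_le hR₁N
  have hcard1 : Nat.card R' < Nat.card R₁ := card_lt_of_le_of_not_mem hR'R₁ hg₀ hg₀R'
  have hcard2 : Nat.card R₁ ≤ Nat.card (normalizerIn T X) := Subgroup.card_le_of_le hR₁N
  have hR₁NS : R₁ ≤ normalizerIn S X := fun g hg => ⟨hTS (hR₁N hg).1, (hR₁N hg).2⟩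
  obtain ⟨β₁, hβ₁, hres₁⟩ := q.exists_lift (q.kAut_le hη'K) hR₁NS (by
    intro g hg hgN
    have h1 : conjAut X g hgN ∈ Tb := conjAut_mem_autInducedBy (hR₁N hg).1 hgN
    have h2 := q.conjAut_mem_normalizer hR'N hgN hg.2
    have h3 : ν' * conjAut X g hgN * ν'⁻¹ ∈ Subgroup.normalizer ((B₀ : Subgroup (MulAut X)) : Set (MulAut X)) := by
      apply mem_normalizer_of_forall_conj_mem
      intro b₀ hb₀
      have hb : ν'⁻¹ * b₀ * ν' ∈ autInducedBy R' X := by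
        rw [hB₀]
        have e : ν' * (ν'⁻¹ * b₀ * ν') * ν'⁻¹ = b₀ := by group
        rw [e]
        exact hb₀
      have h4 := (Subgroup.mem_normalizer_iff.mp h2 _).mp hb
      rw [hB₀] at h4
      have e : ν' * conjAut X g hgN * ν'⁻¹ * b₀ * (ν' * conjAut X g hgN * ν'⁻¹)⁻¹ =
          ν' * (conjAut X g hgN * (ν'⁻¹ * b₀ * ν') * (conjAut X g hgN)⁻¹) * ν'⁻¹ := by group
      rw [e]
      exact h4
    have h5 := hζc _ ⟨⟨conjAut X g hgN, h1, rfl⟩, h3⟩
    have e : ζ * ν' * conjAut X g hgN * (ζ * ν')⁻¹ = ζ * (ν' * conjAut X g hgN * ν'⁻¹) * ζ⁻¹ := by group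
    rw [e]
    exact q.tAut_le_sAut h5.1)
  have hβ₁E : β₁ ∈ q.E.Hom R₁ :=
    IH R₁ (hXR'.trans hR'R₁) hR₁N (by omega) (ζ * ν') hη'K β₁ hβ₁ hres₁
  exact ⟨β₁.comp (Subgroup.inclusion hR'R₁), restrict_mem q.E hR'R₁ hβ₁E, hres₁.restrict hR'R₁⟩

omit [Fact (Nat.Prime p)] in
theorem autInducedBy_normalizerIn (X : Subgroup Ω) : autInducedBy (normalizerIn T X) X = autInducedBy T X := by
  apply le_antisymm (autInducedBy_mono (normalizerIn_le T X))
  intro α hα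
  obtain ⟨t, ht, htx⟩ := Cfsg.Agent.Lib.Helper87.mem_autInducedBy_iff.mp hα
  exact Cfsg.Agent.Lib.Helper87.mem_autInducedBy_iff.mpr ⟨t, ⟨ht, mem_normalizer_of_conj_eq htx⟩, htx⟩

/-- Every lift to a subgroup of `N_T(X)` of an element of `Aut_T(X) O^p(Aut_F(X))` is a map of the generated
system. -/
theorem lift_mem_E (q : QCtx p F T X) : ∀ d : ℕ, ∀ R : Subgroup Ω, X ≤ R → R ≤ normalizerIn T X →
    Nat.card (normalizerIn T X) - Nat.card R = d →
    ∀ κ ∈ kAut F p T X, ∀ β ∈ F.Hom R, Restr β κ → β ∈ q.E.Hom R := by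
  haveI := q.finA
  haveI : Finite X := finite_of_le q.hXS
  haveI := q.finN
  have hTS := q.hTS
  intro d
  induction d using Nat.strong_induction_on with
  | _ d ih =>
  intro R hXR hRN hd κ hκK β hβ hres
  have IH : q.LiftIH d := fun R' hXR' hR'N hlt => ih _ hlt R' hXR' hR'N rfl
  have hRT : R ≤ T := hRN.trans (normalizerIn_le T X)
  have hRS : R ≤ S := hRT.trans hTS
  have hβN : ∀ g : R, β g ∈ normalizerIn T X := q.lift_mem_normalizerIn hXR hRN hβ hres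
  rcases eq_or_ne R (normalizerIn T X) with rfl | hne
  · -- the top case
    have hfn : IsSylIn p (autInducedBy T X ⊓
        Subgroup.normalizer ((autInducedBy (normalizerIn T X) X : Subgroup (MulAut X)) : Set (MulAut X)))
        (kAut F p T X ⊓
          Subgroup.normalizer ((autInducedBy (normalizerIn T X) X : Subgroup (MulAut X)) : Set (MulAut X))) := by
      rw [autInducedBy_normalizerIn X, inf_eq_left.mpr Subgroup.le_normalizer]
      exact q.tAut_isSylIn.mono (le_inf le_sup_left Subgroup.le_normalizer) inf_le_left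
    have hκN : κ ∈ Subgroup.normalizer
        ((autInducedBy (normalizerIn T X) X : Subgroup (MulAut X)) : Set (MulAut X)) := by
      apply mem_normalizer_of_forall_conj_mem
      intro b hb
      obtain ⟨r, hr, hn, rfl⟩ := autInducedBy_eq_conjAut hb
      obtain ⟨hN, he⟩ := lift_conjAut hXR hres hr hn
      rw [← he]
      exact conjAut_mem_autInducedBy (hβN ⟨r, hr⟩) hN
    obtain ⟨ε, hε, hεres⟩ := q.exists_E_lift hXR le_rfl hfn hκK hκN
    refine q.lift_unique_mem hXR hε hβ (fun x hx => ?_)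
    rw [hεres x hx x.2, hres x hx x.2]
  · -- the general case
    have hBTb : autInducedBy R X ≤ autInducedBy T X := autInducedBy_mono hRT
    obtain ⟨η, hηK, -, hfn⟩ := q.tAut_isSylIn.exists_fn_conj hBTb
    set B₀ := (autInducedBy R X).map (MulAut.conj η).toMonoidHom with hB₀
    have hNB₀ : ∀ {ζ b : MulAut X}, ζ ∈ Subgroup.normalizer ((B₀ : Subgroup (MulAut X)) : Set (MulAut X)) →
        (b ∈ B₀ ↔ ζ * b * ζ⁻¹ ∈ B₀) := fun hζ => Subgroup.mem_normalizer_iff.mp hζ _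
    obtain ⟨ζ₁, hζ₁, b₁, hb₁, hres₁⟩ := q.straighten IH hXR hRN hd hne hfn hηK
      (fun b => conj_mem_map_conj_iff.symm)
    -- the image of `β`
    set R'' := β.range with hR''
    have hXR'' : X ≤ R'' := by
      intro x hx
      refine ⟨⟨((κ⁻¹ ⟨x, hx⟩ : X) : Ω), hXR (κ⁻¹ ⟨x, hx⟩).2⟩, ?_⟩
      rw [hres _ (κ⁻¹ ⟨x, hx⟩).2]
      show ((κ (κ⁻¹ ⟨x, hx⟩) : X) : Ω) = x
      rw [MulAut.apply_inv_self]
    have hR''N : R'' ≤ normalizerIn T X := by
      rintro _ ⟨g, rfl⟩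
      exact hβN g
    have hcard : Nat.card R'' = Nat.card R := card_of_isConj F ⟨β, hβ, rfl⟩
    haveI : Finite R := finite_of_le hRS
    have hlt : Nat.card R < Nat.card (normalizerIn T X) := by
      obtain ⟨g₀, hg₀, hg₀R⟩ := SetLike.not_le_iff_exists.mp (fun h : normalizerIn T X ≤ R => hne (le_antisymm hRN h))
      exact card_lt_of_le_of_not_mem hRN hg₀ hg₀R
    have hne'' : R'' ≠ normalizerIn T X := by
      intro h
      rw [h] at hcard
      omega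
    have hηκK : η * κ⁻¹ ∈ kAut F p T X := Subgroup.mul_mem _ hηK (Subgroup.inv_mem _ hκK)
    have hβconj : ∀ (r : Ω) (hr : r ∈ R) (hn : r ∈ Subgroup.normalizer (X : Set Ω))
        (hN : β ⟨r, hr⟩ ∈ Subgroup.normalizer (X : Set Ω)),
        conjAut X (β ⟨r, hr⟩) hN = κ * conjAut X r hn * κ⁻¹ := by
      intro r hr hn hN
      obtain ⟨_, he⟩ := lift_conjAut hXR hres hr hn
      exact he
    have hB₀'' : ∀ b, b ∈ autInducedBy R'' X ↔ η * κ⁻¹ * b * (η * κ⁻¹)⁻¹ ∈ B₀ := by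
      intro b
      constructor
      · intro hb
        obtain ⟨y, hy, hn, rfl⟩ := autInducedBy_eq_conjAut hb
        obtain ⟨⟨r, hr⟩, rfl⟩ := hy
        rw [hβconj r hr (hRN hr).2 hn]
        have e : η * κ⁻¹ * (κ * conjAut X r (hRN hr).2 * κ⁻¹) * (η * κ⁻¹)⁻¹ =
            η * conjAut X r (hRN hr).2 * η⁻¹ := by group
        rw [e]
        exact conj_mem_map_conj_iff.mpr (conjAut_mem_autInducedBy hr (hRN hr).2)
      · intro hb
        have e : η * κ⁻¹ * b * (η * κ⁻¹)⁻¹ = η * (κ⁻¹ * b * κ) * η⁻¹ := by group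
        rw [e] at hb
        have hb' := conj_mem_map_conj_iff.mp hb
        obtain ⟨r, hr, hn, hbr⟩ := autInducedBy_eq_conjAut hb'
        have e2 : b = κ * conjAut X r hn * κ⁻¹ := by
          rw [← hbr]; group
        rw [e2, ← hβconj r hr hn (hβN ⟨r, hr⟩).2]
        exact conjAut_mem_autInducedBy (show β ⟨r, hr⟩ ∈ R'' from ⟨⟨r, hr⟩, rfl⟩) _
    obtain ⟨ζ₂, hζ₂, b₂, hb₂, hres₂⟩ := q.straighten IH hXR'' hR''N (by rw [hcard]; exact hd) hne'' hfn hηκK hB₀''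
    -- the common target
    set R₀ := b₁.range with hR₀
    have hb₁F : b₁ ∈ F.Hom R := q.E_le hb₁
    have hb₁N : ∀ g : R, b₁ g ∈ normalizerIn T X := q.lift_mem_normalizerIn hXR hRN hb₁F hres₁
    have hXR₀ : X ≤ R₀ := by
      intro x hx
      refine ⟨⟨(((ζ₁ * η)⁻¹ ⟨x, hx⟩ : X) : Ω), hXR ((ζ₁ * η)⁻¹ ⟨x, hx⟩).2⟩, ?_⟩
      rw [hres₁ _ ((ζ₁ * η)⁻¹ ⟨x, hx⟩).2]
      show (((ζ₁ * η) ((ζ₁ * η)⁻¹ ⟨x, hx⟩) : X) : Ω) = x
      rw [MulAut.apply_inv_self]
    have hR₀N : R₀ ≤ normalizerIn T X := by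
      rintro _ ⟨g, rfl⟩
      exact hb₁N g
    have hb₁conj : ∀ (r : Ω) (hr : r ∈ R) (hn : r ∈ Subgroup.normalizer (X : Set Ω))
        (hN : b₁ ⟨r, hr⟩ ∈ Subgroup.normalizer (X : Set Ω)),
        conjAut X (b₁ ⟨r, hr⟩) hN = ζ₁ * η * conjAut X r hn * (ζ₁ * η)⁻¹ := by
      intro r hr hn hN
      obtain ⟨_, he⟩ := lift_conjAut hXR hres₁ hr hn
      exact he
    have hAut : autInducedBy R₀ X = B₀ := by
      ext b
      constructor
      · intro hb
        obtain ⟨y, hy, hn, rfl⟩ := autInducedBy_eq_conjAut hb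
        obtain ⟨⟨r, hr⟩, rfl⟩ := hy
        rw [hb₁conj r hr (hRN hr).2 hn]
        have e : ζ₁ * η * conjAut X r (hRN hr).2 * (ζ₁ * η)⁻¹ =
            ζ₁ * (η * conjAut X r (hRN hr).2 * η⁻¹) * ζ₁⁻¹ := by group
        rw [e]
        exact (hNB₀ hζ₁.2).mp (conj_mem_map_conj_iff.mpr (conjAut_mem_autInducedBy hr (hRN hr).2))
      · intro hb
        have h1 : ζ₁⁻¹ * b * ζ₁ ∈ B₀ := by
          have h2 := (hNB₀ (Subgroup.inv_mem _ hζ₁.2)).mp hb
          rwa [inv_inv] at h2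
        have h3 : η⁻¹ * (ζ₁⁻¹ * b * ζ₁) * η ∈ autInducedBy R X := mem_map_conj_iff.mp h1
        obtain ⟨r, hr, hn, hbr⟩ := autInducedBy_eq_conjAut h3
        have e2 : b = ζ₁ * η * conjAut X r hn * (ζ₁ * η)⁻¹ := by
          rw [← hbr]; group
        rw [e2, ← hb₁conj r hr hn (hb₁N ⟨r, hr⟩).2]
        exact conjAut_mem_autInducedBy (show b₁ ⟨r, hr⟩ ∈ R₀ from ⟨⟨r, hr⟩, rfl⟩) _
    have hνK : ζ₂ * ζ₁⁻¹ ∈ kAut F p T X := Subgroup.mul_mem _ hζ₂.1 (Subgroup.inv_mem _ hζ₁.1)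
    have hνN : ζ₂ * ζ₁⁻¹ ∈ Subgroup.normalizer ((autInducedBy R₀ X : Subgroup (MulAut X)) : Set (MulAut X)) := by
      rw [hAut]
      exact Subgroup.mul_mem _ hζ₂.2 (Subgroup.inv_mem _ hζ₁.2)
    obtain ⟨ε, hε, hεres⟩ := q.exists_E_lift hXR₀ hR₀N (by rw [hAut]; exact hfn) hνK hνN
    -- the two composites
    have hmem₁ : ∀ x : R, b₁ x ∈ R₀ := fun x => ⟨x, rfl⟩
    have hχ₁ : ε.comp (b₁.codRestrict R₀ hmem₁) ∈ q.E.Hom R := q.E.comp_mem hb₁ hε hmem₁
    have hχ₁res : Restr (ε.comp (b₁.codRestrict R₀ hmem₁)) (ζ₂ * ζ₁⁻¹ * (ζ₁ * η)) :=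
      Restr.comp hmem₁ (fun x => rfl) hres₁ hεres
    have hmem₂ : ∀ x : R, β x ∈ R'' := fun x => ⟨x, rfl⟩
    have hχ₂ : b₂.comp (β.codRestrict R'' hmem₂) ∈ F.Hom R := F.comp_mem hβ (q.E_le hb₂) hmem₂
    have hχ₂res : Restr (b₂.comp (β.codRestrict R'' hmem₂)) (ζ₂ * (η * κ⁻¹) * κ) :=
      Restr.comp hmem₂ (fun x => rfl) hres hres₂
    have heq : ζ₂ * ζ₁⁻¹ * (ζ₁ * η) = ζ₂ * (η * κ⁻¹) * κ := by group
    have hχ₂E : b₂.comp (β.codRestrict R'' hmem₂) ∈ q.E.Hom R := by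
      refine q.lift_unique_mem hXR hχ₁ hχ₂ (fun x hx => ?_)
      rw [hχ₁res x hx x.2, hχ₂res x hx x.2, heq]
    obtain ⟨ψ, hψ, hψx⟩ := q.E.inv_mem hb₂
    have hmem₃ : ∀ x : R, (b₂.comp (β.codRestrict R'' hmem₂)) x ∈ b₂.range := fun x => ⟨⟨β x, hmem₂ x⟩, rfl⟩
    refine comp_mem' q.E hχ₂E hψ hmem₃ (fun x => ?_)
    exact (hψx ⟨β x, hmem₂ x⟩).symm

end QCtx

end Cfsg.Agent.Lib.Helper88
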