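import Cfsg.Agent.Lib.Helper88.FusionHP11

set_option autoImplicit false
open Cfsg

namespace Cfsg.Agent.Lib.Helper88

open Cfsg.FusionSystem Cfsg.Agent.Lib.Helper87
open Cfsg.Agent.Lib.Helper91 (isCentric_of_isConj)

variable {Ω : Type*} [Group Ω] {S T : Subgroup Ω}

/-- The invariant of an automorphism of `X`: `α = o c_n` with `o ∈ O^p(Aut_F(X))` and `n ∈ N_S(X)` has invariant
`lam n`. -/
def Th0 (F : FusionSystem S) (p : ℕ) {Z : Type*} (lam : Ω → Z) (X : Subgroup Ω) (α : MulAut X) (z : Z) : Prop :=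
  ∃ o ∈ resAut F p X, ∃ n, ∃ hn : n ∈ normalizerIn S X, α = o * conjAut X n hn.2 ∧ lam n = z

/-- The hypotheses of the inductive step. -/
structure WCtx [Finite S] (p : ℕ) (F : FusionSystem S) (T X : Subgroup Ω) {Z : Type*} [CommGroup Z] (lam : Ω → Z) :
    Prop where
  q : QCtx p F T X
  hmul : ∀ a ∈ S, ∀ b ∈ S, lam (a * b) = lam a * lam b
  hker : ∀ s ∈ S, lam s = 1 ↔ s ∈ T
  hlt : Nat.card X < Nat.card T
  hW : ∀ Q : Subgroup Ω, Q ≤ T → F.IsCentric Q → Nat.card X < Nat.card Q → ∀ w ∈ S,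
    conjHom Q w ∈ q.E.Hom Q → w ∈ T

namespace WCtx

variable [Finite S] {p : ℕ} [Fact p.Prime] {F : FusionSystem S} {X : Subgroup Ω} {Z : Type*} [CommGroup Z]
  {lam : Ω → Z}

omit [Fact (Nat.Prime p)] in
theorem lam_one (w : WCtx p F T X lam) : lam 1 = 1 := (w.hker 1 S.one_mem).mpr T.one_mem

omit [Fact (Nat.Prime p)] in
theorem lam_inv (w : WCtx p F T X lam) {a : Ω} (ha : a ∈ S) : lam a⁻¹ = (lam a)⁻¹ := by
  apply eq_inv_of_mul_eq_one_left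
  rw [← w.hmul _ (S.inv_mem ha) _ ha, inv_mul_cancel, w.lam_one]

omit [Fact (Nat.Prime p)] in
theorem lam_eq_of_mul_inv_mem (w : WCtx p F T X lam) {a b : Ω} (ha : a ∈ S) (hb : b ∈ S) (h : a * b⁻¹ ∈ T) :
    lam a = lam b := by
  have h1 := (w.hker _ (S.mul_mem ha (S.inv_mem hb))).mpr h
  rw [w.hmul _ ha _ (S.inv_mem hb), w.lam_inv hb] at h1
  exact mul_inv_eq_one.mp h1

theorem th0_unique (w : WCtx p F T X lam) {α : MulAut X} {z z' : Z} (h : Th0 F p lam X α z)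
    (h' : Th0 F p lam X α z') : z = z' := by
  obtain ⟨o, ho, n, hn, rfl, rfl⟩ := h
  obtain ⟨o', ho', n', hn', he, rfl⟩ := h'
  have hN : n * n'⁻¹ ∈ Subgroup.normalizer (X : Set Ω) := Subgroup.mul_mem _ hn.2 (Subgroup.inv_mem _ hn'.2)
  have e1 : conjAut X (n * n'⁻¹) hN = o⁻¹ * o' := by
    rw [conjAut_mul_eq hn.2 (Subgroup.inv_mem _ hn'.2), conjAut_inv_eq hn'.2]
    have : conjAut X n hn.2 = o⁻¹ * o' * conjAut X n' hn'.2 := by
      rw [mul_assoc, ← he]; group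
    rw [this]; group
  have h1 : conjAut X (n * n'⁻¹) hN ∈ autInducedBy T X := by
    apply w.q.resAut_inf_sAut_le
    refine ⟨?_, conjAut_mem_autInducedBy (S.mul_mem hn.1 (S.inv_mem hn'.1)) hN⟩
    rw [e1]
    exact Subgroup.mul_mem _ (Subgroup.inv_mem _ ho) ho'
  have h2 := w.q.mem_of_conjAut_mem w.q.hXT w.q.hTS (S.mul_mem hn.1 (S.inv_mem hn'.1)) hN h1
  exact w.lam_eq_of_mul_inv_mem hn.1 hn'.1 h2

omit [Fact (Nat.Prime p)] in
theorem th0_mul (w : WCtx p F T X lam) {α α' : MulAut X} {z z' : Z} (h : Th0 F p lam X α z)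
    (h' : Th0 F p lam X α' z') : Th0 F p lam X (α * α') (z * z') := by
  obtain ⟨o, ho, n, hn, rfl, rfl⟩ := h
  obtain ⟨o', ho', n', hn', rfl, rfl⟩ := h'
  have hN : n * n' ∈ normalizerIn S X := Subgroup.mul_mem _ hn hn'
  refine ⟨o * (conjAut X n hn.2 * o' * (conjAut X n hn.2)⁻¹), ?_, n * n', hN, ?_, w.hmul _ hn.1 _ hn'.1⟩
  · exact Subgroup.mul_mem _ ho (resAut_conj F p X (w.q.sAut_le (conjAut_mem_autInducedBy hn.1 hn.2)) ho')
  · rw [conjAut_mul_eq hn.2 hn'.2]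
    group

omit [Fact (Nat.Prime p)] in
theorem th0_inv (w : WCtx p F T X lam) {α : MulAut X} {z : Z} (h : Th0 F p lam X α z) :
    Th0 F p lam X α⁻¹ z⁻¹ := by
  obtain ⟨o, ho, n, hn, rfl, rfl⟩ := h
  have hN : n⁻¹ ∈ normalizerIn S X := Subgroup.inv_mem _ hn
  refine ⟨(conjAut X n hn.2)⁻¹ * o⁻¹ * (conjAut X n hn.2)⁻¹⁻¹, ?_, n⁻¹, hN, ?_, w.lam_inv hn.1⟩
  · exact resAut_conj F p X (Subgroup.inv_mem _ (w.q.sAut_le (conjAut_mem_autInducedBy hn.1 hn.2)))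
      (Subgroup.inv_mem _ ho)
  · rw [conjAut_inv_eq hn.2]
    group

omit [Fact (Nat.Prime p)] in
theorem th0_of_mem_kAut (w : WCtx p F T X lam) {κ : MulAut X} (hκ : κ ∈ kAut F p T X) : Th0 F p lam X κ 1 := by
  obtain ⟨τ, hτ, o, ho, rfl⟩ := w.q.exists_mul_of_mem_kAut hκ
  obtain ⟨t, ht, hn, rfl⟩ := autInducedBy_eq_conjAut hτ
  refine ⟨conjAut X t hn * o * (conjAut X t hn)⁻¹, ?_, t, ⟨w.q.hTS ht, hn⟩, by group,
    (w.hker t (w.q.hTS ht)).mpr ht⟩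
  exact resAut_conj F p X (w.q.sAut_le (conjAut_mem_autInducedBy (w.q.hTS ht) hn)) ho

omit [Fact (Nat.Prime p)] in
/-- If a map of the generated system on a large centric subgroup is conjugation by `v ∈ S` composed with a map of the
generated system, then `v ∈ T`. -/
theorem mem_of_dec (w : WCtx p F T X lam) {P : Subgroup Ω} (hP : F.IsCentric P)
    (hlt : Nat.card X < Nat.card P) {φ : P →* Ω} (hφ : φ ∈ w.q.E.Hom P) {v : Ω} (hv : v ∈ S)
    (hdec : Dec w.q.E φ v) : v ∈ T := by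
  obtain ⟨φ₀, hφ₀, hx⟩ := hdec
  obtain ⟨ψ₀, hψ₀, hψ₀x⟩ := w.q.E.inv_mem hφ₀
  have hQ'T : φ₀.range ≤ T := by
    rintro _ ⟨x, rfl⟩
    exact (w.q.E.le_of_mem hφ₀).2 x
  have hψP : ∀ y, ψ₀ y ∈ P := by
    rintro ⟨_, x, rfl⟩
    rw [hψ₀x]
    exact x.2
  have hconjE : conjHom φ₀.range v ∈ w.q.E.Hom φ₀.range := by
    refine comp_mem' w.q.E hψ₀ hφ hψP ?_
    rintro ⟨_, x, rfl⟩
    have e1 : (⟨ψ₀ ⟨φ₀ x, ⟨x, rfl⟩⟩, hψP _⟩ : P) = x := Subtype.ext (hψ₀x x)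
    rw [e1, hx x]
    rfl
  have hconj : F.IsConj P φ₀.range := ⟨φ₀, w.q.E_le hφ₀, rfl⟩
  have hcen : F.IsCentric φ₀.range := isCentric_of_isConj F hP hconj
  have hcard : Nat.card φ₀.range = Nat.card P := card_of_isConj F hconj
  exact w.hW _ hQ'T hcen (by rw [hcard]; exact hlt) v hv hconjE

/-- The invariant of an automorphism admitting a lift to a larger subgroup of `N_T(X)` is read off from a
decomposition of the lift. -/
theorem th0_of_lift (w : WCtx p F T X lam) {R : Subgroup Ω} (hXR : X ≤ R) (hRN : R ≤ normalizerIn T X)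
    (hlt : Nat.card X < Nat.card R) {β : R →* Ω} (hβ : β ∈ F.Hom R) {α : MulAut X} (hres : Restr β α)
    {g : Ω} (hg : g ∈ S) (hdec : Dec w.q.E β g) : Th0 F p lam X α (lam g) := by
  have hTS := w.q.hTS
  have hRT : R ≤ T := hRN.trans (normalizerIn_le T X)
  have hRS : R ≤ S := hRT.trans hTS
  have hαA : α ∈ F.autGroup X := hres.mem_autGroup F hβ hXR
  obtain ⟨o, ho, σ, hσ, rfl⟩ := w.q.exists_mul_of_mem_autGroup hαA
  obtain ⟨m, hmS, hmN, rfl⟩ := autInducedBy_eq_conjAut hσ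
  refine ⟨o, ho, m, ⟨hmS, hmN⟩, rfl, ?_⟩
  have hmiS : m⁻¹ ∈ S := S.inv_mem hmS
  have hmiN : m⁻¹ ∈ Subgroup.normalizer (X : Set Ω) := Subgroup.inv_mem _ hmN
  -- the conjugate of `R` by `m`
  set R' := R.map (MulAut.conj m).toMonoidHom with hR'
  have hR'T : R' ≤ T := by
    rintro _ ⟨r, hr, rfl⟩
    exact w.q.conj_mem_T hmS (hRT hr)
  have hR'N : R' ≤ normalizerIn T X := by
    rintro _ ⟨r, hr, rfl⟩
    exact ⟨w.q.conj_mem_T hmS (hRT hr), Subgroup.mul_mem _ (Subgroup.mul_mem _ hmN (hRN hr).2) hmiN⟩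
  have hXR' : X ≤ R' := by
    intro x hx
    refine ⟨m⁻¹ * x * m⁻¹⁻¹, hXR ((Subgroup.mem_normalizer_iff.mp hmiN x).mp hx), ?_⟩
    show m * (m⁻¹ * x * m⁻¹⁻¹) * m⁻¹ = x
    group
  have hmem : ∀ y : R', conjHom R' m⁻¹ y ∈ R := by
    rintro ⟨_, r, hr, rfl⟩
    show m⁻¹ * (m * r * m⁻¹) * m⁻¹⁻¹ ∈ R
    have e : m⁻¹ * (m * r * m⁻¹) * m⁻¹⁻¹ = r := by group
    rw [e]
    exact hr
  have hdec' : Dec w.q.E (β.comp ((conjHom R' m⁻¹).codRestrict R hmem)) (g * m⁻¹) :=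
    w.q.dec_comp hmiS (Dec.conjHom hR'T m⁻¹) hdec hmem
  have hβ' : β.comp ((conjHom R' m⁻¹).codRestrict R hmem) ∈ F.Hom R' :=
    F.comp_mem (F.conj_mem (hR'T.trans hTS) hmiS) hβ hmem
  have hres' : Restr (β.comp ((conjHom R' m⁻¹).codRestrict R hmem)) o := by
    have h1 := Restr.comp hmem (χ := β.comp ((conjHom R' m⁻¹).codRestrict R hmem)) (fun x => rfl)
      (restr_conjHom (R := R') hmiN) hres
    have e : o * conjAut X m hmN * conjAut X m⁻¹ hmiN = o := by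
      rw [conjAut_inv_eq hmN]; group
    rwa [e] at h1
  have hβ'E := w.q.lift_mem_E _ R' hXR' hR'N rfl o (le_sup_right (a := autInducedBy T X) ho) _ hβ' hres'
  have hcen : F.IsCentric R' := isCentric_of_le F w.q.hXc hXR' (hR'T.trans hTS)
  have hcard : Nat.card R' = Nat.card R :=
    card_of_isConj F ⟨conjHom R m, F.conj_mem hRS hmS, by
      ext y
      constructor
      · rintro ⟨r, rfl⟩
        exact ⟨r, r.2, rfl⟩
      · rintro ⟨r, hr, rfl⟩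
        exact ⟨⟨r, hr⟩, rfl⟩⟩
  have hT := w.mem_of_dec hcen (by rw [hcard]; exact hlt) hβ'E (S.mul_mem hg hmiS) hdec'
  exact (w.lam_eq_of_mul_inv_mem hg hmS hT).symm

end WCtx

end Cfsg.Agent.Lib.Helper88
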