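import Cfsg.Agent.Lib.Helper88.FusionHP12

set_option autoImplicit false
open Cfsg

namespace Cfsg.Agent.Lib.Helper88

open Cfsg.FusionSystem Cfsg.Agent.Lib.Helper87
open Cfsg.Agent.Lib.Helper89 (fullSubsystem mem_fullSubsystem_iff autGroup_fullSubsystem)
open Cfsg.Agent.Lib.Helper91 (isCentric_of_isConj)

variable {Ω : Type*} [Group Ω] {S T : Subgroup Ω}

theorem HPCtx.mem_full_iff [Finite S] {p : ℕ} {F : FusionSystem S} (c : HPCtx p F T) {P : Subgroup Ω} (hPT : P ≤ T)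
    {φ : P →* Ω} : φ ∈ (fullSubsystem F T c.hTS).Hom P ↔ φ ∈ F.Hom P :=
  ⟨fun h => h.1, fun h => ⟨h, hPT, c.hsc.2 P hPT φ h⟩⟩

/-- A reference map for `X'`: a map of `F` defined on `N_T(X')`, carrying `X'` onto `X`, with the invariant of a
decomposition. -/
def IsRef (F : FusionSystem S) (E : FusionSystem T) {Z : Type*} (lam : Ω → Z) (X X' : Subgroup Ω)
    (u : normalizerIn T X' →* Ω) (r : Z) : Prop :=
  u ∈ F.Hom (normalizerIn T X') ∧ img u X' = X ∧ ∃ g ∈ S, Dec E u g ∧ lam g = r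

namespace WCtx

variable [Finite S] {p : ℕ} [Fact p.Prime] {F : FusionSystem S} {X : Subgroup Ω} {Z : Type*} [CommGroup Z]
  {lam : Ω → Z}

theorem exists_ref (w : WCtx p F T X lam) {X' : Subgroup Ω} (hX'T : X' ≤ T) (hconj : F.IsConj X' X) :
    ∃ (u : normalizerIn T X' →* Ω) (r : Z), IsRef F w.q.E lam X X' u r := by
  have hTS := w.q.hTS
  have hfa : F.IsFullyAutomized p X := (fullyNormalized_props p w.q.hS F w.q.hF X w.q.hXfn).2
  obtain ⟨φ, hφ, -, hmap, hφX⟩ := exists_normalizer_hom p w.q.hS F X X' hfa w.q.hrec hconj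
  have hNN : normalizerIn T X' ≤ normalizerIn S X' := fun g hg => ⟨hTS hg.1, hg.2⟩
  have hu : φ.comp (Subgroup.inclusion hNN) ∈ F.Hom (normalizerIn T X') := restrict_mem F hNN hφ
  obtain ⟨g, hg, hdec⟩ := w.q.frattini (normalizerIn T X') (normalizerIn_le T X') _ hu
  refine ⟨φ.comp (Subgroup.inclusion hNN), lam g, hu, ?_, g, hg, hdec, rfl⟩
  ext y
  rw [mem_img]
  constructor
  · rintro ⟨x, hA, hx, rfl⟩
    exact hφX ⟨x, hNN hA⟩ hx
  · intro hy
    rw [← hmap] at hy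
    obtain ⟨x', hx', rfl⟩ := hy
    have hx'' : (x' : Ω) ∈ X' := Subgroup.mem_subgroupOf.mp hx'
    exact ⟨x', ⟨hX'T hx'', x'.2.2⟩, hx'', rfl⟩

/-- The key lemma: the invariant of the automorphism induced, through reference maps, by a map defined on a subgroup
of `N_T(X')` properly containing `X'`. -/
theorem th0_of_rel3 (w : WCtx p F T X lam) {R X' Y : Subgroup Ω} (hX'R : X' ≤ R) (hRN : R ≤ normalizerIn T X')
    (hlt : Nat.card X' < Nat.card R) (hcX' : Nat.card X' = Nat.card X)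
    {φ₁ : R →* Ω} (hφ₁ : φ₁ ∈ F.Hom R) (hY : img φ₁ X' = Y) {g : Ω} (hg : g ∈ S) (hdec : Dec w.q.E φ₁ g)
    {u : normalizerIn T X' →* Ω} {ru : Z} (hu : IsRef F w.q.E lam X X' u ru)
    {v : normalizerIn T Y →* Ω} {rv : Z} (hv : IsRef F w.q.E lam X Y v rv)
    {α : MulAut X} (hα : Rel3 φ₁ u v α) : Th0 F p lam X α (rv * lam g * ru⁻¹) := by
  have hTS := w.q.hTS
  haveI := w.q.finT
  obtain ⟨huF, huX, gu, hguS, hdu, rfl⟩ := hu
  obtain ⟨hvF, hvY, gv, hgvS, hdv, rfl⟩ := hv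
  have hRT : R ≤ T := hRN.trans (normalizerIn_le T X')
  have hX'T : X' ≤ T := hX'R.trans hRT
  have hu₁ : u.comp (Subgroup.inclusion hRN) ∈ F.Hom R := restrict_mem F hRN huF
  have hdu₁ : Dec w.q.E (u.comp (Subgroup.inclusion hRN)) gu := hdu.restrict hRN
  obtain ⟨ui, hui, huix⟩ := F.inv_mem hu₁
  have hdui : Dec w.q.E ui gu⁻¹ := w.q.dec_inv hguS hdu₁ ui huix
  have h1 : ∀ y : (u.comp (Subgroup.inclusion hRN)).range, ui y ∈ R := by
    rintro ⟨_, x, rfl⟩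
    rw [huix]
    exact x.2
  have hdχ : Dec w.q.E (φ₁.comp (ui.codRestrict R h1)) (g * gu⁻¹) :=
    w.q.dec_comp (S.inv_mem hguS) hdui hdec h1
  have hφ₁N : ∀ x : R, φ₁ x ∈ normalizerIn T Y := by
    intro x
    have := apply_mem_normalizerIn_img (S := T) (fullSubsystem F T hTS) ((w.q.mem_full_iff hRT).mpr hφ₁) hX'R hRN x
    rwa [hY] at this
  have h2 : ∀ y, (φ₁.comp (ui.codRestrict R h1)) y ∈ normalizerIn T Y := fun y => hφ₁N _
  have hdβ : Dec w.q.E (v.comp ((φ₁.comp (ui.codRestrict R h1)).codRestrict _ h2)) (gv * (g * gu⁻¹)) :=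
    w.q.dec_comp (S.mul_mem hg (S.inv_mem hguS)) hdχ hdv h2
  have hβ : v.comp ((φ₁.comp (ui.codRestrict R h1)).codRestrict _ h2) ∈
      F.Hom (u.comp (Subgroup.inclusion hRN)).range := F.comp_mem (F.comp_mem hui hφ₁ h1) hvF h2
  have hXR₁ : X ≤ (u.comp (Subgroup.inclusion hRN)).range := by
    intro y hy
    rw [← huX] at hy
    obtain ⟨x, hxN, hxX, rfl⟩ := (mem_img u X' y).mp hy
    exact ⟨⟨x, hX'R hxX⟩, rfl⟩
  have huN : ∀ x, u x ∈ normalizerIn T X := by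
    intro x
    have := apply_mem_normalizerIn_img (S := T) (fullSubsystem F T hTS)
      ((w.q.mem_full_iff (normalizerIn_le T X')).mpr huF) (le_normalizerIn hX'T) le_rfl x
    rwa [huX] at this
  have hR₁N : (u.comp (Subgroup.inclusion hRN)).range ≤ normalizerIn T X := by
    rintro _ ⟨x, rfl⟩
    exact huN _
  have hcard : Nat.card (u.comp (Subgroup.inclusion hRN)).range = Nat.card R :=
    card_of_isConj F ⟨_, hu₁, rfl⟩
  have hres : Restr (v.comp ((φ₁.comp (ui.codRestrict R h1)).codRestrict _ h2)) α := by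
    intro y hy hyR
    have hy' := hy
    rw [← huX] at hy'
    obtain ⟨x, hxN, hxX, hxy⟩ := (mem_img u X' y).mp hy'
    subst hxy
    have e := huix ⟨x, hX'R hxX⟩
    have h3 := hα x (hX'R hxX) hxN (hφ₁N _) hy hxX
    rw [← h3]
    show v ⟨φ₁ ⟨ui ⟨u ⟨x, hxN⟩, hyR⟩, h1 _⟩, h2 _⟩ = _
    congr 1
    apply Subtype.ext
    show φ₁ ⟨ui ⟨u ⟨x, hxN⟩, hyR⟩, h1 _⟩ = φ₁ ⟨x, hX'R hxX⟩
    congr 1
    apply Subtype.ext
    exact e
  have h4 := w.th0_of_lift hXR₁ hR₁N (by rw [hcard, ← hcX']; exact hlt) hβ hres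
    (S.mul_mem hgvS (S.mul_mem hg (S.inv_mem hguS))) hdβ
  have e5 : lam (gv * (g * gu⁻¹)) = lam gv * lam g * (lam gu)⁻¹ := by
    rw [w.hmul _ hgvS _ (S.mul_mem hg (S.inv_mem hguS)), w.hmul _ hg _ (S.inv_mem hguS), w.lam_inv hguS, mul_assoc]
  rwa [e5] at h4

end WCtx

end Cfsg.Agent.Lib.Helper88
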