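import Cfsg.Agent.Lib.Helper88.FusionHP13

set_option autoImplicit false
open Cfsg

namespace Cfsg.Agent.Lib.Helper88

open Cfsg.FusionSystem Cfsg.Agent.Lib.Helper87
open Cfsg.Agent.Lib.Helper89 (fullSubsystem mem_fullSubsystem_iff autGroup_fullSubsystem)
open Cfsg.Agent.Lib.Helper91 (isCentric_of_isConj)

variable {Ω : Type*} [Group Ω] {S T : Subgroup Ω}

namespace WCtx

variable [Finite S] {p : ℕ} [Fact p.Prime] {F : FusionSystem S} {X : Subgroup Ω} {Z : Type*} [CommGroup Z]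
  {lam : Ω → Z}

/-- The predicate propagated along the generation of the system. -/
def PhiW (w : WCtx p F T X lam) (B : Subgroup Ω) (φ : B →* Ω) : Prop :=
  ∀ X' : Subgroup Ω, X' ≤ B → F.IsConj X X' → ∀ Y : Subgroup Ω, img φ X' = Y →
    ∀ (u : normalizerIn T X' →* Ω) (ru : Z), IsRef F w.q.E lam X X' u ru →
    ∀ (v : normalizerIn T Y →* Ω) (rv : Z), IsRef F w.q.E lam X Y v rv →
      ∀ α : MulAut X, Rel3 φ u v α → Th0 F p lam X α (rv * ru⁻¹)

/-- The conclusion of the predicate at a proper subgroup `X'` of the source of a map of the generated system. -/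
theorem phiW_at_of_ne (w : WCtx p F T X lam) {A : Subgroup Ω} {φ : A →* Ω} (hφ : φ ∈ w.q.E.Hom A)
    {X' : Subgroup Ω} (hX'A : X' ≤ A) (hne : X' ≠ A) (hconj : F.IsConj X X') {Y : Subgroup Ω} (hY : img φ X' = Y)
    {u : normalizerIn T X' →* Ω} {ru : Z} (hu : IsRef F w.q.E lam X X' u ru)
    {v : normalizerIn T Y →* Ω} {rv : Z} (hv : IsRef F w.q.E lam X Y v rv)
    {α : MulAut X} (hα : Rel3 φ u v α) : Th0 F p lam X α (rv * ru⁻¹) := by
  have hTS := w.q.hTS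
  have hAT : A ≤ T := (w.q.E.le_of_mem hφ).1
  have hAS : A ≤ S := hAT.trans hTS
  haveI : Finite A := finite_of_le hAS
  obtain ⟨s, hsN, hsX⟩ := Cfsg.Agent.Lib.Helper89.exists_mem_normalizerIn_not_mem (w.q.hS.to_le hAS) hX'A hne
  have hRA : normalizerIn A X' ≤ A := normalizerIn_le A X'
  haveI : Finite (normalizerIn A X') := finite_of_le (hRA.trans hAS)
  have hXR : X' ≤ normalizerIn A X' := le_normalizerIn hX'A
  have hRN : normalizerIn A X' ≤ normalizerIn T X' := fun g hg => ⟨hAT hg.1, hg.2⟩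
  have hcard : Nat.card X' < Nat.card (normalizerIn A X') := card_lt_of_le_of_not_mem hXR hsN hsX
  have hφR : φ.comp (Subgroup.inclusion hRA) ∈ w.q.E.Hom (normalizerIn A X') := restrict_mem w.q.E hRA hφ
  have h := w.th0_of_rel3 hXR hRN hcard (card_of_isConj F hconj) (w.q.E_le hφR)
    ((img_restrict φ hRA hXR).trans hY) S.one_mem (Dec.of_mem hφR) hu hv
    (fun x hxR hxN hφN huP hxX => hα x (hRA hxR) hxN hφN huP hxX)
  rwa [w.lam_one, mul_one] at h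

theorem card_lt_normalizerIn (w : WCtx p F T X lam) {X' : Subgroup Ω} (hX'T : X' ≤ T) (hconj : F.IsConj X X') :
    Nat.card X' < Nat.card (normalizerIn T X') := by
  haveI := w.q.finT
  have hcX : Nat.card X' = Nat.card X := card_of_isConj F hconj
  have hne : X' ≠ T := by
    rintro rfl
    have := w.hlt
    omega
  obtain ⟨s, hsN, hsX⟩ := Cfsg.Agent.Lib.Helper89.exists_mem_normalizerIn_not_mem (w.q.hS.to_le w.q.hTS) hX'T hne
  haveI : Finite (normalizerIn T X') := finite_of_le (normalizerIn_le T X')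
  exact card_lt_of_le_of_not_mem (le_normalizerIn hX'T) hsN hsX

theorem phiW_conj (w : WCtx p F T X lam) {A : Subgroup Ω} {t : Ω} (hAT : A ≤ T) (ht : t ∈ T) :
    w.PhiW A (conjHom A t) := by
  intro X' hX'A hconj Y hY u ru hu v rv hv α hα
  have hTS := w.q.hTS
  have hX'T : X' ≤ T := hX'A.trans hAT
  have hXN : X' ≤ normalizerIn T X' := le_normalizerIn hX'T
  have hNS : normalizerIn T X' ≤ S := (normalizerIn_le T X').trans hTS
  have hY' : img (conjHom (normalizerIn T X') t) X' = Y := by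
    rw [img_conjHom t hXN, ← img_conjHom t hX'A]
    exact hY
  have h := w.th0_of_rel3 hXN le_rfl (w.card_lt_normalizerIn hX'T hconj) (card_of_isConj F hconj)
    (F.conj_mem hNS (hTS ht)) hY' (hTS ht) (Dec.conjHom (normalizerIn_le T X') t) hu hv
    (fun x hxR hxN hφN huP hxX => hα x (hX'A hxX) hxN hφN huP hxX)
  rwa [(w.hker t (hTS ht)).mpr ht, mul_one] at h

theorem phiW_comp (w : WCtx p F T X lam) {A B : Subgroup Ω} {φ : A →* Ω} {ψ : B →* Ω} (hφ : φ ∈ w.q.E.Hom A)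
    (hψ : ψ ∈ w.q.E.Hom B) (hΦφ : w.PhiW A φ) (hΦψ : w.PhiW B ψ) (h : ∀ x : A, φ x ∈ B) :
    w.PhiW A (ψ.comp (φ.codRestrict B h)) := by
  intro X' hXA hconj Z' hZ u ru hu v rv hv α hα
  have hTS := w.q.hTS
  haveI := w.q.finT
  have hAT : A ≤ T := (w.q.E.le_of_mem hφ).1
  have hBT : B ≤ T := (w.q.E.le_of_mem hψ).1
  have hφF := w.q.E_le hφ
  have hψF := w.q.E_le hψ
  have hφF' := (w.q.mem_full_iff hAT).mpr hφF
  have hψF' := (w.q.mem_full_iff hBT).mpr hψF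
  have hXT : X' ≤ T := hXA.trans hAT
  have hconjY : F.IsConj X (img φ X') := isConj_trans F hconj (isConj_img F hφF hXA)
  have hYB : img φ X' ≤ B := by
    intro y hy
    obtain ⟨x, hA, -, rfl⟩ := (mem_img φ X' y).mp hy
    exact h _
  have hYT : img φ X' ≤ T := hYB.trans hBT
  have hYN : img φ X' ≤ normalizerIn T (img φ X') := le_normalizerIn hYT
  obtain ⟨m, rm, hm⟩ := w.exists_ref hYT (isConj_symm F hconjY)
  have hZ' : img ψ (img φ X') = Z' := by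
    rw [← hZ]
    exact (img_comp h (fun _ => rfl) X').symm
  have huF' := (w.q.mem_full_iff (normalizerIn_le T X')).mpr hu.1
  have hmF' := (w.q.mem_full_iff (normalizerIn_le T (img φ X'))).mpr hm.1
  have hvF' := (w.q.mem_full_iff (normalizerIn_le T Z')).mpr hv.1
  obtain ⟨α₁, -, hα₁⟩ := exists_rel3 (S := T) (fullSubsystem F T hTS) hXA hφF' rfl huF' hu.2.1 hmF' hm.2.1
  obtain ⟨α₂, -, hα₂⟩ := exists_rel3 (S := T) (fullSubsystem F T hTS) hYB hψF' hZ' hmF' hm.2.1 hvF' hv.2.1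
  have h1 := hΦφ X' hXA hconj (img φ X') rfl u ru hu m rm hm α₁ hα₁
  have h2 := hΦψ (img φ X') hYB hconjY Z' hZ' m rm hm v rv hv α₂ hα₂
  have hφY : ∀ (x : Ω) (hx : x ∈ X'), φ ⟨x, hXA hx⟩ ∈ img φ X' := fun x hx => apply_mem_img φ ⟨x, hXA hx⟩ hx
  have hmP : ∀ (y : Ω) (hy : y ∈ img φ X'), m ⟨y, hYN hy⟩ ∈ X := fun y hy => by
    rw [← hm.2.1]
    exact apply_mem_img m ⟨y, hYN hy⟩ hy
  have h3 := Rel3.comp h hXA hφY hYN hmP hα₁ hα₂
  have hZT : Z' ≤ T := by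
    rw [← hZ']
    exact img_le (fullSubsystem F T hTS) hψF' _
  have hcompN : ∀ (x : Ω) (hx : x ∈ X'), (ψ.comp (φ.codRestrict B h)) ⟨x, hXA hx⟩ ∈ normalizerIn T Z' := by
    intro x hx
    apply le_normalizerIn hZT
    rw [← hZ]
    exact apply_mem_img _ ⟨x, hXA hx⟩ hx
  have e := Rel3.unique hXA hcompN hu.2.1 hα h3
  rw [e]
  have h4 := w.th0_mul h2 h1
  have e2 : rv * rm⁻¹ * (rm * ru⁻¹) = rv * ru⁻¹ := by group
  rwa [e2] at h4

omit [Fact (Nat.Prime p)] in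
theorem phiW_inv (w : WCtx p F T X lam) {A : Subgroup Ω} {φ : A →* Ω} (hφ : φ ∈ w.q.E.Hom A) (hΦφ : w.PhiW A φ)
    (ψ : φ.range →* Ω) (hψ : ψ ∈ w.q.E.Hom φ.range) (hψx : ∀ x : A, ψ ⟨φ x, ⟨x, rfl⟩⟩ = (x : Ω)) :
    w.PhiW φ.range ψ := by
  intro X' hX' hconj X₀ hX u' ru' hu' v' rv' hv' α' hα'
  have hAT : A ≤ T := (w.q.E.le_of_mem hφ).1
  have hψF := w.q.E_le hψ
  have hψA : ∀ y : φ.range, ψ y ∈ A := by
    rintro ⟨_, x, rfl⟩
    rw [hψx]
    exact x.2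
  have hXA : X₀ ≤ A := by
    rw [← hX]
    intro z hz
    obtain ⟨y, hy, -, rfl⟩ := (mem_img ψ X' z).mp hz
    exact hψA _
  have hconjX : F.IsConj X X₀ := hX ▸ isConj_trans F hconj (isConj_img F hψF hX')
  have hdesc : ∀ (x : Ω) (hx : x ∈ X₀), ∃ (y : Ω) (hy : y ∈ φ.range), y ∈ X' ∧ ψ ⟨y, hy⟩ = x ∧
      φ ⟨x, hXA hx⟩ = y := by
    intro x hx
    have hx' := hx
    rw [← hX] at hx'
    obtain ⟨y, hy, hyX', hyx⟩ := (mem_img ψ X' x).mp hx'
    refine ⟨y, hy, hyX', hyx, ?_⟩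
    obtain ⟨a, ha⟩ := id hy
    have h2 : ψ ⟨y, hy⟩ = (a : Ω) := by
      have := hψx a
      rw [← this]
      congr 1
      exact Subtype.ext ha.symm
    have h3 : (⟨x, hXA hx⟩ : A) = a := Subtype.ext (hyx.symm.trans h2)
    rw [h3, ha]
  have himg : img φ X₀ = X' := by
    ext y
    rw [mem_img]
    constructor
    · rintro ⟨x, hxA, hxX, rfl⟩
      obtain ⟨y, hy, hyX', -, hφx⟩ := hdesc x hxX
      rw [hφx]
      exact hyX'
    · intro hy
      have hyr := hX' hy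
      have hx : ψ ⟨y, hyr⟩ ∈ X₀ := by
        rw [← hX]
        exact apply_mem_img ψ ⟨y, hyr⟩ hy
      obtain ⟨y', hy', -, hy'x, hφx⟩ := hdesc _ hx
      refine ⟨ψ ⟨y, hyr⟩, hψA _, hx, ?_⟩
      have hinj := F.injective_of_mem hψF
      have : (⟨y', hy'⟩ : φ.range) = ⟨y, hyr⟩ := hinj hy'x
      rw [hφx]
      exact congrArg Subtype.val this
  have hrel : Rel3 φ v' u' α'⁻¹ := by
    intro x hxA hxN hφN hvP hxX
    obtain ⟨y, hy, hyX', hyx, hφx⟩ := hdesc x hxX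
    have hyN : y ∈ normalizerIn T X' := hφx ▸ hφN
    have hψN : ψ ⟨y, hy⟩ ∈ normalizerIn T X₀ := hyx ▸ hxN
    have hu'P : u' ⟨y, hyN⟩ ∈ X := by
      rw [← hu'.2.1]
      exact apply_mem_img u' ⟨y, hyN⟩ hyX'
    have h1 := hα' y hy hyN hψN hu'P hyX'
    have e1 : (⟨φ ⟨x, hxA⟩, hφN⟩ : normalizerIn T X') = ⟨y, hyN⟩ := Subtype.ext hφx
    have e2 : (⟨x, hxN⟩ : normalizerIn T X₀) = ⟨ψ ⟨y, hy⟩, hψN⟩ := Subtype.ext hyx.symm
    have e3 : (⟨v' ⟨x, hxN⟩, hvP⟩ : X) = α' ⟨u' ⟨y, hyN⟩, hu'P⟩ := by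
      apply Subtype.ext
      rw [← h1]
      show v' ⟨x, hxN⟩ = v' ⟨ψ ⟨y, hy⟩, hψN⟩
      rw [e2]
    rw [e1, e3, MulAut.inv_apply_self]
  have h2 := hΦφ X₀ hXA hconjX X' himg v' rv' hv' u' ru' hu' α'⁻¹ hrel
  have h3 := w.th0_inv h2
  rw [inv_inv] at h3
  have e : (ru' * rv'⁻¹)⁻¹ = rv' * ru'⁻¹ := by group
  rwa [e] at h3

end WCtx

end Cfsg.Agent.Lib.Helper88
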