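import Cfsg.Agent.Lib.Helper88.FusionHP14

set_option autoImplicit false
open Cfsg

namespace Cfsg.Agent.Lib.Helper88

open Cfsg.FusionSystem Cfsg.Agent.Lib.Helper87
open Cfsg.Agent.Lib.Helper89 (fullSubsystem mem_fullSubsystem_iff autGroup_fullSubsystem)
open Cfsg.Agent.Lib.Helper91 (isCentric_of_isConj)

variable {Ω : Type*} [Group Ω] {S T : Subgroup Ω}

namespace WCtx

variable [Finite S] {p : ℕ} [Fact p.Prime] {F : FusionSystem S} {X : Subgroup Ω} {Z : Type*} [CommGroup Z]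
  {lam : Ω → Z}

/-- The generators satisfy the predicate. -/
theorem phiW_gen (w : WCtx p F T X lam) {Q : Subgroup Ω} (hQ : IsCen F T Q) {o : MulAut Q}
    (ho : o ∈ resAut F p Q) : w.PhiW Q (Q.subtype.comp (o : Q ≃* Q).toMonoidHom) := by
  intro X' hX'Q hconj Y hY u ru hu v rv hv α hα
  have hTS := w.q.hTS
  haveI := w.q.finT
  have hQT := hQ.1
  have hoE : Q.subtype.comp (o : Q ≃* Q).toMonoidHom ∈ w.q.E.Hom Q :=
    (mem_autGroup_iff w.q.E hQT).mp (pResidual_le_hpSystem F p hTS hQ ho)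
  by_cases hne : X' = Q
  · subst hne
    have hres : Restr (X'.subtype.comp (o : X' ≃* X').toMonoidHom) o := fun _ _ _ => rfl
    have hYQ : Y = X' := hY.symm.trans (hres.img_eq le_rfl)
    subst hYQ
    have hXN : Y ≤ normalizerIn T Y := le_normalizerIn hQT
    have huF' := (w.q.mem_full_iff (normalizerIn_le T Y)).mpr hu.1
    have hvF' := (w.q.mem_full_iff (normalizerIn_le T Y)).mpr hv.1
    obtain ⟨α₁, -, hα₁⟩ := exists_rel3 (S := T) (fullSubsystem F T hTS) hXN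
      (subtype_mem (fullSubsystem F T hTS) (normalizerIn_le T Y)) (img_subtype hXN) huF' hu.2.1 hvF' hv.2.1
    have h1 := w.th0_of_rel3 hXN le_rfl (w.card_lt_normalizerIn hQT hconj) (card_of_isConj F hconj)
      (subtype_mem F ((normalizerIn_le T Y).trans hTS)) (img_subtype hXN) S.one_mem
      (Dec.of_mem (subtype_mem w.q.E (normalizerIn_le T Y))) hu hv hα₁
    -- the transported automorphism
    have hu₀ : u.comp (Subgroup.inclusion hXN) ∈ F.Hom Y := restrict_mem F hXN hu.1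
    have hr : (u.comp (Subgroup.inclusion hXN)).range = X :=
      ((img_self _).symm.trans (img_restrict u hXN le_rfl)).trans hu.2.1
    have ho' : MulAut.congr (homEquiv F hu₀ hr) o ∈ resAut F p X :=
      congr_mem_pResidual p F (isFIso_homEquiv F hu₀ hr) ho
    have h2 := w.th0_of_mem_kAut ((le_sup_right : resAut F p X ≤ kAut F p T X) ho')
    have e3 : α = α₁ * MulAut.congr (homEquiv F hu₀ hr) o := by
      ext y
      have hy : (y : Ω) ∈ img u Y := by
        rw [hu.2.1]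
        exact y.2
      obtain ⟨x, hxN, hxX, hxy⟩ := (mem_img u Y y).mp hy
      have huP : u ⟨x, hxN⟩ ∈ X := hxy ▸ y.2
      have ey : y = homEquiv F hu₀ hr ⟨x, hxX⟩ := by
        apply Subtype.ext
        rw [homEquiv_apply]
        exact hxy.symm
      have hφN : (Y.subtype.comp (o : Y ≃* Y).toMonoidHom) ⟨x, hxX⟩ ∈ normalizerIn T Y := hXN (o ⟨x, hxX⟩).2
      have h3 := hα x hxX hxN hφN huP hxX
      have huP' : u ⟨((o ⟨x, hxX⟩ : Y) : Ω), hXN (o ⟨x, hxX⟩).2⟩ ∈ X := by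
        rw [← hu.2.1]
        exact apply_mem_img u ⟨_, hXN (o ⟨x, hxX⟩).2⟩ (o ⟨x, hxX⟩).2
      have h4 := hα₁ ((o ⟨x, hxX⟩ : Y) : Ω) (hXN (o ⟨x, hxX⟩).2) (hXN (o ⟨x, hxX⟩).2) hφN huP' (o ⟨x, hxX⟩).2
      have e5 : (α₁ * MulAut.congr (homEquiv F hu₀ hr) o) y =
          α₁ ⟨u ⟨((o ⟨x, hxX⟩ : Y) : Ω), hXN (o ⟨x, hxX⟩).2⟩, huP'⟩ := by
        rw [MulAut.mul_apply, ey]
        congr 1
        apply Subtype.ext
        show ((homEquiv F hu₀ hr (o ((homEquiv F hu₀ hr).symm (homEquiv F hu₀ hr ⟨x, hxX⟩))) : X) : Ω) = _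
        rw [MulEquiv.symm_apply_apply, homEquiv_apply]
        rfl
      have e6 : α y = α ⟨u ⟨x, hxN⟩, huP⟩ := congrArg α (Subtype.ext hxy.symm)
      rw [e5, e6, ← h3, ← h4]
      rfl
    rw [e3]
    have h5 := w.th0_mul h1 h2
    rwa [w.lam_one, mul_one, mul_one] at h5
  · exact w.phiW_at_of_ne hoE hX'Q hne hconj hY hu hv hα

/-- Every map of the generated system satisfies the predicate. -/
theorem all_phiW (w : WCtx p F T X lam) (P : Subgroup Ω) (φ : P →* Ω) (hφ : φ ∈ w.q.E.Hom P) : w.PhiW P φ := by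
  have hD := hpSystem_le_of F p w.q.hTS (predSystem w.q.E w.PhiW (fun hA ht => w.phiW_conj hA ht)
    (fun hφ hψ h1 h2 h => w.phiW_comp hφ hψ h1 h2 h) (fun hφ h1 ψ hψ hψx => w.phiW_inv hφ h1 ψ hψ hψx)) (by
      intro Q hQ o ho
      rw [mem_autGroup_iff _ hQ.1]
      exact ⟨(mem_autGroup_iff w.q.E hQ.1).mp (pResidual_le_hpSystem F p w.q.hTS hQ ho), w.phiW_gen hQ ho⟩) P hφ
  exact hD.2

end WCtx

end Cfsg.Agent.Lib.Helper88
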