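import Cfsg.Agent.Lib.Helper88.FusionHP15

set_option autoImplicit false
open Cfsg

namespace Cfsg.Agent.Lib.Helper88

open Cfsg.FusionSystem Cfsg.Agent.Lib.Helper87
open Cfsg.Agent.Lib.Helper89 (fullSubsystem mem_fullSubsystem_iff autGroup_fullSubsystem)
open Cfsg.Agent.Lib.Helper91 (isCentric_of_isConj)

variable {Ω : Type*} [Group Ω] {S T : Subgroup Ω}

namespace WCtx

variable [Finite S] {p : ℕ} [Fact p.Prime] {F : FusionSystem S} {X : Subgroup Ω} {Z : Type*} [CommGroup Z]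
  {lam : Ω → Z}

/-- The conclusion at the level of `X`: a conjugation by `g ∈ S` on a member of the class of `X` lying in the
generated system has `g ∈ T`. -/
theorem mem_of_conjHom (w : WCtx p F T X lam) {Q : Subgroup Ω} (hQT : Q ≤ T) (hconj : F.IsConj X Q) {g : Ω}
    (hg : g ∈ S) (hE : conjHom Q g ∈ w.q.E.Hom Q) : g ∈ T := by
  have hTS := w.q.hTS
  obtain ⟨u, ru, hu⟩ := w.exists_ref hQT (isConj_symm F hconj)
  have hu' := hu
  obtain ⟨huF, huX, gu, hguS, hdu, rfl⟩ := hu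
  set Y := Q.map (MulAut.conj g).toMonoidHom with hYdef
  have hY : img (conjHom Q g) Q = Y := img_conjHom g le_rfl
  have hYT : Y ≤ T := by
    rintro _ ⟨x, hx, rfl⟩
    exact w.q.conj_mem_T hg (hQT hx)
  have giS : g⁻¹ ∈ S := S.inv_mem hg
  have hNS : normalizerIn T Y ≤ S := (normalizerIn_le T Y).trans hTS
  have hmem : ∀ y : normalizerIn T Y, conjHom (normalizerIn T Y) g⁻¹ y ∈ normalizerIn T Q := by
    rintro ⟨y, hy⟩
    have hyT : y ∈ T := hy.1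
    have hyN : y ∈ Subgroup.normalizer (Y : Set Ω) := hy.2
    refine ⟨w.q.conj_mem_T giS hyT, ?_⟩
    show g⁻¹ * y * g⁻¹⁻¹ ∈ Subgroup.normalizer (Q : Set Ω)
    rw [Subgroup.mem_normalizer_iff]
    intro x
    have h1 := Subgroup.mem_normalizer_iff.mp hyN (g * x * g⁻¹)
    rw [mem_map_conj_iff, mem_map_conj_iff] at h1
    have e1 : g⁻¹ * (g * x * g⁻¹) * g = x := by group
    have e2 : g⁻¹ * (y * (g * x * g⁻¹) * y⁻¹) * g = g⁻¹ * y * g⁻¹⁻¹ * x * (g⁻¹ * y * g⁻¹⁻¹)⁻¹ := by group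
    rw [e1, e2] at h1
    exact h1
  have hvF : u.comp ((conjHom (normalizerIn T Y) g⁻¹).codRestrict _ hmem) ∈ F.Hom (normalizerIn T Y) :=
    F.comp_mem (F.conj_mem hNS giS) huF hmem
  have hdv : Dec w.q.E (u.comp ((conjHom (normalizerIn T Y) g⁻¹).codRestrict _ hmem)) (gu * g⁻¹) :=
    w.q.dec_comp giS (Dec.conjHom (normalizerIn_le T Y) g⁻¹) hdu hmem
  have hvY : img (u.comp ((conjHom (normalizerIn T Y) g⁻¹).codRestrict _ hmem)) Y = X := by
    ext z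
    rw [← huX, mem_img, mem_img]
    constructor
    · rintro ⟨y, hyN, hyY, rfl⟩
      refine ⟨g⁻¹ * y * g⁻¹⁻¹, hmem ⟨y, hyN⟩, ?_, rfl⟩
      have := mem_map_conj_iff.mp hyY
      rwa [inv_inv]
    · rintro ⟨x, hxN, hxQ, rfl⟩
      have hyY : g * x * g⁻¹ ∈ Y := ⟨x, hxQ, rfl⟩
      refine ⟨g * x * g⁻¹, le_normalizerIn hYT hyY, hyY, ?_⟩
      show u ⟨g⁻¹ * (g * x * g⁻¹) * g⁻¹⁻¹, _⟩ = u ⟨x, hxN⟩
      congr 1
      apply Subtype.ext
      show g⁻¹ * (g * x * g⁻¹) * g⁻¹⁻¹ = x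
      group
  have hv : IsRef F w.q.E lam X Y (u.comp ((conjHom (normalizerIn T Y) g⁻¹).codRestrict _ hmem))
      (lam (gu * g⁻¹)) := ⟨hvF, hvY, gu * g⁻¹, S.mul_mem hguS giS, hdv, rfl⟩
  have hα : Rel3 (conjHom Q g) u (u.comp ((conjHom (normalizerIn T Y) g⁻¹).codRestrict _ hmem))
      (1 : MulAut X) := by
    intro x hxB hxN hφN huP hxX
    show u ⟨g⁻¹ * (g * x * g⁻¹) * g⁻¹⁻¹, _⟩ = u ⟨x, hxN⟩
    congr 1
    apply Subtype.ext
    show g⁻¹ * (g * x * g⁻¹) * g⁻¹⁻¹ = x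
    group
  have h := w.all_phiW Q _ hE Q le_rfl hconj Y hY u _ hu' _ _ hv 1 hα
  have h1 := w.th0_of_mem_kAut (Subgroup.one_mem (kAut F p T X))
  have e := w.th0_unique h h1
  rw [w.hmul _ hguS _ giS, w.lam_inv hg, mul_comm (lam gu) (lam g)⁻¹, mul_inv_cancel_right] at e
  rw [← w.hker g hg]
  exact inv_eq_one.mp e

end WCtx

end Cfsg.Agent.Lib.Helper88
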