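import Cfsg.Agent.Lib.Helper88.FusionHP16

set_option autoImplicit false
open Cfsg

namespace Cfsg.Agent.Lib.Helper88

open Cfsg.FusionSystem Cfsg.Agent.Lib.Helper87
open Cfsg.Agent.Lib.Helper89 (fullSubsystem mem_fullSubsystem_iff autGroup_fullSubsystem)
open Cfsg.Agent.Lib.Helper91 (isCentric_of_isConj)

variable {Ω : Type*} [Group Ω] {S T : Subgroup Ω}

namespace HPCtx

variable [Finite S] {p : ℕ} [Fact p.Prime] {F : FusionSystem S}

omit [Fact (Nat.Prime p)] in
/-- A map of the generated system defined on a subgroup containing `T` carries `T` onto `T`. -/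
theorem img_top_eq (c : HPCtx p F T) {A : Subgroup Ω} {φ : A →* Ω} (hφ : φ ∈ c.E.Hom A) (hTA : T ≤ A) :
    img φ T = T := by
  haveI := c.finT
  have hle : img φ T ≤ T := by
    intro y hy
    obtain ⟨x, hA, -, rfl⟩ := (mem_img φ T y).mp hy
    exact (c.E.le_of_mem hφ).2 _
  have hcard : Nat.card (img φ T) = Nat.card T := card_img (c.E.injective_of_mem hφ) hTA
  exact Subgroup.eq_of_le_of_card_ge hle hcard.ge

omit [Fact (Nat.Prime p)] in
/-- The automorphisms of `T` in the generated system lie in `Aut_T(T) O^p(Aut_F(T))`. -/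
theorem autGroup_top_le (c : HPCtx p F T) : c.E.autGroup T ≤ kAut F p T T := by
  haveI := c.finT
  have hTS := c.hTS
  have hD := hpSystem_le_of F p hTS (predSystem c.E
    (fun B φ => ∀ α : MulAut T, Restr φ α → T ≤ B → α ∈ kAut F p T T)
    (by
      intro A t _ ht α hres hTA
      have htN : t ∈ Subgroup.normalizer (T : Set Ω) := Subgroup.le_normalizer ht
      have e := Restr.unique hTA hres (restr_conjHom (R := A) htN)
      rw [e]
      exact (le_sup_left : autInducedBy T T ≤ kAut F p T T) (conjAut_mem_autInducedBy ht htN))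
    (by
      intro A B φ ψ hφ hψ hΦφ hΦψ h α hres hTA
      have himg := c.img_top_eq hφ hTA
      have hTB : T ≤ B := by
        intro y hy
        rw [← himg] at hy
        obtain ⟨x, hA, -, rfl⟩ := (mem_img φ T y).mp hy
        exact h _
      obtain ⟨α₁, hα₁⟩ := exists_restr c.E hφ hTA himg
      obtain ⟨α₂, hα₂⟩ := exists_restr c.E hψ hTB (c.img_top_eq hψ hTB)
      have h3 := Restr.comp h (χ := ψ.comp (φ.codRestrict B h)) (fun x => rfl) hα₁ hα₂
      rw [Restr.unique hTA hres h3]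
      exact Subgroup.mul_mem _ (hΦψ α₂ hα₂ hTB) (hΦφ α₁ hα₁ hTA))
    (by
      intro A φ hφ hΦφ ψ hψ hψx α hres hTr
      have hAT : A ≤ T := (c.E.le_of_mem hφ).1
      have hrT : φ.range ≤ T := (c.E.le_of_mem hψ).1
      have hcard : Nat.card φ.range = Nat.card A := card_of_isConj c.E ⟨φ, hφ, rfl⟩
      have hTA : T ≤ A := by
        haveI : Finite φ.range := finite_of_le hrT
        have h1 : Nat.card T ≤ Nat.card φ.range := Subgroup.card_le_of_le hTr
        have h2 : A = T := Subgroup.eq_of_le_of_card_ge hAT (by omega)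
        exact h2.ge
      obtain ⟨α₁, hα₁⟩ := exists_restr c.E hφ hTA (c.img_top_eq hφ hTA)
      have h3 : Restr ψ α₁⁻¹ := Restr.inv hTA (fun x y hxy => by
        have : y = ⟨φ x, ⟨x, rfl⟩⟩ := Subtype.ext hxy.symm
        rw [this, hψx]) hα₁
      rw [Restr.unique hTr hres h3]
      exact Subgroup.inv_mem _ (hΦφ α₁ hα₁ hTA))) (by
      intro Q hQ o ho
      rw [mem_autGroup_iff _ hQ.1]
      refine ⟨(mem_autGroup_iff c.E hQ.1).mp (pResidual_le_hpSystem F p hTS hQ ho), ?_⟩
      intro α hres hTQ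
      obtain rfl : Q = T := le_antisymm hQ.1 hTQ
      have h0 : Restr (Q.subtype.comp (o : Q ≃* Q).toMonoidHom) o := fun _ _ _ => rfl
      rw [Restr.unique le_rfl hres h0]
      exact (le_sup_right : resAut F p Q ≤ kAut F p Q Q) ho)
  intro α hα
  have h1 := hD T ((mem_autGroup_iff c.E le_rfl).mp hα)
  exact h1.2 α (fun _ _ _ => rfl) le_rfl

omit [Fact (Nat.Prime p)] in
/-- A strongly closed subgroup is fully normalized. -/
theorem isFullyNormalized_top (c : HPCtx p F T) : F.IsFullyNormalized T := by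
  haveI := c.finT
  refine ⟨c.hTS, fun Q hQ => ?_⟩
  have hQT : Q ≤ T := by
    obtain ⟨φ, hφ, rfl⟩ := hQ
    rintro _ ⟨x, rfl⟩
    exact c.hsc.2 T le_rfl φ hφ x
  have hcard : Nat.card Q = Nat.card T := card_of_isConj F hQ
  have : Q = T := Subgroup.eq_of_le_of_card_ge hQT hcard.ge
  rw [this]

end HPCtx

namespace HPCtxL

variable [Finite S] {p : ℕ} [Fact p.Prime] {F : FusionSystem S} {Z : Type*} [CommGroup Z] {lam : Ω → Z}

/-- A conjugation by `g ∈ S` on a centric subgroup of `T` lying in the generated system has `g ∈ T`. -/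
theorem mem_of_conjHom (c : HPCtxL p F T lam) : ∀ (d : ℕ) (Q : Subgroup Ω), Q ≤ T → Nat.card T - Nat.card Q = d →
    F.IsCentric Q → ∀ g ∈ S, conjHom Q g ∈ c.toHPCtx.E.Hom Q → g ∈ T := by
  haveI := c.toHPCtx.finT
  have hTS := c.toHPCtx.hTS
  intro d
  induction d using Nat.strong_induction_on with
  | _ d ih =>
  intro Q hQT hd hQc g hg hE
  have hQS : Q ≤ S := hQT.trans hTS
  have hcQ : Nat.card Q ≤ Nat.card T := Subgroup.card_le_of_le hQT
  by_cases htop : Nat.card Q = Nat.card T
  · obtain rfl : Q = T := Subgroup.eq_of_le_of_card_ge hQT htop.ge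
    have q : QCtx p F Q Q := ⟨c.toHPCtx, c.hfoc, le_rfl, hQc, c.toHPCtx.isFullyNormalized_top⟩
    have hgN : g ∈ Subgroup.normalizer (Q : Set Ω) := c.toHPCtx.hTn g hg
    have h1 : conjAut Q g hgN ∈ c.toHPCtx.E.autGroup Q := by
      rw [mem_autGroup_iff c.toHPCtx.E le_rfl]
      exact hom_congr c.toHPCtx.E hE (fun x => rfl)
    have h2 : conjAut Q g hgN ∈ autInducedBy S Q ⊓ kAut F p Q Q :=
      ⟨conjAut_mem_autInducedBy hg hgN, c.toHPCtx.autGroup_top_le h1⟩
    rw [q.kAut_inf_sAut] at h2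
    exact q.mem_of_conjAut_mem le_rfl hTS hg hgN h2
  · obtain ⟨X, hconj, hfn⟩ := exists_isFullyNormalized F hQS
    have hXT : X ≤ T := by
      obtain ⟨φ, hφ, rfl⟩ := hconj
      rintro _ ⟨x, rfl⟩
      exact c.hsc.2 Q hQT φ hφ x
    have hcX : Nat.card X = Nat.card Q := card_of_isConj F hconj
    have w : WCtx p F T X lam := {
      q := ⟨c.toHPCtx, c.hfoc, hXT, isCentric_of_isConj F hQc hconj, hfn⟩
      hmul := c.hmul
      hker := c.hker
      hlt := by omega
      hW := fun Q' hQ'T hQ'c hlt g' hg' hE' => by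
        haveI : Finite Q' := finite_of_le (hQ'T.trans hTS)
        have h1 : Nat.card Q' ≤ Nat.card T := Subgroup.card_le_of_le hQ'T
        exact ih (Nat.card T - Nat.card Q') (by omega) Q' hQ'T rfl hQ'c g' hg' hE' }
    exact w.mem_of_conjHom hQT (isConj_symm F hconj) hg hE

end HPCtxL

end Cfsg.Agent.Lib.Helper88
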