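import Cfsg.Agent.Lib.Helper88.FusionHP17

set_option autoImplicit false
open Cfsg

namespace Cfsg.Agent.Lib.Helper88

open Cfsg.FusionSystem Cfsg.Agent.Lib.Helper87
open Cfsg.Agent.Lib.Helper91 (isCentric_of_isConj)

variable {Ω : Type*} [Group Ω] {S T : Subgroup Ω}

namespace HPCtxL

variable [Finite S] {p : ℕ} [Fact p.Prime] {F : FusionSystem S} {Z : Type*} [CommGroup Z] {lam : Ω → Z}

/-- A subgroup centric in the generated system is centric relative to `T` in `F`. -/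
theorem isCen_of_isCentric_E (c : HPCtxL p F T lam) {P : Subgroup Ω} (hP : c.toHPCtx.E.IsCentric P) :
    IsCen F T P := by
  refine ⟨hP.1, fun Q hconj g hg => ?_⟩
  obtain ⟨w, hw, φ₀, hφ₀, hy⟩ := c.toHPCtx.exists_dec_of_isConj hP.1 hconj
  obtain ⟨hgT, hgc⟩ := mem_centralizerIn.mp hg
  have hwi : w⁻¹ ∈ S := S.inv_mem hw
  have h0 := hP.2 φ₀.range ⟨φ₀, hφ₀, rfl⟩
  have h1 : w⁻¹ * g * w⁻¹⁻¹ ∈ centralizerIn T φ₀.range := by
    refine mem_centralizerIn.mpr ⟨c.toHPCtx.conj_mem_T hwi hgT, ?_⟩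
    rintro _ ⟨x, rfl⟩
    have hxQ : w * φ₀ x * w⁻¹ ∈ Q := (hy _).mpr ⟨x, rfl⟩
    have h2 := hgc _ hxQ
    calc φ₀ x * (w⁻¹ * g * w⁻¹⁻¹) = w⁻¹ * (w * φ₀ x * w⁻¹ * g) * w := by group
      _ = w⁻¹ * (g * (w * φ₀ x * w⁻¹)) * w := by rw [h2]
      _ = w⁻¹ * g * w⁻¹⁻¹ * φ₀ x := by group
  obtain ⟨x, hx⟩ := h0 h1
  have e : g = w * φ₀ x * w⁻¹ := by
    rw [hx]; group
  rw [e]
  exact (hy _).mpr ⟨x, rfl⟩

/-- The generated system is saturated. -/
theorem isSaturated_E (c : HPCtxL p F T lam) : c.toHPCtx.E.IsSaturated p := by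
  haveI := c.toHPCtx.finT
  have hTS := c.toHPCtx.hTS
  have hTp : IsPGroup p T := c.hS.to_le hTS
  have hW : ∀ Q : Subgroup Ω, Q ≤ T → F.IsCentric Q → ∀ w ∈ S, conjHom Q w ∈ c.toHPCtx.E.Hom Q → w ∈ T :=
    fun Q hQT hQc w hw hE => c.mem_of_conjHom _ Q hQT rfl hQc w hw hE
  refine isSaturated_of_generated p hTp c.toHPCtx.E {P | IsCen F T P} ?_ ?_ ?_
  · intro P hP
    obtain ⟨P', hconj, hfn⟩ := c.toHPCtx.exists_fn_conj hP.1
    have hP'T : P' ≤ T := isConj_le_right c.toHPCtx.E hconj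
    have hconjF : F.IsConj P P' := by
      obtain ⟨φ, hφ, hr⟩ := hconj
      exact ⟨φ, c.toHPCtx.E_le hφ, hr⟩
    have hP' : IsCen F T P' := hP.of_isConj hconjF hP'T
    refine ⟨P', hconj, ?_⟩
    by_cases hcen : F.IsCentric P'
    · exact c.toHPCtx.good_of_centric hW hP'T hfn hcen
    · exact c.toHPCtx.good_of_not_centric c.hcyc hP' hfn hcen
  · intro D hD P
    apply hpSystem_le_of F p hTS D
    intro Q hQ o ho
    rw [mem_autGroup_iff D hQ.1]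
    exact hD Q hQ ((mem_autGroup_iff c.toHPCtx.E hQ.1).mp (pResidual_le_hpSystem F p hTS hQ ho))
  · intro P hP hPn
    exact absurd (c.isCen_of_isCentric_E hP) hPn

/-- The generated system has `p`-power index. -/
theorem hasPPowerIndexIn_E (c : HPCtxL p F T lam) (hhyp : F.hyperfocalSubgroup p ≤ T) :
    c.toHPCtx.E.HasPPowerIndexIn F p :=
  ⟨hpSystem_le F p c.toHPCtx.hTS, hhyp, c.toHPCtx.pResidual_le_E⟩

end HPCtxL

end Cfsg.Agent.Lib.Helper88
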