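import Cfsg.Agent.Lib.Helper88.FusionHP1

set_option autoImplicit false
open Cfsg

namespace Cfsg.Agent.Lib.Helper88

open Cfsg.FusionSystem Cfsg.Agent.Lib.Helper87
open Cfsg.Agent.Lib.Helper89 (fullSubsystem mem_fullSubsystem_iff autGroup_fullSubsystem)
open Cfsg.Agent.Lib.Helper90 (autMap mem_autMap autMap_le apply_mem_autMap)

variable {Ω : Type*} [Group Ω] {S T : Subgroup Ω}

/-- The generators are carried to generators by `Aut_F(T)`. -/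
theorem pResidual_le_autGroup_conjCore_hp (F : FusionSystem S) (p : ℕ) (hTS : T ≤ S) {Q : Subgroup Ω}
    (hQ : IsCen F T Q) :
    (pResidual p (F.autGroup Q)).map (F.autGroup Q).subtype ≤
      (conjCore (hpSystem F p T hTS) (F.autGroup T)).autGroup Q := by
  intro n hn
  have hQT := hQ.1
  rw [mem_autGroup_iff (conjCore (hpSystem F p T hTS) (F.autGroup T)) hQT]
  refine ⟨(mem_autGroup_iff _ hQT).mp (pResidual_le_hpSystem F p hTS hQ hn), fun α hα => ?_⟩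
  obtain ⟨a, haF, hax⟩ := exists_autMap_equiv' F hTS hα hQT
  have hQ' : IsCen F T (autMap α Q) := hQ.of_isConj (IsFIso.isConj F haF) (autMap_le α Q)
  have h2 := pResidual_le_hpSystem F p hTS hQ' (congr_mem_pResidual p F haF hn)
  have h3 := (mem_autGroup_iff _ (autMap_le α Q)).mp h2
  refine ⟨_, h3, fun x hx hφx hαx => ?_⟩
  show (((MulAut.congr a n) ⟨α ⟨x, hx⟩, hαx⟩ : autMap α Q) : Ω) = _
  have e1 : (⟨α ⟨x, hx⟩, hαx⟩ : autMap α Q) = a x := Subtype.ext (hax x).symm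
  rw [e1]
  show ((a (n (a.symm (a x))) : autMap α Q) : Ω) = _
  rw [MulEquiv.symm_apply_apply, hax]
  rfl

/-- The generated system is invariant under `Aut_F(T)`. -/
theorem autInvariant_hpSystem (F : FusionSystem S) (p : ℕ) (hTS : T ≤ S) :
    AutInvariant (hpSystem F p T hTS) F := by
  apply autInvariant_of_le_conjCore
  apply hpSystem_le_of
  intro Q hQ
  exact pResidual_le_autGroup_conjCore_hp F p hTS hQ

theorem hInv_hpSystem (F : FusionSystem S) (p : ℕ) (hTS : T ≤ S) :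
    HInv (hpSystem F p T hTS) (autInducedBy S T) :=
  fun α hα => autInvariant_hpSystem F p hTS α (autInducedBy_le_autGroup F hTS hα)

/-- Invariance in elementwise form: the conjugate of a map of the system by an element of `S`. -/
theorem hp_conj_mem (F : FusionSystem S) (p : ℕ) (hTS : T ≤ S)
    (hTn : ∀ s ∈ S, s ∈ Subgroup.normalizer (T : Set Ω)) {w : Ω} (hw : w ∈ S) {P : Subgroup Ω} {φ : P →* Ω}
    (hφ : φ ∈ (hpSystem F p T hTS).Hom P) (P₂ : Subgroup Ω)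
    (hP₂ : ∀ y, y ∈ P₂ ↔ ∃ x : P, w * (x : Ω) * w⁻¹ = y) :
    ∃ χ ∈ (hpSystem F p T hTS).Hom P₂, ∀ (x : P) (h : w * (x : Ω) * w⁻¹ ∈ P₂),
      χ ⟨w * x * w⁻¹, h⟩ = w * φ x * w⁻¹ := by
  have hPT : P ≤ T := ((hpSystem F p T hTS).le_of_mem hφ).1
  have hφT : ∀ x : P, φ x ∈ T := ((hpSystem F p T hTS).le_of_mem hφ).2
  have hwN := hTn w hw
  obtain ⟨χ, hχ, hχx⟩ := hInv_hpSystem F p hTS (conjAut T w hwN) (conjAut_mem_autInducedBy hw hwN) P hPT φ hφ P₂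
    (by
      intro y
      rw [hP₂ y]
      constructor
      · rintro ⟨x, rfl⟩
        exact ⟨x, conjAut_apply T w hwN ⟨x, hPT x.2⟩⟩
      · rintro ⟨x, rfl⟩
        exact ⟨x, (conjAut_apply T w hwN ⟨x, hPT x.2⟩).symm⟩)
  refine ⟨χ, hχ, fun x h => ?_⟩
  have e0 : ((conjAut T w hwN ⟨x, hPT x.2⟩ : T) : Ω) = w * x * w⁻¹ := conjAut_apply T w hwN _
  have hmem : ((conjAut T w hwN ⟨x, hPT x.2⟩ : T) : Ω) ∈ P₂ := by
    rw [e0]
    exact h
  have h1 := hχx x (hφT x) hmem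
  have e1 : (⟨w * x * w⁻¹, h⟩ : P₂) = ⟨((conjAut T w hwN ⟨x, hPT x.2⟩ : T) : Ω), hmem⟩ := Subtype.ext e0.symm
  rw [e1, h1, conjAut_apply]

/-- `φ` is the composite of a map of `E` and the conjugation by `w`. -/
def Dec (E : FusionSystem T) {P : Subgroup Ω} (φ : P →* Ω) (w : Ω) : Prop :=
  ∃ φ₀ ∈ E.Hom P, ∀ x : P, φ x = w * φ₀ x * w⁻¹

theorem Dec.of_mem {E : FusionSystem T} {P : Subgroup Ω} {φ : P →* Ω} (hφ : φ ∈ E.Hom P) : Dec E φ 1 :=
  ⟨φ, hφ, fun x => by simp⟩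

theorem Dec.conjHom {E : FusionSystem T} {P : Subgroup Ω} (hPT : P ≤ T) (w : Ω) : Dec E (conjHom P w) w :=
  ⟨P.subtype, subtype_mem E hPT, fun _ => rfl⟩

theorem Dec.restrict {E : FusionSystem T} {P R : Subgroup Ω} {φ : P →* Ω} {w : Ω} (h : Dec E φ w) (hRP : R ≤ P) :
    Dec E (φ.comp (Subgroup.inclusion hRP)) w := by
  obtain ⟨φ₀, hφ₀, hx⟩ := h
  exact ⟨φ₀.comp (Subgroup.inclusion hRP), restrict_mem E hRP hφ₀, fun x => hx _⟩

theorem Dec.congr {E : FusionSystem T} {P : Subgroup Ω} {φ φ' : P →* Ω} {w : Ω} (h : Dec E φ w)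
    (h' : ∀ x : P, φ' x = φ x) : Dec E φ' w := by
  obtain ⟨φ₀, hφ₀, hx⟩ := h
  exact ⟨φ₀, hφ₀, fun x => (h' x).trans (hx x)⟩

/-- Changing the conjugating element by an element of `T`. -/
theorem Dec.mul_right {E : FusionSystem T} {P : Subgroup Ω} {φ : P →* Ω} {w t : Ω} (h : Dec E φ w) (ht : t ∈ T) :
    Dec E φ (w * t) := by
  obtain ⟨φ₀, hφ₀, hx⟩ := h
  have hφ₀T : ∀ x : P, φ₀ x ∈ T := (E.le_of_mem hφ₀).2
  have hc : Cfsg.conjHom T t⁻¹ ∈ E.Hom T := E.conj_mem le_rfl (T.inv_mem ht)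
  refine ⟨(Cfsg.conjHom T t⁻¹).comp (φ₀.codRestrict T hφ₀T), E.comp_mem hφ₀ hc hφ₀T, fun x => ?_⟩
  rw [hx x]
  show _ = w * t * (t⁻¹ * φ₀ x * t⁻¹⁻¹) * (w * t)⁻¹
  group

theorem Dec.mem_of_mem {E : FusionSystem T} {P : Subgroup Ω} {φ : P →* Ω} {w : Ω} (h : Dec E φ w) (hw : w ∈ T) :
    φ ∈ E.Hom P := by
  obtain ⟨φ₀, hφ₀, hx⟩ := h
  have hφ₀T : ∀ x : P, φ₀ x ∈ T := (E.le_of_mem hφ₀).2
  have hc : Cfsg.conjHom T w ∈ E.Hom T := E.conj_mem le_rfl hw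
  exact comp_mem' E hφ₀ hc hφ₀T (fun x => hx x)

end Cfsg.Agent.Lib.Helper88
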