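import Cfsg.Agent.Lib.Helper88.FusionHP2

set_option autoImplicit false
open Cfsg

namespace Cfsg.Agent.Lib.Helper88

open Cfsg.FusionSystem Cfsg.Agent.Lib.Helper87
open Cfsg.Agent.Lib.Helper89 (fullSubsystem mem_fullSubsystem_iff autGroup_fullSubsystem)
open Cfsg.Agent.Lib.Helper90 (autMap mem_autMap autMap_le apply_mem_autMap)

variable {Ω : Type*} [Group Ω] {S T : Subgroup Ω}

/-- The standing hypotheses: a saturated system over the `p`-group `S` and a strongly closed subgroup `T`. -/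
structure HPCtx [Finite S] (p : ℕ) (F : FusionSystem S) (T : Subgroup Ω) : Prop where
  hS : IsPGroup p S
  hF : F.IsSaturated p
  hsc : F.StronglyClosed T

namespace HPCtx

variable [Finite S] {p : ℕ} {F : FusionSystem S}

theorem hTS (c : HPCtx p F T) : T ≤ S := c.hsc.1

/-- The generated subsystem. -/
def E (c : HPCtx p F T) : FusionSystem T := hpSystem F p T c.hTS

theorem hTn (c : HPCtx p F T) : ∀ s ∈ S, s ∈ Subgroup.normalizer (T : Set Ω) :=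
  fun _ hs => mem_normalizer_of_stronglyClosed c.hsc hs

theorem conj_mem_T (c : HPCtx p F T) {s t : Ω} (hs : s ∈ S) (ht : t ∈ T) : s * t * s⁻¹ ∈ T :=
  (Subgroup.mem_normalizer_iff.mp (c.hTn s hs) t).mp ht

theorem finT (c : HPCtx p F T) : Finite T := finite_of_le c.hTS

theorem E_le (c : HPCtx p F T) {P : Subgroup Ω} {φ : P →* Ω} (hφ : φ ∈ c.E.Hom P) : φ ∈ F.Hom P :=
  hpSystem_le F p c.hTS P hφ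

theorem conj_mem (c : HPCtx p F T) {w : Ω} (hw : w ∈ S) {P : Subgroup Ω} {φ : P →* Ω}
    (hφ : φ ∈ c.E.Hom P) (P₂ : Subgroup Ω) (hP₂ : ∀ y, y ∈ P₂ ↔ ∃ x : P, w * (x : Ω) * w⁻¹ = y) :
    ∃ χ ∈ c.E.Hom P₂, ∀ (x : P) (h : w * (x : Ω) * w⁻¹ ∈ P₂), χ ⟨w * x * w⁻¹, h⟩ = w * φ x * w⁻¹ :=
  hp_conj_mem F p c.hTS c.hTn hw hφ P₂ hP₂

theorem dec_comp (c : HPCtx p F T) {P Q : Subgroup Ω} {φ : P →* Ω} {ψ : Q →* Ω} {w w' : Ω} (hw : w ∈ S)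
    (hφ : Dec c.E φ w) (hψ : Dec c.E ψ w') (h : ∀ x : P, φ x ∈ Q) :
    Dec c.E (ψ.comp (φ.codRestrict Q h)) (w' * w) := by
  obtain ⟨φ₀, hφ₀, hφx⟩ := hφ
  obtain ⟨ψ₀, hψ₀, hψx⟩ := hψ
  obtain ⟨χ, hχ, hχx⟩ := c.conj_mem (S.inv_mem hw) hψ₀ (Q.map (MulAut.conj w⁻¹).toMonoidHom) (by
    intro y
    rw [Subgroup.mem_map]
    constructor
    · rintro ⟨x, hx, rfl⟩
      exact ⟨⟨x, hx⟩, rfl⟩
    · rintro ⟨x, rfl⟩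
      exact ⟨x, x.2, rfl⟩)
  have e0 : ∀ x : P, φ₀ x = w⁻¹ * φ x * w⁻¹⁻¹ := by
    intro x
    rw [hφx x]
    group
  have hmem : ∀ x : P, φ₀ x ∈ Q.map (MulAut.conj w⁻¹).toMonoidHom := by
    intro x
    rw [e0 x]
    exact ⟨φ x, h x, rfl⟩
  refine ⟨χ.comp (φ₀.codRestrict _ hmem), c.E.comp_mem hφ₀ hχ hmem, fun x => ?_⟩
  show ψ ⟨φ x, h x⟩ = w' * w * χ ⟨φ₀ x, hmem x⟩ * (w' * w)⁻¹
  have hm2 : w⁻¹ * ((⟨φ x, h x⟩ : Q) : Ω) * w⁻¹⁻¹ ∈ Q.map (MulAut.conj w⁻¹).toMonoidHom := ⟨φ x, h x, rfl⟩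
  have e1 : (⟨φ₀ x, hmem x⟩ : Q.map (MulAut.conj w⁻¹).toMonoidHom) = ⟨w⁻¹ * ((⟨φ x, h x⟩ : Q) : Ω) * w⁻¹⁻¹, hm2⟩ :=
    Subtype.ext (e0 x)
  rw [e1, hχx ⟨φ x, h x⟩ hm2, hψx]
  group

theorem dec_inv (c : HPCtx p F T) {P : Subgroup Ω} {φ : P →* Ω} {w : Ω} (hw : w ∈ S) (hφ : Dec c.E φ w)
    (ψ : φ.range →* Ω) (hψx : ∀ x : P, ψ ⟨φ x, ⟨x, rfl⟩⟩ = (x : Ω)) : Dec c.E ψ w⁻¹ := by
  obtain ⟨φ₀, hφ₀, hφx⟩ := hφ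
  obtain ⟨ψ₀, hψ₀, hψ₀x⟩ := c.E.inv_mem hφ₀
  obtain ⟨χ, hχ, hχx⟩ := c.conj_mem hw hψ₀ φ.range (by
    intro y
    constructor
    · rintro ⟨x, rfl⟩
      exact ⟨⟨φ₀ x, ⟨x, rfl⟩⟩, (hφx x).symm⟩
    · rintro ⟨⟨_, x, rfl⟩, rfl⟩
      exact ⟨x, hφx x⟩)
  refine ⟨χ, hχ, ?_⟩
  rintro ⟨_, x, rfl⟩
  rw [hψx x]
  have hm : w * ((⟨φ₀ x, ⟨x, rfl⟩⟩ : φ₀.range) : Ω) * w⁻¹ ∈ φ.range := ⟨x, hφx x⟩
  have e1 : (⟨φ x, ⟨x, rfl⟩⟩ : φ.range) = ⟨w * ((⟨φ₀ x, ⟨x, rfl⟩⟩ : φ₀.range) : Ω) * w⁻¹, hm⟩ :=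
    Subtype.ext (hφx x)
  rw [e1, hχx ⟨φ₀ x, ⟨x, rfl⟩⟩ hm, hψ₀x x]
  group

/-- The maps of the form `c_w ∘ φ₀` with `w ∈ S` and `φ₀` a map of the generated system. -/
def sProd (c : HPCtx p F T) : FusionSystem T :=
  autProdSystem c.E (autInducedBy S T) (hInv_hpSystem F p c.hTS)

theorem mem_sProd_iff (c : HPCtx p F T) {P : Subgroup Ω} {φ : P →* Ω} :
    φ ∈ c.sProd.Hom P ↔ ∃ w ∈ S, Dec c.E φ w := by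
  constructor
  · rintro ⟨α, hα, φ₀, hφ₀, hx⟩
    obtain ⟨w, hw, hwx⟩ := Cfsg.Agent.Lib.Helper87.mem_autInducedBy_iff.mp hα
    have hφ₀T : ∀ x : P, φ₀ x ∈ T := (c.E.le_of_mem hφ₀).2
    refine ⟨w, hw, φ₀, hφ₀, fun x => ?_⟩
    rw [hx x (hφ₀T x), hwx]
  · rintro ⟨w, hw, φ₀, hφ₀, hx⟩
    have hwN := c.hTn w hw
    refine ⟨conjAut T w hwN, conjAut_mem_autInducedBy hw hwN, φ₀, hφ₀, fun x hxT => ?_⟩
    rw [hx x, conjAut_apply]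

theorem sProd_le (c : HPCtx p F T) (P : Subgroup Ω) : c.sProd.Hom P ⊆ F.Hom P := by
  intro φ hφ
  obtain ⟨w, hw, φ₀, hφ₀, hx⟩ := c.mem_sProd_iff.mp hφ
  have hφ₀S : ∀ x : P, φ₀ x ∈ S := fun x => c.hTS ((c.E.le_of_mem hφ₀).2 x)
  exact comp_mem' F (c.E_le hφ₀) (F.conj_mem le_rfl hw) hφ₀S (fun x => hx x)

end HPCtx

end Cfsg.Agent.Lib.Helper88
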