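import Cfsg.Agent.Lib.Helper88.FusionHP4

set_option autoImplicit false
open Cfsg

namespace Cfsg.Agent.Lib.Helper88

open Cfsg.FusionSystem Cfsg.Agent.Lib.Helper87
open Cfsg.Agent.Lib.Helper89 (fullSubsystem mem_fullSubsystem_iff autGroup_fullSubsystem)

variable {Ω : Type*} [Group Ω] {S T : Subgroup Ω}

/-- Conjugation by an element of `S` preserves fully normalized subgroups. -/
theorem isFullyNormalized_map_conj [Finite S] (F : FusionSystem S) {P₀ : Subgroup Ω} (h : F.IsFullyNormalized P₀)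
    {w : Ω} (hw : w ∈ S) : F.IsFullyNormalized (P₀.map (MulAut.conj w).toMonoidHom) := by
  have hP₀S := h.1
  have hu : conjHom S w ∈ F.Hom S := F.conj_mem le_rfl hw
  have h1 := card_normalizerIn_le_of_hom F hu hP₀S
  rw [img_conjHom w hP₀S] at h1
  have hconj : F.IsConj P₀ (P₀.map (MulAut.conj w).toMonoidHom) := by
    refine ⟨conjHom P₀ w, F.conj_mem hP₀S hw, ?_⟩
    ext y
    constructor
    · rintro ⟨x, rfl⟩
      exact ⟨x, x.2, rfl⟩
    · rintro ⟨x, hx, rfl⟩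
      exact ⟨⟨x, hx⟩, rfl⟩
  refine ⟨isConj_le_right F hconj, fun Q hQ => ?_⟩
  exact (h.2 Q (isConj_trans F hconj hQ)).trans h1

/-- An automorphism of `R₁` in the system stabilizing `P`, built from a map `R₁ → R₁` restricting to `α` on `P`. -/
theorem exists_stab_lift [Finite S] (F : FusionSystem S) {P R₁ : Subgroup Ω} (hPR₁ : P ≤ R₁) {α : MulAut P}
    {ψ₁ : R₁ →* Ω} (hψ₁ : ψ₁ ∈ F.Hom R₁) (hmem : ∀ x : R₁, ψ₁ x ∈ R₁) (hres : Restr ψ₁ α) :
    ∃ κ : ↥(stabAut F R₁ P), stabResHom F hPR₁ κ = α ∧ ∀ x : R₁, ((κ.1 x : R₁) : Ω) = ψ₁ x := by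
  have hr : ψ₁.range = R₁ := Cfsg.Agent.Lib.Helper90.range_eq_of_forall_mem F hψ₁ hmem
  have hκ₀ : homEquiv F hψ₁ hr ∈ F.autGroup R₁ := homEquiv_mem_autGroup F hψ₁ hr
  have hstab : homEquiv F hψ₁ hr ∈ stabAut F R₁ P := by
    refine mem_stabAut.mpr ⟨hκ₀, fun x => ?_⟩
    rw [homEquiv_apply]
    constructor
    · intro hx
      rw [hres x hx x.2]
      exact (α ⟨x, hx⟩).2
    · intro hx
      have h1 := hres ((α.symm ⟨ψ₁ x, hx⟩ : P) : Ω) (α.symm ⟨ψ₁ x, hx⟩).2 (hPR₁ (α.symm ⟨ψ₁ x, hx⟩).2)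
      rw [MulEquiv.apply_symm_apply] at h1
      have h2 := F.injective_of_mem hψ₁ h1
      have e : ((α.symm ⟨ψ₁ x, hx⟩ : P) : Ω) = x := congrArg (fun z : R₁ => (z : Ω)) h2
      rw [← e]
      exact (α.symm ⟨ψ₁ x, hx⟩).2
  refine ⟨⟨homEquiv F hψ₁ hr, hstab⟩, ?_, fun x => homEquiv_apply F hψ₁ hr x⟩
  ext x
  rw [stabResHom_apply]
  show ((homEquiv F hψ₁ hr ⟨x, hPR₁ x.2⟩ : R₁) : Ω) = _
  rw [homEquiv_apply]
  exact hres x x.2 (hPR₁ x.2)

namespace HPCtx

variable [Finite S] {p : ℕ} [Fact p.Prime] {F : FusionSystem S}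

/-- Every class of the generated system contains a subgroup fully normalized in `F`. -/
theorem exists_fn_conj (c : HPCtx p F T) {P : Subgroup Ω} (hPT : P ≤ T) :
    ∃ P', c.E.IsConj P P' ∧ F.IsFullyNormalized P' := by
  obtain ⟨P₀, hconj, hfn⟩ := exists_isFullyNormalized F (hPT.trans c.hTS)
  obtain ⟨w, hw, φ₀, hφ₀, hy⟩ := c.exists_dec_of_isConj hPT hconj
  refine ⟨φ₀.range, ⟨φ₀, hφ₀, rfl⟩, ?_⟩
  have h1 := isFullyNormalized_map_conj F hfn (S.inv_mem hw)
  have e : P₀.map (MulAut.conj w⁻¹).toMonoidHom = φ₀.range := by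
    ext y
    constructor
    · rintro ⟨z, hz, rfl⟩
      obtain ⟨x, rfl⟩ := (hy z).mp hz
      refine ⟨x, ?_⟩
      show φ₀ x = w⁻¹ * (w * φ₀ x * w⁻¹) * w⁻¹⁻¹
      group
    · rintro ⟨x, rfl⟩
      refine ⟨w * φ₀ x * w⁻¹, (hy _).mpr ⟨x, rfl⟩, ?_⟩
      show w⁻¹ * (w * φ₀ x * w⁻¹) * w⁻¹⁻¹ = φ₀ x
      group
  rwa [e] at h1

/-- The generated system contains `O^p(Aut_F(P))` for a fully normalized `P ≤ T`, given the same for all larger
subgroups. -/
theorem pResidual_le_of_fn (c : HPCtx p F T) {P : Subgroup Ω} (hPT : P ≤ T) (hfn : F.IsFullyNormalized P)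
    (IH : ∀ R : Subgroup Ω, R ≤ T → Nat.card P < Nat.card R →
      (pResidual p (F.autGroup R)).map (F.autGroup R).subtype ≤ c.E.autGroup R) :
    (pResidual p (F.autGroup P)).map (F.autGroup P).subtype ≤ c.E.autGroup P := by
  have hTS := c.hTS
  have hPS : P ≤ S := hPT.trans hTS
  by_cases hcen : IsCen F T P
  · exact pResidual_le_hpSystem F p c.hTS hcen
  obtain ⟨hfc, -⟩ := fullyNormalized_props p c.hS F c.hF P hfn
  have hrec : F.IsReceptive P := isReceptive_of_isFullyCentralized p c.hS F c.hF P hfc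
  have hC : ¬ centralizerIn T P ≤ P := fun h => hcen (isCen_of_receptive F c.hsc hPT hrec h)
  obtain ⟨g, hgC, hgP⟩ := SetLike.not_le_iff_exists.mp hC
  set R₁ : Subgroup Ω := P ⊔ centralizerIn T P with hR₁
  have hPR₁ : P ≤ R₁ := le_sup_left
  have hR₁T : R₁ ≤ T := sup_le hPT (centralizerIn_le T P)
  have hR₁S : R₁ ≤ S := hR₁T.trans hTS
  haveI : Finite R₁ := finite_of_le hR₁S
  have hcard : Nat.card P < Nat.card R₁ :=
    card_lt_of_le_of_not_mem le_sup_left (le_sup_right (a := P) hgC) hgP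
  -- surjectivity of the restriction
  have hsurj : ∀ α ∈ F.autGroup P, ∃ κ : ↥(stabAut F R₁ P), stabResHom F hPR₁ κ = α := by
    intro α hα
    set N := extender S P (P.subtype.comp (α : P ≃* P).toMonoidHom) with hN
    obtain ⟨ψ, hψ, hψx⟩ := exists_ext_aut F hrec hα
    have hPN : P ≤ N := le_extender hPS (fun x => hPS (α x).2)
    have hCN : centralizerIn T P ≤ N :=
      (centralizerIn_mono' hTS P).trans (centralizerIn_le_extender S P _)
    have hR₁N : R₁ ≤ N := sup_le hPN hCN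
    have hψ₁ : ψ.comp (Subgroup.inclusion hR₁N) ∈ F.Hom R₁ := restrict_mem F hR₁N hψ
    have hψ₁T : ∀ x : R₁, (ψ.comp (Subgroup.inclusion hR₁N)) x ∈ T := c.hsc.2 R₁ hR₁T _ hψ₁
    have hmem : ∀ x : R₁, (ψ.comp (Subgroup.inclusion hR₁N)) x ∈ R₁ := by
      apply sup_hom_mem
      · intro x
        show ψ ⟨x, _⟩ ∈ R₁
        rw [hψx x x.2 (hPN x.2)]
        exact hPR₁ (α x).2
      · intro x
        apply le_sup_right (a := P)
        refine mem_centralizerIn.mpr ⟨hψ₁T _, fun y hy => ?_⟩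
        obtain ⟨hxT, hxc⟩ := mem_centralizerIn.mp x.2
        have h1 := hψx ((α.symm ⟨y, hy⟩ : P) : Ω) (α.symm ⟨y, hy⟩).2 (hPN (α.symm ⟨y, hy⟩).2)
        rw [MulEquiv.apply_symm_apply] at h1
        show y * ψ ⟨x, hCN x.2⟩ = ψ ⟨x, hCN x.2⟩ * y
        have h1' : y = ψ ⟨((α.symm ⟨y, hy⟩ : P) : Ω), hPN (α.symm ⟨y, hy⟩).2⟩ := h1.symm
        rw [h1', ← map_mul, ← map_mul]
        congr 1
        exact Subtype.ext (hxc _ (α.symm ⟨y, hy⟩).2)
    have hres : Restr (ψ.comp (Subgroup.inclusion hR₁N)) α := fun x hx hxR => hψx x hx (hR₁N hxR)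
    obtain ⟨κ, hκ, -⟩ := exists_stab_lift F hPR₁ hψ₁ hmem hres
    exact ⟨κ, hκ⟩
  haveI : Finite (F.autGroup R₁) := finite_autGroup F hR₁S
  haveI : Finite ↥(stabAut F R₁ P) :=
    Finite.of_injective (Subgroup.inclusion (stabAut_le F R₁ P)) (Subgroup.inclusion_injective _)
  have hval : ∀ κ : ↥(stabAut F R₁ P), stabResHom F hPR₁ κ ∈ F.autGroup P := fun κ =>
    (restr_stabResHom F hPR₁ κ).mem_autGroup F (autGroup_hom_mem F hR₁S (mem_stabAut.mp κ.2).1) hPR₁
  set f : ↥(stabAut F R₁ P) →* ↥(F.autGroup P) := (stabResHom F hPR₁).codRestrict (F.autGroup P) hval with hf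
  have hfs : Function.Surjective f := by
    rintro ⟨α, hα⟩
    obtain ⟨κ, hκ⟩ := hsurj α hα
    exact ⟨κ, Subtype.ext hκ⟩
  have hmap := Cfsg.Agent.Lib.Helper54.map_pResidual_of_surjective (p := p) f hfs
  rintro n ⟨m, hm, rfl⟩
  have hm' : m ∈ (pResidual p ↥(stabAut F R₁ P)).map f := by
    rw [hmap]
    exact hm
  obtain ⟨σ, hσ, rfl⟩ := hm'
  have hσR : (σ.1 : MulAut R₁) ∈ (pResidual p (F.autGroup R₁)).map (F.autGroup R₁).subtype := by
    have := pResidual_map_le p (Subgroup.inclusion (stabAut_le F R₁ P)) ⟨σ, hσ, rfl⟩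
    exact ⟨_, this, rfl⟩
  have hσE := IH R₁ hR₁T hcard hσR
  have h1 := (mem_autGroup_iff c.E hR₁T).mp hσE
  have h2 := restrict_mem c.E hPR₁ h1
  rw [mem_autGroup_iff c.E hPT]
  exact hom_congr c.E h2 (fun x => rfl)

/-- The generated system contains `O^p(Aut_F(P))` for every `P ≤ T`. -/
theorem pResidual_le_E (c : HPCtx p F T) : ∀ P : Subgroup Ω, P ≤ T →
    (pResidual p (F.autGroup P)).map (F.autGroup P).subtype ≤ c.E.autGroup P := by
  haveI := c.finT
  have key : ∀ d : ℕ, ∀ P : Subgroup Ω, P ≤ T → Nat.card T - Nat.card P = d →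
      (pResidual p (F.autGroup P)).map (F.autGroup P).subtype ≤ c.E.autGroup P := by
    intro d
    induction d using Nat.strong_induction_on with
    | _ d ih =>
      intro P hPT hd
      have IH : ∀ R : Subgroup Ω, R ≤ T → Nat.card P < Nat.card R →
          (pResidual p (F.autGroup R)).map (F.autGroup R).subtype ≤ c.E.autGroup R := by
        intro R hRT hlt
        have := card_le_of_le hRT
        exact ih (Nat.card T - Nat.card R) (by omega) R hRT rfl
      obtain ⟨P', ⟨φ₀, hφ₀, hr⟩, hfn⟩ := c.exists_fn_conj hPT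
      have hP'T : P' ≤ T := by
        rw [← hr]
        rintro _ ⟨x, rfl⟩
        exact (c.E.le_of_mem hφ₀).2 x
      have heE := isFIso_homEquiv c.E hφ₀ hr
      have heF := isFIso_homEquiv F (c.E_le hφ₀) hr
      have hcardP' : Nat.card P' = Nat.card P := (Nat.card_congr (homEquiv F (c.E_le hφ₀) hr).toEquiv).symm
      have h1 := c.pResidual_le_of_fn hP'T hfn (fun R hRT hlt => IH R hRT (hcardP' ▸ hlt))
      intro n hn
      have h2 := h1 (congr_mem_pResidual p F heF hn)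
      exact (congr_mem_autGroup_iff c.E heE n).mp h2
  intro P hPT
  exact key _ P hPT rfl

end HPCtx

end Cfsg.Agent.Lib.Helper88
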