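import Cfsg.Agent.Lib.Helper88.FusionHP5
import Cfsg.Agent.Lib.Helper91.FusionCentricExt

set_option autoImplicit false
open Cfsg

namespace Cfsg.Agent.Lib.Helper88

open Cfsg.FusionSystem Cfsg.Agent.Lib.Helper87
open Cfsg.Agent.Lib.Helper89 (fullSubsystem mem_fullSubsystem_iff autGroup_fullSubsystem)
open Cfsg.Agent.Lib.Helper91 (isCentric_of_isConj)

variable {Ω : Type*} [Group Ω] {S T : Subgroup Ω}

theorem extender_mono' {A B P : Subgroup Ω} (h : A ≤ B) (φ : P →* Ω) : extender A P φ ≤ extender B P φ := by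
  unfold extender
  apply Subgroup.closure_mono
  rintro g ⟨hgA, hgN, k, hkA, hk⟩
  exact ⟨h hgA, hgN, k, h hkA, hk⟩

/-- A receptive subgroup containing its centralizer in `S` is centric. -/
theorem isCentric_of_receptive (F : FusionSystem S) {R : Subgroup Ω} (hrec : F.IsReceptive R)
    (hC : centralizerIn S R ≤ R) : F.IsCentric R :=
  isCen_of_receptive F ⟨le_rfl, fun _ _ _ hφ x => hom_mem F hφ x⟩ hrec.1 hrec hC

/-- The hypotheses for index `p`: the quotient `S/T` is given by a map `lam` to a commutative group, and is cyclic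
generated by any element outside `T`. -/
structure HPCtxL [Finite S] (p : ℕ) (F : FusionSystem S) (T : Subgroup Ω) {Z : Type*} [CommGroup Z] (lam : Ω → Z) : Prop
    extends HPCtx p F T where
  hmul : ∀ a ∈ S, ∀ b ∈ S, lam (a * b) = lam a * lam b
  hker : ∀ s ∈ S, lam s = 1 ↔ s ∈ T
  hcyc : ∀ x ∈ S, x ∉ T → ∀ s ∈ S, ∃ i : ℕ, x ^ i * s ∈ T
  hfoc : F.focalSubgroup ≤ T

namespace HPCtx

variable [Finite S] {p : ℕ} [Fact p.Prime] {F : FusionSystem S}

omit [Fact (Nat.Prime p)] in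
theorem autGroup_E_le (c : HPCtx p F T) {P : Subgroup Ω} (hPT : P ≤ T) : c.E.autGroup P ≤ F.autGroup P := by
  intro α hα
  rw [mem_autGroup_iff F (hPT.trans c.hTS)]
  exact c.E_le ((mem_autGroup_iff c.E hPT).mp hα)

/-- A subgroup centric relative to `T`, fully normalized in `F` and centralized by an element of `S` outside `T`, is
fully automized and receptive in the generated system, provided `S` is generated by `T` and that element. -/
theorem good_of_not_centric (c : HPCtx p F T) (hcyc : ∀ x ∈ S, x ∉ T → ∀ s ∈ S, ∃ i : ℕ, x ^ i * s ∈ T)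
    {P : Subgroup Ω} (hP : IsCen F T P) (hfn : F.IsFullyNormalized P) (hnc : ¬ F.IsCentric P) :
    c.E.IsFullyAutomized p P ∧ c.E.IsReceptive P := by
  have hTS := c.hTS
  haveI := c.finT
  have hPT := hP.1
  have hPS : P ≤ S := hPT.trans hTS
  obtain ⟨hfc, hfa⟩ := fullyNormalized_props p c.hS F c.hF P hfn
  have hrec : F.IsReceptive P := isReceptive_of_isFullyCentralized p c.hS F c.hF P hfc
  have hC : ¬ centralizerIn S P ≤ P := fun h => hnc (isCentric_of_receptive F hrec h)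
  obtain ⟨x, hxC, hxP⟩ := SetLike.not_le_iff_exists.mp hC
  obtain ⟨hxS, hxc⟩ := mem_centralizerIn.mp hxC
  have hxT : x ∉ T := fun h => hxP (hP.2 P (isConj_refl F hPS) (mem_centralizerIn.mpr ⟨h, hxc⟩))
  have hpow : ∀ i : ℕ, ∀ y ∈ P, x ^ i * y * (x ^ i)⁻¹ = y := by
    intro i y hy
    have h1 : x ^ i ∈ centralizerIn S P := Subgroup.pow_mem _ hxC i
    have h2 := (mem_centralizerIn.mp h1).2 y hy
    rw [← h2]
    group
  constructor
  · rw [isFullyAutomized_iff c.E p hPT]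
    rw [isFullyAutomized_iff F p hPS] at hfa
    haveI : Finite (F.autGroup P) := finite_autGroup F hPS
    have heq : autInducedBy S P ≤ autInducedBy T P := by
      intro α hα
      obtain ⟨s, hs, hsx⟩ := Cfsg.Agent.Lib.Helper87.mem_autInducedBy_iff.mp hα
      obtain ⟨i, hi⟩ := hcyc x hxS hxT s hs
      refine Cfsg.Agent.Lib.Helper87.mem_autInducedBy_iff.mpr ⟨x ^ i * s, hi, fun y => ?_⟩
      rw [hsx y]
      have h1 := hpow i (s * (y : Ω) * s⁻¹) (hsx y ▸ (α y).2)
      rw [← h1]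
      group
    have heq' : autInducedBy T P = autInducedBy S P := le_antisymm (autInducedBy_mono hTS) heq
    rw [heq']
    refine hfa.mono ?_ (c.autGroup_E_le hPT)
    rw [← heq']
    exact autInducedBy_le_autGroup c.E hPT
  · refine ⟨hPT, fun Q φ hφ hr => ?_⟩
    have hφF := c.E_le hφ
    obtain ⟨ψF, hψF, hψFx⟩ := hrec.2 Q φ hφF hr
    have hNN : extender T Q φ ≤ extender S Q φ := extender_mono' hTS φ
    have hNT : extender T Q φ ≤ T := (extender_le T Q φ).trans (normalizerIn_le T Q)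
    have hψ₁ : ψF.comp (Subgroup.inclusion hNN) ∈ F.Hom (extender T Q φ) := restrict_mem F hNN hψF
    obtain ⟨w, hw, φ₀, hφ₀, hφ₀x⟩ := c.frattini _ hNT _ hψ₁
    obtain ⟨i, hi⟩ := hcyc x hxS hxT w hw
    have hdec : Dec c.E ((MulAut.conj (x ^ i)).toMonoidHom.comp (ψF.comp (Subgroup.inclusion hNN))) (x ^ i * w) := by
      refine ⟨φ₀, hφ₀, fun y => ?_⟩
      show x ^ i * (ψF.comp (Subgroup.inclusion hNN)) y * (x ^ i)⁻¹ = _
      rw [hφ₀x y]
      group
    refine ⟨_, hdec.mem_of_mem hi, fun y hyQ hyN => ?_⟩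
    show x ^ i * ψF ⟨y, hNN hyN⟩ * (x ^ i)⁻¹ = _
    rw [hψFx y hyQ (hNN hyN)]
    apply hpow
    rw [← hr]
    exact ⟨_, rfl⟩

omit [Fact (Nat.Prime p)] in
/-- The inverse of an automorphism decomposes with the inverse element. -/
theorem dec_aut_inv (c : HPCtx p F T) {P : Subgroup Ω} {k : MulAut P} {w : Ω} (hw : w ∈ S)
    (h : Dec c.E (P.subtype.comp (k : P ≃* P).toMonoidHom) w) :
    Dec c.E (P.subtype.comp ((k⁻¹ : MulAut P) : P ≃* P).toMonoidHom) w⁻¹ := by
  have hr : (P.subtype.comp (k : P ≃* P).toMonoidHom).range = P := IsFIso.range_eq (k : P ≃* P)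
  obtain ⟨χ, hχ, hχx⟩ := c.dec_inv hw h
    ((P.subtype.comp ((k⁻¹ : MulAut P) : P ≃* P).toMonoidHom).comp (Subgroup.inclusion hr.le)) (by
      intro x
      show (((k⁻¹ : MulAut P) ⟨((k x : P) : Ω), _⟩ : P) : Ω) = x
      have : (⟨((k x : P) : Ω), (k x).2⟩ : P) = k x := rfl
      rw [this, MulAut.inv_apply_self])
  refine ⟨χ.comp (Subgroup.inclusion hr.ge), cast_mem c.E hr.symm hχ, fun x => ?_⟩
  exact hχx ⟨x, hr.ge x.2⟩

/-- `Aut_E(P)` is normal in `Aut_F(P)`. -/
theorem autGroup_normal (c : HPCtx p F T) {P : Subgroup Ω} (hPT : P ≤ T) {k v : MulAut P} (hk : k ∈ F.autGroup P)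
    (hv : v ∈ c.E.autGroup P) : k * v * k⁻¹ ∈ c.E.autGroup P := by
  have hPS : P ≤ S := hPT.trans c.hTS
  obtain ⟨w, hw, hdk⟩ := c.frattini P hPT _ (autGroup_hom_mem F hPS hk)
  have hdki := c.dec_aut_inv hw hdk
  have hdv : Dec c.E (P.subtype.comp (v : P ≃* P).toMonoidHom) 1 := Dec.of_mem ((mem_autGroup_iff c.E hPT).mp hv)
  have h1 := c.dec_comp (S.inv_mem hw) hdki hdv (fun x => ((k⁻¹ : MulAut P) x).2)
  have h2 := c.dec_comp (S.mul_mem S.one_mem (S.inv_mem hw)) h1 hdk (fun x => (v ((k⁻¹ : MulAut P) x)).2)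
  rw [mem_autGroup_iff c.E hPT]
  have h3 : Dec c.E (P.subtype.comp ((k * v * k⁻¹ : MulAut P) : P ≃* P).toMonoidHom) (w * (1 * w⁻¹)) :=
    h2.congr (fun x => rfl)
  apply h3.mem_of_mem
  rw [one_mul, mul_inv_cancel]
  exact T.one_mem

/-- A centric subgroup of `T`, fully normalized in `F`, is fully automized and receptive in the generated system,
provided conjugations of centric subgroups by elements outside `T` are not maps of the generated system. -/
theorem good_of_centric (c : HPCtx p F T)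
    (hW : ∀ Q : Subgroup Ω, Q ≤ T → F.IsCentric Q → ∀ w ∈ S, conjHom Q w ∈ c.E.Hom Q → w ∈ T)
    {P : Subgroup Ω} (hPT : P ≤ T) (hfn : F.IsFullyNormalized P) (hcen : F.IsCentric P) :
    c.E.IsFullyAutomized p P ∧ c.E.IsReceptive P := by
  have hTS := c.hTS
  haveI := c.finT
  have hPS : P ≤ S := hPT.trans hTS
  obtain ⟨hfc, hfa⟩ := fullyNormalized_props p c.hS F c.hF P hfn
  have hrec : F.IsReceptive P := isReceptive_of_isFullyCentralized p c.hS F c.hF P hfc
  constructor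
  · rw [isFullyAutomized_iff c.E p hPT]
    rw [isFullyAutomized_iff F p hPS] at hfa
    haveI : Finite (F.autGroup P) := finite_autGroup F hPS
    have hle : c.E.autGroup P ≤ F.autGroup P := c.autGroup_E_le hPT
    have h1 := hfa.inf_normal hle (fun k hk v hv => c.autGroup_normal hPT hk hv)
    have heq : autInducedBy S P ⊓ c.E.autGroup P = autInducedBy T P := by
      apply le_antisymm
      · rintro α ⟨hαS, hαE⟩
        obtain ⟨s, hs, hsx⟩ := Cfsg.Agent.Lib.Helper87.mem_autInducedBy_iff.mp hαS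
        have h2 : conjHom P s ∈ c.E.Hom P :=
          hom_congr c.E ((mem_autGroup_iff c.E hPT).mp hαE) (fun x => (hsx x).symm)
        exact Cfsg.Agent.Lib.Helper87.mem_autInducedBy_iff.mpr ⟨s, hW P hPT hcen s hs h2, hsx⟩
      · exact le_inf (autInducedBy_mono hTS) (autInducedBy_le_autGroup c.E hPT)
    rwa [heq] at h1
  · refine ⟨hPT, fun Q φ hφ hr => ?_⟩
    have hφF := c.E_le hφ
    have hQT : Q ≤ T := (c.E.le_of_mem hφ).1
    obtain ⟨ψF, hψF, hψFx⟩ := hrec.2 Q φ hφF hr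
    have hNN : extender T Q φ ≤ extender S Q φ := extender_mono' hTS φ
    have hNT : extender T Q φ ≤ T := (extender_le T Q φ).trans (normalizerIn_le T Q)
    have hQN : Q ≤ extender T Q φ := le_extender hQT (fun x => (c.E.le_of_mem hφ).2 x)
    have hψ₁ : ψF.comp (Subgroup.inclusion hNN) ∈ F.Hom (extender T Q φ) := restrict_mem F hNN hψF
    obtain ⟨w, hw, φ₀, hφ₀, hφ₀x⟩ := c.frattini _ hNT _ hψ₁
    -- the restriction of `φ₀` to `Q`
    have hφ₀Q : φ₀.comp (Subgroup.inclusion hQN) ∈ c.E.Hom Q := restrict_mem c.E hQN hφ₀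
    obtain ⟨ρ, hρ, hρx⟩ := c.E.inv_mem hφ₀Q
    have hQ'T : (φ₀.comp (Subgroup.inclusion hQN)).range ≤ T := by
      rintro _ ⟨x, rfl⟩
      exact (c.E.le_of_mem hφ₀Q).2 x
    have hρQ : ∀ y, ρ y ∈ Q := by
      rintro ⟨_, x, rfl⟩
      rw [hρx]
      exact x.2
    have hconjE : conjHom (φ₀.comp (Subgroup.inclusion hQN)).range w ∈
        c.E.Hom (φ₀.comp (Subgroup.inclusion hQN)).range := by
      refine comp_mem' c.E hρ hφ hρQ ?_
      rintro ⟨_, x, rfl⟩
      have e1 : (⟨ρ ⟨(φ₀.comp (Subgroup.inclusion hQN)) x, ⟨x, rfl⟩⟩, hρQ _⟩ : Q) = x := Subtype.ext (hρx x)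
      rw [e1]
      have h3 := hφ₀x (Subgroup.inclusion hQN x)
      have h4 := hψFx x x.2 (hNN (hQN x.2))
      show w * φ₀ (Subgroup.inclusion hQN x) * w⁻¹ = φ x
      rw [← h3]
      exact h4
    have hQ'cen : F.IsCentric (φ₀.comp (Subgroup.inclusion hQN)).range := by
      have h5 : F.IsConj P Q := isConj_symm F ⟨φ, hφF, hr⟩
      have h6 : F.IsConj Q (φ₀.comp (Subgroup.inclusion hQN)).range := ⟨_, c.E_le hφ₀Q, rfl⟩
      exact isCentric_of_isConj F hcen (isConj_trans F h5 h6)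
    have hwT := hW _ hQ'T hQ'cen w hw hconjE
    have hdec : Dec c.E (ψF.comp (Subgroup.inclusion hNN)) w := ⟨φ₀, hφ₀, hφ₀x⟩
    exact ⟨_, hdec.mem_of_mem hwT, fun y hyQ hyN => hψFx y hyQ (hNN hyN)⟩

end HPCtx

end Cfsg.Agent.Lib.Helper88
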