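import Cfsg.Agent.Lib.Helper88.FusionHP6
import Cfsg.Agent.Lib.Helper41.FamilyTransfer
import Cfsg.Agent.Lib.Helper02.PResidual
import Cfsg.Agent.Lib.Helper87.FusionCentric2

set_option autoImplicit false
open Cfsg

namespace Cfsg.Agent.Lib.Helper88

open Cfsg.FusionSystem Cfsg.Agent.Lib.Helper87
open scoped commutatorElement

variable {Ω : Type*} [Group Ω] {S T : Subgroup Ω}

/-- `O^p(Aut_F(X))` as a subgroup of `Aut(X)`. -/
def resAut (F : FusionSystem S) (p : ℕ) (X : Subgroup Ω) : Subgroup (MulAut X) :=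
  (pResidual p (F.autGroup X)).map (F.autGroup X).subtype

/-- The group `Aut_T(X) O^p(Aut_F(X))`. -/
def kAut (F : FusionSystem S) (p : ℕ) (T X : Subgroup Ω) : Subgroup (MulAut X) :=
  autInducedBy T X ⊔ resAut F p X

theorem resAut_le (F : FusionSystem S) (p : ℕ) (X : Subgroup Ω) : resAut F p X ≤ F.autGroup X :=
  Subgroup.map_subtype_le _

theorem resAut_conj (F : FusionSystem S) (p : ℕ) (X : Subgroup Ω) {a o : MulAut X} (ha : a ∈ F.autGroup X)
    (ho : o ∈ resAut F p X) : a * o * a⁻¹ ∈ resAut F p X := by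
  obtain ⟨m, hm, rfl⟩ := ho
  have hn := Cfsg.Agent.Lib.Helper54.pResidual_normal p (F.autGroup X)
  exact ⟨⟨a, ha⟩ * m * ⟨a, ha⟩⁻¹, hn.conj_mem m hm ⟨a, ha⟩, rfl⟩

theorem congr_self_eq {X : Subgroup Ω} (α f : MulAut X) : MulAut.congr (α : X ≃* X) f = α * f * α⁻¹ := by
  ext x
  rfl

/-- The local situation at a centric fully normalized subgroup `X` of `T`. -/
structure QCtx [Finite S] (p : ℕ) (F : FusionSystem S) (T X : Subgroup Ω) : Prop extends HPCtx p F T where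
  hfoc : F.focalSubgroup ≤ T
  hXT : X ≤ T
  hXc : F.IsCentric X
  hXfn : F.IsFullyNormalized X

namespace QCtx

variable [Finite S] {p : ℕ} [Fact p.Prime] {F : FusionSystem S} {X : Subgroup Ω}

omit [Fact (Nat.Prime p)] in
theorem hXS (q : QCtx p F T X) : X ≤ S := q.hXT.trans q.toHPCtx.hTS

theorem hrec (q : QCtx p F T X) : F.IsReceptive X :=
  isReceptive_of_isFullyCentralized p q.hS F q.hF X (fullyNormalized_props p q.hS F q.hF X q.hXfn).1

theorem hfa (q : QCtx p F T X) : IsSylIn p (autInducedBy S X) (F.autGroup X) :=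
  (isFullyAutomized_iff F p q.hXS).mp (fullyNormalized_props p q.hS F q.hF X q.hXfn).2

omit [Fact (Nat.Prime p)] in
theorem hcent (q : QCtx p F T X) : centralizerIn S X ≤ X := q.hXc.2 X (isConj_refl F q.hXS)

omit [Fact (Nat.Prime p)] in
theorem finA (q : QCtx p F T X) : Finite (F.autGroup X) := finite_autGroup F q.hXS

omit [Fact (Nat.Prime p)] in
theorem tAut_le_sAut (q : QCtx p F T X) : autInducedBy T X ≤ autInducedBy S X := autInducedBy_mono q.toHPCtx.hTS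

omit [Fact (Nat.Prime p)] in
theorem sAut_le (q : QCtx p F T X) : autInducedBy S X ≤ F.autGroup X := autInducedBy_le_autGroup F q.hXS

omit [Fact (Nat.Prime p)] in
theorem kAut_le (q : QCtx p F T X) : kAut F p T X ≤ F.autGroup X :=
  sup_le (q.tAut_le_sAut.trans q.sAut_le) (resAut_le F p X)

omit [Fact (Nat.Prime p)] in
/-- `Aut_S(X)` normalizes `Aut_T(X)`. -/
theorem tAut_conj (q : QCtx p F T X) {σ τ : MulAut X} (hσ : σ ∈ autInducedBy S X) (hτ : τ ∈ autInducedBy T X) :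
    σ * τ * σ⁻¹ ∈ autInducedBy T X := by
  obtain ⟨s, hs, hsx⟩ := Cfsg.Agent.Lib.Helper87.mem_autInducedBy_iff.mp hσ
  obtain ⟨t, ht, htx⟩ := Cfsg.Agent.Lib.Helper87.mem_autInducedBy_iff.mp hτ
  refine Cfsg.Agent.Lib.Helper87.mem_autInducedBy_iff.mpr ⟨s * t * s⁻¹, q.toHPCtx.conj_mem_T hs ht, fun x => ?_⟩
  show ((σ (τ (σ⁻¹ x)) : X) : Ω) = _
  rw [hsx, htx]
  have h1 := hsx (σ⁻¹ x)
  rw [MulAut.apply_inv_self] at h1
  have h2 : ((σ⁻¹ x : X) : Ω) = s⁻¹ * x * s := by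
    rw [h1]; group
  rw [h2]
  group

/-- `Aut_F(X) = O^p(Aut_F(X)) Aut_S(X)`. -/
theorem exists_mul_of_mem_autGroup (q : QCtx p F T X) {a : MulAut X} (ha : a ∈ F.autGroup X) :
    ∃ o ∈ resAut F p X, ∃ σ ∈ autInducedBy S X, a = o * σ := by
  haveI := q.finA
  obtain ⟨-, Sy, hSy⟩ := (fullyNormalized_props p q.hS F q.hF X q.hXfn).2
  have hsup := Cfsg.Agent.Lib.Helper54.pResidual_sup_sylow Sy
  have hnormal := Cfsg.Agent.Lib.Helper54.pResidual_normal p (F.autGroup X)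
  have hmem : (⟨a, ha⟩ : F.autGroup X) ∈ ((pResidual p (F.autGroup X) ⊔ (Sy : Subgroup (F.autGroup X)) :
      Subgroup (F.autGroup X)) : Set (F.autGroup X)) := by
    rw [hsup]; trivial
  rw [Subgroup.normal_mul] at hmem
  obtain ⟨o, ho, r, hr, hor⟩ := Set.mem_mul.mp hmem
  have hr' : r ∈ (Sy : Subgroup (F.autGroup X)) := hr
  rw [hSy, Subgroup.mem_subgroupOf] at hr'
  refine ⟨o, ⟨o, ho, rfl⟩, r, hr', ?_⟩
  have := congrArg (fun z : F.autGroup X => (z : MulAut X)) hor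
  exact this.symm

omit [Fact (Nat.Prime p)] in
theorem exists_mul_of_mem_kAut (q : QCtx p F T X) {k : MulAut X} (hk : k ∈ kAut F p T X) :
    ∃ τ ∈ autInducedBy T X, ∃ o ∈ resAut F p X, k = τ * o :=
  exists_mul_of_mem_sup (fun _ hτ _ ho => resAut_conj F p X (q.sAut_le (q.tAut_le_sAut hτ)) ho) hk

/-- `Aut_F(X)` normalizes `Aut_T(X) O^p(Aut_F(X))`. -/
theorem kAut_conj (q : QCtx p F T X) {a k : MulAut X} (ha : a ∈ F.autGroup X) (hk : k ∈ kAut F p T X) :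
    a * k * a⁻¹ ∈ kAut F p T X := by
  obtain ⟨τ, hτ, o, ho, rfl⟩ := q.exists_mul_of_mem_kAut hk
  obtain ⟨o', ho', σ, hσ, rfl⟩ := q.exists_mul_of_mem_autGroup ha
  have h1 : o' * σ * (τ * o) * (o' * σ)⁻¹ = o' * (σ * τ * σ⁻¹) * o'⁻¹ * ((o' * σ) * o * (o' * σ)⁻¹) := by group
  rw [h1]
  have hK : ∀ z ∈ resAut F p X, z ∈ kAut F p T X := fun z hz => (le_sup_right : resAut F p X ≤ kAut F p T X) hz
  refine Subgroup.mul_mem _ (Subgroup.mul_mem _ (Subgroup.mul_mem _ (hK _ ho') ?_) (hK _ (Subgroup.inv_mem _ ho'))) ?_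
  · exact (le_sup_left : autInducedBy T X ≤ kAut F p T X) (q.tAut_conj hσ hτ)
  · exact hK _ (resAut_conj F p X ha ho)

/-- The conjugation formula for a lift. -/
theorem conj_lift {R : Subgroup Ω} (hXR : X ≤ R) {β : R →* Ω} {α : MulAut X} (hres : Restr β α)
    {g : Ω} (hgR : g ∈ R) {γ : MulAut X} (hγ : ∀ x : X, ((γ x : X) : Ω) = g * x * g⁻¹) (x : X) :
    (((α * γ * α⁻¹) x : X) : Ω) = β ⟨g, hgR⟩ * x * (β ⟨g, hgR⟩)⁻¹ := by
  show ((α (γ (α⁻¹ x)) : X) : Ω) = _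
  rw [← hres _ (γ (α⁻¹ x)).2 (hXR (γ (α⁻¹ x)).2)]
  have e1 : (⟨((γ (α⁻¹ x) : X) : Ω), hXR (γ (α⁻¹ x)).2⟩ : R) =
      ⟨g, hgR⟩ * ⟨((α⁻¹ x : X) : Ω), hXR (α⁻¹ x).2⟩ * ⟨g, hgR⟩⁻¹ := Subtype.ext (hγ _)
  rw [e1, map_mul, map_mul, map_inv, hres _ (α⁻¹ x).2 (hXR (α⁻¹ x).2), MulAut.apply_inv_self]

/-- Existence of lifts: an automorphism `α` of `X` in the system extends to a subgroup `R` of `N_S(X)` whose
action on `X` is carried by `α` into `Aut_S(X)`. -/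
theorem exists_lift (q : QCtx p F T X) {α : MulAut X} (hα : α ∈ F.autGroup X) {R : Subgroup Ω}
    (hRN : R ≤ normalizerIn S X)
    (h : ∀ g ∈ R, ∀ hg : g ∈ Subgroup.normalizer (X : Set Ω), α * conjAut X g hg * α⁻¹ ∈ autInducedBy S X) :
    ∃ β ∈ F.Hom R, Restr β α := by
  obtain ⟨ψ, hψ, hψx⟩ := exists_ext_aut F q.hrec hα
  have hRE : R ≤ extender S X (X.subtype.comp (α : X ≃* X).toMonoidHom) := by
    intro g hg
    apply mem_extender_of_congr (α : X ≃* X) (hRN hg)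
    rw [congr_self_eq]
    exact h g hg (hRN hg).2
  exact ⟨ψ.comp (Subgroup.inclusion hRE), restrict_mem F hRE hψ, fun x hx hxR => hψx x hx (hRE hxR)⟩

end QCtx

end Cfsg.Agent.Lib.Helper88
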