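import Cfsg.Agent.Lib.Helper88.FusionHP7

set_option autoImplicit false
open Cfsg

namespace Cfsg.Agent.Lib.Helper88

open Cfsg.FusionSystem Cfsg.Agent.Lib.Helper87
open scoped commutatorElement

variable {Ω : Type*} [Group Ω] {S T : Subgroup Ω}

namespace QCtx

variable [Finite S] {p : ℕ} [Fact p.Prime] {F : FusionSystem S} {X : Subgroup Ω}

/-- The commutators `[x, u]`, `x ∈ Aut_S(X)`, `u ∈ Aut_F(X)`, lying in `Aut_S(X)` lie in `Aut_T(X)`. -/
theorem comm_mem_tAut (q : QCtx p F T X) {xv uv : MulAut X} (hx : xv ∈ autInducedBy S X) (hu : uv ∈ F.autGroup X)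
    (hc : xv * uv * xv⁻¹ * uv⁻¹ ∈ autInducedBy S X) : xv * uv * xv⁻¹ * uv⁻¹ ∈ autInducedBy T X := by
  have hXS := q.hXS
  obtain ⟨n, hnS, hnx⟩ := Cfsg.Agent.Lib.Helper87.mem_autInducedBy_iff.mp hx
  have hnN : n ∈ Subgroup.normalizer (X : Set Ω) := mem_normalizer_of_conj_eq hnx
  have hniN : n⁻¹ ∈ normalizerIn S X := Subgroup.inv_mem _ ⟨hnS, hnN⟩
  have hxi : ∀ y : X, ((xv⁻¹ y : X) : Ω) = n⁻¹ * y * n⁻¹⁻¹ := by
    intro y
    have h1 := hnx (xv⁻¹ y)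
    rw [MulAut.apply_inv_self] at h1
    rw [h1]
    group
  have h2 : uv * xv⁻¹ * uv⁻¹ ∈ autInducedBy S X := by
    have e : uv * xv⁻¹ * uv⁻¹ = xv⁻¹ * (xv * uv * xv⁻¹ * uv⁻¹) := by group
    rw [e]
    exact Subgroup.mul_mem _ (Subgroup.inv_mem _ hx) hc
  set N := extender S X (X.subtype.comp (uv : X ≃* X).toMonoidHom) with hN
  obtain ⟨ψ, hψ, hψx⟩ := exists_ext_aut F q.hrec hu
  have hXN : X ≤ N := le_extender hXS (fun y => hXS (uv y).2)
  have hniE : n⁻¹ ∈ N := by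
    apply mem_extender_of_congr (uv : X ≃* X) hniN
    rw [congr_self_eq]
    have e : conjAut X n⁻¹ hniN.2 = xv⁻¹ := by
      ext y
      rw [conjAut_apply, hxi]
    rw [e]
    exact h2
  have hres : Restr ψ uv := fun y hy hyN => hψx y hy hyN
  have h3 := conj_lift hXN hres hniE hxi
  have htT : n * ψ ⟨n⁻¹, hniE⟩ ∈ T := by
    apply q.hfoc
    apply Subgroup.subset_closure
    refine ⟨N, ψ, ⟨n⁻¹, hniE⟩, hψ, ?_⟩
    show n * ψ ⟨n⁻¹, hniE⟩ = n⁻¹⁻¹ * ψ ⟨n⁻¹, hniE⟩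
    rw [inv_inv]
  refine Cfsg.Agent.Lib.Helper87.mem_autInducedBy_iff.mpr ⟨n * ψ ⟨n⁻¹, hniE⟩, htT, fun y => ?_⟩
  have e : xv * uv * xv⁻¹ * uv⁻¹ = xv * (uv * xv⁻¹ * uv⁻¹) := by group
  rw [e]
  show ((xv ((uv * xv⁻¹ * uv⁻¹) y) : X) : Ω) = _
  rw [hnx, h3 y]
  group

/-- The focal subgroup theorem in `Aut_F(X)`: `O^p(Aut_F(X)) ∩ Aut_S(X) ≤ Aut_T(X)`. -/
theorem resAut_inf_sAut_le (q : QCtx p F T X) : resAut F p X ⊓ autInducedBy S X ≤ autInducedBy T X := by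
  haveI := q.finA
  rintro o ⟨hoO, hoS⟩
  obtain ⟨m, hm, rfl⟩ := hoO
  have hSp : IsPGroup p (autInducedBy S X) := isPGroup_autInducedBy q.hS X
  obtain ⟨k, hk⟩ := hSp ⟨_, hoS⟩
  have hmk : m ^ p ^ k = 1 := by
    apply Subtype.ext
    have := congrArg (fun z : autInducedBy S X => (z : MulAut X)) hk
    simpa using this
  have hcomm : m ∈ commutator (F.autGroup X) :=
    Cfsg.Agent.Lib.Helper02.mem_commutator_of_mem_pResidual m hm k hmk
  obtain ⟨-, Sy, hSy⟩ := (fullyNormalized_props p q.hS F q.hF X q.hXfn).2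
  have hidx : ¬ p ∣ ((autInducedBy S X).subgroupOf (F.autGroup X)).relIndex ⊤ := by
    rw [Subgroup.relIndex_top_right, ← hSy]
    exact Sy.not_dvd_index
  have key := Cfsg.Agent.Lib.Helper41.relative_focal (p := p) (G := F.autGroup X)
    (L := ⊤) (M := (autInducedBy S X).subgroupOf (F.autGroup X)) le_top hSp.comap_subtype hidx
    (D := (autInducedBy T X).subgroupOf (F.autGroup X)) (by
      intro x hx u _ hc
      rw [Subgroup.mem_subgroupOf] at hx hc ⊢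
      have e : ((⁅x, u⁆ : F.autGroup X) : MulAut X) = (x : MulAut X) * u * (x : MulAut X)⁻¹ * (u : MulAut X)⁻¹ := by
        rw [commutatorElement_def]
        rfl
      rw [e] at hc ⊢
      exact q.comm_mem_tAut hx u.2 hc)
  have h1 : m ∈ (autInducedBy S X).subgroupOf (F.autGroup X) ⊓ ⁅(⊤ : Subgroup (F.autGroup X)), ⊤⁆ := by
    refine ⟨Subgroup.mem_subgroupOf.mpr hoS, ?_⟩
    rw [← commutator_def]
    exact hcomm
  exact Subgroup.mem_subgroupOf.mp (key h1)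

theorem kAut_inf_sAut (q : QCtx p F T X) : autInducedBy S X ⊓ kAut F p T X = autInducedBy T X := by
  apply le_antisymm
  · rintro k ⟨hkS, hkK⟩
    obtain ⟨τ, hτ, o, ho, rfl⟩ := q.exists_mul_of_mem_kAut hkK
    have hoS : o ∈ autInducedBy S X := by
      have e : o = τ⁻¹ * (τ * o) := by group
      rw [e]
      exact Subgroup.mul_mem _ (Subgroup.inv_mem _ (q.tAut_le_sAut hτ)) hkS
    exact Subgroup.mul_mem _ hτ (q.resAut_inf_sAut_le ⟨ho, hoS⟩)
  · exact le_inf q.tAut_le_sAut le_sup_left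

/-- `Aut_T(X)` is a Sylow `p`-subgroup of `Aut_T(X) O^p(Aut_F(X))`. -/
theorem tAut_isSylIn (q : QCtx p F T X) : IsSylIn p (autInducedBy T X) (kAut F p T X) := by
  haveI := q.finA
  have h := q.hfa.inf_normal q.kAut_le (fun a ha k hk => q.kAut_conj ha hk)
  rwa [q.kAut_inf_sAut] at h

end QCtx

end Cfsg.Agent.Lib.Helper88
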