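import Cfsg.Agent.Lib.Helper88.FusionHP8

set_option autoImplicit false
open Cfsg

namespace Cfsg.Agent.Lib.Helper88

section grp

variable {G : Type*} [Group G]

/-- An element conjugating a finite subgroup into itself normalizes it. -/
theorem mem_normalizer_of_forall_conj_mem (B : Subgroup G) [Finite B] {g : G} (h : ∀ b ∈ B, g * b * g⁻¹ ∈ B) :
    g ∈ Subgroup.normalizer (B : Set G) := by
  let f : B → B := fun b => ⟨g * b * g⁻¹, h b b.2⟩
  have hinj : Function.Injective f := by
    intro a b hab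
    have := congrArg (fun z : B => (z : G)) hab
    apply Subtype.ext
    simpa [f] using this
  have hsurj : Function.Surjective f := Finite.injective_iff_surjective.mp hinj
  rw [Subgroup.mem_normalizer_iff]
  intro b
  constructor
  · exact h b
  · intro hb
    obtain ⟨b', hb'⟩ := hsurj ⟨g * b * g⁻¹, hb⟩
    have := congrArg (fun z : B => (z : G)) hb'
    have e : (b' : G) = b := by simpa [f] using this
    rw [← e]
    exact b'.2

theorem mem_map_conj_iff {B : Subgroup G} {η x : G} :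
    x ∈ B.map (MulAut.conj η).toMonoidHom ↔ η⁻¹ * x * η ∈ B := by
  constructor
  · rintro ⟨b, hb, rfl⟩
    show η⁻¹ * (η * b * η⁻¹) * η ∈ B
    have e : η⁻¹ * (η * b * η⁻¹) * η = b := by group
    rw [e]
    exact hb
  · intro h
    refine ⟨η⁻¹ * x * η, h, ?_⟩
    show η * (η⁻¹ * x * η) * η⁻¹ = x
    group

theorem conj_mem_map_conj_iff {B : Subgroup G} {η b : G} :
    η * b * η⁻¹ ∈ B.map (MulAut.conj η).toMonoidHom ↔ b ∈ B := by
  rw [mem_map_conj_iff]
  have e : η⁻¹ * (η * b * η⁻¹) * η = b := by group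
  rw [e]

theorem map_conj_normalizer (B : Subgroup G) (η : G) :
    (Subgroup.normalizer (B : Set G)).map (MulAut.conj η).toMonoidHom =
      Subgroup.normalizer ((B.map (MulAut.conj η).toMonoidHom : Subgroup G) : Set G) :=
  Subgroup.map_equiv_normalizer_eq B (MulAut.conj η)

theorem conj_mem_normalizer_map_conj_iff {B : Subgroup G} {η g : G} :
    η * g * η⁻¹ ∈ Subgroup.normalizer ((B.map (MulAut.conj η).toMonoidHom : Subgroup G) : Set G) ↔
      g ∈ Subgroup.normalizer (B : Set G) := by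
  rw [← map_conj_normalizer, conj_mem_map_conj_iff]

theorem map_conj_eq_self {K : Subgroup G} {η : G} (hη : η ∈ K) : K.map (MulAut.conj η).toMonoidHom = K := by
  ext x
  rw [mem_map_conj_iff]
  constructor
  · intro h
    have e : x = η * (η⁻¹ * x * η) * η⁻¹ := by group
    rw [e]
    exact K.mul_mem (K.mul_mem hη h) (K.inv_mem hη)
  · intro h
    exact K.mul_mem (K.mul_mem (K.inv_mem hη) h) hη

/-- `H = O^p(H) Y` for a Sylow subgroup `Y` of `H`, elementwise. -/
theorem IsSylIn.exists_mul {p : ℕ} [Fact p.Prime] {Y H : Subgroup G} [Finite H] (h : IsSylIn p Y H) {ν : G}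
    (hν : ν ∈ H) : ∃ o ∈ (Cfsg.pResidual p H).map H.subtype, ∃ y ∈ Y, ν = o * y := by
  obtain ⟨-, Sy, hSy⟩ := isSylIn_iff.mp h
  have hsup := Cfsg.Agent.Lib.Helper54.pResidual_sup_sylow Sy
  have hnormal := Cfsg.Agent.Lib.Helper54.pResidual_normal p H
  have hmem : (⟨ν, hν⟩ : H) ∈ ((Cfsg.pResidual p H ⊔ (Sy : Subgroup H) : Subgroup H) : Set H) := by
    rw [hsup]; trivial
  rw [Subgroup.normal_mul] at hmem
  obtain ⟨o, ho, r, hr, hor⟩ := Set.mem_mul.mp hmem
  have hr' : r ∈ (Sy : Subgroup H) := hr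
  rw [hSy, Subgroup.mem_subgroupOf] at hr'
  refine ⟨o, ⟨o, ho, rfl⟩, r, hr', ?_⟩
  have := congrArg (fun z : H => (z : G)) hor
  exact this.symm

/-- Residuals lift along homomorphisms onto a subgroup. -/
theorem map_pResidual_le_of_le_range {A M : Type*} [Group A] [Group M] [Finite A] (p : ℕ) [Fact p.Prime] (f : A →* M)
    (H : Subgroup M) (hH : H ≤ f.range) :
    (Cfsg.pResidual p H).map H.subtype ≤ (Cfsg.pResidual p A).map f := by
  rintro _ ⟨o, ho, rfl⟩
  set A₂ : Subgroup A := H.comap f with hA₂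
  let g : A₂ →* H := (f.comp A₂.subtype).codRestrict H (fun a => a.2)
  have hg : Function.Surjective g := by
    rintro ⟨m, hm⟩
    obtain ⟨a, rfl⟩ := hH hm
    exact ⟨⟨a, hm⟩, rfl⟩
  have hmap := Cfsg.Agent.Lib.Helper54.map_pResidual_of_surjective (p := p) g hg
  rw [← hmap] at ho
  obtain ⟨γ, hγ, rfl⟩ := ho
  have h1 : (γ : A) ∈ (Cfsg.pResidual p A₂).map A₂.subtype := ⟨γ, hγ, rfl⟩
  have h2 := Cfsg.Agent.Lib.Helper87.pResidual_map_le p A₂.subtype h1
  exact ⟨(γ : A), h2, rfl⟩

/-- Some conjugate of a subgroup of a Sylow subgroup `Y` of `K` is fully normalized with respect to `Y`. -/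
theorem IsSylIn.exists_fn_conj {p : ℕ} [Fact p.Prime] {Y K B : Subgroup G} [Finite K] (h : IsSylIn p Y K)
    (hBY : B ≤ Y) :
    ∃ η ∈ K, B.map (MulAut.conj η).toMonoidHom ≤ Y ∧
      IsSylIn p (Y ⊓ Subgroup.normalizer ((B.map (MulAut.conj η).toMonoidHom : Subgroup G) : Set G))
        (K ⊓ Subgroup.normalizer ((B.map (MulAut.conj η).toMonoidHom : Subgroup G) : Set G)) := by
  set H := K ⊓ Subgroup.normalizer (B : Set G) with hH
  haveI : Finite H := Finite.of_injective (Subgroup.inclusion (inf_le_left : H ≤ K)) (Subgroup.inclusion_injective _)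
  obtain ⟨P₁, hP₁⟩ := exists_isSylIn p H
  have hYp : IsPGroup p Y := h.isPGroup
  have hBH : B ≤ H := le_inf (hBY.trans h.1) Subgroup.le_normalizer
  have hBP₁ : B ≤ P₁ := by
    refine hP₁.normal_le hBH (hYp.to_le hBY) ?_
    intro k hk v hv
    exact (Subgroup.mem_normalizer_iff.mp hk.2 v).mp hv
  obtain ⟨η, hηK, hη⟩ := h.exists_conj_le (hP₁.1.trans inf_le_left) hP₁.isPGroup
  refine ⟨η, hηK, ?_, ?_⟩
  · rintro _ ⟨b, hb, rfl⟩
    exact hη b (hBP₁ hb)
  · have h1 := hP₁.map_of_injective (MulAut.conj η).toMonoidHom (MulAut.conj η).injective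
    have hHmap : H.map (MulAut.conj η).toMonoidHom =
        K ⊓ Subgroup.normalizer ((B.map (MulAut.conj η).toMonoidHom : Subgroup G) : Set G) := by
      rw [hH, Subgroup.map_inf _ _ _ (MulAut.conj η).injective, map_conj_eq_self hηK, map_conj_normalizer]
    rw [hHmap] at h1
    haveI : Finite (K ⊓ Subgroup.normalizer ((B.map (MulAut.conj η).toMonoidHom : Subgroup G) : Set G) : Subgroup G) :=
      Finite.of_injective (Subgroup.inclusion (inf_le_left : K ⊓ _ ≤ K)) (Subgroup.inclusion_injective _)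
    refine h1.of_le (inf_le_inf_right _ h.1) (hYp.to_le inf_le_left) ?_
    have hYfin : Finite (Y ⊓ Subgroup.normalizer ((B.map (MulAut.conj η).toMonoidHom : Subgroup G) : Set G) :
        Subgroup G) :=
      Finite.of_injective (Subgroup.inclusion ((inf_le_left : Y ⊓ _ ≤ Y).trans h.1)) (Subgroup.inclusion_injective _)
    apply Subgroup.card_le_of_le
    rintro _ ⟨b, hb, rfl⟩
    exact ⟨hη b hb, conj_mem_normalizer_map_conj_iff.mpr (hP₁.1 hb).2⟩

end grp

end Cfsg.Agent.Lib.Helper88
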