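import Cfsg.Agent.Lib.Helper87.FusionSaturated
import Cfsg.Agent.Lib.Helper54.Basic
import Cfsg.Agent.Lib.Helper89.FusionConj

set_option autoImplicit false
open Cfsg

namespace Cfsg.Agent.Lib.Helper88

open Cfsg.FusionSystem Cfsg.Agent.Lib.Helper87

variable {Ω : Type*} [Group Ω] {S : Subgroup Ω}

/-- A group isomorphism maps the `p`-residual into the `p`-residual. -/
theorem map_mem_pResidual {G G' : Type*} [Group G] [Group G'] (p : ℕ) (f : G ≃* G') {g : G}
    (hg : g ∈ pResidual p G) : f g ∈ pResidual p G' := by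
  unfold pResidual at hg ⊢
  induction hg using Subgroup.closure_induction with
  | mem x hx =>
    apply Subgroup.subset_closure
    show Nat.Coprime (orderOf (f x)) p
    rw [MulEquiv.orderOf_eq]
    exact hx
  | one => rw [map_one]; exact Subgroup.one_mem _
  | mul a b _ _ ha hb => rw [map_mul]; exact Subgroup.mul_mem _ ha hb
  | inv a _ ha => rw [map_inv]; exact Subgroup.inv_mem _ ha

/-- The generators of the hyperfocal subgroup. -/
def hyperfocalGen (F : FusionSystem S) (p : ℕ) : Set Ω :=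
  {y : Ω | ∃ (P : Subgroup Ω) (α : F.autGroup P) (x : P), P ≤ S ∧
    α ∈ pResidual p (F.autGroup P) ∧ y = (x : Ω)⁻¹ * ((α : MulAut P) x : P)}

theorem hyperfocalSubgroup_eq (F : FusionSystem S) (p : ℕ) :
    F.hyperfocalSubgroup p = Subgroup.closure (hyperfocalGen F p) := rfl

theorem hyperfocalSubgroup_le (F : FusionSystem S) (p : ℕ) : F.hyperfocalSubgroup p ≤ S := by
  rw [hyperfocalSubgroup_eq, Subgroup.closure_le]
  rintro _ ⟨P, α, x, hP, -, rfl⟩
  exact S.mul_mem (S.inv_mem (hP x.2)) (hP ((α : MulAut P) x).2)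

/-- The transport of `Aut_F(P)` along an `F`-isomorphism, as an isomorphism of groups. -/
noncomputable def autGroupCongr (F : FusionSystem S) {P Q : Subgroup Ω} (e : P ≃* Q) (he : IsFIso F e) :
    F.autGroup P ≃* F.autGroup Q :=
  ((MulAut.congr e).subgroupMap (F.autGroup P)).trans (MulEquiv.subgroupCongr (map_congr_autGroup F he))

theorem autGroupCongr_coe (F : FusionSystem S) {P Q : Subgroup Ω} (e : P ≃* Q) (he : IsFIso F e)
    (α : F.autGroup P) : ((autGroupCongr F e he α : F.autGroup Q) : MulAut Q) = MulAut.congr e (α : MulAut P) :=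
  rfl

/-- The hyperfocal subgroup is normalized by `S`. -/
theorem conj_mem_hyperfocalSubgroup (F : FusionSystem S) (p : ℕ) {s : Ω} (hs : s ∈ S) {y : Ω}
    (hy : y ∈ F.hyperfocalSubgroup p) : s * y * s⁻¹ ∈ F.hyperfocalSubgroup p := by
  rw [hyperfocalSubgroup_eq] at hy ⊢
  induction hy using Subgroup.closure_induction with
  | mem y hy =>
    obtain ⟨P, α, x, hP, hα, rfl⟩ := hy
    apply Subgroup.subset_closure
    set e : P ≃* P.map (MulAut.conj s).toMonoidHom := (MulAut.conj s).subgroupMap P with he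
    have heF : IsFIso F e := by
      refine hom_congr F (F.conj_mem hP hs) (fun x => ?_)
      rfl
    have hP' : P.map (MulAut.conj s).toMonoidHom ≤ S := hom_le F (IsFIso.symm F heF)
    refine ⟨P.map (MulAut.conj s).toMonoidHom, autGroupCongr F e heF α, e x, hP',
      map_mem_pResidual p (autGroupCongr F e heF) hα, ?_⟩
    rw [autGroupCongr_coe]
    have h1 : ((MulAut.congr e (α : MulAut P)) (e x)) = e ((α : MulAut P) x) := by
      show e ((α : MulAut P) (e.symm (e x))) = e ((α : MulAut P) x)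
      rw [MulEquiv.symm_apply_apply]
    rw [h1]
    show s * ((x : Ω)⁻¹ * (((α : MulAut P) x : P) : Ω)) * s⁻¹ = (s * (x : Ω) * s⁻¹)⁻¹ * (s * (((α : MulAut P) x : P) : Ω) * s⁻¹)
    group
  | one => simp
  | mul a b _ _ ha hb =>
    have : s * (a * b) * s⁻¹ = (s * a * s⁻¹) * (s * b * s⁻¹) := by group
    rw [this]
    exact Subgroup.mul_mem _ ha hb
  | inv a _ ha =>
    have : s * a⁻¹ * s⁻¹ = (s * a * s⁻¹)⁻¹ := by group
    rw [this]
    exact Subgroup.inv_mem _ ha

end Cfsg.Agent.Lib.Helper88
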