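import Cfsg.Agent.Lib.Helper88.FusionFactor6
import Cfsg.Agent.Lib.Helper88.FusionHyp1
import Cfsg.Agent.Lib.Helper54.Basic

set_option autoImplicit false
open Cfsg

namespace Cfsg.Agent.Lib.Helper88

open Cfsg.FusionSystem Cfsg.Agent.Lib.Helper87

section pRes

variable {G H : Type*} [Group G] [Group H]

/-- A group homomorphism maps the `p`-residual into the `p`-residual. -/
theorem map_mem_pResidual' (p : ℕ) (f : G →* H) {g : G} (hg : g ∈ pResidual p G) : f g ∈ pResidual p H := by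
  unfold pResidual at hg ⊢
  induction hg using Subgroup.closure_induction with
  | mem x hx =>
    apply Subgroup.subset_closure
    show Nat.Coprime (orderOf (f x)) p
    exact Nat.Coprime.coprime_dvd_left (orderOf_map_dvd f x) hx
  | one => rw [map_one]; exact Subgroup.one_mem _
  | mul a b _ _ ha hb => rw [map_mul]; exact Subgroup.mul_mem _ ha hb
  | inv a _ ha => rw [map_inv]; exact Subgroup.inv_mem _ ha

/-- A surjective homomorphism from a finite group maps the `p`-residual onto the `p`-residual. -/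
theorem pResidual_le_map_of_surjective [Finite G] (p : ℕ) [Fact p.Prime] (f : G →* H) (hf : Function.Surjective f) :
    pResidual p H ≤ (pResidual p G).map f := by
  unfold pResidual
  rw [Subgroup.closure_le]
  intro h hh
  have hh' : Nat.Coprime (orderOf h) p := hh
  obtain ⟨g₀, rfl⟩ := hf h
  obtain ⟨k, hk⟩ := Cfsg.Agent.Lib.Helper54.exists_pow_mem_pResidual (p := p) g₀
  -- `f g₀` is a power of `(f g₀) ^ (p ^ k)`
  have hcop : Nat.Coprime (orderOf (f g₀)) (p ^ k) := Nat.Coprime.pow_right k hh'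
  have hmem : f g₀ ∈ Subgroup.zpowers ((f g₀) ^ (p ^ k)) := by
    have h1 : Subgroup.zpowers ((f g₀) ^ (p ^ k)) = Subgroup.zpowers (f g₀) := by
      apply le_antisymm
      · rw [Subgroup.zpowers_le]
        exact Subgroup.pow_mem _ (Subgroup.mem_zpowers _) _
      · have hfin : Finite H := Finite.of_surjective f hf
        have h2 : orderOf ((f g₀) ^ (p ^ k)) = orderOf (f g₀) := by
          exact hcop.orderOf_pow
        apply le_of_eq
        symm
        apply Subgroup.eq_of_le_of_card_ge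
        · rw [Subgroup.zpowers_le]
          exact Subgroup.pow_mem _ (Subgroup.mem_zpowers _) _
        · rw [Nat.card_zpowers, Nat.card_zpowers, h2]
    rw [h1]
    exact Subgroup.mem_zpowers _
  obtain ⟨j, hj⟩ := Subgroup.mem_zpowers_iff.mp hmem
  refine ⟨(g₀ ^ (p ^ k)) ^ j, Subgroup.zpow_mem _ hk j, ?_⟩
  rw [map_zpow, map_pow, hj]

end pRes

variable {Ω : Type*} [Group Ω] {S : Subgroup Ω}

section hypfactor

variable {Ω' : Type*} [Group Ω'] {S' : Subgroup Ω'}

/-- `θ` restricted to a subgroup `P ≤ S`, with values in the image of `P`. -/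
def imgHom (θ : S →* Ω') {P : Subgroup Ω} (hP : P ≤ S) : ↥P →* ↥(imageAlong θ P) where
  toFun x := ⟨θ ⟨x, hP x.2⟩, ⟨⟨x, hP x.2⟩, Subgroup.mem_subgroupOf.mpr x.2, rfl⟩⟩
  map_one' := by
    apply Subtype.ext
    show θ ⟨1, _⟩ = 1
    exact map_one θ
  map_mul' := by
    intro x y
    apply Subtype.ext
    show θ ⟨x * y, _⟩ = θ ⟨x, _⟩ * θ ⟨y, _⟩
    rw [← map_mul]
    rfl

theorem imgHom_coe (θ : S →* Ω') {P : Subgroup Ω} (hP : P ≤ S) (x : P) :
    ((imgHom θ hP x : ↥(imageAlong θ P)) : Ω') = θ ⟨x, hP x.2⟩ := rfl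

theorem imgHom_surjective (θ : S →* Ω') {P : Subgroup Ω} (hP : P ≤ S) : Function.Surjective (imgHom θ hP) := by
  rintro ⟨_, ⟨y, hy, rfl⟩⟩
  exact ⟨⟨y, Subgroup.mem_subgroupOf.mp hy⟩, rfl⟩

theorem imgHom_eq_one_iff (θ : S →* Ω') {T : Subgroup Ω} (hker : ∀ s : S, θ s = 1 ↔ (s : Ω) ∈ T)
    {P : Subgroup Ω} (hP : P ≤ S) (x : P) : imgHom θ hP x = 1 ↔ (x : Ω) ∈ T := by
  rw [← hker ⟨x, hP x.2⟩]
  constructor
  · intro h
    exact congrArg Subtype.val h
  · intro h
    exact Subtype.ext h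

/-- The action of `Aut_F(P)` on the image of `P`. -/
noncomputable def autImgHom (F : FusionSystem S) {T : Subgroup Ω}
    (hT : F.StronglyClosed T) (θ : S →* Ω')
    (hker : ∀ s : S, θ s = 1 ↔ (s : Ω) ∈ T) {P : Subgroup Ω} (hP : P ≤ S) :
    F.autGroup P →* MulAut ↥(imageAlong θ P) :=
  inducedAutHom (imgHom θ hP) (imgHom_surjective θ hP) (F.autGroup P)
    (fun a ha x hx => by
      rw [imgHom_eq_one_iff θ hker] at hx ⊢
      exact aut_map_mem_of_stronglyClosed hT hP ha hx)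

theorem autImgHom_apply (F : FusionSystem S) {T : Subgroup Ω}
    (hT : F.StronglyClosed T) (θ : S →* Ω')
    (hker : ∀ s : S, θ s = 1 ↔ (s : Ω) ∈ T) {P : Subgroup Ω} (hP : P ≤ S) (a : F.autGroup P) (x : P) :
    autImgHom F hT θ hker hP a (imgHom θ hP x) = imgHom θ hP ((a : MulAut P) x) :=
  inducedAutHom_apply _ _ _ _ a x

theorem autImgHom_mem [Finite S] (p : ℕ) [Fact p.Prime] (hS : IsPGroup p S) (F : FusionSystem S)
    (hF : F.IsSaturated p) {T : Subgroup Ω}
    (hT : F.StronglyClosed T) (θ : S →* Ω')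
    (hker : ∀ s : S, θ s = 1 ↔ (s : Ω) ∈ T) (hrange : θ.range = S') (E : FusionSystem S')
    (hE : ∀ (P' : Subgroup Ω') (φ' : P' →* Ω'),
      φ' ∈ E.Hom P' ↔ P' ≤ S' ∧ ∃ φ ∈ F.Hom (preimageAlong θ P'), InducedAlong θ φ φ')
    {P : Subgroup Ω} (hP : P ≤ S) (a : F.autGroup P) :
    autImgHom F hT θ hker hP a ∈ E.autGroup (imageAlong θ P) := by
  have hP' : imageAlong θ P ≤ S' := imageAlong_le θ hrange P
  rw [mem_autGroup_iff E hP']
  have haF := (mem_autGroup_iff F hP).mp a.2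
  obtain ⟨φ', hψ, hind⟩ := exists_induced_of_saturated p hS F hF hT θ hker hrange haF
  have hφ' : φ' ∈ E.Hom (imageAlong θ P) := (hE _ φ').mpr ⟨hP', hψ⟩
  refine hom_congr E hφ' (fun y => ?_)
  obtain ⟨x, rfl⟩ := imgHom_surjective θ hP y
  obtain ⟨hP2, hφS, hPP', hind⟩ := hind
  have h1 := hind x
  have h2 : φ' (imgHom θ hP x) = θ ⟨(P.subtype.comp (a : MulAut P).toMonoidHom) x, hφS x⟩ := h1
  rw [h2]
  show ((autImgHom F hT θ hker hP a (imgHom θ hP x) : ↥(imageAlong θ P)) : Ω') = _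
  rw [autImgHom_apply]
  rfl

/-- The hyperfocal subgroup of the factor system is the image of the hyperfocal subgroup. -/
theorem hyperfocalSubgroup_factor [Finite S] (p : ℕ) [Fact p.Prime] (hS : IsPGroup p S) (F : FusionSystem S)
    (hF : F.IsSaturated p) {T : Subgroup Ω}
    (hT : F.StronglyClosed T) (θ : S →* Ω')
    (hker : ∀ s : S, θ s = 1 ↔ (s : Ω) ∈ T) (hrange : θ.range = S') (E : FusionSystem S')
    (hE : ∀ (P' : Subgroup Ω') (φ' : P' →* Ω'),
      φ' ∈ E.Hom P' ↔ P' ≤ S' ∧ ∃ φ ∈ F.Hom (preimageAlong θ P'), InducedAlong θ φ φ') :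
    E.hyperfocalSubgroup p = ((F.hyperfocalSubgroup p).subgroupOf S).map θ := by
  apply le_antisymm
  · rw [hyperfocalSubgroup_eq, Subgroup.closure_le]
    rintro _ ⟨P', α', x', hP', hα', rfl⟩
    have hQS : preimageAlong θ P' ≤ S := preimageAlong_le θ P'
    have : Finite (F.autGroup (preimageAlong θ P')) := finite_autGroup F hQS
    let Φ : F.autGroup (preimageAlong θ P') →* E.autGroup P' :=
      (autFactorHom F hT θ hker hrange hP').codRestrict (E.autGroup P')
        (fun a => autFactorHom_mem F hT θ hker hrange E hE hP' a)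
    have hΦ : Function.Surjective Φ := by
      rintro ⟨β', hβ'⟩
      obtain ⟨a, ha⟩ := exists_autFactorHom_eq F hT θ hker hrange E hE hP' hβ'
      exact ⟨a, Subtype.ext ha⟩
    obtain ⟨α, hα, rfl⟩ := pResidual_le_map_of_surjective p Φ hΦ hα'
    obtain ⟨x, rfl⟩ := resHom_surjective θ hrange hP' x'
    have hgen : ((x : Ω)⁻¹ * (((α : MulAut _) x : ↥(preimageAlong θ P')) : Ω)) ∈ F.hyperfocalSubgroup p :=
      Subgroup.subset_closure ⟨_, α, x, hQS, hα, rfl⟩
    have hgenS : ((x : Ω)⁻¹ * (((α : MulAut _) x : ↥(preimageAlong θ P')) : Ω)) ∈ S :=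
      hyperfocalSubgroup_le F p hgen
    refine ⟨⟨_, hgenS⟩, Subgroup.mem_subgroupOf.mpr hgen, ?_⟩
    have e : (⟨(x : Ω)⁻¹ * (((α : MulAut _) x : ↥(preimageAlong θ P')) : Ω), hgenS⟩ : S) =
        ⟨x, hQS x.2⟩⁻¹ * ⟨((α : MulAut _) x : ↥(preimageAlong θ P')), hQS ((α : MulAut _) x).2⟩ := rfl
    rw [e, map_mul, map_inv]
    show _ = ((resHom θ P' x : P') : Ω')⁻¹ * ((((Φ α : E.autGroup P') : MulAut P') (resHom θ P' x) : P') : Ω')
    have h1 : ((Φ α : E.autGroup P') : MulAut P') (resHom θ P' x) = resHom θ P' ((α : MulAut _) x) :=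
      autFactorHom_apply F hT θ hker hrange hP' α x
    rw [h1]
    rfl
  · -- the other inclusion
    have hgen : hyperfocalGen F p ⊆ ((E.hyperfocalSubgroup p).comap θ).map S.subtype := by
      rintro _ ⟨P, α, x, hP, hα, rfl⟩
      have hP' : imageAlong θ P ≤ S' := imageAlong_le θ hrange P
      let Φ : F.autGroup P →* E.autGroup (imageAlong θ P) :=
        (autImgHom F hT θ hker hP).codRestrict (E.autGroup (imageAlong θ P))
          (fun a => autImgHom_mem p hS F hF hT θ hker hrange E hE hP a)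
      have hΦα : Φ α ∈ pResidual p (E.autGroup (imageAlong θ P)) := map_mem_pResidual' p Φ hα
      have hyS : (x : Ω)⁻¹ * (((α : MulAut P) x : P) : Ω) ∈ S :=
        S.mul_mem (S.inv_mem (hP x.2)) (hP ((α : MulAut P) x).2)
      refine ⟨⟨_, hyS⟩, ?_, rfl⟩
      show θ ⟨_, hyS⟩ ∈ E.hyperfocalSubgroup p
      apply Subgroup.subset_closure
      refine ⟨imageAlong θ P, Φ α, imgHom θ hP x, hP', hΦα, ?_⟩
      have e : (⟨(x : Ω)⁻¹ * (((α : MulAut P) x : P) : Ω), hyS⟩ : S) =
          ⟨x, hP x.2⟩⁻¹ * ⟨((α : MulAut P) x : P), hP ((α : MulAut P) x).2⟩ := rfl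
      rw [e, map_mul, map_inv]
      have h1 : ((Φ α : E.autGroup (imageAlong θ P)) : MulAut _) (imgHom θ hP x) =
          imgHom θ hP ((α : MulAut P) x) := autImgHom_apply F hT θ hker hP α x
      rw [h1]
      rfl
    have hle : F.hyperfocalSubgroup p ≤ ((E.hyperfocalSubgroup p).comap θ).map S.subtype := by
      rw [hyperfocalSubgroup_eq, Subgroup.closure_le]
      exact hgen
    rintro _ ⟨s, hs, rfl⟩
    obtain ⟨s₂, hs₂, hss⟩ := hle (Subgroup.mem_subgroupOf.mp hs)
    have : s₂ = s := Subtype.ext hss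
    rw [← this]
    exact hs₂

end hypfactor

end Cfsg.Agent.Lib.Helper88
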