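import Cfsg.Agent.Lib.Helper88.FusionOP4

set_option autoImplicit false
open Cfsg

namespace Cfsg.Agent.Lib.Helper88

open Cfsg.FusionSystem Cfsg.Agent.Lib.Helper87
open Cfsg.Agent.Lib.Helper90 (autMap mem_autMap autMap_le apply_mem_autMap)

variable {Ω : Type*} [Group Ω] {S T : Subgroup Ω}

/-- An invariant subsystem is strongly invariant. -/
theorem strongInv_of_isInvariantIn {E : FusionSystem T} {F : FusionSystem S} (h : E.IsInvariantIn F) :
    StrongInv E F :=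
  strongInv_of_invariant E F (autInvariant_of_forall E F h.2.2.1) h.2.2.2

/-- Transport of `Aut_E` along an isomorphism of `F`, for a strongly invariant subsystem `E` over `T`. -/
theorem congr_mem_autGroup_of_strongInv (E : FusionSystem T) (F : FusionSystem S)
    (hSI : StrongInv E F) {P Q : Subgroup Ω} (hPT : P ≤ T) (hQT : Q ≤ T) {e : P ≃* Q} (he : IsFIso F e)
    {n : MulAut P} (hn : n ∈ E.autGroup P) : MulAut.congr e n ∈ E.autGroup Q := by
  obtain ⟨χ, hχ, hχeq⟩ := hSI P P le_rfl hPT _ ((mem_autGroup_iff E hPT).mp hn) (fun x => (n x).2)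
    _ he
  have heq : (P.subgroupOf P).map (Q.subtype.comp (e : P ≃* Q).toMonoidHom) = Q := by
    ext y
    constructor
    · rintro ⟨t, -, rfl⟩
      exact (e t).2
    · intro hy
      refine ⟨e.symm ⟨y, hy⟩, Subgroup.mem_subgroupOf.mpr (e.symm ⟨y, hy⟩).2, ?_⟩
      show ((e (e.symm ⟨y, hy⟩) : Q) : Ω) = y
      rw [MulEquiv.apply_symm_apply]
  obtain ⟨χ', hχ', hcast⟩ := hom_cast E heq χ hχ
  rw [mem_autGroup_iff E hQT]
  refine hom_congr E hχ' (fun y => ?_)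
  show (((MulAut.congr e n) y : Q) : Ω) = χ' y
  have hy : ((e (e.symm y) : Q) : Ω) ∈ (P.subgroupOf P).map (Q.subtype.comp (e : P ≃* Q).toMonoidHom) :=
    ⟨e.symm y, Subgroup.mem_subgroupOf.mpr (e.symm y).2, rfl⟩
  have h1 := hχeq (e.symm y) hy
  have h2 : χ' y = χ ⟨((e (e.symm y) : Q) : Ω), hy⟩ := by
    have e' : (⟨((e (e.symm y) : Q) : Ω), (e (e.symm y)).2⟩ : Q) = y := by
      apply Subtype.ext
      show ((e (e.symm y) : Q) : Ω) = (y : Ω)
      rw [MulEquiv.apply_symm_apply]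
    have h3 : χ' ⟨((e (e.symm y) : Q) : Ω), (e (e.symm y)).2⟩ = χ ⟨((e (e.symm y) : Q) : Ω), hy⟩ :=
      hcast _ hy _
    exact (congrArg χ' e').symm.trans h3
  rw [h2]
  exact h1.symm

/-- Centric subgroups of an invariant subsystem over `T` are centric in every subsystem of `F` over `T`. -/
theorem isCentric_of_isInvariantIn {E : FusionSystem T} {F : FusionSystem S} (h : E.IsInvariantIn F)
    (D : FusionSystem T) (hDF : D.IsSubsystemOf F) {R : Subgroup Ω} (hR : E.IsCentric R) : D.IsCentric R := by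
  refine ⟨hR.1, fun Q hconj => ?_⟩
  obtain ⟨φ, hφ, hr⟩ := hconj
  obtain ⟨α, hα, φ₀, hφ₀, hφx⟩ := h.2.2.2 R hR.1 φ (hDF R hφ)
  have hφ₀T : ∀ x : R, φ₀ x ∈ T := (E.le_of_mem hφ₀).2
  have hc := hR.2 φ₀.range ⟨φ₀, hφ₀, rfl⟩
  intro c hc'
  rw [mem_centralizerIn] at hc'
  obtain ⟨hcT, hcQ⟩ := hc'
  -- `α⁻¹ c` centralizes `φ₀(R)`
  have h1 : ((α⁻¹ ⟨c, hcT⟩ : T) : Ω) ∈ centralizerIn T φ₀.range := by
    rw [mem_centralizerIn]
    refine ⟨(α⁻¹ ⟨c, hcT⟩).2, ?_⟩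
    rintro _ ⟨x, rfl⟩
    have h2 : φ x * c = c * φ x := hcQ _ (hr ▸ ⟨x, rfl⟩)
    rw [hφx x (hφ₀T x)] at h2
    have h3 : α ⟨φ₀ x, hφ₀T x⟩ * ⟨c, hcT⟩ = ⟨c, hcT⟩ * α ⟨φ₀ x, hφ₀T x⟩ := Subtype.ext h2
    have h4 := congrArg (α⁻¹ : MulAut T) h3
    rw [map_mul, map_mul, MulAut.inv_apply_self] at h4
    exact congrArg Subtype.val h4
  obtain ⟨x, hx⟩ := hc h1
  rw [← hr]
  refine ⟨x, ?_⟩
  rw [hφx x (hφ₀T x)]
  have h5 : (⟨φ₀ x, hφ₀T x⟩ : T) = α⁻¹ ⟨c, hcT⟩ := Subtype.ext hx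
  rw [h5, MulAut.apply_inv_self]

/-- Elements of `p`-power order of `Aut_E(Q)` lie in `Aut_D(Q)`, for `E` saturated and `D` strongly invariant in `F`,
both over `T`. -/
theorem pElem_mem_autGroup_of_strongInv [Finite S] (p : ℕ) [Fact p.Prime] (hS : IsPGroup p S)
    (F : FusionSystem S) (hTS : T ≤ S) (E : FusionSystem T) (hE : E.IsSaturated p) (hEF : E.IsSubsystemOf F)
    (D : FusionSystem T) (hSI : StrongInv D F) {Q : Subgroup Ω} (hQT : Q ≤ T) {γ : MulAut Q}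
    (hγ : γ ∈ E.autGroup Q) {k : ℕ} (hk : γ ^ p ^ k = 1) : γ ∈ D.autGroup Q := by
  haveI : Finite T := finite_of_le hTS
  have hT : IsPGroup p T := hS.to_le hTS
  obtain ⟨Q₁, hQQ₁, hQ₁n⟩ := exists_isFullyNormalized E hQT
  obtain ⟨e₀, he₀⟩ := exists_isFIso_of_isConj E hQQ₁
  have hQ₁a := (fullyNormalized_props p hT E hE Q₁ hQ₁n).2
  have hQ₁T : Q₁ ≤ T := hQ₁n.1
  have hKp : IsPGroup p (Subgroup.zpowers γ) := by
    rintro ⟨x, hx⟩
    obtain ⟨j, rfl⟩ := Subgroup.mem_zpowers_iff.mp hx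
    refine ⟨k, Subtype.ext ?_⟩
    show (γ ^ j) ^ p ^ k = 1
    rw [← zpow_natCast, ← zpow_mul, mul_comm, zpow_mul, zpow_natCast, hk, one_zpow]
  have hKle : Subgroup.zpowers γ ≤ E.autGroup Q := (Subgroup.zpowers_le).mpr hγ
  obtain ⟨e, he, heK⟩ := exists_isFIso_into_autInducedBy p E hQ₁a e₀ he₀ _ hKp hKle
  have h1 : MulAut.congr e γ ∈ autInducedBy T Q₁ := heK γ (Subgroup.mem_zpowers γ)
  have h2 : MulAut.congr e γ ∈ D.autGroup Q₁ := autInducedBy_le_autGroup D hQ₁T h1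
  have heF : IsFIso F e := hEF Q he
  have h3 := congr_mem_autGroup_of_strongInv D F hSI hQ₁T hQT (IsFIso.symm F heF) h2
  have h4 : MulAut.congr e.symm (MulAut.congr e γ) = γ := by
    ext y
    simp [MulAut.congr]
  rw [h4] at h3
  exact h3

end Cfsg.Agent.Lib.Helper88
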