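import Cfsg.Agent.Lib.Helper88.FusionMN1

set_option autoImplicit false
open Cfsg

namespace Cfsg.Agent.Lib.Helper88

open Cfsg.FusionSystem Cfsg.Agent.Lib.Helper87
open Cfsg.Agent.Lib.Helper90 (autMap mem_autMap autMap_le apply_mem_autMap range_eq_of_forall_mem)

variable {Ω : Type*} [Group Ω] {S T : Subgroup Ω}

/-- An element two of whose powers with coprime exponents lie in a subgroup lies in the subgroup. -/
theorem mem_of_pow_mem_of_pow_mem_coprime {G : Type*} [Group G] (H : Subgroup G) {g : G} {a b : ℕ}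
    (hab : a.Coprime b) (ha : g ^ a ∈ H) (hb : g ^ b ∈ H) : g ∈ H := by
  have h1 : ((1 : ℕ) : ℤ) = (a : ℤ) * Nat.gcdA a b + (b : ℤ) * Nat.gcdB a b := by
    have := Nat.gcd_eq_gcd_ab a b
    rw [hab] at this
    exact this
  have h2 : g = (g ^ a) ^ (Nat.gcdA a b) * (g ^ b) ^ (Nat.gcdB a b) := by
    calc g = g ^ (((1 : ℕ) : ℤ)) := by simp
      _ = g ^ ((a : ℤ) * Nat.gcdA a b + (b : ℤ) * Nat.gcdB a b) := by rw [← h1]
      _ = (g ^ a) ^ (Nat.gcdA a b) * (g ^ b) ^ (Nat.gcdB a b) := by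
        rw [zpow_add, zpow_mul, zpow_mul, zpow_natCast, zpow_natCast]
  rw [h2]
  exact H.mul_mem (H.zpow_mem ha _) (H.zpow_mem hb _)

/-- If the restriction of `α ∈ Aut_F(T)` to `R` is a map of the invariant subsystem `D`, so is the restriction of
every power of `α`. -/
theorem pow_restrict_mem (F : FusionSystem S) (D : FusionSystem T) (hinv : AutInvariant D F)
    {α : MulAut T} (hα : α ∈ F.autGroup T) {R : Subgroup Ω} (hRT : R ≤ T) {φ₁ : R →* Ω} (hφ₁ : φ₁ ∈ D.Hom R)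
    (hφ₁x : ∀ (x : Ω) (hx : x ∈ R) (hxT : x ∈ T), φ₁ ⟨x, hx⟩ = ((α ⟨x, hxT⟩ : T) : Ω)) (k : ℕ) :
    (T.subtype.comp ((α ^ k : MulAut T) : T ≃* T).toMonoidHom).comp (Subgroup.inclusion hRT) ∈ D.Hom R := by
  induction k with
  | zero =>
    refine hom_congr D (subtype_mem D hRT) (fun x => ?_)
    show (((α ^ 0) ⟨x, hRT x.2⟩ : T) : Ω) = x
    rw [pow_zero]
    rfl
  | succ k ih =>
    have hαk : α ^ k ∈ F.autGroup T := pow_mem hα k
    obtain ⟨χ, hχ, hχeq⟩ := hinv (α ^ k) hαk R hRT φ₁ hφ₁ (autMap (α ^ k) R) (by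
      intro y
      rw [mem_autMap]
      constructor
      · rintro ⟨t, ht, rfl⟩
        exact ⟨⟨t, ht⟩, rfl⟩
      · rintro ⟨x, rfl⟩
        exact ⟨⟨x, hRT x.2⟩, x.2, rfl⟩)
    have h : ∀ x : R, ((T.subtype.comp ((α ^ k : MulAut T) : T ≃* T).toMonoidHom).comp
        (Subgroup.inclusion hRT)) x ∈ autMap (α ^ k) R :=
      fun x => apply_mem_autMap (α ^ k) ⟨x, hRT x.2⟩ x.2
    refine comp_mem' D ih hχ h (fun x => ?_)
    have hφT : φ₁ x ∈ T := (D.le_of_mem hφ₁).2 x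
    have h1 := hχeq x hφT (h x)
    have h2 : (⟨φ₁ x, hφT⟩ : T) = α ⟨x, hRT x.2⟩ := Subtype.ext (hφ₁x x x.2 (hRT x.2))
    rw [h2] at h1
    show (((α ^ (k + 1)) ⟨x, hRT x.2⟩ : T) : Ω) = _
    rw [pow_succ]
    exact h1.symm

/-- The key step: let `β ∈ Aut_F(T)` have order prime to `p`, let `D` be a subsystem over `T` invariant under `Aut_F(T)`,
`R ≤ N ≤ N_T(R)` with `C_T(R) ≤ R`, and `χ` a map of `D` on `N` agreeing with `β` on `R`. Then the restriction of `β` to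
`N` is a map of `D`. -/
theorem restrict_normalizer_mem [Finite S] (p : ℕ) [Fact p.Prime] (hS : IsPGroup p S) (F : FusionSystem S)
    (hTS : T ≤ S) (D : FusionSystem T) (hDF : D.IsSubsystemOf F) (hinv : AutInvariant D F)
    {β : MulAut T} (hβ : β ∈ F.autGroup T) {m : ℕ} (hm : β ^ m = 1) (hmp : m.Coprime p)
    {R N : Subgroup Ω} (hRN : R ≤ N) (hNT : N ≤ T) (hNn : N ≤ Subgroup.normalizer (R : Set Ω))
    (hcent : centralizerIn T R ≤ R) {χ : N →* Ω} (hχ : χ ∈ D.Hom N)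
    (hχx : ∀ x : N, (x : Ω) ∈ R → χ x = ((β ⟨x, hNT x.2⟩ : T) : Ω)) :
    (T.subtype.comp (β : T ≃* T).toMonoidHom).comp (Subgroup.inclusion hNT) ∈ D.Hom N := by
  haveI : Finite T := finite_of_le hTS
  have hT : IsPGroup p T := hS.to_le hTS
  have hχT : ∀ x : N, χ x ∈ T := (D.le_of_mem hχ).2
  -- the map `ψ = β⁻¹ ∘ χ`
  set ψ : N →* Ω := (T.subtype.comp ((β⁻¹ : MulAut T) : T ≃* T).toMonoidHom).comp (χ.codRestrict T hχT) with hψ
  have hψx : ∀ x : N, ψ x = ((β⁻¹ ⟨χ x, hχT x⟩ : T) : Ω) := fun x => rfl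
  have hψF : ψ ∈ F.Hom N :=
    comp_mem' F (hDF N hχ) ((mem_autGroup_iff F hTS).mp (Subgroup.inv_mem _ hβ)) hχT (fun x => rfl)
  have hψfix : ∀ x : N, (x : Ω) ∈ R → ψ x = x := by
    intro x hx
    rw [hψx]
    have h1 : (⟨χ x, hχT x⟩ : T) = β ⟨x, hNT x.2⟩ := Subtype.ext (hχx x hx)
    rw [h1, MulAut.inv_apply_self]
  have hquot : ∀ x : N, (x : Ω)⁻¹ * ψ x ∈ R := by
    intro x
    apply hcent
    rw [mem_centralizerIn]
    refine ⟨T.mul_mem (T.inv_mem (hNT x.2)) (by rw [hψx]; exact (β⁻¹ ⟨χ x, hχT x⟩).2), ?_⟩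
    intro r hr
    -- elements of `T`
    set xT : T := ⟨x, hNT x.2⟩ with hxT
    set rT : T := ⟨r, hNT (hRN hr)⟩ with hrT
    set cT : T := ⟨χ x, hχT x⟩ with hcT
    set pT : T := β⁻¹ cT with hpT
    have hconjR : (x : Ω) * r * (x : Ω)⁻¹ ∈ R := by
      have := hNn x.2
      rw [Subgroup.mem_normalizer_iff] at this
      exact (this r).mp hr
    set r' : N := ⟨r, hRN hr⟩ with hr'
    have h1 : χ (x * r' * x⁻¹) = ((β (xT * rT * xT⁻¹) : T) : Ω) := hχx _ hconjR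
    have h2 : χ r' = ((β rT : T) : Ω) := hχx r' hr
    have h3 : cT * β rT * cT⁻¹ = β (xT * rT * xT⁻¹) := by
      apply Subtype.ext
      show χ x * ((β rT : T) : Ω) * (χ x)⁻¹ = ((β (xT * rT * xT⁻¹) : T) : Ω)
      rw [← h1, map_mul, map_mul, map_inv, h2]
    have h4 : pT * rT * pT⁻¹ = xT * rT * xT⁻¹ := by
      have := congrArg (β⁻¹ : MulAut T) h3
      rw [map_mul, map_mul, map_inv, MulAut.inv_apply_self, MulAut.inv_apply_self] at this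
      exact this
    have h5 : rT * (xT⁻¹ * pT) = (xT⁻¹ * pT) * rT := by
      calc rT * (xT⁻¹ * pT) = xT⁻¹ * (xT * rT * xT⁻¹) * pT := by group
        _ = xT⁻¹ * (pT * rT * pT⁻¹) * pT := by rw [h4]
        _ = (xT⁻¹ * pT) * rT := by group
    have h6 := congrArg Subtype.val h5
    exact h6
  have hψN : ∀ x : N, ψ x ∈ N := by
    intro x
    have h1 : ψ x = (x : Ω) * ((x : Ω)⁻¹ * ψ x) := by group
    rw [h1]
    exact N.mul_mem x.2 (hRN (hquot x))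
  have hr : ψ.range = N := range_eq_of_forall_mem F hψF hψN
  set Ψ : MulAut N := homEquiv F hψF hr with hΨdef
  have hΨ : ∀ x : N, ((Ψ x : N) : Ω) = ψ x := fun x => homEquiv_apply F hψF hr x
  have hβΨ : ∀ x : N, (β ⟨Ψ x, hNT (Ψ x).2⟩ : T) = ⟨χ x, hχT x⟩ := by
    intro x
    have h1 : (⟨((Ψ x : N) : Ω), hNT (Ψ x).2⟩ : T) = β⁻¹ ⟨χ x, hχT x⟩ := Subtype.ext (hΨ x)
    rw [h1, MulAut.apply_inv_self]
  have hΨfix : ∀ x : N, (x : Ω) ∈ R → Ψ x = x := fun x hx => Subtype.ext ((hΨ x).trans (hψfix x hx))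
  -- powers of `Ψ`
  have hΨpow : ∀ (k : ℕ) (x : N), (Ψ ^ k) x = x * (x⁻¹ * Ψ x) ^ k := by
    intro k
    induction k with
    | zero => intro x; rw [pow_zero, pow_zero, mul_one]; rfl
    | succ k ih =>
      intro x
      have hz : ((x⁻¹ * Ψ x : N) : Ω) ∈ R := by
        have := hquot x
        rw [← hΨ x] at this
        exact this
      have hzfix : Ψ (x⁻¹ * Ψ x) = x⁻¹ * Ψ x := hΨfix _ hz
      have e1 : (Ψ ^ (k + 1)) x = Ψ ((Ψ ^ k) x) := by rw [pow_succ']; rfl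
      rw [e1, ih x, map_mul, map_pow, hzfix, pow_succ', ← mul_assoc x, mul_inv_cancel_left]
  have hΨcard : Ψ ^ Nat.card T = 1 := by
    ext x
    rw [hΨpow]
    have h1 : ((x⁻¹ * Ψ x : N) : Ω) ^ Nat.card T = 1 := pow_card_eq_one_of_mem (hNT (x⁻¹ * Ψ x).2)
    have h2 : (x⁻¹ * Ψ x : N) ^ Nat.card T = 1 := Subtype.ext (by rw [Subgroup.coe_pow]; exact h1)
    rw [h2, mul_one]
    rfl
  -- the maps `β^k ∘ Ψ^k`
  have hθ : ∀ k : ℕ, (T.subtype.comp ((β ^ k : MulAut T) : T ≃* T).toMonoidHom).comp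
      ((Subgroup.inclusion hNT).comp ((Ψ ^ k : MulAut N) : N ≃* N).toMonoidHom) ∈ D.Hom N := by
    intro k
    induction k with
    | zero =>
      refine hom_congr D (subtype_mem D hNT) (fun x => ?_)
      show (((β ^ 0) ⟨((Ψ ^ 0) x : N), hNT ((Ψ ^ 0) x).2⟩ : T) : Ω) = x
      simp only [pow_zero]
      rfl
    | succ k ih =>
      have hβk : β ^ k ∈ F.autGroup T := pow_mem hβ k
      obtain ⟨χk, hχk, hχkeq⟩ := hinv (β ^ k) hβk N hNT χ hχ (autMap (β ^ k) N) (by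
        intro y
        rw [mem_autMap]
        constructor
        · rintro ⟨t, ht, rfl⟩
          exact ⟨⟨t, ht⟩, rfl⟩
        · rintro ⟨x, rfl⟩
          exact ⟨⟨x, hNT x.2⟩, x.2, rfl⟩)
      have h : ∀ x : N, ((T.subtype.comp ((β ^ k : MulAut T) : T ≃* T).toMonoidHom).comp
          ((Subgroup.inclusion hNT).comp ((Ψ ^ k : MulAut N) : N ≃* N).toMonoidHom)) x ∈ autMap (β ^ k) N :=
        fun x => apply_mem_autMap (β ^ k) ⟨(Ψ ^ k) x, hNT ((Ψ ^ k) x).2⟩ ((Ψ ^ k) x).2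
      refine comp_mem' D ih hχk h (fun x => ?_)
      have h1 := hχkeq ((Ψ ^ k) x) (hχT _) (h x)
      have e1 : (Ψ ^ (k + 1)) x = Ψ ((Ψ ^ k) x) := by rw [pow_succ']; rfl
      have e2 : (⟨(((Ψ ^ (k + 1)) x : N) : Ω), hNT ((Ψ ^ (k + 1)) x).2⟩ : T) =
          ⟨((Ψ ((Ψ ^ k) x) : N) : Ω), hNT (Ψ ((Ψ ^ k) x)).2⟩ :=
        Subtype.ext (congrArg (fun y : N => (y : Ω)) e1)
      show (((β ^ (k + 1)) ⟨(((Ψ ^ (k + 1)) x : N) : Ω), hNT ((Ψ ^ (k + 1)) x).2⟩ : T) : Ω) = _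
      rw [e2, pow_succ, MulAut.mul_apply, hβΨ]
      exact h1.symm
  -- `Ψ^m ∈ Aut_D(N)`
  have hΨm : Ψ ^ m ∈ D.autGroup N := by
    rw [mem_autGroup_iff D hNT]
    refine hom_congr D (hθ m) (fun x => ?_)
    show (((Ψ ^ m) x : N) : Ω) = (((β ^ m) ⟨((Ψ ^ m) x : N), hNT ((Ψ ^ m) x).2⟩ : T) : Ω)
    rw [hm]
    rfl
  have hcop : m.Coprime (Nat.card T) := by
    obtain ⟨n, hn⟩ := hT.exists_card_eq
    rw [hn]
    exact Nat.Coprime.pow_right n hmp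
  have hΨD : Ψ ∈ D.autGroup N :=
    mem_of_pow_mem_of_pow_mem_coprime _ hcop hΨm (by rw [hΨcard]; exact Subgroup.one_mem _)
  have hΨinv : N.subtype.comp ((Ψ⁻¹ : MulAut N) : N ≃* N).toMonoidHom ∈ D.Hom N :=
    (mem_autGroup_iff D hNT).mp (Subgroup.inv_mem _ hΨD)
  refine comp_mem' D hΨinv hχ (fun x => (Ψ⁻¹ x).2) (fun x => ?_)
  have h1 := hβΨ (Ψ⁻¹ x)
  have h2 : (⟨((Ψ (Ψ⁻¹ x) : N) : Ω), hNT (Ψ (Ψ⁻¹ x)).2⟩ : T) = ⟨x, hNT x.2⟩ := by
    apply Subtype.ext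
    show ((Ψ (Ψ⁻¹ x) : N) : Ω) = x
    rw [MulAut.apply_inv_self]
  rw [h2] at h1
  show ((β ⟨x, hNT x.2⟩ : T) : Ω) = χ (Ψ⁻¹ x)
  rw [h1]

end Cfsg.Agent.Lib.Helper88
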