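import Cfsg.Agent.Lib.Helper88.FusionMN3

set_option autoImplicit false
open Cfsg

namespace Cfsg.Agent.Lib.Helper88

open Cfsg.FusionSystem Cfsg.Agent.Lib.Helper87
open Cfsg.Agent.Lib.Helper90 (autMap mem_autMap autMap_le apply_mem_autMap range_eq_of_forall_mem)
open Cfsg.Agent.Lib.Helper91 (isCentric_of_isConj isCentric_self)

variable {Ω : Type*} [Group Ω] {S T : Subgroup Ω}

/-- The data of Oliver's lemma: a normal subgroup `K` of `Aut_F(T)` containing `Aut_E(T)` with quotient of order prime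
to `p`. -/
structure OLData (F : FusionSystem S) (E : FusionSystem T) (p : ℕ) (K : Subgroup (MulAut T)) : Prop where
  le : K ≤ F.autGroup T
  conj : ∀ a ∈ F.autGroup T, ∀ k ∈ K, a * k * a⁻¹ ∈ K
  aut_le : E.autGroup T ≤ K
  pow : ∀ a ∈ F.autGroup T, ∀ e : ℕ, a ^ (p ^ e) ∈ K → a ∈ K

theorem OLData.hInv {F : FusionSystem S} {E : FusionSystem T} {p : ℕ} {K : Subgroup (MulAut T)}
    (h : OLData F E p K) (hAI : AutInvariant E F) : HInv E K :=
  fun α hα => hAI α (h.le hα)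

/-- `Aut_S(T)` lies in `K`. -/
theorem OLData.autInducedBy_le [Finite S] {F : FusionSystem S} {E : FusionSystem T} {p : ℕ} [Fact p.Prime]
    {K : Subgroup (MulAut T)} (h : OLData F E p K) (hS : IsPGroup p S) (hTS : T ≤ S) :
    autInducedBy S T ≤ K := by
  intro a ha
  have haF : a ∈ F.autGroup T := autInducedBy_le_autGroup F hTS ha
  obtain ⟨e, he⟩ := (isPGroup_autInducedBy hS T) ⟨a, ha⟩
  have he' : a ^ (p ^ e) = 1 := congrArg Subtype.val he
  apply h.pow a haF e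
  rw [he']
  exact K.one_mem

/-- The system `K E` is invariant under `Aut_F(T)`. -/
theorem autInvariant_autProdSystem {F : FusionSystem S} {E : FusionSystem T} {p : ℕ} {K : Subgroup (MulAut T)}
    (h : OLData F E p K) (hAI : AutInvariant E F) (hinv : HInv E K) :
    AutInvariant (autProdSystem E K hinv) F := by
  intro a ha P hPT φ hφ P₂ hP₂
  obtain ⟨k, hk, ε, hε, hφε⟩ := hφ
  obtain ⟨ε', hε', hε'eq⟩ := hAI a ha P hPT ε hε P₂ hP₂
  have hεT : ∀ x : P, ε x ∈ T := (E.le_of_mem hε).2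
  have hε'T : ∀ z : P₂, ε' z ∈ T := (E.le_of_mem hε').2
  have hk' : a * k * a⁻¹ ∈ K := h.conj a ha k hk
  refine ⟨(T.subtype.comp ((a * k * a⁻¹ : MulAut T) : T ≃* T).toMonoidHom).comp (ε'.codRestrict T hε'T),
    ⟨a * k * a⁻¹, hk', ε', hε', fun x hx => rfl⟩, fun x hφx hαx => ?_⟩
  show (((a * k * a⁻¹ : MulAut T) ⟨ε' ⟨(a ⟨x, hPT x.2⟩ : T), hαx⟩, hε'T _⟩ : T) : Ω) = ((a ⟨φ x, hφx⟩ : T) : Ω)
  have e1 : (⟨ε' ⟨(a ⟨x, hPT x.2⟩ : T), hαx⟩, hε'T _⟩ : T) = a ⟨ε x, hεT x⟩ :=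
    Subtype.ext (hε'eq x (hεT x) hαx)
  have e2 : (⟨φ x, hφx⟩ : T) = k ⟨ε x, hεT x⟩ := Subtype.ext (hφε x (hεT x))
  rw [e1, e2, MulAut.mul_apply, MulAut.mul_apply, MulAut.inv_apply_self]

/-- Well-definedness: an element of `Aut_F(T)` whose restriction to an `E`-centric subgroup is a map of `K E` lies in
`K`. -/
theorem ol_wd [Finite S] (p : ℕ) [Fact p.Prime] (hS : IsPGroup p S) (F : FusionSystem S) (hTS : T ≤ S)
    (E : FusionSystem T) (hEsat : E.IsSaturated p) (hEF : E.IsSubsystemOf F) (hAI : AutInvariant E F)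
    {K : Subgroup (MulAut T)} (hK : OLData F E p K) (hinv : HInv E K)
    {a : MulAut T} (ha : a ∈ F.autGroup T) {U : Subgroup Ω} (hU : E.IsCentric U)
    {ψ : U →* Ω} (hψ : ψ ∈ (autProdSystem E K hinv).Hom U)
    (hψx : ∀ (x : Ω) (hx : x ∈ U) (hxT : x ∈ T), ψ ⟨x, hx⟩ = ((a ⟨x, hxT⟩ : T) : Ω)) : a ∈ K := by
  haveI : Finite T := finite_of_le hTS
  obtain ⟨k, hk, ε, hε, hψε⟩ := hψ
  have hεT : ∀ x : U, ε x ∈ T := (E.le_of_mem hε).2
  have hUT : U ≤ T := hU.1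
  have hkF : k ∈ F.autGroup T := hK.le hk
  have ha' : k⁻¹ * a ∈ F.autGroup T := Subgroup.mul_mem _ (Subgroup.inv_mem _ hkF) ha
  -- `ε` is the restriction of `a' = k⁻¹ a`
  have hεx : ∀ (x : Ω) (hx : x ∈ U) (hxT : x ∈ T), ε ⟨x, hx⟩ = (((k⁻¹ * a) ⟨x, hxT⟩ : T) : Ω) := by
    intro x hx hxT
    rw [MulAut.mul_apply]
    have e : a ⟨x, hxT⟩ = k ⟨ε ⟨x, hx⟩, hεT _⟩ := by
      apply Subtype.ext
      rw [← hψx x hx hxT, hψε ⟨x, hx⟩ (hεT _)]
    rw [e, MulAut.inv_apply_self]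
  haveI : Finite (F.autGroup T) := finite_autGroup F hTS
  have hp : p.Prime := Fact.out
  obtain ⟨e, m, hm, hcard⟩ := Nat.exists_eq_pow_mul_and_not_dvd (Nat.card_pos (α := F.autGroup T)).ne' p hp.ne_one
  have hmp : m.Coprime p := ((Nat.Prime.coprime_iff_not_dvd hp).mpr hm).symm
  have hb : (k⁻¹ * a) ^ (p ^ e) ∈ F.autGroup T := pow_mem ha' _
  have hbm : ((k⁻¹ * a) ^ (p ^ e)) ^ m = 1 := by
    rw [← pow_mul, ← hcard]
    have h1 : (⟨k⁻¹ * a, ha'⟩ : F.autGroup T) ^ Nat.card (F.autGroup T) = 1 := pow_card_eq_one'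
    exact congrArg Subtype.val h1
  have hres := pow_restrict_mem F E hAI ha' hUT hε hεx (p ^ e)
  have hbE : T.subtype.comp (((k⁻¹ * a) ^ (p ^ e) : MulAut T) : T ≃* T).toMonoidHom ∈ E.Hom T :=
    aut_mem_of_restrict_mem_coprime p hS F hTS E hEsat hEF hAI hb hbm hmp _ U rfl hU
      ⟨_, hres, fun x hx hxT => rfl⟩
  have hbK : (k⁻¹ * a) ^ (p ^ e) ∈ K := hK.aut_le ((mem_autGroup_iff E le_rfl).mpr hbE)
  have h1 : k⁻¹ * a ∈ K := hK.pow _ ha' e hbK
  have := K.mul_mem hk h1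
  rwa [mul_inv_cancel_left] at this

/-- A strongly closed subgroup is fully automized in a saturated system. -/
theorem isFullyAutomized_of_stronglyClosed [Finite S] (p : ℕ) [Fact p.Prime] (F : FusionSystem S)
    (hF : F.IsSaturated p) (hT : F.StronglyClosed T) : F.IsFullyAutomized p T := by
  obtain ⟨Q, hTQ, hQfa, -⟩ := hF T hT.1
  obtain ⟨θ, hθ, hr⟩ := hTQ
  have : Q = T := by
    rw [← hr]
    exact range_eq_of_forall_mem F hθ (fun x => hT.2 T le_rfl θ hθ x)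
  rw [← this]
  exact hQfa

end Cfsg.Agent.Lib.Helper88
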