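import Cfsg.Agent.Lib.Helper88.FusionOL1
import Cfsg.Agent.Lib.Helper88.FusionExtMod3

set_option autoImplicit false
open Cfsg

namespace Cfsg.Agent.Lib.Helper88

open Cfsg.FusionSystem Cfsg.Agent.Lib.Helper87
open Cfsg.Agent.Lib.Helper90 (autMap mem_autMap autMap_le apply_mem_autMap range_eq_of_forall_mem)
open Cfsg.Agent.Lib.Helper91 (isCentric_of_isConj isCentric_self)

variable {Ω : Type*} [Group Ω] {S T : Subgroup Ω}

/-- `S` normalizes a strongly closed subgroup. -/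
theorem le_normalizer_of_stronglyClosed {F : FusionSystem S} (hT : F.StronglyClosed T) :
    S ≤ Subgroup.normalizer (T : Set Ω) := by
  intro g hg
  rw [Subgroup.mem_normalizer_iff]
  intro x
  constructor
  · intro hx
    exact stronglyClosed_conj_mem hT hg hx
  · intro hx
    have := stronglyClosed_conj_mem hT (S.inv_mem hg) hx
    have e : g⁻¹ * (g * x * g⁻¹) * g⁻¹⁻¹ = x := by group
    rwa [e] at this

/-- The image of `A ⊓ T` under a map of the system is the intersection of the image with `T`, for `T` strongly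
closed. -/
theorem range_inf_of_stronglyClosed {F : FusionSystem S} (hT : F.StronglyClosed T) {A : Subgroup Ω} {φ : A →* Ω}
    (hφ : φ ∈ F.Hom A) :
    (φ.comp (Subgroup.inclusion (inf_le_left : A ⊓ T ≤ A))).range = φ.range ⊓ T := by
  have hres : φ.comp (Subgroup.inclusion (inf_le_left : A ⊓ T ≤ A)) ∈ F.Hom (A ⊓ T) :=
    restrict_mem F inf_le_left hφ
  ext y
  constructor
  · rintro ⟨x, rfl⟩
    exact ⟨⟨_, rfl⟩, hT.2 (A ⊓ T) inf_le_right _ hres x⟩
  · rintro ⟨⟨x, rfl⟩, hyT⟩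
    obtain ⟨ψ, hψ, hψx⟩ := F.inv_mem hφ
    have hres2 : ψ.comp (Subgroup.inclusion (inf_le_left : φ.range ⊓ T ≤ φ.range)) ∈ F.Hom (φ.range ⊓ T) :=
      restrict_mem F inf_le_left hψ
    have h1 := hT.2 (φ.range ⊓ T) inf_le_right _ hres2 ⟨φ x, ⟨x, rfl⟩, hyT⟩
    have h2 : (x : Ω) ∈ T := by
      have e : (ψ.comp (Subgroup.inclusion (inf_le_left : φ.range ⊓ T ≤ φ.range))) ⟨φ x, ⟨x, rfl⟩, hyT⟩ =
          (x : Ω) := hψx x
      rwa [e] at h1
    exact ⟨⟨x, x.2, h2⟩, rfl⟩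

/-- Under the Frattini condition the image of an `E`-centric subgroup under a map of `F` is `E`-centric. -/
theorem isCentric_range_of_frattini (F : FusionSystem S) (E : FusionSystem T) (hEF : E.IsSubsystemOf F)
    (hfrat : ∀ (P : Subgroup Ω), P ≤ T → ∀ (φ : P →* Ω), φ ∈ F.Hom P →
      ∃ α ∈ F.autGroup T, ∃ φ₀ ∈ E.Hom P, ∀ (x : P) (hx : φ₀ x ∈ T), φ x = ((α ⟨φ₀ x, hx⟩ : T) : Ω))
    {V : Subgroup Ω} (hV : E.IsCentric V) {φ : V →* Ω} (hφ : φ ∈ F.Hom V) {W : Subgroup Ω}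
    (hW : φ.range = W) : E.IsCentric W := by
  subst hW
  have hWT : φ.range ≤ T := by
    rintro _ ⟨x, rfl⟩
    obtain ⟨a, -, ε, hε, hφε⟩ := hfrat V hV.1 φ hφ
    rw [hφε x ((E.le_of_mem hε).2 x)]
    exact (a _).2
  refine ⟨hWT, ?_⟩
  rintro W' ⟨ε', hε', hr⟩
  have hψ : ε'.comp (φ.codRestrict φ.range (fun x => ⟨x, rfl⟩)) ∈ F.Hom V :=
    F.comp_mem hφ (hEF _ hε') _
  obtain ⟨a, ha, ε, hε, hψε⟩ := hfrat V hV.1 _ hψ
  have hεT : ∀ x : V, ε x ∈ T := (E.le_of_mem hε).2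
  have hcen := hV.2 ε.range ⟨ε, hε, rfl⟩
  have hψW' : ∀ x : V, ((a ⟨ε x, hεT x⟩ : T) : Ω) ∈ W' := by
    intro x
    rw [← hψε x (hεT x), ← hr]
    exact ⟨_, rfl⟩
  intro c hc
  rw [mem_centralizerIn] at hc
  obtain ⟨hcT, hcW'⟩ := hc
  set c' : T := a⁻¹ ⟨c, hcT⟩ with hc'
  have hac' : a c' = ⟨c, hcT⟩ := by rw [hc', MulAut.apply_inv_self]
  have h1 : (c' : Ω) ∈ centralizerIn T ε.range := by
    rw [mem_centralizerIn]
    refine ⟨c'.2, ?_⟩
    rintro _ ⟨x, rfl⟩
    have h2 : (⟨ε x, hεT x⟩ : T) * c' = c' * ⟨ε x, hεT x⟩ := by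
      apply a.injective
      apply Subtype.ext
      rw [map_mul, map_mul, hac']
      show ((a ⟨ε x, hεT x⟩ : T) : Ω) * c = c * ((a ⟨ε x, hεT x⟩ : T) : Ω)
      exact hcW' _ (hψW' x)
    exact congrArg Subtype.val h2
  obtain ⟨x₀, hx₀⟩ := hcen h1
  have e : (⟨ε x₀, hεT x₀⟩ : T) = c' := Subtype.ext hx₀
  have h3 := hψW' x₀
  rw [e, hac'] at h3
  exact h3

/-- The predicate: the restriction of `φ` to `A ⊓ T` is a map of `K E`. -/
def olPred (E : FusionSystem T) (K : Subgroup (MulAut T)) (hinv : HInv E K) (A : Subgroup Ω) (φ : A →* Ω) : Prop :=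
  φ.comp (Subgroup.inclusion (inf_le_left : A ⊓ T ≤ A)) ∈ (autProdSystem E K hinv).Hom (A ⊓ T)

/-- The subsystem of the maps of `F` whose restriction to the intersection with `T` is a map of `K E`. -/
def olD [Finite S] {p : ℕ} [Fact p.Prime] (hS : IsPGroup p S) (F : FusionSystem S) (hT : F.StronglyClosed T)
    (E : FusionSystem T) {K : Subgroup (MulAut T)} (hK : OLData F E p K) (hinv : HInv E K) : FusionSystem S :=
  predSystem F (olPred E K hinv)
    (by
      intro A g hA hg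
      have hgN : g ∈ Subgroup.normalizer (T : Set Ω) := le_normalizer_of_stronglyClosed hT hg
      have hk : conjAut T g hgN ∈ K :=
        hK.autInducedBy_le hS hT.1 (conjAut_mem_autInducedBy hg hgN)
      exact ⟨conjAut T g hgN, hk, (A ⊓ T).subtype, subtype_mem E inf_le_right, fun x hx => rfl⟩)
    (by
      intro A B φ ψ hφ hψ hΦφ hΦψ h
      have h' : ∀ x : ↥(A ⊓ T), (φ.comp (Subgroup.inclusion (inf_le_left : A ⊓ T ≤ A))) x ∈ B ⊓ T :=
        fun x => ⟨h _, ((autProdSystem E K hinv).le_of_mem hΦφ).2 x⟩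
      exact comp_mem' (autProdSystem E K hinv) hΦφ hΦψ h' (fun x => rfl))
    (by
      intro A φ hφ hΦφ ψ hψ hψx
      obtain ⟨θ, hθ, hθx, -⟩ := inv_mem' (autProdSystem E K hinv) hΦφ (range_inf_of_stronglyClosed hT hφ)
      refine hom_congr (autProdSystem E K hinv) hθ (fun y => ?_)
      obtain ⟨⟨x, hx⟩, hyT⟩ := y.2
      have hxT : (x : Ω) ∈ T := by
        have hmem : (y : Ω) ∈ (φ.comp (Subgroup.inclusion (inf_le_left : A ⊓ T ≤ A))).range := by
          rw [range_inf_of_stronglyClosed hT hφ]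
          exact y.2
        obtain ⟨x', hx'⟩ := hmem
        have : φ (Subgroup.inclusion inf_le_left x') = φ x := hx'.trans hx.symm
        have h2 := F.injective_of_mem hφ this
        rw [← h2]
        exact x'.2.2
      have h1 := hθx ⟨x, x.2, hxT⟩ y hx
      rw [h1]
      have e : Subgroup.inclusion (inf_le_left : φ.range ⊓ T ≤ φ.range) y = ⟨φ x, ⟨x, rfl⟩⟩ :=
        Subtype.ext hx.symm
      show ψ (Subgroup.inclusion inf_le_left y) = x
      rw [e, hψx])

theorem mem_olD [Finite S] {p : ℕ} [Fact p.Prime] (hS : IsPGroup p S) (F : FusionSystem S)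
    (hT : F.StronglyClosed T) (E : FusionSystem T) {K : Subgroup (MulAut T)} (hK : OLData F E p K)
    (hinv : HInv E K) {A : Subgroup Ω} {φ : A →* Ω} :
    φ ∈ (olD hS F hT E hK hinv).Hom A ↔ φ ∈ F.Hom A ∧ olPred E K hinv A φ := Iff.rfl

/-- The generators of the subsystem: the maps of `olD` whose source meets `T` in an `E`-centric subgroup. -/
def olGens [Finite S] {p : ℕ} [Fact p.Prime] (hS : IsPGroup p S) (F : FusionSystem S) (hT : F.StronglyClosed T)
    (E : FusionSystem T) {K : Subgroup (MulAut T)} (hK : OLData F E p K) (hinv : HInv E K) (P : Subgroup Ω) :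
    Set (P →* Ω) :=
  {φ | E.IsCentric (P ⊓ T) ∧ φ ∈ (olD hS F hT E hK hinv).Hom P}

/-- The subsystem of Oliver's lemma. -/
def olSys [Finite S] {p : ℕ} [Fact p.Prime] (hS : IsPGroup p S) (F : FusionSystem S) (hT : F.StronglyClosed T)
    (E : FusionSystem T) {K : Subgroup (MulAut T)} (hK : OLData F E p K) (hinv : HInv E K) : FusionSystem S :=
  genSystem F (olGens hS F hT E hK hinv) (fun _ _ h => h.2.1)

theorem olSys_le_olD [Finite S] {p : ℕ} [Fact p.Prime] (hS : IsPGroup p S) (F : FusionSystem S)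
    (hT : F.StronglyClosed T) (E : FusionSystem T) {K : Subgroup (MulAut T)} (hK : OLData F E p K)
    (hinv : HInv E K) (P : Subgroup Ω) :
    (olSys hS F hT E hK hinv).Hom P ⊆ (olD hS F hT E hK hinv).Hom P :=
  genSystem_le F _ _ _ (fun _ _ h => h.2) P

theorem olSys_le [Finite S] {p : ℕ} [Fact p.Prime] (hS : IsPGroup p S) (F : FusionSystem S)
    (hT : F.StronglyClosed T) (E : FusionSystem T) {K : Subgroup (MulAut T)} (hK : OLData F E p K)
    (hinv : HInv E K) (P : Subgroup Ω) :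
    (olSys hS F hT E hK hinv).Hom P ⊆ F.Hom P :=
  fun _ h => (olSys_le_olD hS F hT E hK hinv P h).1

theorem olD_le_olSys [Finite S] {p : ℕ} [Fact p.Prime] (hS : IsPGroup p S) (F : FusionSystem S)
    (hT : F.StronglyClosed T) (E : FusionSystem T) {K : Subgroup (MulAut T)} (hK : OLData F E p K)
    (hinv : HInv E K) {P : Subgroup Ω} (hP : E.IsCentric (P ⊓ T)) :
    (olD hS F hT E hK hinv).Hom P ⊆ (olSys hS F hT E hK hinv).Hom P :=
  fun _ h => subset_genSystem F _ _ P ⟨hP, h⟩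

/-- The family of subgroups meeting `T` in an `E`-centric subgroup is closed under conjugation in `F`. -/
theorem isCentric_inf_range (F : FusionSystem S) (hT : F.StronglyClosed T) (E : FusionSystem T)
    (hEF : E.IsSubsystemOf F)
    (hfrat : ∀ (P : Subgroup Ω), P ≤ T → ∀ (φ : P →* Ω), φ ∈ F.Hom P →
      ∃ α ∈ F.autGroup T, ∃ φ₀ ∈ E.Hom P, ∀ (x : P) (hx : φ₀ x ∈ T), φ x = ((α ⟨φ₀ x, hx⟩ : T) : Ω))
    {P : Subgroup Ω} (hP : E.IsCentric (P ⊓ T)) {φ : P →* Ω} (hφ : φ ∈ F.Hom P) {Q : Subgroup Ω}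
    (hQ : φ.range = Q) : E.IsCentric (Q ⊓ T) := by
  subst hQ
  exact isCentric_range_of_frattini F E hEF hfrat hP (restrict_mem F inf_le_left hφ)
    (range_inf_of_stronglyClosed hT hφ)

/-- The family is closed under overgroups. -/
theorem isCentric_inf_of_le (E : FusionSystem T) {P Q : Subgroup Ω} (hP : E.IsCentric (P ⊓ T)) (hPQ : P ≤ Q) :
    E.IsCentric (Q ⊓ T) :=
  isCentric_of_le E hP (inf_le_inf_right T hPQ) inf_le_right

end Cfsg.Agent.Lib.Helper88
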