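import Cfsg.Agent.Lib.Helper88.FusionOL2
import Cfsg.Agent.Lib.Helper88.FusionDP3

set_option autoImplicit false
open Cfsg

namespace Cfsg.Agent.Lib.Helper88

open Cfsg.FusionSystem Cfsg.Agent.Lib.Helper87
open Cfsg.Agent.Lib.Helper90 (autMap mem_autMap autMap_le apply_mem_autMap range_eq_of_forall_mem)
open Cfsg.Agent.Lib.Helper91 (isCentric_of_isConj isCentric_self)

variable {Ω : Type*} [Group Ω] {S T : Subgroup Ω}

/-- An automorphism of a strongly closed subgroup `T` normalizing `Aut_S(T)` extends to `S`. -/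
theorem exists_extPair_of_normalizes [Finite S] (p : ℕ) [Fact p.Prime] (F : FusionSystem S)
    (hF : F.IsSaturated p) (hT : F.StronglyClosed T) {n : MulAut T} (hn : n ∈ F.autGroup T)
    (hnorm : ∀ y ∈ autInducedBy S T, n * y * n⁻¹ ∈ autInducedBy S T) :
    ∃ β ∈ F.autGroup S, (β, n) ∈ extPairs hT.1 := by
  have hTS : T ≤ S := hT.1
  have hrec := isReceptive_of_stronglyClosed p F hF hT
  have hnF := (mem_autGroup_iff F hTS).mp hn
  obtain ⟨ψ, hψ, hψext⟩ := hrec.2 T _ hnF (IsFIso.range_eq (n : T ≃* T))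
  have hSle : S ≤ extender S T (T.subtype.comp (n : T ≃* T).toMonoidHom) := by
    intro g hg
    have hgN : g ∈ Subgroup.normalizer (T : Set Ω) := le_normalizer_of_stronglyClosed hT hg
    rw [mem_extender_iff]
    refine ⟨hg, hgN, ?_⟩
    have h1 := hnorm _ (conjAut_mem_autInducedBy hg hgN)
    obtain ⟨h, hh, hhx⟩ := Cfsg.Agent.Lib.Helper87.mem_autInducedBy_iff.mp h1
    refine ⟨h, hh, fun x hx => ?_⟩
    have h2 := hhx (n x)
    rw [MulAut.mul_apply, MulAut.mul_apply, MulAut.inv_apply_self] at h2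
    show ((n ⟨g * x * g⁻¹, hx⟩ : T) : Ω) = h * ((n x : T) : Ω) * h⁻¹
    rw [← h2]
    rfl
  have hψS : ψ.comp (Subgroup.inclusion hSle) ∈ F.Hom S := restrict_mem F hSle hψ
  have hr : (ψ.comp (Subgroup.inclusion hSle)).range = S :=
    range_eq_of_forall_mem F hψS (fun x => hom_mem F hψS x)
  refine ⟨homEquiv F hψS hr, homEquiv_mem_autGroup F hψS hr, fun x => ?_⟩
  apply Subtype.ext
  show ψ ⟨(x : Ω), hSle (hTS x.2)⟩ = ((n x : T) : Ω)
  exact hψext x x.2 (hSle (hTS x.2))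

/-- Every element of `Aut_F(T)` is the restriction of an element of `Aut_F(S)` composed with an element of `K`. -/
theorem ol_frattini_aut [Finite S] (p : ℕ) [Fact p.Prime] (hS : IsPGroup p S) (F : FusionSystem S)
    (hF : F.IsSaturated p) (hT : F.StronglyClosed T) (E : FusionSystem T) {K : Subgroup (MulAut T)}
    (hK : OLData F E p K) {a : MulAut T} (ha : a ∈ F.autGroup T) :
    ∃ α ∈ F.autGroup S, ∃ k ∈ K, ∀ t : T, ((a t : T) : Ω) = ((α ⟨(k t : T), hT.1 (k t).2⟩ : S) : Ω) := by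
  have hTS : T ≤ S := hT.1
  haveI : Finite (F.autGroup T) := finite_autGroup F hTS
  have hfa : IsSylIn p (autInducedBy S T) (F.autGroup T) :=
    (isFullyAutomized_iff F p hTS).mp (isFullyAutomized_of_stronglyClosed p F hF hT)
  have hYK : autInducedBy S T ≤ K := hK.autInducedBy_le hS hTS
  obtain ⟨v, hv, n, hn, hvn, hnorm⟩ := hfa.frattini hK.le hK.conj ha
  have hnorm' : ∀ y ∈ autInducedBy S T, n * y * n⁻¹ ∈ autInducedBy S T :=
    fun y hy => (hnorm y ⟨hy, hYK hy⟩).1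
  obtain ⟨β, hβ, hβn⟩ := exists_extPair_of_normalizes p F hF hT hn hnorm'
  have hk : n⁻¹ * v * n ∈ K := by
    have := hK.conj n⁻¹ (Subgroup.inv_mem _ hn) v hv
    rwa [inv_inv] at this
  refine ⟨β, hβ, n⁻¹ * v * n, hk, fun t => ?_⟩
  have h1 := (mem_extPairs hTS).mp hβn ((n⁻¹ * v * n) t)
  have h2 : (⟨(((n⁻¹ * v * n) t : T) : Ω), hTS ((n⁻¹ * v * n) t).2⟩ : S) =
      Subgroup.inclusion hTS ((n⁻¹ * v * n) t) := rfl
  rw [h2, h1]
  show ((a t : T) : Ω) = ((n ((n⁻¹ * v * n) t) : T) : Ω)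
  rw [hvn, MulAut.mul_apply, MulAut.mul_apply, MulAut.mul_apply, MulAut.apply_inv_self]

/-- The Frattini property of `olD`: every map of `F` is an element of `Aut_F(S)` composed with a map of `olD`. -/
theorem olD_frattini [Finite S] (p : ℕ) [Fact p.Prime] (hS : IsPGroup p S) (F : FusionSystem S)
    (hF : F.IsSaturated p) (hT : F.StronglyClosed T) (E : FusionSystem T)
    (hfrat : ∀ (P : Subgroup Ω), P ≤ T → ∀ (φ : P →* Ω), φ ∈ F.Hom P →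
      ∃ α ∈ F.autGroup T, ∃ φ₀ ∈ E.Hom P, ∀ (x : P) (hx : φ₀ x ∈ T), φ x = ((α ⟨φ₀ x, hx⟩ : T) : Ω))
    {K : Subgroup (MulAut T)} (hK : OLData F E p K) (hinv : HInv E K)
    (P : Subgroup Ω) (φ : P →* Ω) (hφ : φ ∈ F.Hom P) :
    ∃ α ∈ F.autGroup S, ∃ φ₀ ∈ (olD hS F hT E hK hinv).Hom P,
      ∀ (x : P) (hx : φ₀ x ∈ S), φ x = ((α ⟨φ₀ x, hx⟩ : S) : Ω) := by
  have hTS : T ≤ S := hT.1
  have hres : φ.comp (Subgroup.inclusion (inf_le_left : P ⊓ T ≤ P)) ∈ F.Hom (P ⊓ T) :=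
    restrict_mem F inf_le_left hφ
  obtain ⟨a, ha, ε, hε, hφε⟩ := hfrat (P ⊓ T) inf_le_right _ hres
  obtain ⟨α, hα, k, hk, hak⟩ := ol_frattini_aut p hS F hF hT E hK ha
  have hεT : ∀ x : ↥(P ⊓ T), ε x ∈ T := (E.le_of_mem hε).2
  have hφS : ∀ x : P, φ x ∈ S := (F.le_of_mem hφ).2
  have hαi : S.subtype.comp ((α⁻¹ : MulAut S) : S ≃* S).toMonoidHom ∈ F.Hom S :=
    autGroup_hom_mem F le_rfl (Subgroup.inv_mem _ hα)
  set φ₀ : P →* Ω := (S.subtype.comp ((α⁻¹ : MulAut S) : S ≃* S).toMonoidHom).comp (φ.codRestrict S hφS)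
    with hφ₀
  have hφ₀x : ∀ x : P, φ₀ x = (((α⁻¹ : MulAut S) ⟨φ x, hφS x⟩ : S) : Ω) := fun x => rfl
  have hφ₀F : φ₀ ∈ F.Hom P := F.comp_mem hφ hαi hφS
  refine ⟨α, hα, φ₀, ⟨hφ₀F, ?_⟩, fun x hx => ?_⟩
  · refine ⟨k, hk, ε, hε, fun x hx => ?_⟩
    show φ₀ ⟨x, x.2.1⟩ = ((k ⟨ε x, hx⟩ : T) : Ω)
    rw [hφ₀x]
    have h1 : φ ⟨x, x.2.1⟩ = ((a ⟨ε x, hx⟩ : T) : Ω) := hφε x hx
    have h2 := hak ⟨ε x, hx⟩
    have e : (⟨φ ⟨x, x.2.1⟩, hφS _⟩ : S) = α ⟨(k ⟨ε x, hx⟩ : T), hTS (k ⟨ε x, hx⟩).2⟩ :=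
      Subtype.ext (h1.trans h2)
    rw [e, MulAut.inv_apply_self]
  · have e : (⟨φ₀ x, hx⟩ : S) = (α⁻¹ : MulAut S) ⟨φ x, hφS x⟩ := Subtype.ext (hφ₀x x)
    rw [e, MulAut.apply_inv_self]

end Cfsg.Agent.Lib.Helper88
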