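import Cfsg.Agent.Lib.Helper88.FusionOL3

set_option autoImplicit false
open Cfsg

namespace Cfsg.Agent.Lib.Helper88

open Cfsg.FusionSystem Cfsg.Agent.Lib.Helper87
open Cfsg.Agent.Lib.Helper90 (autMap mem_autMap autMap_le apply_mem_autMap range_eq_of_forall_mem)
open Cfsg.Agent.Lib.Helper91 (isCentric_of_isConj isCentric_self)

variable {Ω : Type*} [Group Ω] {S T : Subgroup Ω}

/-- Every map of `F` is a core map of `F` in itself: its transports by elements of `Aut_F(S)` are maps of `F`. -/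
theorem isCoreMap_self (F : FusionSystem S) {P : Subgroup Ω} {φ : P →* Ω} (hφ : φ ∈ F.Hom P) :
    IsCoreMap F F φ := by
  intro α hα
  have hPS : P ≤ S := (F.le_of_mem hφ).1
  have hφS : ∀ x : P, φ x ∈ S := (F.le_of_mem hφ).2
  obtain ⟨e, he, hex⟩ := exists_autMap_equiv F hα hPS
  have hαF := (mem_autGroup_iff F le_rfl).mp hα
  have h1 : φ.comp (e.symm : autMap α P ≃* P).toMonoidHom ∈ F.Hom (autMap α P) :=
    comp_mem' F (IsFIso.symm F he) hφ (fun z => (e.symm z).2) (fun z => rfl)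
  have h1S : ∀ z : autMap α P, (φ.comp (e.symm : autMap α P ≃* P).toMonoidHom) z ∈ S := fun z => hφS _
  refine ⟨(S.subtype.comp (α : S ≃* S).toMonoidHom).comp
    ((φ.comp (e.symm : autMap α P ≃* P).toMonoidHom).codRestrict S h1S), F.comp_mem h1 hαF h1S, ?_⟩
  intro x hx hφx hαx
  show ((α ⟨φ (e.symm ⟨α ⟨x, hx⟩, hαx⟩), h1S _⟩ : S) : Ω) = ((α ⟨φ x, hφx⟩ : S) : Ω)
  have e1 : (⟨((α ⟨x, hx⟩ : S) : Ω), hαx⟩ : autMap α P) = e x := Subtype.ext (hex x).symm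
  have e2 : e.symm ⟨((α ⟨x, hx⟩ : S) : Ω), hαx⟩ = x := by rw [e1, MulEquiv.symm_apply_apply]
  congr 3
  rw [e2]

/-- `T ≤ S` meets `S` in an `E`-centric subgroup. -/
theorem isCentric_self_inf [Finite S] (hTS : T ≤ S) (E : FusionSystem T) : E.IsCentric (S ⊓ T) := by
  haveI : Finite T := finite_of_le hTS
  exact isCentric_of_le E (isCentric_self E) (le_inf hTS le_rfl) inf_le_right

/-- The generators of `olSys` are core maps. -/
theorem olGens_isCoreMap [Finite S] {p : ℕ} [Fact p.Prime] (hS : IsPGroup p S) (F : FusionSystem S)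
    (hT : F.StronglyClosed T) (E : FusionSystem T) (hEF : E.IsSubsystemOf F) (hAI : AutInvariant E F)
    (hfrat : ∀ (P : Subgroup Ω), P ≤ T → ∀ (φ : P →* Ω), φ ∈ F.Hom P →
      ∃ α ∈ F.autGroup T, ∃ φ₀ ∈ E.Hom P, ∀ (x : P) (hx : φ₀ x ∈ T), φ x = ((α ⟨φ₀ x, hx⟩ : T) : Ω))
    {K : Subgroup (MulAut T)} (hK : OLData F E p K) (hinv : HInv E K) {P : Subgroup Ω} {φ : P →* Ω}
    (hφ : φ ∈ olGens hS F hT E hK hinv P) : IsCoreMap (olSys hS F hT E hK hinv) F φ := by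
  obtain ⟨hPc, hφF, hΦ⟩ := hφ
  have hTS : T ≤ S := hT.1
  have hPS : P ≤ S := (F.le_of_mem hφF).1
  have hφS : ∀ x : P, φ x ∈ S := (F.le_of_mem hφF).2
  intro α hα
  obtain ⟨χ, hχ, hχx⟩ := isCoreMap_self F hφF α hα
  refine ⟨χ, ?_, hχx⟩
  have hαF := (mem_autGroup_iff F le_rfl).mp hα
  have hαi : S.subtype.comp ((α⁻¹ : MulAut S) : S ≃* S).toMonoidHom ∈ F.Hom S :=
    autGroup_hom_mem F le_rfl (Subgroup.inv_mem _ hα)
  -- the image of `P` meets `T` in an `E`-centric subgroup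
  have hαP : (S.subtype.comp (α : S ≃* S).toMonoidHom).comp (Subgroup.inclusion hPS) ∈ F.Hom P :=
    restrict_mem F hPS hαF
  have hr : ((S.subtype.comp (α : S ≃* S).toMonoidHom).comp (Subgroup.inclusion hPS)).range = autMap α P := by
    ext y
    rw [mem_autMap]
    constructor
    · rintro ⟨x, rfl⟩
      exact ⟨⟨x, hPS x.2⟩, x.2, rfl⟩
    · rintro ⟨t, ht, rfl⟩
      exact ⟨⟨t, ht⟩, rfl⟩
  have hQc : E.IsCentric (autMap α P ⊓ T) := isCentric_inf_range F hT E hEF hfrat hPc hαP hr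
  apply olD_le_olSys hS F hT E hK hinv hQc
  refine ⟨hχ, ?_⟩
  -- the restriction of `α` to `T`
  obtain ⟨a, ha, hαa⟩ := exists_extPair_restrict F hT hα
  have hαa' : ∀ (t : Ω) (ht : t ∈ T), ((α ⟨t, hTS ht⟩ : S) : Ω) = ((a ⟨t, ht⟩ : T) : Ω) := by
    intro t ht
    have := (mem_extPairs hTS).mp hαa ⟨t, ht⟩
    exact congrArg Subtype.val this
  have hAIK := autInvariant_autProdSystem hK hAI hinv
  obtain ⟨χ', hχ', hχ'x⟩ := hAIK a ha (P ⊓ T) inf_le_right _ hΦ (autMap α P ⊓ T) (by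
    intro y
    constructor
    · rintro ⟨hy, hyT⟩
      obtain ⟨t, ht, rfl⟩ := (mem_autMap α P y).mp hy
      have h1 := stronglyClosed_map_mem hT hTS hαi hyT
      have h2 : (⟨((α t : S) : Ω), hTS hyT⟩ : S) = α t := Subtype.ext rfl
      have h3 : (S.subtype.comp ((α⁻¹ : MulAut S) : S ≃* S).toMonoidHom) ⟨((α t : S) : Ω), hTS hyT⟩ = (t : Ω) := by
        show (((α⁻¹ : MulAut S) ⟨((α t : S) : Ω), hTS hyT⟩ : S) : Ω) = t
        rw [h2, MulAut.inv_apply_self]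
      rw [h3] at h1
      refine ⟨⟨t, ht, h1⟩, ?_⟩
      rw [← hαa' t h1]
    · rintro ⟨x, rfl⟩
      refine ⟨?_, (a _).2⟩
      rw [← hαa' x x.2.2]
      exact apply_mem_autMap α ⟨x, hTS x.2.2⟩ x.2.1)
  refine hom_congr (autProdSystem E K hinv) hχ' (fun z => ?_)
  -- `z = α x` with `x ∈ P ⊓ T`
  obtain ⟨hzP, hzT⟩ := z.2
  obtain ⟨t, ht, htz⟩ := (mem_autMap α P z).mp hzP
  have htT : (t : Ω) ∈ T := by
    have h1 := stronglyClosed_map_mem hT hTS hαi hzT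
    have h2 : (⟨(z : Ω), hTS hzT⟩ : S) = α t := Subtype.ext htz.symm
    have h3 : (S.subtype.comp ((α⁻¹ : MulAut S) : S ≃* S).toMonoidHom) ⟨(z : Ω), hTS hzT⟩ = (t : Ω) := by
      show (((α⁻¹ : MulAut S) ⟨(z : Ω), hTS hzT⟩ : S) : Ω) = t
      rw [h2, MulAut.inv_apply_self]
    rwa [h3] at h1
  have hφtT : φ ⟨t, ht⟩ ∈ T :=
    ((autProdSystem E K hinv).le_of_mem hΦ).2 ⟨t, ht, htT⟩
  have hz1 : ((a ⟨t, htT⟩ : T) : Ω) = z := by rw [← hαa' t htT]; exact htz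
  have hmem : ((a ⟨((⟨t, ht, htT⟩ : ↥(P ⊓ T)) : Ω), htT⟩ : T) : Ω) ∈ autMap α P ⊓ T := by
    show ((a ⟨t, htT⟩ : T) : Ω) ∈ autMap α P ⊓ T
    rw [hz1]
    exact z.2
  have h1 := hχ'x ⟨t, ht, htT⟩ hφtT hmem
  have hz2 : z = ⟨((a ⟨((⟨t, ht, htT⟩ : ↥(P ⊓ T)) : Ω), htT⟩ : T) : Ω), hmem⟩ := Subtype.ext hz1.symm
  have hmem2 : ((α ⟨((⟨t, ht⟩ : P) : Ω), t.2⟩ : S) : Ω) ∈ autMap α P := apply_mem_autMap α t ht
  have h2 := hχx ⟨t, ht⟩ t.2 (hφS _) hmem2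
  show χ (Subgroup.inclusion inf_le_left z) = χ' z
  rw [hz2, h1]
  have e : Subgroup.inclusion (inf_le_left : autMap α P ⊓ T ≤ autMap α P)
      ⟨((a ⟨((⟨t, ht, htT⟩ : ↥(P ⊓ T)) : Ω), htT⟩ : T) : Ω), hmem⟩ =
      ⟨((α ⟨((⟨t, ht⟩ : P) : Ω), t.2⟩ : S) : Ω), hmem2⟩ := by
    apply Subtype.ext
    show ((a ⟨t, htT⟩ : T) : Ω) = ((α ⟨(t : Ω), t.2⟩ : S) : Ω)
    rw [← hαa' t htT]
  rw [e, h2]
  exact hαa' _ hφtT

/-- `olSys` is invariant under `Aut_F(S)`. -/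
theorem olSys_autInvariant [Finite S] {p : ℕ} [Fact p.Prime] (hS : IsPGroup p S) (F : FusionSystem S)
    (hT : F.StronglyClosed T) (E : FusionSystem T) (hEF : E.IsSubsystemOf F) (hAI : AutInvariant E F)
    (hfrat : ∀ (P : Subgroup Ω), P ≤ T → ∀ (φ : P →* Ω), φ ∈ F.Hom P →
      ∃ α ∈ F.autGroup T, ∃ φ₀ ∈ E.Hom P, ∀ (x : P) (hx : φ₀ x ∈ T), φ x = ((α ⟨φ₀ x, hx⟩ : T) : Ω))
    {K : Subgroup (MulAut T)} (hK : OLData F E p K) (hinv : HInv E K) :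
    AutInvariant (olSys hS F hT E hK hinv) F := by
  have hle : ∀ P : Subgroup Ω, (olSys hS F hT E hK hinv).Hom P ⊆
      (coreSystem (olSys hS F hT E hK hinv) F).Hom P := by
    apply genSystem_le
    intro Q φ hφ
    exact ⟨subset_genSystem F _ _ Q hφ, olGens_isCoreMap hS F hT E hEF hAI hfrat hK hinv hφ⟩
  intro α hα P hPS φ hφ P₂ hP₂
  obtain ⟨χ, hχ, hχx⟩ := (hle P hφ).2 α hα
  have heq : autMap α P = P₂ := by
    ext y
    rw [mem_autMap, hP₂ y]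
    constructor
    · rintro ⟨t, ht, rfl⟩
      exact ⟨⟨t, ht⟩, rfl⟩
    · rintro ⟨x, rfl⟩
      exact ⟨⟨x, hPS x.2⟩, x.2, rfl⟩
  subst heq
  exact ⟨χ, hχ, fun x hφx hαx => hχx x (hPS x.2) hφx hαx⟩

/-- An element of `Aut_F(S)` whose restriction to a subgroup meeting `T` in an `E`-centric subgroup is a map of `olD`
is itself a map of `olD`. -/
theorem olD_aut_of_restrict [Finite S] (p : ℕ) [Fact p.Prime] (hS : IsPGroup p S) (F : FusionSystem S)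
    (hT : F.StronglyClosed T) (E : FusionSystem T) (hEsat : E.IsSaturated p) (hEF : E.IsSubsystemOf F)
    (hAI : AutInvariant E F) {K : Subgroup (MulAut T)} (hK : OLData F E p K) (hinv : HInv E K)
    {α : MulAut S} (hα : α ∈ F.autGroup S) {R : Subgroup Ω} (hR : E.IsCentric (R ⊓ T)) {ψ : R →* Ω}
    (hψ : ψ ∈ (olD hS F hT E hK hinv).Hom R)
    (hψx : ∀ (x : Ω) (hx : x ∈ R) (hxS : x ∈ S), ψ ⟨x, hx⟩ = ((α ⟨x, hxS⟩ : S) : Ω)) :
    S.subtype.comp (α : S ≃* S).toMonoidHom ∈ (olD hS F hT E hK hinv).Hom S := by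
  have hTS : T ≤ S := hT.1
  obtain ⟨a, ha, hαa⟩ := exists_extPair_restrict F hT hα
  have hαa' : ∀ (t : Ω) (ht : t ∈ T), ((α ⟨t, hTS ht⟩ : S) : Ω) = ((a ⟨t, ht⟩ : T) : Ω) := by
    intro t ht
    have := (mem_extPairs hTS).mp hαa ⟨t, ht⟩
    exact congrArg Subtype.val this
  have haK : a ∈ K := by
    apply ol_wd p hS F hTS E hEsat hEF hAI hK hinv ha hR hψ.2
    intro x hx hxT
    show ψ ⟨x, hx.1⟩ = _
    rw [hψx x hx.1 (hTS hxT)]
    exact hαa' x hxT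
  refine ⟨autGroup_hom_mem F le_rfl hα, a, haK, (S ⊓ T).subtype, subtype_mem E inf_le_right, fun x hx => ?_⟩
  exact hαa' x x.2.2

/-- The elements of `Aut_F(S)` which are maps of `olD` restrict on `T` to elements of `K`. -/
theorem restrict_mem_of_olD [Finite S] (p : ℕ) [Fact p.Prime] (hS : IsPGroup p S) (F : FusionSystem S)
    (hT : F.StronglyClosed T) (E : FusionSystem T) (hEsat : E.IsSaturated p) (hEF : E.IsSubsystemOf F)
    (hAI : AutInvariant E F) {K : Subgroup (MulAut T)} (hK : OLData F E p K) (hinv : HInv E K)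
    {α : MulAut S} (hα : S.subtype.comp (α : S ≃* S).toMonoidHom ∈ (olD hS F hT E hK hinv).Hom S)
    {a : MulAut T} (ha : a ∈ F.autGroup T) (hαa : (α, a) ∈ extPairs hT.1) : a ∈ K := by
  have hTS : T ≤ S := hT.1
  haveI : Finite T := finite_of_le hTS
  have hαa' : ∀ (t : Ω) (ht : t ∈ T), ((α ⟨t, hTS ht⟩ : S) : Ω) = ((a ⟨t, ht⟩ : T) : Ω) := by
    intro t ht
    have := (mem_extPairs hTS).mp hαa ⟨t, ht⟩
    exact congrArg Subtype.val this
  have h1 := restrict_mem (autProdSystem E K hinv) (le_inf hTS le_rfl : T ≤ S ⊓ T) hα.2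
  apply ol_wd p hS F hTS E hEsat hEF hAI hK hinv ha (isCentric_self E) h1
  intro x hx hxT
  exact hαa' x hxT

end Cfsg.Agent.Lib.Helper88
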