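import Cfsg.Agent.Lib.Helper88.FusionOP2
import Cfsg.Agent.Lib.Helper88.FusionSC10

set_option autoImplicit false
open Cfsg

namespace Cfsg.Agent.Lib.Helper88

open Cfsg.FusionSystem Cfsg.Agent.Lib.Helper87
open Cfsg.Agent.Lib.Helper90 (autMap mem_autMap autMap_le apply_mem_autMap)
open Cfsg.Agent.Lib.Helper91 (isCentric_of_isConj isCentric_self)

variable {Ω : Type*} [Group Ω] {S : Subgroup Ω}

/-- Generators of `Aut⁰`: the elements of `Aut_F(S)` whose restriction to some centric subgroup is a map of the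
base. -/
def opAutGens (F : FusionSystem S) (p : ℕ) : Set (MulAut S) :=
  {α | α ∈ F.autGroup S ∧ ∃ R : Subgroup Ω, F.IsCentric R ∧ ∃ φ₁ ∈ (opBase F p).Hom R,
    ∀ (x : Ω) (hx : x ∈ R) (hxS : x ∈ S), φ₁ ⟨x, hx⟩ = ((α ⟨x, hxS⟩ : S) : Ω)}

/-- The group `Aut⁰`. -/
def opAut (F : FusionSystem S) (p : ℕ) : Subgroup (MulAut S) := Subgroup.closure (opAutGens F p)

theorem opAut_le (F : FusionSystem S) (p : ℕ) : opAut F p ≤ F.autGroup S :=
  (Subgroup.closure_le _).mpr (fun _ h => h.1)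

theorem hInv_opBase (F : FusionSystem S) (p : ℕ) : HInv (opBase F p) (opAut F p) := by
  intro α hα P hPS φ hφ P₂ hP₂
  have hαF := opAut_le F p hα
  obtain ⟨χ, hχ, hχx⟩ := opBase_isCoreMap F p hφ α hαF
  have heq : autMap α P = P₂ := by
    ext y
    rw [mem_autMap, hP₂ y]
    constructor
    · rintro ⟨t, ht, rfl⟩
      exact ⟨⟨t, ht⟩, rfl⟩
    · rintro ⟨x, rfl⟩
      exact ⟨⟨x, hPS x.2⟩, x.2, rfl⟩
  subst heq
  exact ⟨χ, hχ, fun x hφx hαx => hχx x (hPS x.2) hφx hαx⟩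

/-- The `p'`-residual: the maps `α ∘ φ₀` with `α ∈ Aut⁰` and `φ₀` in the base. -/
def opRes (F : FusionSystem S) (p : ℕ) : FusionSystem S :=
  autProdSystem (opBase F p) (opAut F p) (hInv_opBase F p)

theorem opRes_le (F : FusionSystem S) (p : ℕ) : (opRes F p).IsSubsystemOf F := by
  rintro P φ ⟨α, hα, φ₀, hφ₀, hφ⟩
  have hαF := (mem_autGroup_iff F le_rfl).mp (opAut_le F p hα)
  have hφ₀S : ∀ x : P, φ₀ x ∈ S := ((opBase F p).le_of_mem hφ₀).2
  exact comp_mem' F (opBase_le F p P hφ₀) hαF hφ₀S (fun x => hφ x (hφ₀S x))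

theorem opBase_le_opRes (F : FusionSystem S) (p : ℕ) (P : Subgroup Ω) :
    (opBase F p).Hom P ⊆ (opRes F p).Hom P := le_autProdSystem _ _ _ P

theorem opAut_hom_mem (F : FusionSystem S) (p : ℕ) {α : MulAut S} (hα : α ∈ opAut F p) :
    S.subtype.comp (α : S ≃* S).toMonoidHom ∈ (opRes F p).Hom S :=
  ⟨α, hα, S.subtype, subtype_mem _ le_rfl, fun _ _ => rfl⟩

theorem pElemGen_le_opRes (F : FusionSystem S) (p : ℕ) {P : Subgroup Ω} (hP : F.IsCentric P) :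
    (pElemGen p (F.autGroup P)).map (F.autGroup P).subtype ≤ (opRes F p).autGroup P :=
  (pElemGen_le_opBase F p hP).trans (Subgroup.closure_mono (fun _ h => opBase_le_opRes F p P h))

theorem opRes_generated [Finite S] (F : FusionSystem S) (p : ℕ) :
    ∀ D : FusionSystem S, (∀ P ∈ {P : Subgroup Ω | F.IsCentric P}, (opRes F p).Hom P ⊆ D.Hom P) →
      opRes F p ≤ D := by
  rintro D hD P φ ⟨α, hα, φ₀, hφ₀, hφx⟩
  have hαD : S.subtype.comp (α : S ≃* S).toMonoidHom ∈ D.Hom S :=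
    hD S (isCentric_self F) (opAut_hom_mem F p hα)
  have hφ₀D : φ₀ ∈ D.Hom P := by
    apply opBase_le_of F p D _ P hφ₀
    intro Q hQ β hβ
    rw [mem_autGroup_iff D hQ.1]
    exact hD Q hQ (opBase_le_opRes F p Q
      ((mem_autGroup_iff (opBase F p) hQ.1).mp (pElemGen_le_opBase F p hQ hβ)))
  have hφ₀S : ∀ x : P, φ₀ x ∈ S := ((opBase F p).le_of_mem hφ₀).2
  exact comp_mem' D hφ₀D hαD hφ₀S (fun x => hφx x (hφ₀S x))

theorem card_normalizerIn_le_of_hom [Finite S] (F : FusionSystem S) {u : S →* Ω} (hu : u ∈ F.Hom S)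
    {X : Subgroup Ω} (hXS : X ≤ S) :
    Nat.card (normalizerIn S X) ≤ Nat.card (normalizerIn S (img u X)) := by
  haveI : Finite (normalizerIn S (img u X)) := finite_of_le (normalizerIn_le S _)
  have hmem : ∀ g : normalizerIn S X, u ⟨g, g.2.1⟩ ∈ normalizerIn S (img u X) :=
    fun g => ⟨hom_mem F hu _, apply_mem_normalizer_img F hu hXS ⟨g, g.2.1⟩ g.2.2⟩
  apply Nat.card_le_card_of_injective
    (fun g : normalizerIn S X => (⟨u ⟨g, g.2.1⟩, hmem g⟩ : normalizerIn S (img u X)))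
  intro a b hab
  have h1 : (⟨(a : Ω), a.2.1⟩ : S) = ⟨(b : Ω), b.2.1⟩ := F.injective_of_mem hu (congrArg Subtype.val hab)
  have h2 : (a : Ω) = (b : Ω) := congrArg (fun z : S => (z : Ω)) h1
  exact Subtype.ext h2

/-- Every centric subgroup is conjugate in the `p'`-residual to a fully automized receptive one. -/
theorem opRes_good [Finite S] (p : ℕ) [Fact p.Prime] (hS : IsPGroup p S) (F : FusionSystem S)
    (hF : F.IsSaturated p) {P : Subgroup Ω} (hP : F.IsCentric P) :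
    ∃ Q, (opRes F p).IsConj P Q ∧ (opRes F p).IsFullyAutomized p Q ∧ (opRes F p).IsReceptive Q := by
  obtain ⟨hidx, hfrat, hcen⟩ := Cfsg.Agent.S5114.result p hS F hF (opRes F p) (opRes_le F p)
    (fun P hP => pElemGen_le_opRes F p hP)
  obtain ⟨P', hPP', hfnE⟩ := exists_isFullyNormalized (opRes F p) hP.1
  have hP'S := hfnE.1
  have hconjF : F.IsConj P P' := by
    obtain ⟨φ, hφ, hr⟩ := hPP'
    exact ⟨φ, opRes_le F p P hφ, hr⟩
  have hP'cen : F.IsCentric P' := isCentric_of_isConj F hP hconjF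
  have hfnF : F.IsFullyNormalized P' := by
    refine ⟨hP'S, fun Q hconj => ?_⟩
    obtain ⟨φ, hφ, hr⟩ := hconj
    obtain ⟨α, hα, φ₀, hφ₀, hφx⟩ := hfrat P' φ hφ
    have h1 := hfnE.2 φ₀.range ⟨φ₀, hφ₀, rfl⟩
    refine le_trans ?_ h1
    have hαi : S.subtype.comp ((α⁻¹ : MulAut S) : S ≃* S).toMonoidHom ∈ F.Hom S :=
      autGroup_hom_mem F le_rfl (Subgroup.inv_mem _ hα)
    have hQS : Q ≤ S := hr ▸ (by
      rintro _ ⟨x, rfl⟩
      exact hom_mem F hφ x)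
    have hφ₀S : ∀ x : P', φ₀ x ∈ S := ((opRes F p).le_of_mem hφ₀).2
    have himg : img (S.subtype.comp ((α⁻¹ : MulAut S) : S ≃* S).toMonoidHom) Q = φ₀.range := by
      ext y
      rw [mem_img]
      constructor
      · rintro ⟨q, hqS, hqQ, rfl⟩
        rw [← hr] at hqQ
        obtain ⟨x, rfl⟩ := hqQ
        refine ⟨x, ?_⟩
        show φ₀ x = (((α⁻¹ : MulAut S) ⟨φ x, hqS⟩ : S) : Ω)
        have e : (⟨φ x, hqS⟩ : S) = α ⟨φ₀ x, hφ₀S x⟩ := Subtype.ext (hφx x (hφ₀S x))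
        rw [e, MulAut.inv_apply_self]
      · rintro ⟨x, rfl⟩
        have hq : φ x ∈ Q := by
          rw [← hr]
          exact ⟨x, rfl⟩
        refine ⟨φ x, hQS hq, hq, ?_⟩
        show (((α⁻¹ : MulAut S) ⟨φ x, hQS hq⟩ : S) : Ω) = φ₀ x
        have e : (⟨φ x, hQS hq⟩ : S) = α ⟨φ₀ x, hφ₀S x⟩ := Subtype.ext (hφx x (hφ₀S x))
        rw [e, MulAut.inv_apply_self]
    have h2 := card_normalizerIn_le_of_hom F hαi hQS
    rwa [himg] at h2
  have hprops := fullyNormalized_props p hS F hF P' hfnF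
  have hSylF := (isFullyAutomized_iff F p hP'S).mp hprops.2
  haveI : Finite (F.autGroup P') := finite_autGroup F hP'S
  have hSylE := hSylF.mono (autInducedBy_le_autGroup (opRes F p) hP'S)
    (Subgroup.closure_mono (fun α h => opRes_le F p P' h))
  have hfaE := (isFullyAutomized_iff (opRes F p) p hP'S).mpr hSylE
  have hrecF : F.IsReceptive P' := ((isSaturated_iff p hS F).mp hF).2 P' hprops.1
  refine ⟨P', hPP', hfaE, hP'S, fun Q φ hφ hr => ?_⟩
  obtain ⟨ψ, hψ, hψx⟩ := hrecF.2 Q φ (opRes_le F p Q hφ) hr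
  obtain ⟨α, hα, ψ₀, hψ₀, hψeq⟩ := hfrat _ ψ hψ
  have hQS := hom_le (opRes F p) hφ
  have hQN : Q ≤ extender S Q φ := le_extender hQS (hom_mem (opRes F p) hφ)
  have hQcen : F.IsCentric Q :=
    isCentric_of_isConj F hP'cen (isConj_symm F ⟨φ, opRes_le F p Q hφ, hr⟩)
  have hψ₀Q : ψ₀.comp (Subgroup.inclusion hQN) ∈ (opRes F p).Hom Q := restrict_mem (opRes F p) hQN hψ₀
  have hRcen : F.IsCentric (ψ₀.comp (Subgroup.inclusion hQN)).range :=
    isCentric_of_isConj F hQcen ⟨_, opRes_le F p Q hψ₀Q, rfl⟩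
  obtain ⟨ψi, hψi, hψix, hψir⟩ := inv_mem' (opRes F p) hψ₀Q rfl
  have hψiQ : ∀ y, ψi y ∈ Q := fun y => by
    have : ψi y ∈ ψi.range := ⟨y, rfl⟩
    rwa [hψir] at this
  obtain ⟨χ, hχ, hχx⟩ := exists_comp (opRes F p) hψi hφ hψiQ
  have hψ₀S : ∀ x, ψ₀ x ∈ S := ((opRes F p).le_of_mem hψ₀).2
  -- `χ` is the restriction of `α`
  have hχα : ∀ (y : Ω) (hy : y ∈ (ψ₀.comp (Subgroup.inclusion hQN)).range) (hyS : y ∈ S),
      χ ⟨y, hy⟩ = ((α ⟨y, hyS⟩ : S) : Ω) := by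
    intro y hy hyS
    obtain ⟨x, hx⟩ := id hy
    have h1 : ψi ⟨y, hy⟩ = (x : Ω) := hψix x ⟨y, hy⟩ hx
    rw [hχx]
    have h2 : (⟨ψi ⟨y, hy⟩, hψiQ _⟩ : Q) = x := Subtype.ext h1
    rw [h2, ← hψx x x.2 (hQN x.2), hψeq ⟨x, hQN x.2⟩ (hψ₀S _)]
    congr 2
    exact Subtype.ext hx
  obtain ⟨a, ha, φ₁, hφ₁, hχeq⟩ := hχ
  have hφ₁S : ∀ y, φ₁ y ∈ S := ((opBase F p).le_of_mem hφ₁).2
  have hgen : a⁻¹ * α ∈ opAutGens F p := by
    refine ⟨Subgroup.mul_mem _ (Subgroup.inv_mem _ (opAut_le F p ha)) hα, _, hRcen, φ₁, hφ₁,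
      fun y hy hyS => ?_⟩
    have h1 := hχeq ⟨y, hy⟩ (hφ₁S _)
    rw [hχα y hy hyS] at h1
    rw [MulAut.mul_apply]
    have h2 : α ⟨y, hyS⟩ = a ⟨φ₁ ⟨y, hy⟩, hφ₁S _⟩ := Subtype.ext h1
    rw [h2, MulAut.inv_apply_self]
  have hαA : α ∈ opAut F p := by
    have := (opAut F p).mul_mem ha (Subgroup.subset_closure hgen)
    rwa [mul_inv_cancel_left] at this
  exact ⟨ψ, comp_mem' (opRes F p) hψ₀ (opAut_hom_mem F p hαA) hψ₀S (fun x => hψeq x (hψ₀S x)), hψx⟩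

/-- The `p'`-residual is saturated, of index prime to `p`. -/
theorem opRes_saturated [Finite S] (p : ℕ) [Fact p.Prime] (hS : IsPGroup p S) (F : FusionSystem S)
    (hF : F.IsSaturated p) : (opRes F p).IsSaturated p ∧ (opRes F p).HasPrimeToPIndexIn F p := by
  obtain ⟨hidx, hfrat, hcen⟩ := Cfsg.Agent.S5114.result p hS F hF (opRes F p) (opRes_le F p)
    (fun P hP => pElemGen_le_opRes F p hP)
  refine ⟨?_, hidx⟩
  apply isSaturated_of_generated p hS (opRes F p) {P : Subgroup Ω | F.IsCentric P}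
  · intro P hP
    exact opRes_good p hS F hF hP
  · exact opRes_generated F p
  · intro P hPc hP
    exact absurd ((hcen P).mp hPc) hP

end Cfsg.Agent.Lib.Helper88
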