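import Cfsg.Agent.Lib.Helper88.FusionOL4
import Cfsg.Agent.Lib.Helper88.FusionOP3

set_option autoImplicit false
open Cfsg

namespace Cfsg.Agent.Lib.Helper88

open Cfsg.FusionSystem Cfsg.Agent.Lib.Helper87
open Cfsg.Agent.Lib.Helper90 (autMap mem_autMap autMap_le apply_mem_autMap range_eq_of_forall_mem)
open Cfsg.Agent.Lib.Helper91 (isCentric_of_isConj isCentric_self)

variable {Ω : Type*} [Group Ω] {S T : Subgroup Ω}

/-- Every subgroup meeting `T` in an `E`-centric subgroup is conjugate in `olSys` to a fully automized receptive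
one. -/
theorem olSys_good [Finite S] (p : ℕ) [Fact p.Prime] (hS : IsPGroup p S) (F : FusionSystem S)
    (hF : F.IsSaturated p) (hT : F.StronglyClosed T) (E : FusionSystem T) (hEsat : E.IsSaturated p)
    (hEF : E.IsSubsystemOf F) (hAI : AutInvariant E F)
    (hfrat : ∀ (P : Subgroup Ω), P ≤ T → ∀ (φ : P →* Ω), φ ∈ F.Hom P →
      ∃ α ∈ F.autGroup T, ∃ φ₀ ∈ E.Hom P, ∀ (x : P) (hx : φ₀ x ∈ T), φ x = ((α ⟨φ₀ x, hx⟩ : T) : Ω))
    {K : Subgroup (MulAut T)} (hK : OLData F E p K) (hinv : HInv E K) {P : Subgroup Ω} (hPS : P ≤ S)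
    (hP : E.IsCentric (P ⊓ T)) :
    ∃ Q, (olSys hS F hT E hK hinv).IsConj P Q ∧ (olSys hS F hT E hK hinv).IsFullyAutomized p Q ∧
      (olSys hS F hT E hK hinv).IsReceptive Q := by
  have hTS : T ≤ S := hT.1
  have hle : ∀ P, (olSys hS F hT E hK hinv).Hom P ⊆ F.Hom P := olSys_le hS F hT E hK hinv
  obtain ⟨P', hPP', hfnE⟩ := exists_isFullyNormalized (olSys hS F hT E hK hinv) hPS
  have hP'S := hfnE.1
  have hconjF : F.IsConj P P' := by
    obtain ⟨φ, hφ, hr⟩ := hPP'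
    exact ⟨φ, hle P hφ, hr⟩
  have hP'c : E.IsCentric (P' ⊓ T) := by
    obtain ⟨φ, hφ, hr⟩ := hconjF
    exact isCentric_inf_range F hT E hEF hfrat hP hφ hr
  have hfnF : F.IsFullyNormalized P' := by
    refine ⟨hP'S, fun Q hconj => ?_⟩
    obtain ⟨φ, hφ, hr⟩ := hconj
    obtain ⟨α, hα, φ₀, hφ₀D, hφx⟩ := olD_frattini p hS F hF hT E hfrat hK hinv P' φ hφ
    have hφ₀ : φ₀ ∈ (olSys hS F hT E hK hinv).Hom P' := olD_le_olSys hS F hT E hK hinv hP'c hφ₀D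
    have h1 := hfnE.2 φ₀.range ⟨φ₀, hφ₀, rfl⟩
    refine le_trans ?_ h1
    have hαi : S.subtype.comp ((α⁻¹ : MulAut S) : S ≃* S).toMonoidHom ∈ F.Hom S :=
      autGroup_hom_mem F le_rfl (Subgroup.inv_mem _ hα)
    have hQS : Q ≤ S := hr ▸ (by
      rintro _ ⟨x, rfl⟩
      exact hom_mem F hφ x)
    have hφ₀S : ∀ x : P', φ₀ x ∈ S := ((olSys hS F hT E hK hinv).le_of_mem hφ₀).2
    have himg : img (S.subtype.comp ((α⁻¹ : MulAut S) : S ≃* S).toMonoidHom) Q = φ₀.range := by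
      ext y
      rw [mem_img]
      constructor
      · rintro ⟨q, hqS, hqQ, rfl⟩
        rw [← hr] at hqQ
        obtain ⟨x, rfl⟩ := hqQ
        refine ⟨x, ?_⟩
        show φ₀ x = (((α⁻¹ : MulAut S) ⟨φ x, hqS⟩ : S) : Ω)
        have e : (⟨φ x, hqS⟩ : S) = α ⟨φ₀ x, hφ₀S x⟩ := Subtype.ext (hφx x (hφ₀S x))
        rw [e, MulAut.inv_apply_self]
      · rintro ⟨x, rfl⟩
        have hq : φ x ∈ Q := by
          rw [← hr]
          exact ⟨x, rfl⟩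
        refine ⟨φ x, hQS hq, hq, ?_⟩
        show (((α⁻¹ : MulAut S) ⟨φ x, hQS hq⟩ : S) : Ω) = φ₀ x
        have e : (⟨φ x, hQS hq⟩ : S) = α ⟨φ₀ x, hφ₀S x⟩ := Subtype.ext (hφx x (hφ₀S x))
        rw [e, MulAut.inv_apply_self]
    have h2 := card_normalizerIn_le_of_hom F hαi hQS
    rwa [himg] at h2
  have hprops := fullyNormalized_props p hS F hF P' hfnF
  have hSylF := (isFullyAutomized_iff F p hP'S).mp hprops.2
  haveI : Finite (F.autGroup P') := finite_autGroup F hP'S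
  have hSylE := hSylF.mono (autInducedBy_le_autGroup (olSys hS F hT E hK hinv) hP'S)
    (Subgroup.closure_mono (fun α h => hle P' h))
  have hfaE := (isFullyAutomized_iff (olSys hS F hT E hK hinv) p hP'S).mpr hSylE
  have hrecF : F.IsReceptive P' := ((isSaturated_iff p hS F).mp hF).2 P' hprops.1
  refine ⟨P', hPP', hfaE, hP'S, fun Q φ hφ hr => ?_⟩
  obtain ⟨ψ, hψ, hψx⟩ := hrecF.2 Q φ (hle Q hφ) hr
  obtain ⟨α, hα, ψ₀, hψ₀D, hψeq⟩ := olD_frattini p hS F hF hT E hfrat hK hinv _ ψ hψ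
  have hQS := hom_le (olSys hS F hT E hK hinv) hφ
  have hQN : Q ≤ extender S Q φ := le_extender hQS (hom_mem (olSys hS F hT E hK hinv) hφ)
  -- `Q` meets `T` in an `E`-centric subgroup
  have hQc : E.IsCentric (Q ⊓ T) := by
    obtain ⟨θ, hθ, hθr⟩ := isConj_symm F ⟨φ, hle Q hφ, hr⟩
    exact isCentric_inf_range F hT E hEF hfrat hP'c hθ hθr
  have hNc : E.IsCentric (extender S Q φ ⊓ T) := isCentric_inf_of_le E hQc hQN
  have hψ₀ : ψ₀ ∈ (olSys hS F hT E hK hinv).Hom (extender S Q φ) :=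
    olD_le_olSys hS F hT E hK hinv hNc hψ₀D
  have hψ₀Q : ψ₀.comp (Subgroup.inclusion hQN) ∈ (olSys hS F hT E hK hinv).Hom Q :=
    restrict_mem (olSys hS F hT E hK hinv) hQN hψ₀
  have hRc : E.IsCentric ((ψ₀.comp (Subgroup.inclusion hQN)).range ⊓ T) :=
    isCentric_inf_range F hT E hEF hfrat hQc (hle Q hψ₀Q) rfl
  obtain ⟨ψi, hψi, hψix, hψir⟩ := inv_mem' (olSys hS F hT E hK hinv) hψ₀Q rfl
  have hψiQ : ∀ y, ψi y ∈ Q := fun y => by
    have : ψi y ∈ ψi.range := ⟨y, rfl⟩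
    rwa [hψir] at this
  obtain ⟨χ, hχ, hχx⟩ := exists_comp (olSys hS F hT E hK hinv) hψi hφ hψiQ
  have hψ₀S : ∀ x, ψ₀ x ∈ S := ((olSys hS F hT E hK hinv).le_of_mem hψ₀).2
  -- `χ` is the restriction of `α`
  have hχα : ∀ (y : Ω) (hy : y ∈ (ψ₀.comp (Subgroup.inclusion hQN)).range) (hyS : y ∈ S),
      χ ⟨y, hy⟩ = ((α ⟨y, hyS⟩ : S) : Ω) := by
    intro y hy hyS
    obtain ⟨x, hx⟩ := id hy
    have h1 : ψi ⟨y, hy⟩ = (x : Ω) := hψix x ⟨y, hy⟩ hx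
    rw [hχx]
    have h2 : (⟨ψi ⟨y, hy⟩, hψiQ _⟩ : Q) = x := Subtype.ext h1
    rw [h2, ← hψx x x.2 (hQN x.2), hψeq ⟨x, hQN x.2⟩ (hψ₀S _)]
    congr 2
    exact Subtype.ext hx
  have hαD : S.subtype.comp (α : S ≃* S).toMonoidHom ∈ (olD hS F hT E hK hinv).Hom S :=
    olD_aut_of_restrict p hS F hT E hEsat hEF hAI hK hinv hα hRc
      (olSys_le_olD hS F hT E hK hinv _ hχ) hχα
  have hαE : S.subtype.comp (α : S ≃* S).toMonoidHom ∈ (olSys hS F hT E hK hinv).Hom S :=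
    olD_le_olSys hS F hT E hK hinv (isCentric_self_inf hTS E) hαD
  exact ⟨ψ, comp_mem' (olSys hS F hT E hK hinv) hψ₀ hαE hψ₀S (fun x => hψeq x (hψ₀S x)), hψx⟩

end Cfsg.Agent.Lib.Helper88
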