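import Cfsg.Agent.Lib.Helper88.FusionOL5
import Cfsg.Agent.Lib.Helper91.FusionNormalCentric
import Cfsg.Agent.S5082
import Cfsg.Agent.S5080

set_option autoImplicit false
open Cfsg

namespace Cfsg.Agent.Lib.Helper88

open Cfsg.FusionSystem Cfsg.Agent.Lib.Helper87
open Cfsg.Agent.Lib.Helper90 (autMap mem_autMap autMap_le apply_mem_autMap range_eq_of_forall_mem)
open Cfsg.Agent.Lib.Helper91 (isCentric_of_isConj isCentric_self)

variable {Ω : Type*} [Group Ω] {S T : Subgroup Ω}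

/-- The Frattini property of `olSys`: every map of `F` is an element of `Aut_F(S)` composed with a map of `olSys`. -/
theorem olSys_frattini [Finite S] (p : ℕ) [Fact p.Prime] (hS : IsPGroup p S) (F : FusionSystem S)
    (hF : F.IsSaturated p) (hT : F.StronglyClosed T) (E : FusionSystem T) (hE : E.IsNormalIn F p)
    (hAI : AutInvariant E F) {K : Subgroup (MulAut T)} (hK : OLData F E p K) (hinv : HInv E K)
    (P : Subgroup Ω) (φ : P →* Ω) (hφ : φ ∈ F.Hom P) :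
    ∃ α ∈ F.autGroup S, ∃ φ₀ ∈ (olSys hS F hT E hK hinv).Hom P,
      ∀ (x : P) (hx : φ₀ x ∈ S), φ x = ((α ⟨φ₀ x, hx⟩ : S) : Ω) := by
  have hTS : T ≤ S := hT.1
  have hEF : E.IsSubsystemOf F := hE.1.2.2.1
  have hfrat := hE.1.2.2.2.2.2
  have hAI₀ := olSys_autInvariant hS F hT E hEF hAI hfrat hK hinv
  have hle := Cfsg.Agent.S5082.result p hS F hF (frattiniSystem (olSys hS F hT E hK hinv) F hAI₀) (by
    intro P hP β hβ
    have hPc : E.IsCentric (P ⊓ T) := by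
      rcases hP with rfl | hPe
      · exact isCentric_self_inf hTS E
      · by_contra h
        exact Cfsg.Agent.Lib.Helper91.not_isRadical_of_not_centric_inf p hS F hF E hE P hPe.1 h
          (Cfsg.Agent.S5080.result p hS F hF P hPe)
    have hPS : P ≤ S := by
      rcases hP with rfl | hPe
      · exact le_rfl
      · exact hPe.1.1
    rw [mem_autGroup_iff _ hPS]
    obtain ⟨α, hα, φ₀, hφ₀D, hφx⟩ :=
      olD_frattini p hS F hF hT E hfrat hK hinv P _ (autGroup_hom_mem F hPS hβ)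
    exact ⟨α, hα, φ₀, olD_le_olSys hS F hT E hK hinv hPc hφ₀D, hφx⟩)
  exact hle P hφ

/-- `olSys` is generated by its maps on the subgroups meeting `T` in an `E`-centric subgroup. -/
theorem olSys_generated [Finite S] {p : ℕ} [Fact p.Prime] (hS : IsPGroup p S) (F : FusionSystem S)
    (hT : F.StronglyClosed T) (E : FusionSystem T) {K : Subgroup (MulAut T)} (hK : OLData F E p K)
    (hinv : HInv E K) :
    ∀ D : FusionSystem S, (∀ P ∈ {P : Subgroup Ω | P ≤ S ∧ E.IsCentric (P ⊓ T)},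
      (olSys hS F hT E hK hinv).Hom P ⊆ D.Hom P) → olSys hS F hT E hK hinv ≤ D := by
  intro D hD
  apply genSystem_le
  intro Q φ hφ
  exact hD Q ⟨(F.le_of_mem hφ.2.1).1, hφ.1⟩ (subset_genSystem F _ _ Q hφ)

/-- The condition on the centric subgroups outside the family. -/
theorem olSys_star_aux [Finite S] (p : ℕ) [Fact p.Prime] (hS : IsPGroup p S) (F : FusionSystem S)
    (F₀ : FusionSystem S) (hle : ∀ P, F₀.Hom P ⊆ F.Hom P)
    {P R : Subgroup Ω} (hPF : F.IsCentric P) {φ : P →* Ω} (hr : φ.range = R)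
    {α : MulAut S} (hα : α ∈ F.autGroup S) {φ₀ : P →* Ω} (hφ₀ : φ₀ ∈ F₀.Hom P)
    (hφeq : ∀ (x : P) (hx : φ₀ x ∈ S), φ x = ((α ⟨φ₀ x, hx⟩ : S) : Ω))
    {x : Ω} (hx : x ∈ S ⊓ Subgroup.normalizer (R : Set Ω)) (hxr : x ∉ R) {β : MulAut R}
    (hβ : β ∈ (pCore p (F.autGroup R)).map (F.autGroup R).subtype)
    (hβx : ∀ y : R, ((β y : R) : Ω) = x * (y : Ω) * x⁻¹) :
    ∃ Q, F₀.IsConj P Q ∧
      ¬ (autInducedBy S Q ⊓ (pCore p (F₀.autGroup Q)).map (F₀.autGroup Q).subtype ≤ Inn Q) := by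
  have hφ₀S : ∀ x : P, φ₀ x ∈ S := (F₀.le_of_mem hφ₀).2
  have hφ₀F : φ₀ ∈ F.Hom P := hle P hφ₀
  refine ⟨φ₀.range, ⟨φ₀, hφ₀, rfl⟩, ?_⟩
  have hQS : φ₀.range ≤ S := by
    rintro _ ⟨y, rfl⟩
    exact hφ₀S y
  have hQF : F.IsCentric φ₀.range := isCentric_of_isConj F hPF ⟨φ₀, hφ₀F, rfl⟩
  have hcen : centralizerIn S φ₀.range ≤ φ₀.range := hQF.2 _ (isConj_refl F hQS)
  have hreq : R = autMap α φ₀.range := by
    rw [← hr]
    ext y
    rw [mem_autMap]
    constructor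
    · rintro ⟨z, rfl⟩
      exact ⟨⟨φ₀ z, hφ₀S z⟩, ⟨z, rfl⟩, (hφeq z (hφ₀S z)).symm⟩
    · rintro ⟨t, ⟨z, hz⟩, rfl⟩
      refine ⟨z, ?_⟩
      rw [hφeq z (hφ₀S z)]
      congr 2
      exact Subtype.ext hz
  subst hreq
  obtain ⟨e, he, hex⟩ := exists_autMap_equiv F hα hQS
  have hβ' := congr_mem_pCoreOf F (IsFIso.symm F he) hβ
  -- the element `x' = α⁻¹ x`
  set x' : S := (α⁻¹ : MulAut S) ⟨x, hx.1⟩ with hx'
  have hαx' : α x' = ⟨x, hx.1⟩ := by rw [hx', MulAut.apply_inv_self]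
  have hβ'x : ∀ y : φ₀.range, ((MulAut.congr e.symm β y : φ₀.range) : Ω) = (x' : Ω) * (y : Ω) * (x' : Ω)⁻¹ := by
    intro y
    have h1 : e (MulAut.congr e.symm β y) = β (e y) := by
      show e (e.symm (β (e.symm.symm y))) = β (e y)
      rw [MulEquiv.apply_symm_apply]
      rfl
    have h2 : ((e (MulAut.congr e.symm β y) : autMap α φ₀.range) : Ω) = x * ((e y : autMap α φ₀.range) : Ω) * x⁻¹ := by
      rw [h1, hβx]
    rw [hex, hex] at h2
    have h3 : α ⟨((MulAut.congr e.symm β y : φ₀.range) : Ω), hQS (MulAut.congr e.symm β y).2⟩ =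
        α (x' * ⟨(y : Ω), hQS y.2⟩ * x'⁻¹) := by
      apply Subtype.ext
      rw [h2, map_mul, map_mul, map_inv, hαx']
      rfl
    have h4 := α.injective h3
    exact congrArg (fun z : S => (z : Ω)) h4
  intro hcon
  have hmemS : MulAut.congr e.symm β ∈ autInducedBy S φ₀.range :=
    Cfsg.Agent.Lib.Helper87.mem_autInducedBy_iff.mpr ⟨x', x'.2, hβ'x⟩
  have hmemF₀ : MulAut.congr e.symm β ∈ F₀.autGroup φ₀.range := autInducedBy_le_autGroup F₀ hQS hmemS
  have hDp : IsPGroup p ((pCore p (F.autGroup φ₀.range)).map (F.autGroup φ₀.range).subtype) :=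
    (Cfsg.Agent.Lib.Helper01.pCore_isPGroup p).map _
  have hDn : ∀ a ∈ F₀.autGroup φ₀.range,
      ∀ b ∈ (pCore p (F.autGroup φ₀.range)).map (F.autGroup φ₀.range).subtype,
      a * b * a⁻¹ ∈ (pCore p (F.autGroup φ₀.range)).map (F.autGroup φ₀.range).subtype := by
    rintro a ha _ ⟨n, hn, rfl⟩
    have hAle : F₀.autGroup φ₀.range ≤ F.autGroup φ₀.range :=
      Subgroup.closure_mono (fun α h => hle φ₀.range h)
    have haF : a ∈ F.autGroup φ₀.range := hAle ha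
    exact ⟨⟨a, haF⟩ * n * ⟨a, haF⟩⁻¹, (Cfsg.Agent.Lib.Helper01.pCore_normal p).conj_mem n hn ⟨a, haF⟩, rfl⟩
  have hcore := Cfsg.Agent.Lib.Helper91.inf_autGroup_le_pCore F₀ _ hDp hDn ⟨hβ', hmemF₀⟩
  obtain ⟨q, hq⟩ := hcon ⟨hmemS, hcore⟩
  -- `q⁻¹ x'` centralizes `Q`
  have hc : (q : Ω)⁻¹ * (x' : Ω) ∈ centralizerIn S φ₀.range := by
    rw [mem_centralizerIn]
    refine ⟨S.mul_mem (S.inv_mem (hQS q.2)) x'.2, ?_⟩
    intro y hy
    have h1 := hβ'x ⟨y, hy⟩
    rw [← hq] at h1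
    have h2 : (q : Ω) * y * (q : Ω)⁻¹ = (x' : Ω) * y * (x' : Ω)⁻¹ := h1
    have h3 : y = (q : Ω)⁻¹ * ((x' : Ω) * y * (x' : Ω)⁻¹) * (q : Ω) := by
      rw [← h2]
      group
    calc y * ((q : Ω)⁻¹ * (x' : Ω)) = (q : Ω)⁻¹ * ((x' : Ω) * y * (x' : Ω)⁻¹) * (q : Ω) * ((q : Ω)⁻¹ * (x' : Ω)) := by
          rw [← h3]
      _ = (q : Ω)⁻¹ * (x' : Ω) * y := by group
  have h5 : (x' : Ω) ∈ φ₀.range := by
    have := φ₀.range.mul_mem q.2 (hcen hc)
    rwa [mul_inv_cancel_left] at this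
  apply hxr
  have h6 := apply_mem_autMap α x' h5
  rwa [hαx'] at h6

theorem olSys_star [Finite S] (p : ℕ) [Fact p.Prime] (hS : IsPGroup p S) (F : FusionSystem S)
    (hF : F.IsSaturated p) (hT : F.StronglyClosed T) (E : FusionSystem T) (hE : E.IsNormalIn F p)
    (hAI : AutInvariant E F) {K : Subgroup (MulAut T)} (hK : OLData F E p K) (hinv : HInv E K)
    (P : Subgroup Ω) (hPc : (olSys hS F hT E hK hinv).IsCentric P)
    (hPℋ : P ∉ {P : Subgroup Ω | P ≤ S ∧ E.IsCentric (P ⊓ T)}) :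
    ∃ Q, (olSys hS F hT E hK hinv).IsConj P Q ∧
      ¬ (autInducedBy S Q ⊓ (pCore p ((olSys hS F hT E hK hinv).autGroup Q)).map
        ((olSys hS F hT E hK hinv).autGroup Q).subtype ≤ Inn Q) := by
  have hfratS := olSys_frattini p hS F hF hT E hE hAI hK hinv
  have hPF : F.IsCentric P := isCentric_of_frattini F (olSys hS F hT E hK hinv) hfratS hPc
  obtain ⟨φ, hφ, x, hx, hxr, β, hβ, hβx⟩ :=
    Cfsg.Agent.Lib.Helper91.exists_outer_pCore_of_not_centric p hS F hF E hE P hPF.1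
      (fun h => hPℋ ⟨hPF.1, h⟩)
  obtain ⟨α, hα, φ₀, hφ₀, hφeq⟩ := hfratS P φ hφ
  exact olSys_star_aux p hS F (olSys hS F hT E hK hinv) (olSys_le hS F hT E hK hinv) hPF rfl hα hφ₀ hφeq
    hx hxr hβ hβx

/-- `olSys` is saturated. -/
theorem olSys_saturated [Finite S] (p : ℕ) [Fact p.Prime] (hS : IsPGroup p S) (F : FusionSystem S)
    (hF : F.IsSaturated p) (hT : F.StronglyClosed T) (E : FusionSystem T) (hE : E.IsNormalIn F p)
    (hAI : AutInvariant E F) {K : Subgroup (MulAut T)} (hK : OLData F E p K) (hinv : HInv E K) :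
    (olSys hS F hT E hK hinv).IsSaturated p := by
  have hEF : E.IsSubsystemOf F := hE.1.2.2.1
  have hfrat := hE.1.2.2.2.2.2
  apply isSaturated_of_generated p hS (olSys hS F hT E hK hinv)
    {P : Subgroup Ω | P ≤ S ∧ E.IsCentric (P ⊓ T)}
  · intro P hP
    exact olSys_good p hS F hF hT E hE.1.1 hEF hAI hfrat hK hinv hP.1 hP.2
  · exact olSys_generated hS F hT E hK hinv
  · exact olSys_star p hS F hF hT E hE hAI hK hinv

end Cfsg.Agent.Lib.Helper88
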