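import Cfsg.Agent.Lib.Helper88.FusionFrat8

set_option autoImplicit false
open Cfsg

namespace Cfsg.Agent.Lib.Helper88

open Cfsg.FusionSystem Cfsg.Agent.Lib.Helper87
open Cfsg.Agent.Lib.Helper90 (autMap mem_autMap autMap_le apply_mem_autMap)
open Cfsg.Agent.Lib.Helper91 (isCentric_of_isConj isCentric_self)

variable {Ω : Type*} [Group Ω] {S : Subgroup Ω}

/-- The smallest fusion system over `S` containing a given family of maps of `F`. -/
def genSystem (F : FusionSystem S) (G : ∀ P : Subgroup Ω, Set (P →* Ω)) (hG : ∀ P, G P ⊆ F.Hom P) :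
    FusionSystem S where
  Hom P := {φ | ∀ D : FusionSystem S, (∀ Q, G Q ⊆ D.Hom Q) → φ ∈ D.Hom P}
  le_of_mem h := F.le_of_mem (h F hG)
  injective_of_mem h := F.injective_of_mem (h F hG)
  conj_mem hP hg := fun D _ => D.conj_mem hP hg
  comp_mem hφ hψ h := fun D hD => D.comp_mem (hφ D hD) (hψ D hD) h
  inv_mem := by
    intro P φ hφ
    obtain ⟨ψ, hψ, hψx⟩ := F.inv_mem (hφ F hG)
    refine ⟨ψ, fun D hD => ?_, hψx⟩
    obtain ⟨ψ', hψ', hψ'x⟩ := D.inv_mem (hφ D hD)
    have : ψ' = ψ := by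
      ext ⟨_, x, rfl⟩
      rw [hψ'x, hψx]
    rw [← this]
    exact hψ'

theorem subset_genSystem (F : FusionSystem S) (G : ∀ P : Subgroup Ω, Set (P →* Ω)) (hG : ∀ P, G P ⊆ F.Hom P)
    (P : Subgroup Ω) : G P ⊆ (genSystem F G hG).Hom P := fun _ hφ _ hD => hD P hφ

theorem genSystem_le (F : FusionSystem S) (G : ∀ P : Subgroup Ω, Set (P →* Ω)) (hG : ∀ P, G P ⊆ F.Hom P)
    (D : FusionSystem S) (hD : ∀ Q, G Q ⊆ D.Hom Q) (P : Subgroup Ω) : (genSystem F G hG).Hom P ⊆ D.Hom P :=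
  fun _ hφ => hφ D hD

/-- The generators of the base of the `p'`-residual: the elements of `O^{p'}(Aut_F(P))` for centric `P`. -/
def opGens (F : FusionSystem S) (p : ℕ) (P : Subgroup Ω) : Set (P →* Ω) :=
  {φ | F.IsCentric P ∧ ∃ α ∈ (pElemGen p (F.autGroup P)).map (F.autGroup P).subtype,
    φ = P.subtype.comp (α : P ≃* P).toMonoidHom}

theorem opGens_subset (F : FusionSystem S) (p : ℕ) (P : Subgroup Ω) : opGens F p P ⊆ F.Hom P := by
  rintro _ ⟨hP, α, hα, rfl⟩
  have hαA : α ∈ F.autGroup P := Subgroup.map_subtype_le _ hα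
  exact autGroup_hom_mem F hP.1 hαA

/-- The subsystem generated by the groups `O^{p'}(Aut_F(P))` for centric `P`. -/
def opBase (F : FusionSystem S) (p : ℕ) : FusionSystem S := genSystem F (opGens F p) (opGens_subset F p)

theorem opBase_le (F : FusionSystem S) (p : ℕ) (P : Subgroup Ω) : (opBase F p).Hom P ⊆ F.Hom P :=
  genSystem_le F _ _ F (opGens_subset F p) P

theorem pElemGen_le_opBase (F : FusionSystem S) (p : ℕ) {P : Subgroup Ω} (hP : F.IsCentric P) :
    (pElemGen p (F.autGroup P)).map (F.autGroup P).subtype ≤ (opBase F p).autGroup P := by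
  intro α hα
  rw [mem_autGroup_iff (opBase F p) hP.1]
  exact subset_genSystem F _ _ P ⟨hP, α, hα, rfl⟩

theorem opBase_le_of (F : FusionSystem S) (p : ℕ) (D : FusionSystem S)
    (h : ∀ Q : Subgroup Ω, F.IsCentric Q →
      (pElemGen p (F.autGroup Q)).map (F.autGroup Q).subtype ≤ D.autGroup Q) (P : Subgroup Ω) :
    (opBase F p).Hom P ⊆ D.Hom P := by
  apply genSystem_le
  rintro Q _ ⟨hQ, α, hα, rfl⟩
  exact (mem_autGroup_iff D hQ.1).mp (h Q hQ hα)

/-- The base is invariant under `Aut_F(S)`. -/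
theorem opBase_isCoreMap (F : FusionSystem S) (p : ℕ) {P : Subgroup Ω} {φ : P →* Ω}
    (hφ : φ ∈ (opBase F p).Hom P) : IsCoreMap (opBase F p) F φ := by
  have hle : ∀ P : Subgroup Ω, (opBase F p).Hom P ⊆ (coreSystem (opBase F p) F).Hom P := by
    apply opBase_le_of
    intro Q hQ
    apply pElemGen_le_autGroup_coreSystem p (opBase F p) F hQ.1 (pElemGen_le_opBase F p hQ)
    intro α hα
    obtain ⟨a, haF, -⟩ := exists_autMap_equiv F hα hQ.1
    exact pElemGen_le_opBase F p (isCentric_of_isConj F hQ (IsFIso.isConj F haF))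
  exact (hle P hφ).2

end Cfsg.Agent.Lib.Helper88
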