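import Cfsg.Agent.Lib.Helper88.FusionFrat5
import Cfsg.Agent.Lib.Helper87.Hyperfocal

set_option autoImplicit false
open Cfsg

namespace Cfsg.Agent.Lib.Helper88

open Cfsg.FusionSystem Cfsg.Agent.Lib.Helper87
open Cfsg.Agent.Lib.Helper90 (autMap mem_autMap autMap_le apply_mem_autMap)

variable {Ω : Type*} [Group Ω] {S T : Subgroup Ω}

theorem autMap_mul' (α β : MulAut T) (P : Subgroup Ω) : autMap (α * β) P = autMap α (autMap β P) := by
  ext y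
  rw [mem_autMap, mem_autMap]
  constructor
  · rintro ⟨t, ht, rfl⟩
    exact ⟨β t, apply_mem_autMap β t ht, rfl⟩
  · rintro ⟨s, hs, rfl⟩
    obtain ⟨t, ht, hts⟩ := (mem_autMap β P _).mp hs
    refine ⟨t, ht, ?_⟩
    have : β t = s := Subtype.ext hts
    rw [← this]
    rfl

/-- A map all of whose transports by elements of the group `A` of automorphisms of `T` are maps of `E`. -/
def IsCoreMap' (E : FusionSystem T) (A : Subgroup (MulAut T)) {P : Subgroup Ω} (φ : P →* Ω) : Prop :=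
  ∀ α ∈ A, ∃ χ ∈ E.Hom (autMap α P), ∀ (x : P) (hx : (x : Ω) ∈ T) (hφx : φ x ∈ T)
    (hαx : ((α ⟨x, hx⟩ : T) : Ω) ∈ autMap α P), χ ⟨α ⟨x, hx⟩, hαx⟩ = ((α ⟨φ x, hφx⟩ : T) : Ω)

/-- The largest subsystem of `E` invariant under `A`: the maps of `E` all of whose `A`-transports are maps of `E`. -/
def conjCore (E : FusionSystem T) (A : Subgroup (MulAut T)) : FusionSystem T where
  Hom P := {φ | φ ∈ E.Hom P ∧ IsCoreMap' E A φ}
  le_of_mem h := E.le_of_mem h.1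
  injective_of_mem h := E.injective_of_mem h.1
  conj_mem := by
    intro P g hP hg
    refine ⟨E.conj_mem hP hg, fun α _ => ?_⟩
    refine ⟨conjHom (autMap α P) ((α ⟨g, hg⟩ : T) : Ω), E.conj_mem (autMap_le α P) (α ⟨g, hg⟩).2, ?_⟩
    intro x hx hφx hαx
    show ((α ⟨g, hg⟩ : T) : Ω) * ((α ⟨x, hx⟩ : T) : Ω) * ((α ⟨g, hg⟩ : T) : Ω)⁻¹ = _
    have : (⟨conjHom P g x, hφx⟩ : T) = ⟨g, hg⟩ * ⟨x, hx⟩ * ⟨g, hg⟩⁻¹ := Subtype.ext rfl
    rw [this, map_mul, map_mul, map_inv]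
    rfl
  comp_mem := by
    rintro P Q φ ψ ⟨hφ, hφc⟩ ⟨hψ, hψc⟩ h
    refine ⟨E.comp_mem hφ hψ h, fun α hα => ?_⟩
    obtain ⟨χφ, hχφ, hχφeq⟩ := hφc α hα
    obtain ⟨χψ, hχψ, hχψeq⟩ := hψc α hα
    have hφS : ∀ x : P, φ x ∈ T := (E.le_of_mem hφ).2
    have hψS : ∀ y : Q, ψ y ∈ T := (E.le_of_mem hψ).2
    have hPS : P ≤ T := (E.le_of_mem hφ).1
    have hχ : ∀ z : autMap α P, χφ z ∈ autMap α Q := by
      rintro ⟨z, hz⟩
      obtain ⟨t, ht, rfl⟩ := (mem_autMap α P z).mp hz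
      have e1 := hχφeq ⟨t, ht⟩ t.2 (hφS _) hz
      rw [e1]
      exact apply_mem_autMap α ⟨φ ⟨t, ht⟩, hφS _⟩ (h ⟨t, ht⟩)
    refine ⟨χψ.comp (χφ.codRestrict _ hχ), E.comp_mem hχφ hχψ hχ, ?_⟩
    intro x hx hcx hαx
    have e1 := hχφeq x hx (hφS x) hαx
    have e2 := hχψeq ⟨φ x, h x⟩ (hφS x) (hψS _) (apply_mem_autMap α ⟨φ x, hφS x⟩ (h x))
    show χψ ⟨χφ ⟨α ⟨x, hx⟩, hαx⟩, hχ _⟩ = ((α ⟨ψ ⟨φ x, h x⟩, hcx⟩ : T) : Ω)
    rw [← e2]
    congr 1
    exact Subtype.ext e1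
  inv_mem := by
    rintro P φ ⟨hφ, hφc⟩
    obtain ⟨ψ, hψ, hψx⟩ := E.inv_mem hφ
    refine ⟨ψ, ⟨hψ, fun α hα => ?_⟩, hψx⟩
    obtain ⟨χφ, hχφ, hχφeq⟩ := hφc α hα
    have hφS : ∀ x : P, φ x ∈ T := (E.le_of_mem hφ).2
    have hPS : P ≤ T := (E.le_of_mem hφ).1
    have hrange : χφ.range = autMap α φ.range := by
      ext y
      constructor
      · rintro ⟨⟨z, hz⟩, rfl⟩
        obtain ⟨t, ht, rfl⟩ := (mem_autMap α P z).mp hz
        have e1 := hχφeq ⟨t, ht⟩ t.2 (hφS _) hz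
        rw [e1]
        exact apply_mem_autMap α ⟨φ ⟨t, ht⟩, hφS _⟩ ⟨⟨t, ht⟩, rfl⟩
      · intro hy
        obtain ⟨s, ⟨x, hxs⟩, rfl⟩ := (mem_autMap α φ.range y).mp hy
        have hαx : ((α ⟨x, hPS x.2⟩ : T) : Ω) ∈ autMap α P := apply_mem_autMap α ⟨x, hPS x.2⟩ x.2
        refine ⟨⟨_, hαx⟩, ?_⟩
        rw [hχφeq x (hPS x.2) (hφS x) hαx]
        congr 2
        exact Subtype.ext hxs
    obtain ⟨χ', hχ', hχ'eq, -⟩ := inv_mem' E hχφ hrange
    refine ⟨χ', hχ', ?_⟩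
    rintro ⟨_, x, rfl⟩ hy hψy hαy
    have hαx : ((α ⟨x, hPS x.2⟩ : T) : Ω) ∈ autMap α P := apply_mem_autMap α ⟨x, hPS x.2⟩ x.2
    have e1 := hχφeq x (hPS x.2) (hφS x) hαx
    have e2 := hχ'eq ⟨_, hαx⟩ ⟨_, hαy⟩ e1
    rw [e2]
    show ((α ⟨x, hPS x.2⟩ : T) : Ω) = ((α ⟨ψ ⟨φ x, ⟨x, rfl⟩⟩, hψy⟩ : T) : Ω)
    congr 2
    exact Subtype.ext (hψx x).symm

theorem conjCore_le (E : FusionSystem T) (A : Subgroup (MulAut T)) :
    ∀ P : Subgroup Ω, (conjCore E A).Hom P ⊆ E.Hom P :=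
  fun _ _ h => h.1

/-- If `E` coincides with its core with respect to `Aut_F(T)`, it is invariant. -/
theorem autInvariant_of_le_conjCore (E : FusionSystem T) (F : FusionSystem S)
    (h : ∀ P : Subgroup Ω, E.Hom P ⊆ (conjCore E (F.autGroup T)).Hom P) : AutInvariant E F := by
  apply autInvariant_of_forall
  intro P hPT φ hφ α hα
  obtain ⟨χ, hχ, hχeq⟩ := (h P hφ).2 α hα
  exact ⟨χ, hχ, fun x hφx hαx => hχeq x (hPT x.2) hφx hαx⟩

/-- The restriction of an element of `Aut_F(T)` to a subgroup `P ≤ T`, as an equivalence onto the image. -/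
theorem exists_autMap_equiv' (F : FusionSystem S) (hTS : T ≤ S) {α : MulAut T} (hα : α ∈ F.autGroup T) {P : Subgroup Ω}
    (hPT : P ≤ T) : ∃ a : P ≃* autMap α P, IsFIso F a ∧ ∀ x : P, ((a x : autMap α P) : Ω) = ((α ⟨x, hPT x.2⟩ : T) : Ω) := by
  have hφ : (T.subtype.comp α.toMonoidHom).comp (Subgroup.inclusion hPT) ∈ F.Hom P :=
    Cfsg.Agent.Lib.Helper87.restrict_mem F hPT ((mem_autGroup_iff F hTS).mp hα)
  have hr : ((T.subtype.comp α.toMonoidHom).comp (Subgroup.inclusion hPT)).range = autMap α P := by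
    ext y
    rw [mem_autMap]
    constructor
    · rintro ⟨x, rfl⟩
      exact ⟨⟨x, hPT x.2⟩, x.2, rfl⟩
    · rintro ⟨t, ht, rfl⟩
      exact ⟨⟨t, ht⟩, rfl⟩
  exact ⟨homEquiv F hφ hr, isFIso_homEquiv F hφ hr, fun x => rfl⟩

/-- Transport of `O^p(Aut_F(P))` along an `F`-isomorphism. -/
theorem congr_mem_pResidual (p : ℕ) (F : FusionSystem S) {P Q : Subgroup Ω} {e : P ≃* Q} (he : IsFIso F e)
    {n : MulAut P} (hn : n ∈ (pResidual p (F.autGroup P)).map (F.autGroup P).subtype) :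
    MulAut.congr e n ∈ (pResidual p (F.autGroup Q)).map (F.autGroup Q).subtype := by
  obtain ⟨m, hm, rfl⟩ := hn
  set f : F.autGroup P →* F.autGroup Q :=
    MonoidHom.codRestrict ((MulAut.congr e).toMonoidHom.comp (F.autGroup P).subtype) (F.autGroup Q)
      (fun a => (congr_mem_autGroup_iff F he a).mpr a.2) with hf
  have h2 : f m ∈ pResidual p (F.autGroup Q) := pResidual_map_le p f ⟨m, hm, rfl⟩
  exact ⟨f m, h2, rfl⟩

/-- A subsystem containing all `O^p(Aut_F(P))`, `P ≤ T`: so does its core with respect to `Aut_F(T)`. -/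
theorem pResidual_le_autGroup_conjCore (p : ℕ) (E : FusionSystem T) (F : FusionSystem S) (hTS : T ≤ S)
    (hall : ∀ P : Subgroup Ω, P ≤ T → (pResidual p (F.autGroup P)).map (F.autGroup P).subtype ≤ E.autGroup P)
    {P : Subgroup Ω} (hPT : P ≤ T) :
    (pResidual p (F.autGroup P)).map (F.autGroup P).subtype ≤ (conjCore E (F.autGroup T)).autGroup P := by
  intro n hn
  rw [mem_autGroup_iff (conjCore E (F.autGroup T)) hPT]
  refine ⟨(mem_autGroup_iff E hPT).mp (hall P hPT hn), fun α hα => ?_⟩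
  obtain ⟨a, haF, hax⟩ := exists_autMap_equiv' F hTS hα hPT
  have h2 := hall _ (autMap_le α P) (congr_mem_pResidual p F haF hn)
  have h3 := (mem_autGroup_iff E (autMap_le α P)).mp h2
  refine ⟨_, h3, fun x hx hφx hαx => ?_⟩
  show (((MulAut.congr a n) ⟨α ⟨x, hx⟩, hαx⟩ : autMap α P) : Ω) = _
  have e1 : (⟨α ⟨x, hx⟩, hαx⟩ : autMap α P) = a x := Subtype.ext (hax x).symm
  rw [e1]
  show ((a (n (a.symm (a x))) : autMap α P) : Ω) = _
  rw [MulEquiv.symm_apply_apply, hax]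
  rfl

end Cfsg.Agent.Lib.Helper88
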