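import Cfsg.Agent.Lib.Helper88.FusionPP1
import Cfsg.Agent.Lib.Helper88.FusionHyp2
import Cfsg.Agent.Lib.Helper88.FusionExtMod3
import Cfsg.Agent.Lib.Helper87.PPowerIndex

set_option autoImplicit false
open Cfsg
open scoped Pointwise

namespace Cfsg.Agent.Lib.Helper88

open Cfsg.FusionSystem Cfsg.Agent.Lib.Helper87

variable {Ω : Type*} [Group Ω] {S T : Subgroup Ω}

/-- A normal subgroup of `S` containing the hyperfocal subgroup is strongly closed. -/
theorem stronglyClosed_of_hyperfocal_le [Finite S] (p : ℕ) [Fact p.Prime] (hS : IsPGroup p S) (F : FusionSystem S)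
    (hF : F.IsSaturated p) (hTS : T ≤ S) (hTn : (T.subgroupOf S).Normal) (hT : F.hyperfocalSubgroup p ≤ T) :
    F.StronglyClosed T := by
  refine ⟨hTS, fun R hR φ hφ x => ?_⟩
  obtain ⟨-, s, hs, hφs⟩ := le_modSystem_hyperfocal p hS F hF R hφ
  have h1 := hT (hφs x)
  have h2 : s * (x : Ω) * s⁻¹ ∈ T := by
    have hx : (⟨x, hTS (hR x.2)⟩ : S) ∈ T.subgroupOf S := Subgroup.mem_subgroupOf.mpr (hR x.2)
    have := hTn.conj_mem _ hx ⟨s, hs⟩
    exact Subgroup.mem_subgroupOf.mp this
  have e : φ x = (s * (x : Ω) * s⁻¹) * ((s * (x : Ω) * s⁻¹)⁻¹ * φ x) := by group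
  rw [e]
  exact Subgroup.mul_mem _ h2 h1

/-- A saturated subsystem of `p`-power index is invariant under `Aut_F(T)`. -/
theorem autInvariant_of_pPowerIndex [Finite S] (p : ℕ) [Fact p.Prime] (hS : IsPGroup p S) (F : FusionSystem S)
    (hTS : T ≤ S) (E : FusionSystem T) (hEs : E.IsSaturated p) (hEF : E.IsSubsystemOf F)
    (hall : ∀ P : Subgroup Ω, P ≤ T → (pResidual p (F.autGroup P)).map (F.autGroup P).subtype ≤ E.autGroup P) :
    AutInvariant E F := by
  have hfinT : Finite T := finite_of_le hTS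
  have hTp : IsPGroup p T := hS.to_le hTS
  apply autInvariant_of_le_conjCore
  exact le_of_saturated_of_pResidual_le p hTp F E (conjCore E (F.autGroup T)) hEs hEF
    (fun P hPT => pResidual_le_autGroup_conjCore p E F hTS hall hPT)

theorem mem_normalizer_of_stronglyClosed {F : FusionSystem S} (hT : F.StronglyClosed T) {s : Ω} (hs : s ∈ S) :
    s ∈ Subgroup.normalizer (T : Set Ω) := by
  rw [Subgroup.mem_normalizer_iff]
  intro y
  constructor
  · intro hy
    exact stronglyClosed_conj_mem hT hs hy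
  · intro hy
    have := stronglyClosed_conj_mem hT (S.inv_mem hs) hy
    have e : s⁻¹ * (s * y * s⁻¹) * s⁻¹⁻¹ = y := by group
    rw [e] at this
    exact this

/-- The Frattini property for a saturated subsystem of `p`-power index over a strongly closed subgroup. -/
theorem frattini_of_pPowerIndex [Finite S] (p : ℕ) [Fact p.Prime] (hS : IsPGroup p S) (F : FusionSystem S)
    (hF : F.IsSaturated p) (hT : F.StronglyClosed T) (E : FusionSystem T) (hEF : E.IsSubsystemOf F)
    (hall : ∀ P : Subgroup Ω, P ≤ T → (pResidual p (F.autGroup P)).map (F.autGroup P).subtype ≤ E.autGroup P)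
    (hinv : AutInvariant E F) :
    ∀ (P : Subgroup Ω), P ≤ T → ∀ (φ : P →* Ω), φ ∈ F.Hom P →
      ∃ α ∈ F.autGroup T, ∃ φ₀ ∈ E.Hom P, ∀ (x : P) (hx : φ₀ x ∈ T), φ x = ((α ⟨φ₀ x, hx⟩ : T) : Ω) := by
  have hTS : T ≤ S := hT.1
  intro P hPT φ hφ
  refine hom_subset_of_aut_fullyNormalized p hS F hF hT (frattiniSystem E F hinv)
    (frattiniSystem_le E F hinv hTS hEF) ?_ P hPT hφ
  intro R hRT hRfn _ β hβ
  have hRS : R ≤ S := hRT.trans hTS
  obtain ⟨-, Sy, hSy⟩ := (fullyNormalized_props p hS F hF R hRfn).2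
  have : Finite (F.autGroup R) := finite_autGroup F hRS
  have hsup := Cfsg.Agent.Lib.Helper54.pResidual_sup_sylow Sy
  have hnormal := Cfsg.Agent.Lib.Helper54.pResidual_normal p (F.autGroup R)
  have hmem : (⟨β, hβ⟩ : F.autGroup R) ∈ ((pResidual p (F.autGroup R) ⊔ (Sy : Subgroup (F.autGroup R)) :
      Subgroup (F.autGroup R)) : Set (F.autGroup R)) := by
    rw [hsup]; trivial
  rw [Subgroup.normal_mul] at hmem
  obtain ⟨o, ho, r, hr, hor⟩ := Set.mem_mul.mp hmem
  have hr' : r ∈ (Sy : Subgroup (F.autGroup R)) := hr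
  rw [hSy, Subgroup.mem_subgroupOf] at hr'
  obtain ⟨s, hsS, hs⟩ := Cfsg.Agent.Lib.Helper87.mem_autInducedBy_iff.mp hr'
  have hoE : R.subtype.comp ((o : MulAut R) : R ≃* R).toMonoidHom ∈ (frattiniSystem E F hinv).Hom R := by
    apply le_frattiniSystem E F hinv R
    rw [← mem_autGroup_iff E hRT]
    exact hall R hRT ⟨o, ho, rfl⟩
  have hsN : s ∈ Subgroup.normalizer (T : Set Ω) := mem_normalizer_of_stronglyClosed hT hsS
  have hrE : R.subtype.comp ((r : MulAut R) : R ≃* R).toMonoidHom ∈ (frattiniSystem E F hinv).Hom R := by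
    refine ⟨conjAut T s hsN, autInducedBy_le_autGroup F hTS (conjAut_mem_autInducedBy hsS hsN), R.subtype,
      subtype_mem E hRT, fun x hx => ?_⟩
    show (((r : MulAut R) x : R) : Ω) = s * (x : Ω) * s⁻¹
    exact hs x
  refine comp_mem' (frattiniSystem E F hinv) hrE hoE (fun x => ((r : MulAut R) x).2) (fun x => ?_)
  show ((β x : R) : Ω) = (((o : MulAut R) ((r : MulAut R) x) : R) : Ω)
  have : β = (o : MulAut R) * (r : MulAut R) := by
    have := congrArg (fun z : F.autGroup R => (z : MulAut R)) hor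
    exact this.symm
  rw [this]
  rfl

end Cfsg.Agent.Lib.Helper88
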