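import Cfsg.Agent.Lib.Helper88.FusionPP2

set_option autoImplicit false
open Cfsg
open scoped Pointwise

namespace Cfsg.Agent.Lib.Helper88

open Cfsg.FusionSystem Cfsg.Agent.Lib.Helper87

variable {Ω : Type*} [Group Ω] {S T : Subgroup Ω}

/-- The pairs `(β, α)` of automorphisms of `U` and of `T ≤ U` with `β` extending `α`. -/
def extPairs {T U : Subgroup Ω} (hTU : T ≤ U) : Subgroup (MulAut U × MulAut T) where
  carrier := {q | ∀ x : T, q.1 (Subgroup.inclusion hTU x) = Subgroup.inclusion hTU (q.2 x)}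
  one_mem' := fun _ => rfl
  mul_mem' := by
    intro a b ha hb x
    show a.1 (b.1 (Subgroup.inclusion hTU x)) = Subgroup.inclusion hTU (a.2 (b.2 x))
    rw [hb x, ha (b.2 x)]
  inv_mem' := by
    intro a ha x
    show a.1⁻¹ (Subgroup.inclusion hTU x) = Subgroup.inclusion hTU (a.2⁻¹ x)
    have := ha (a.2⁻¹ x)
    rw [MulAut.apply_inv_self] at this
    rw [← this, MulAut.inv_apply_self]

theorem mem_extPairs {T U : Subgroup Ω} (hTU : T ≤ U) {β : MulAut U} {α : MulAut T} :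
    (β, α) ∈ extPairs hTU ↔ ∀ x : T, β (Subgroup.inclusion hTU x) = Subgroup.inclusion hTU (α x) := Iff.rfl

/-- A strongly closed subgroup is receptive in a saturated system. -/
theorem isReceptive_of_stronglyClosed [Finite S] (p : ℕ) [Fact p.Prime] (F : FusionSystem S)
    (hF : F.IsSaturated p) (hT : F.StronglyClosed T) : F.IsReceptive T := by
  obtain ⟨Q, hTQ, -, hQrec⟩ := hF T hT.1
  obtain ⟨θ, hθ, hr⟩ := hTQ
  have : Q = T := by
    rw [← hr]
    exact Cfsg.Agent.Lib.Helper90.range_eq_of_forall_mem F hθ (fun x => hT.2 T le_rfl θ hθ x)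
  rw [← this]
  exact hQrec

/-- An automorphism in `Aut_F(T)` of order prime to `p`, `T` strongly closed, extends to an element of
`O^p(Aut_F(T C_S(T)))`. -/
theorem exists_ext_of_coprime [Finite S] (p : ℕ) [Fact p.Prime] (F : FusionSystem S)
    (hF : F.IsSaturated p) (hT : F.StronglyClosed T) {α : MulAut T} (hα : α ∈ F.autGroup T)
    (hcop : Nat.Coprime (orderOf α) p) :
    ∃ β ∈ (pResidual p (F.autGroup (T ⊔ centralizerIn S T))).map (F.autGroup (T ⊔ centralizerIn S T)).subtype,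
      (β, α) ∈ extPairs (le_sup_left : T ≤ T ⊔ centralizerIn S T) := by
  have hTS : T ≤ S := hT.1
  have hUS : T ⊔ centralizerIn S T ≤ S := sup_le hTS inf_le_left
  have hrec := isReceptive_of_stronglyClosed p F hF hT
  have hαF := (mem_autGroup_iff F hTS).mp hα
  obtain ⟨ψ, hψ, hψext⟩ := hrec.2 T _ hαF (IsFIso.range_eq (α : T ≃* T))
  have hUle : T ⊔ centralizerIn S T ≤ extender S T (T.subtype.comp (α : T ≃* T).toMonoidHom) :=
    sup_le (le_extender hTS (fun x => hTS (α x).2)) (centralizerIn_le_extender S T _)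
  have hψU : ψ.comp (Subgroup.inclusion hUle) ∈ F.Hom (T ⊔ centralizerIn S T) :=
    Cfsg.Agent.Lib.Helper87.restrict_mem F hUle hψ
  set ψU := ψ.comp (Subgroup.inclusion hUle) with hψU_def
  have hψT : ∀ x : T, ψU (Subgroup.inclusion le_sup_left x) = ((α x : T) : Ω) := by
    intro x
    exact hψext x x.2 (hUle (le_sup_left (a := T) x.2))
  have hψC : ∀ u : ↥(T ⊔ centralizerIn S T), (u : Ω) ∈ centralizerIn S T → ψU u ∈ centralizerIn S T := by
    intro u hu
    rw [mem_centralizerIn]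
    refine ⟨hom_mem F hψU u, fun y hy => ?_⟩
    have e1 : y = ψU (Subgroup.inclusion le_sup_left (α⁻¹ ⟨y, hy⟩)) := by
      rw [hψT, MulAut.apply_inv_self]
    have hc := (mem_centralizerIn.mp hu).2 _ (α⁻¹ ⟨y, hy⟩).2
    have e2 : Subgroup.inclusion (le_sup_left : T ≤ T ⊔ centralizerIn S T) (α⁻¹ ⟨y, hy⟩) * u =
        u * Subgroup.inclusion le_sup_left (α⁻¹ ⟨y, hy⟩) := Subtype.ext hc
    rw [e1, ← map_mul, ← map_mul, e2]
  have hψmem : ∀ u : ↥(T ⊔ centralizerIn S T), ψU u ∈ T ⊔ centralizerIn S T := by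
    intro u
    obtain ⟨t, ht, c, hc, hu⟩ := exists_mul_of_mem_sup (P := T) (T := centralizerIn S T) (by
      intro x hx c hc
      have h1 := (mem_centralizerIn.mp hc).2 x hx
      have e : x * c * x⁻¹ = c := by rw [h1, mul_inv_cancel_right]
      rw [e]
      exact hc) u.2
    have e : u = Subgroup.inclusion le_sup_left (⟨t, ht⟩ : T) * ⟨c, le_sup_right (a := T) hc⟩ := Subtype.ext hu
    rw [e, map_mul, hψT]
    exact Subgroup.mul_mem _ (le_sup_left (a := T) (α ⟨t, ht⟩).2) (le_sup_right (a := T) (hψC _ hc))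
  have hr : ψU.range = T ⊔ centralizerIn S T := Cfsg.Agent.Lib.Helper90.range_eq_of_forall_mem F hψU hψmem
  have hβ₁ := homEquiv_mem_autGroup F hψU hr
  set β₁ : MulAut ↥(T ⊔ centralizerIn S T) := homEquiv F hψU hr with hβ₁_def
  have hpair : (β₁, α) ∈ extPairs (le_sup_left : T ≤ T ⊔ centralizerIn S T) := by
    intro x
    apply Subtype.ext
    exact hψT x
  have hfin : Finite (F.autGroup (T ⊔ centralizerIn S T)) := finite_autGroup F hUS
  obtain ⟨k, hk⟩ := Cfsg.Agent.Lib.Helper54.exists_pow_mem_pResidual (p := p)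
    (⟨β₁, hβ₁⟩ : F.autGroup (T ⊔ centralizerIn S T))
  have hcop' : Nat.Coprime (p ^ k) (orderOf α) := (hcop.pow_right k).symm
  obtain ⟨j, hj⟩ := exists_pow_eq_self_of_coprime hcop'
  refine ⟨(((⟨β₁, hβ₁⟩ : F.autGroup (T ⊔ centralizerIn S T)) ^ p ^ k) ^ j : F.autGroup _),
    ⟨_, Subgroup.pow_mem _ hk j, rfl⟩, ?_⟩
  have h1 := Subgroup.pow_mem _ (Subgroup.pow_mem _ hpair (p ^ k)) j
  have e : ((β₁, α) ^ p ^ k) ^ j = ((β₁ ^ p ^ k) ^ j, (α ^ p ^ k) ^ j) := rfl
  rw [e, hj] at h1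
  exact h1

end Cfsg.Agent.Lib.Helper88
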