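import Cfsg.Agent.Lib.Helper88.FusionOL7

set_option autoImplicit false
open Cfsg

namespace Cfsg.Agent.Lib.Helper88

open Cfsg.FusionSystem Cfsg.Agent.Lib.Helper87
open Cfsg.Agent.Lib.Helper90 (autMap mem_autMap autMap_le apply_mem_autMap range_eq_of_forall_mem)
open Cfsg.Agent.Lib.Helper91 (isCentric_of_isConj isCentric_self)

variable {Ω : Type*} [Group Ω] {S : Subgroup Ω}

/-- `P` is `H`-centric in `F` in the strong sense: every image of `P` under a map of `F` contains its centralizer in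
`H`. -/
def HCen (F : FusionSystem S) (H P : Subgroup Ω) : Prop :=
  ∀ φ ∈ F.Hom P, centralizerIn H φ.range ≤ φ.range

theorem HCen.mono {F : FusionSystem S} {H P Q : Subgroup Ω} (h : HCen F H P) (hPQ : P ≤ Q) : HCen F H Q := by
  intro φ hφ c hc
  have hres := restrict_mem F hPQ hφ
  have hc' : c ∈ centralizerIn H (φ.comp (Subgroup.inclusion hPQ)).range := by
    rw [mem_centralizerIn] at hc ⊢
    refine ⟨hc.1, ?_⟩
    rintro _ ⟨x, rfl⟩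
    exact hc.2 _ ⟨_, rfl⟩
  obtain ⟨x, hx⟩ := h _ hres hc'
  exact ⟨_, hx⟩

/-- An automorphism which is the identity on a subgroup `P₂` and moves every element by an element of `P₂` has order
dividing the order of `P₂`. -/
theorem pow_card_eq_one_of_stabilizes {R : Subgroup Ω} (a : MulAut R) (P₂ : Subgroup Ω) [Finite P₂]
    (hfix : ∀ y : R, (y : Ω) ∈ P₂ → a y = y)
    (hmove : ∀ y : R, ∃ z : R, (z : Ω) ∈ P₂ ∧ a y = y * z) : a ^ Nat.card P₂ = 1 := by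
  have key : ∀ (n : ℕ) (y z : R), (z : Ω) ∈ P₂ → a y = y * z → (a ^ n) y = y * z ^ n := by
    intro n
    induction n with
    | zero => intro y z _ _; simp
    | succ n ih =>
      intro y z hz hyz
      rw [pow_succ', MulAut.mul_apply, ih y z hz hyz, map_mul, map_pow, hfix z hz, hyz, pow_succ', mul_assoc]
  ext y
  obtain ⟨z, hz, hyz⟩ := hmove y
  rw [key _ y z hz hyz]
  have h1 : (⟨(z : Ω), hz⟩ : P₂) ^ Nat.card P₂ = 1 := pow_card_eq_one'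
  have h2 : (z : Ω) ^ Nat.card P₂ = 1 := congrArg Subtype.val h1
  have h3 : z ^ Nat.card P₂ = 1 := Subtype.ext h2
  rw [h3, mul_one]
  rfl

/-- The key step: let `M ≤ F` be saturated over `S`, containing every element of `p`-power order of every `Aut_F(Q)`, and
let `H` be strongly closed in `F`. An element of `Aut_F(H)` whose restriction to a subgroup `P ≤ H`, all of whose
`F`-images contain their centralizers in `H`, is a map of `M`, is itself a map of `M`. -/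
theorem aut_mem_of_restrict_mem_hCen [Finite S] (p : ℕ) [Fact p.Prime] (hS : IsPGroup p S)
    (F M : FusionSystem S) (hM : M.IsSaturated p) (hMF : M.IsSubsystemOf F)
    (hidx : ∀ Q : Subgroup Ω, Q ≤ S → ∀ a : MulAut Q, a ∈ F.autGroup Q → ∀ k : ℕ, a ^ p ^ k = 1 → a ∈ M.autGroup Q)
    {H : Subgroup Ω} (hH : F.StronglyClosed H) {α : MulAut H} (hα : α ∈ F.autGroup H) :
    ∀ (n : ℕ) (P : Subgroup Ω), Nat.card H - Nat.card P = n → P ≤ H → HCen F H P →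
      (∃ φ₁ ∈ M.Hom P, ∀ (x : Ω) (hx : x ∈ P) (hxH : x ∈ H), φ₁ ⟨x, hx⟩ = ((α ⟨x, hxH⟩ : H) : Ω)) →
      H.subtype.comp (α : H ≃* H).toMonoidHom ∈ M.Hom H := by
  intro n
  induction n using Nat.strong_induction_on with
  | _ n ih =>
  intro P hn hPH hcen hex
  obtain ⟨φ₁, hφ₁, hφ₁x⟩ := hex
  have hHS : H ≤ S := hH.1
  have hPS : P ≤ S := hPH.trans hHS
  by_cases hPeq : P = H
  · subst hPeq
    exact hom_congr M hφ₁ (fun x => (hφ₁x x x.2 x.2).symm)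
  haveI : Finite H := finite_of_le hHS
  have hHp : IsPGroup p H := hS.to_le hHS
  have hαF : H.subtype.comp (α : H ≃* H).toMonoidHom ∈ F.Hom H := autGroup_hom_mem F hHS hα
  obtain ⟨s, hsN, hsP⟩ := exists_mem_normalizerIn_not_mem hHp hPH hPeq
  have hQH : normalizerIn H P ≤ H := normalizerIn_le H P
  haveI : Finite (normalizerIn H P) := finite_of_le hQH
  have hPQ : P ≤ normalizerIn H P := le_normalizerIn hPH
  have hlt : Nat.card P < Nat.card (normalizerIn H P) := card_lt_of_le_of_not_mem hPQ hsN hsP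
  -- the image of `P`
  have hφ₁α : ∀ x : P, φ₁ x = ((α ⟨x, hPH x.2⟩ : H) : Ω) := fun x => hφ₁x x x.2 (hPH x.2)
  have hP'H : φ₁.range ≤ H := by
    rintro _ ⟨x, rfl⟩
    rw [hφ₁α x]
    exact (α _).2
  have hP'S : φ₁.range ≤ S := hP'H.trans hHS
  haveI : Finite φ₁.range := finite_of_le hP'S
  -- a fully normalized conjugate in `M`
  obtain ⟨P'', hconj, hfn⟩ := exists_isFullyNormalized M hP'S
  obtain ⟨hfc, hfa⟩ := fullyNormalized_props p hS M hM P'' hfn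
  have hrec : M.IsReceptive P'' := isReceptive_of_isFullyCentralized p hS M hM P'' hfc
  obtain ⟨θ, hθ, hθN, hθmap, hθP⟩ := exists_normalizer_hom p hS M P'' φ₁.range hfa hrec hconj
  have hP'N : φ₁.range ≤ normalizerIn S φ₁.range := le_normalizerIn hP'S
  -- `α` maps `N_H(P)` into `N_S(α P)`
  have hαN : ∀ g : normalizerIn H P, ((α ⟨g, hQH g.2⟩ : H) : Ω) ∈ normalizerIn S φ₁.range := by
    intro g
    refine ⟨hHS (α _).2, ?_⟩
    apply mem_normalizer_of_conj_mem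
    rintro _ ⟨x, rfl⟩
    have hgx : (g : Ω) * x * (g : Ω)⁻¹ ∈ P := by
      have := (mem_normalizerIn.mp g.2).2 x
      exact this.mp x.2
    refine ⟨⟨_, hgx⟩, ?_⟩
    rw [hφ₁α, hφ₁α]
    have e : (⟨(g : Ω) * x * (g : Ω)⁻¹, hPH hgx⟩ : H) = ⟨g, hQH g.2⟩ * ⟨x, hPH x.2⟩ * ⟨g, hQH g.2⟩⁻¹ :=
      Subtype.ext rfl
    rw [e, map_mul, map_mul, map_inv]
    rfl
  -- the composite `ψ₂ = θ ∘ φ₁`
  have hφ₁N : ∀ x : P, φ₁ x ∈ normalizerIn S φ₁.range := fun x => hP'N ⟨x, rfl⟩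
  have hψ₂ : θ.comp (φ₁.codRestrict (normalizerIn S φ₁.range) hφ₁N) ∈ M.Hom P := M.comp_mem hφ₁ hθ hφ₁N
  set ψ₂ : P →* Ω := θ.comp (φ₁.codRestrict (normalizerIn S φ₁.range) hφ₁N) with hψ₂def
  have hψ₂r : ψ₂.range = P'' := by
    rw [← hθmap]
    ext y
    constructor
    · rintro ⟨x, rfl⟩
      exact ⟨⟨φ₁ x, hφ₁N x⟩, Subgroup.mem_subgroupOf.mpr ⟨x, rfl⟩, rfl⟩
    · rintro ⟨m, hm, rfl⟩
      obtain ⟨x, hx⟩ := Subgroup.mem_subgroupOf.mp hm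
      refine ⟨x, ?_⟩
      show θ ⟨φ₁ x, hφ₁N x⟩ = θ m
      congr 1
      exact Subtype.ext hx
  obtain ⟨ρ₀, hρ₀, hρ₀x⟩ := hrec.2 P ψ₂ hψ₂ hψ₂r
  have hQle : normalizerIn H P ≤ extender S P ψ₂ := by
    intro g hg
    refine mem_extender_iff.mpr ⟨hHS hg.1, hg.2, θ ⟨_, hαN ⟨g, hg⟩⟩, hom_mem M hθ _, fun x hx => ?_⟩
    show θ ⟨φ₁ ⟨g * x * g⁻¹, hx⟩, hφ₁N _⟩ = θ ⟨_, hαN ⟨g, hg⟩⟩ * θ ⟨φ₁ x, hφ₁N x⟩ * (θ ⟨_, hαN ⟨g, hg⟩⟩)⁻¹
    rw [← map_inv, ← map_mul, ← map_mul]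
    congr 1
    apply Subtype.ext
    show φ₁ ⟨g * x * g⁻¹, hx⟩ = ((α ⟨g, hg.1⟩ : H) : Ω) * φ₁ x * ((α ⟨g, hg.1⟩ : H) : Ω)⁻¹
    rw [hφ₁α, hφ₁α]
    have e : (⟨g * (x : Ω) * g⁻¹, hPH hx⟩ : H) = ⟨g, hg.1⟩ * ⟨x, hPH x.2⟩ * ⟨g, hg.1⟩⁻¹ := Subtype.ext rfl
    rw [e, map_mul, map_mul, map_inv]
    rfl
  have hρ : ρ₀.comp (Subgroup.inclusion hQle) ∈ M.Hom (normalizerIn H P) := restrict_mem M hQle hρ₀
  set ρ : normalizerIn H P →* Ω := ρ₀.comp (Subgroup.inclusion hQle) with hρdef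
  have hρP : ∀ x : P, ρ ⟨x, hPQ x.2⟩ = θ ⟨φ₁ x, hφ₁N x⟩ := by
    intro x
    exact hρ₀x x x.2 (hQle (hPQ x.2))
  -- the map `σ = θ ∘ α` on `N_H(P)`
  have hαres : (H.subtype.comp (α : H ≃* H).toMonoidHom).comp (Subgroup.inclusion hQH) ∈
      F.Hom (normalizerIn H P) := restrict_mem F hQH hαF
  have hσ : θ.comp (((H.subtype.comp (α : H ≃* H).toMonoidHom).comp (Subgroup.inclusion hQH)).codRestrict
      (normalizerIn S φ₁.range) hαN) ∈ F.Hom (normalizerIn H P) := F.comp_mem hαres (hMF _ hθ) hαN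
  set σ : normalizerIn H P →* Ω := θ.comp (((H.subtype.comp (α : H ≃* H).toMonoidHom).comp
    (Subgroup.inclusion hQH)).codRestrict (normalizerIn S φ₁.range) hαN) with hσdef
  have hσx : ∀ g : normalizerIn H P, σ g = θ ⟨((α ⟨g, hQH g.2⟩ : H) : Ω), hαN g⟩ := fun g => rfl
  have hσP : ∀ x : P, σ ⟨x, hPQ x.2⟩ = ρ ⟨x, hPQ x.2⟩ := by
    intro x
    rw [hρP, hσx]
    congr 1
    exact Subtype.ext (hφ₁α x).symm
  -- values in `H`
  have hρH : ∀ g : normalizerIn H P, ρ g ∈ H := fun g => hH.2 _ hQH ρ (hMF _ hρ) g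
  have hσH : ∀ g : normalizerIn H P, σ g ∈ H := fun g => hH.2 _ hQH σ hσ g
  -- the restriction of `ρ` to `P`
  have hρres : ρ.comp (Subgroup.inclusion hPQ) ∈ F.Hom P := restrict_mem F hPQ (hMF _ hρ)
  have hcenρ := hcen _ hρres
  have hρrS : ρ.range ≤ S := by
    rintro _ ⟨g, rfl⟩
    exact hom_mem M hρ g
  haveI : Finite ρ.range := finite_of_le hρrS
  have hP₂le : (ρ.comp (Subgroup.inclusion hPQ)).range ≤ ρ.range := by
    rintro _ ⟨x, rfl⟩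
    exact ⟨_, rfl⟩
  haveI : Finite (ρ.comp (Subgroup.inclusion hPQ)).range := finite_of_le (hP₂le.trans hρrS)
  -- `ρ(g)⁻¹ σ(g)` lies in the image of `P`
  have hquot : ∀ g : normalizerIn H P, (ρ g)⁻¹ * σ g ∈ (ρ.comp (Subgroup.inclusion hPQ)).range := by
    intro g
    apply hcenρ
    rw [mem_centralizerIn]
    refine ⟨H.mul_mem (H.inv_mem (hρH g)) (hσH g), ?_⟩
    rintro _ ⟨x, rfl⟩
    have hgx : (g : Ω) * x * (g : Ω)⁻¹ ∈ P := ((mem_normalizerIn.mp g.2).2 x).mp x.2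
    have e : (⟨(g : Ω) * x * (g : Ω)⁻¹, hPQ hgx⟩ : normalizerIn H P) = g * ⟨x, hPQ x.2⟩ * g⁻¹ :=
      Subtype.ext rfl
    have h1 : σ ⟨(g : Ω) * x * (g : Ω)⁻¹, hPQ hgx⟩ = ρ ⟨(g : Ω) * x * (g : Ω)⁻¹, hPQ hgx⟩ := hσP ⟨_, hgx⟩
    rw [e, map_mul, map_mul, map_inv, map_mul, map_mul, map_inv, hσP x] at h1
    show ρ ⟨x, hPQ x.2⟩ * ((ρ g)⁻¹ * σ g) = (ρ g)⁻¹ * σ g * ρ ⟨x, hPQ x.2⟩
    have h2 : ρ ⟨x, hPQ x.2⟩ * (ρ g)⁻¹ * σ g = (ρ g)⁻¹ * σ g * ρ ⟨x, hPQ x.2⟩ := by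
      calc ρ ⟨x, hPQ x.2⟩ * (ρ g)⁻¹ * σ g
          = (ρ g)⁻¹ * (ρ g * ρ ⟨x, hPQ x.2⟩ * (ρ g)⁻¹) * σ g := by group
        _ = (ρ g)⁻¹ * (σ g * ρ ⟨x, hPQ x.2⟩ * (σ g)⁻¹) * σ g := by rw [h1]
        _ = (ρ g)⁻¹ * σ g * ρ ⟨x, hPQ x.2⟩ := by group
    rw [← h2, mul_assoc]
  -- the inverse of `ρ` and the automorphism `χ = σ ∘ ρ⁻¹` of `ρ(N_H(P))`
  obtain ⟨ρi, hρi, hρix, -⟩ := inv_mem' M hρ rfl
  have hρiQ : ∀ y : ρ.range, ρi y ∈ normalizerIn H P := by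
    rintro ⟨_, g, rfl⟩
    rw [hρix g ⟨ρ g, ⟨g, rfl⟩⟩ rfl]
    exact g.2
  have hχ : σ.comp (ρi.codRestrict (normalizerIn H P) hρiQ) ∈ F.Hom ρ.range := F.comp_mem (hMF _ hρi) hσ hρiQ
  set χ : ρ.range →* Ω := σ.comp (ρi.codRestrict (normalizerIn H P) hρiQ) with hχdef
  have hχρ : ∀ g : normalizerIn H P, χ ⟨ρ g, ⟨g, rfl⟩⟩ = σ g := by
    intro g
    show σ ⟨ρi ⟨ρ g, ⟨g, rfl⟩⟩, _⟩ = σ g
    congr 1
    exact Subtype.ext (hρix g ⟨ρ g, ⟨g, rfl⟩⟩ rfl)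
  have hχmem : ∀ y : ρ.range, χ y ∈ ρ.range := by
    rintro ⟨_, g, rfl⟩
    rw [hχρ g]
    have h1 := hP₂le (hquot g)
    have h2 : σ g = ρ g * ((ρ g)⁻¹ * σ g) := by group
    rw [h2]
    exact ρ.range.mul_mem ⟨g, rfl⟩ h1
  have hχr : χ.range = ρ.range := range_eq_of_forall_mem F hχ hχmem
  have haF : homEquiv F hχ hχr ∈ F.autGroup ρ.range := homEquiv_mem_autGroup F hχ hχr
  set a : MulAut ρ.range := homEquiv F hχ hχr with hadef
  have hax : ∀ y : ρ.range, ((a y : ρ.range) : Ω) = χ y := fun y => homEquiv_apply F hχ hχr y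
  -- `a` has `p`-power order
  obtain ⟨k, hk⟩ := IsPGroup.exists_card_eq (hS.to_le (hP₂le.trans hρrS))
  have hapow : a ^ p ^ k = 1 := by
    rw [← hk]
    apply pow_card_eq_one_of_stabilizes a (ρ.comp (Subgroup.inclusion hPQ)).range
    · rintro ⟨_, g, rfl⟩ ⟨x, hx⟩
      apply Subtype.ext
      rw [hax]
      have hx' : ρ ⟨x, hPQ x.2⟩ = ρ g := hx
      have hgx : g = ⟨x, hPQ x.2⟩ := (M.injective_of_mem hρ hx').symm
      rw [hχρ g, hgx, hσP x]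
    · rintro ⟨_, g, rfl⟩
      have h1 := hquot g
      refine ⟨⟨(ρ g)⁻¹ * σ g, hP₂le h1⟩, h1, ?_⟩
      apply Subtype.ext
      rw [hax, hχρ g]
      show σ g = ρ g * ((ρ g)⁻¹ * σ g)
      group
  have haM : a ∈ M.autGroup ρ.range := hidx _ hρrS a haF k hapow
  have hχM : χ ∈ M.Hom ρ.range := by
    refine hom_congr M (autGroup_hom_mem M hρrS haM) (fun y => ?_)
    exact (hax y).symm
  -- hence `σ` is a map of `M`
  have hσM : σ ∈ M.Hom (normalizerIn H P) :=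
    comp_mem' M hρ hχM (fun g => ⟨g, rfl⟩) (fun g => (hχρ g).symm)
  -- and so is the restriction of `α`
  obtain ⟨θi, hθi, hθix, -⟩ := inv_mem' M hθ rfl
  have hαM : (H.subtype.comp (α : H ≃* H).toMonoidHom).comp (Subgroup.inclusion hQH) ∈
      M.Hom (normalizerIn H P) := by
    refine comp_mem' M hσM hθi (fun g => ⟨_, rfl⟩) (fun g => ?_)
    have := hθix ⟨((α ⟨g, hQH g.2⟩ : H) : Ω), hαN g⟩ ⟨σ g, ⟨_, rfl⟩⟩ rfl
    rw [this]
    rfl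
  have hcH := card_le_of_le hQH
  refine ih (Nat.card H - Nat.card (normalizerIn H P)) (by omega) (normalizerIn H P) rfl hQH
    (hcen.mono hPQ) ⟨_, hαM, ?_⟩
  intro x hx hxH
  rfl

end Cfsg.Agent.Lib.Helper88
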