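import Cfsg.Agent.Lib.Helper88.FusionRD9
import Cfsg.Agent.Lib.Helper91.FusionNormalCentric

set_option autoImplicit false

namespace Cfsg.Agent.Lib.Helper88

section wn

open Cfsg Cfsg.FusionSystem Cfsg.Agent.Lib.Helper87 Cfsg.Agent.Lib.Helper91
open scoped Pointwise

variable {Ω : Type*} [Group Ω] {S : Subgroup Ω}

/-! Versions of two lemmas of `Helper91.FusionNormalCentric` with the hypotheses actually used: `E` is a subsystem of
`F` over a strongly closed subgroup. -/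

/-- The key construction: if `P ∩ T` is not `E`-centric, then some `F`-conjugate of `P` has an element of its
normalizer in `S`, outside it, inducing an automorphism in `O_p(Aut_F)`. -/
theorem exists_outer_pCore_of_not_centric_wn [Finite S] (p : ℕ) [Fact p.Prime] (hS : IsPGroup p S)
    (F : FusionSystem S) (hF : F.IsSaturated p) {T : Subgroup Ω} (E : FusionSystem T)
    (hEF : E.IsSubsystemOf F) (hTsc : F.StronglyClosed T) (P : Subgroup Ω) (hPS : P ≤ S)
    (hPT : ¬ E.IsCentric (P ⊓ T)) :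
    ∃ φ ∈ F.Hom P, ∃ x ∈ S ⊓ Subgroup.normalizer (φ.range : Set Ω), x ∉ φ.range ∧
      ∃ α ∈ ((pCore p ↥(F.autGroup φ.range)).map (F.autGroup φ.range).subtype :
          Subgroup (MulAut ↥φ.range)),
        ∀ y : ↥φ.range, ((α y : ↥φ.range) : Ω) = x * (y : Ω) * x⁻¹ := by
  have hTS : T ≤ S := hTsc.1
  have hTn := stronglyClosed_conj_mem' F hTsc
  -- Step 1: a conjugate `Q` of `P ⊓ T` in `E` with `C_T(Q)` not inside `Q`
  have h1 : ∃ Q, E.IsConj (P ⊓ T) Q ∧ ¬ centralizerIn T Q ≤ Q := by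
    by_contra hcon
    exact hPT ⟨inf_le_right, fun Q hQ => by
      by_contra h
      exact hcon ⟨Q, hQ, h⟩⟩
  obtain ⟨Q, hQconjE, hQnc⟩ := h1
  obtain ⟨c₀, hc₀C, hc₀Q⟩ := SetLike.not_le_iff_exists.mp hQnc
  have hQconj : F.IsConj (P ⊓ T) Q := by
    obtain ⟨f, hf, hfr⟩ := hQconjE
    exact ⟨f, hEF _ hf, hfr⟩
  have hQT : Q ≤ T := isConj_le_right E hQconjE
  -- Step 2: move to a fully automized, receptive conjugate `Q'`
  obtain ⟨Q', hQQ', hfa, hrec⟩ := hF Q (hQT.trans hTS)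
  obtain ⟨θ, hθ, hθN, hθmap, hθQ⟩ := exists_normalizer_hom p hS F Q' Q hfa hrec hQQ'
  have hc₀N : c₀ ∈ normalizerIn S Q :=
    centralizerIn_le_normalizerIn S Q ⟨hTS hc₀C.1, hc₀C.2⟩
  have hθT : ∀ z : normalizerIn S Q, (z : Ω) ∈ T → θ z ∈ T := by
    intro z hz
    exact hTsc.2 (T ⊓ normalizerIn S Q) inf_le_left (θ.comp (Subgroup.inclusion inf_le_right))
      (restrict_mem F inf_le_right hθ) ⟨z, hz, z.2⟩
  set c₁ : Ω := θ ⟨c₀, hc₀N⟩ with hc₁
  have hc₁T : c₁ ∈ T := hθT ⟨c₀, hc₀N⟩ hc₀C.1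
  have hQ'T : Q' ≤ T := by
    intro y hy
    rw [← hθmap] at hy
    obtain ⟨q, hq, rfl⟩ := hy
    exact hθT q (hQT (Subgroup.mem_subgroupOf.mp hq))
  have hc₁cent : ∀ y ∈ Q', y * c₁ = c₁ * y := by
    intro y hy
    rw [← hθmap] at hy
    obtain ⟨q, hq, rfl⟩ := hy
    have hqQ : (q : Ω) ∈ Q := Subgroup.mem_subgroupOf.mp hq
    have hcomm : q * ⟨c₀, hc₀N⟩ = ⟨c₀, hc₀N⟩ * q := by
      apply Subtype.ext
      exact (Subgroup.mem_centralizer_iff.mp hc₀C.2) q hqQ
    rw [hc₁, ← map_mul, ← map_mul, hcomm]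
  have hc₁Q' : c₁ ∉ Q' := by
    intro h
    rw [← hθmap] at h
    obtain ⟨q, hq, hqc⟩ := h
    have := F.injective_of_mem hθ hqc
    apply hc₀Q
    have hqQ : (q : Ω) ∈ Q := Subgroup.mem_subgroupOf.mp hq
    rw [this] at hqQ
    exact hqQ
  -- Step 3: move `P` along a map carrying `P ⊓ T` onto `Q'`
  have hRQ' : F.IsConj (P ⊓ T) Q' := isConj_trans F hQconj hQQ'
  obtain ⟨θ₂, hθ₂, hθ₂N, hθ₂map, hθ₂R⟩ := exists_normalizer_hom p hS F Q' (P ⊓ T) hfa hrec hRQ'
  have : Finite ↥(P ⊓ T) := finite_of_le (inf_le_left.trans hPS)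
  have hPN : P ≤ normalizerIn S (P ⊓ T) := by
    intro g hg
    refine ⟨hPS hg, mem_normalizer_of_conj_mem (fun y hy => ?_)⟩
    exact ⟨P.mul_mem (P.mul_mem hg hy.1) (P.inv_mem hg), hTn g (hPS hg) y hy.2⟩
  set φ : P →* Ω := θ₂.comp (Subgroup.inclusion hPN) with hφdef
  have hφ : φ ∈ F.Hom P := restrict_mem F hPN hθ₂
  have hrS : φ.range ≤ S := by
    rintro z ⟨g, rfl⟩
    exact hom_mem F hφ g
  have hrT : ∀ z ∈ φ.range, z ∈ T → z ∈ Q' := by
    rintro z ⟨g, rfl⟩ hzT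
    obtain ⟨ψ, hψ, hψx⟩ := F.inv_mem hφ
    have h := hTsc.2 (T ⊓ φ.range) inf_le_left (ψ.comp (Subgroup.inclusion inf_le_right))
      (restrict_mem F inf_le_right hψ) ⟨φ g, hzT, ⟨g, rfl⟩⟩
    have h2 : (g : Ω) ∈ T := by
      have := hψx g
      rw [← this]; exact h
    exact hθ₂R (Subgroup.inclusion hPN g) ⟨g.2, h2⟩
  have hc₁r : c₁ ∉ φ.range := fun h => hc₁Q' (hrT c₁ h hc₁T)
  -- Step 4: an element of `C_T(φ.range ⊓ T)` normalizing `φ.range`, outside it
  have hc₁Cs : c₁ ∈ centralizerIn T (φ.range ⊓ T) :=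
    mem_centralizerIn.mpr ⟨hc₁T, fun y hy => hc₁cent y (hrT y hy.1 hy.2)⟩
  have : Finite ↥(centralizerIn T (φ.range ⊓ T)) :=
    finite_of_le ((centralizerIn_le T _).trans hTS)
  have hnormC : φ.range ≤ Subgroup.normalizer (centralizerIn T (φ.range ⊓ T) : Set Ω) := by
    intro u hu
    have huS : u ∈ S := hrS hu
    refine mem_normalizer_of_conj_mem (fun y hy => ?_)
    rw [mem_centralizerIn] at hy ⊢
    refine ⟨hTn u huS y hy.1, fun r hr => ?_⟩
    have hr' : u⁻¹ * r * u ∈ φ.range ⊓ T := by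
      refine ⟨φ.range.mul_mem (φ.range.mul_mem (φ.range.inv_mem hu) hr.1) hu, ?_⟩
      have := hTn u⁻¹ (S.inv_mem huS) r hr.2
      rwa [inv_inv] at this
    have h := hy.2 _ hr'
    calc r * (u * y * u⁻¹) = u * ((u⁻¹ * r * u) * y) * u⁻¹ := by group
      _ = u * (y * (u⁻¹ * r * u)) * u⁻¹ := by rw [h]
      _ = u * y * u⁻¹ * r := by group
  set W : Subgroup Ω := φ.range ⊔ centralizerIn T (φ.range ⊓ T) with hW
  have hWS : W ≤ S := sup_le hrS ((centralizerIn_le T _).trans hTS)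
  have : Finite W := finite_of_le hWS
  have hWp : IsPGroup p W := hS.to_le hWS
  have hne : φ.range ≠ W := by
    intro h
    apply hc₁r
    rw [h]
    exact (le_sup_right : centralizerIn T (φ.range ⊓ T) ≤ W) hc₁Cs
  obtain ⟨w, hwN, hwr⟩ := Cfsg.Agent.Lib.Helper89.exists_mem_normalizerIn_not_mem hWp
    (le_sup_left : φ.range ≤ W) hne
  have hwmul : w ∈ (φ.range : Set Ω) * (centralizerIn T (φ.range ⊓ T) : Set Ω) := by
    rw [← Subgroup.coe_mul_of_left_le_normalizer_right _ _ hnormC]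
    exact hwN.1
  obtain ⟨u, hu, c, hc, huc⟩ := Set.mem_mul.mp hwmul
  have hcN : c ∈ Subgroup.normalizer (φ.range : Set Ω) := by
    have : c = u⁻¹ * w := by rw [← huc]; group
    rw [this]
    exact (Subgroup.normalizer (φ.range : Set Ω)).mul_mem
      ((Subgroup.normalizer (φ.range : Set Ω)).inv_mem (Subgroup.le_normalizer hu)) hwN.2
  have hcr : c ∉ φ.range := by
    intro h
    apply hwr
    rw [← huc]
    exact φ.range.mul_mem hu h
  have hc' := mem_centralizerIn.mp hc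
  have hcT : c ∈ T := hc'.1
  have hcS : c ∈ S := hTS hcT
  have hccent : ∀ y ∈ φ.range ⊓ T, y * c = c * y := hc'.2
  -- Step 5: the conjugation by `c` lies in `O_p(Aut_F(φ.range))`
  refine ⟨φ, hφ, c, ⟨hcS, hcN⟩, hcr, conjAut φ.range c hcN, ?_, fun y => rfl⟩
  set ch := twoStepChain (T.subgroupOf φ.range) with hch
  have hmono := twoStepChain_monotone (T.subgroupOf φ.range)
  have : Finite ↥φ.range := finite_of_le hrS
  have hQp : IsPGroup p ↥φ.range := hS.to_le hrS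
  have hBp : IsPGroup p (Cfsg.Agent.Lib.Helper90.stabChain ch hmono) :=
    Cfsg.Agent.Lib.Helper90.stabChain_isPGroup hQp ch rfl hmono 2 rfl
  have hBn : ∀ α ∈ F.autGroup φ.range, ∀ β ∈ Cfsg.Agent.Lib.Helper90.stabChain ch hmono,
      α * β * α⁻¹ ∈ Cfsg.Agent.Lib.Helper90.stabChain ch hmono := by
    intro α hα β hβ
    have hpres : ∀ γ ∈ F.autGroup φ.range, ∀ j, ∀ y ∈ ch j, γ y ∈ ch j := by
      intro γ hγ j y hy
      match j with
      | 0 =>
        have : y = 1 := Subgroup.mem_bot.mp hy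
        rw [this, map_one]; exact Subgroup.one_mem _
      | 1 =>
        have h1 := Cfsg.Agent.Lib.Helper89.stronglyClosed_map_aut_eq hTsc hrS γ hγ
        have h2 : γ y ∈ (T.subgroupOf φ.range).map γ.toMonoidHom := ⟨y, hy, rfl⟩
        rw [h1] at h2
        exact h2
      | (j + 2) => exact Subgroup.mem_top _
    exact Cfsg.Agent.Lib.Helper90.stabChain_conj_mem ch hmono α (hpres α hα)
      (hpres α⁻¹ ((F.autGroup φ.range).inv_mem hα)) hβ
  apply inf_autGroup_le_pCore F _ hBp hBn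
  refine ⟨?_, Cfsg.Agent.Lib.Helper89.autInducedBy_le_autGroup F hrS
    (conjAut_mem_autInducedBy hcS hcN)⟩
  have hfwd : ∀ s ∈ T, (∀ y ∈ φ.range ⊓ T, y * s = s * y) →
      ∀ (hs : s ∈ Subgroup.normalizer (φ.range : Set Ω)),
      ∀ i, ∀ y ∈ ch (i + 1), y⁻¹ * (conjAut φ.range s hs) y ∈ ch i := by
    intro s hsT hsc hs i y hy
    match i with
    | 0 =>
      have hyT : (y : Ω) ∈ T := Subgroup.mem_subgroupOf.mp hy
      show _ ∈ (⊥ : Subgroup ↥φ.range)
      rw [Subgroup.mem_bot]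
      apply Subtype.ext
      show (y : Ω)⁻¹ * (s * (y : Ω) * s⁻¹) = 1
      rw [← hsc y ⟨y.2, hyT⟩]; group
    | 1 =>
      show _ ∈ T.subgroupOf φ.range
      rw [Subgroup.mem_subgroupOf]
      show (y : Ω)⁻¹ * (s * (y : Ω) * s⁻¹) ∈ T
      have h1 : (y : Ω)⁻¹ * (s * (y : Ω) * s⁻¹) = ((y : Ω)⁻¹ * s * ((y : Ω)⁻¹)⁻¹) * s⁻¹ := by group
      rw [h1]
      exact T.mul_mem (hTn _ (S.inv_mem (hrS y.2)) s hsT) (T.inv_mem hsT)
    | (i + 2) => exact Subgroup.mem_top _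
  have hcinv : ∀ y ∈ φ.range ⊓ T, y * c⁻¹ = c⁻¹ * y := by
    intro y hy
    have := hccent y hy
    calc y * c⁻¹ = c⁻¹ * (c * y) * c⁻¹ := by group
      _ = c⁻¹ * (y * c) * c⁻¹ := by rw [this]
      _ = c⁻¹ * y := by group
  have hcN' : c⁻¹ ∈ Subgroup.normalizer (φ.range : Set Ω) :=
    (Subgroup.normalizer (φ.range : Set Ω)).inv_mem hcN
  intro i y hy
  refine ⟨hfwd c hcT hccent _ i y hy, ?_⟩
  have hinv : (conjAut φ.range c hcN)⁻¹ = conjAut φ.range c⁻¹ hcN' := by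
    rw [inv_eq_iff_mul_eq_one]
    ext z
    rw [MulAut.mul_apply, conjAut_apply, conjAut_apply]
    show c * (c⁻¹ * (z : Ω) * c⁻¹⁻¹) * c⁻¹ = z
    group
  rw [hinv]
  exact hfwd c⁻¹ (T.inv_mem hcT) hcinv _ i y hy

/-- If `P` is `F`-centric and `P ⊓ T` is not `E`-centric for a subsystem `E` over a strongly closed `T`, then `P` is not
`F`-radical. -/
theorem not_isRadical_of_not_centric_inf_wn [Finite S] (p : ℕ) [Fact p.Prime] (hS : IsPGroup p S)
    (F : FusionSystem S) (hF : F.IsSaturated p) {T : Subgroup Ω} (E : FusionSystem T)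
    (hEF : E.IsSubsystemOf F) (hTsc : F.StronglyClosed T) (P : Subgroup Ω) (hP : F.IsCentric P)
    (hPT : ¬ E.IsCentric (P ⊓ T)) :
    ¬ F.IsRadical p P := by
  intro hrad
  obtain ⟨φ, hφ, x, hx, hxr, α, hα, hαx⟩ :=
    exists_outer_pCore_of_not_centric_wn p hS F hF E hEF hTsc P hP.1 hPT
  have hrad' : F.IsRadical p φ.range := isRadical_of_isFIso F (isFIso_homEquiv F hφ rfl) hrad
  rw [hrad'.2] at hα
  obtain ⟨u, hu⟩ := hα
  apply hxr
  have hcen : centralizerIn S φ.range ≤ φ.range := hP.2 φ.range ⟨φ, hφ, rfl⟩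
  have h1 : (u : Ω)⁻¹ * x ∈ centralizerIn S φ.range := by
    rw [mem_centralizerIn]
    have huS : (u : Ω) ∈ S := by
      obtain ⟨g, hg⟩ := u.2
      rw [← hg]; exact hom_mem F hφ g
    refine ⟨S.mul_mem (S.inv_mem huS) hx.1, fun y hy => ?_⟩
    have h2 := hαx ⟨y, hy⟩
    rw [← hu] at h2
    have h3 : (u : Ω) * y * (u : Ω)⁻¹ = x * y * x⁻¹ := h2
    calc y * ((u : Ω)⁻¹ * x) = (u : Ω)⁻¹ * ((u : Ω) * y * (u : Ω)⁻¹) * x := by group
      _ = (u : Ω)⁻¹ * (x * y * x⁻¹) * x := by rw [h3]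
      _ = (u : Ω)⁻¹ * x * y := by group
  have h2 := hcen h1
  have : x = (u : Ω) * ((u : Ω)⁻¹ * x) := by group
  rw [this]
  exact φ.range.mul_mem u.2 h2

end wn

section olwn

open Cfsg Cfsg.FusionSystem Cfsg.Agent.Lib.Helper87
open Cfsg.Agent.Lib.Helper90 (autMap mem_autMap autMap_le apply_mem_autMap range_eq_of_forall_mem)
open Cfsg.Agent.Lib.Helper91 (isCentric_of_isConj isCentric_self)

variable {Ω : Type*} [Group Ω] {S T : Subgroup Ω}

/-- The Frattini property of `olSys`, for a weakly normal `E`. -/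
theorem olSys_frattini_wn [Finite S] (p : ℕ) [Fact p.Prime] (hS : IsPGroup p S) (F : FusionSystem S)
    (hF : F.IsSaturated p) (hT : F.StronglyClosed T) (E : FusionSystem T) (hE : E.IsWeaklyNormalIn F p)
    (hAI : AutInvariant E F) {K : Subgroup (MulAut T)} (hK : OLData F E p K) (hinv : HInv E K)
    (P : Subgroup Ω) (φ : P →* Ω) (hφ : φ ∈ F.Hom P) :
    ∃ α ∈ F.autGroup S, ∃ φ₀ ∈ (olSys hS F hT E hK hinv).Hom P,
      ∀ (x : P) (hx : φ₀ x ∈ S), φ x = ((α ⟨φ₀ x, hx⟩ : S) : Ω) := by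
  have hTS : T ≤ S := hT.1
  have hEF : E.IsSubsystemOf F := hE.2.2.1
  have hfrat := hE.2.2.2.2.2
  have hAI₀ := olSys_autInvariant hS F hT E hEF hAI hfrat hK hinv
  have hle := Cfsg.Agent.S5082.result p hS F hF (frattiniSystem (olSys hS F hT E hK hinv) F hAI₀) (by
    intro P hP β hβ
    have hPc : E.IsCentric (P ⊓ T) := by
      rcases hP with rfl | hPe
      · exact isCentric_self_inf hTS E
      · by_contra h
        exact not_isRadical_of_not_centric_inf_wn p hS F hF E hEF hT P hPe.1 h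
          (Cfsg.Agent.S5080.result p hS F hF P hPe)
    have hPS : P ≤ S := by
      rcases hP with rfl | hPe
      · exact le_rfl
      · exact hPe.1.1
    rw [mem_autGroup_iff _ hPS]
    obtain ⟨α, hα, φ₀, hφ₀D, hφx⟩ :=
      olD_frattini p hS F hF hT E hfrat hK hinv P _ (autGroup_hom_mem F hPS hβ)
    exact ⟨α, hα, φ₀, olD_le_olSys hS F hT E hK hinv hPc hφ₀D, hφx⟩)
  exact hle P hφ

theorem olSys_star_wn [Finite S] (p : ℕ) [Fact p.Prime] (hS : IsPGroup p S) (F : FusionSystem S)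
    (hF : F.IsSaturated p) (hT : F.StronglyClosed T) (E : FusionSystem T) (hE : E.IsWeaklyNormalIn F p)
    (hAI : AutInvariant E F) {K : Subgroup (MulAut T)} (hK : OLData F E p K) (hinv : HInv E K)
    (P : Subgroup Ω) (hPc : (olSys hS F hT E hK hinv).IsCentric P)
    (hPℋ : P ∉ {P : Subgroup Ω | P ≤ S ∧ E.IsCentric (P ⊓ T)}) :
    ∃ Q, (olSys hS F hT E hK hinv).IsConj P Q ∧
      ¬ (autInducedBy S Q ⊓ (pCore p ((olSys hS F hT E hK hinv).autGroup Q)).map
        ((olSys hS F hT E hK hinv).autGroup Q).subtype ≤ Inn Q) := by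
  have hfratS := olSys_frattini_wn p hS F hF hT E hE hAI hK hinv
  have hPF : F.IsCentric P := isCentric_of_frattini F (olSys hS F hT E hK hinv) hfratS hPc
  obtain ⟨φ, hφ, x, hx, hxr, β, hβ, hβx⟩ :=
    exists_outer_pCore_of_not_centric_wn p hS F hF E hE.2.2.1 hT P hPF.1
      (fun h => hPℋ ⟨hPF.1, h⟩)
  obtain ⟨α, hα, φ₀, hφ₀, hφeq⟩ := hfratS P φ hφ
  exact olSys_star_aux p hS F (olSys hS F hT E hK hinv) (olSys_le hS F hT E hK hinv) hPF rfl hα hφ₀ hφeq
    hx hxr hβ hβx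

/-- `olSys` is saturated, for a weakly normal `E`. -/
theorem olSys_saturated_wn [Finite S] (p : ℕ) [Fact p.Prime] (hS : IsPGroup p S) (F : FusionSystem S)
    (hF : F.IsSaturated p) (hT : F.StronglyClosed T) (E : FusionSystem T) (hE : E.IsWeaklyNormalIn F p)
    (hAI : AutInvariant E F) {K : Subgroup (MulAut T)} (hK : OLData F E p K) (hinv : HInv E K) :
    (olSys hS F hT E hK hinv).IsSaturated p := by
  have hEF : E.IsSubsystemOf F := hE.2.2.1
  have hfrat := hE.2.2.2.2.2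
  apply isSaturated_of_generated p hS (olSys hS F hT E hK hinv)
    {P : Subgroup Ω | P ≤ S ∧ E.IsCentric (P ⊓ T)}
  · intro P hP
    exact olSys_good p hS F hF hT E hE.1 hEF hAI hfrat hK hinv hP.1 hP.2
  · exact olSys_generated hS F hT E hK hinv
  · exact olSys_star_wn p hS F hF hT E hE hAI hK hinv

/-- `olSys` has index prime to `p` in `F`, for a weakly normal `E`. -/
theorem olSys_hasPrimeToPIndexIn_wn [Finite S] (p : ℕ) [Fact p.Prime] (hS : IsPGroup p S) (F : FusionSystem S)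
    (hF : F.IsSaturated p) (hT : F.StronglyClosed T) (E : FusionSystem T) (hE : E.IsWeaklyNormalIn F p)
    (hAI : AutInvariant E F) {K : Subgroup (MulAut T)} (hK : OLData F E p K) (hinv : HInv E K) :
    (olSys hS F hT E hK hinv).HasPrimeToPIndexIn F p :=
  ⟨olSys_le hS F hT E hK hinv, fun P hPS =>
    pElemGen_le_of_frattini p F hF (olSys hS F hT E hK hinv)
      (olSys_frattini_wn p hS F hF hT E hE hAI hK hinv) P hPS⟩

end olwn

end Cfsg.Agent.Lib.Helper88
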