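import Cfsg.Agent.Lib.Helper88.FusionRD10
import Cfsg.Agent.S5077
import Cfsg.Agent.S5082
import Cfsg.Agent.Lib.Helper89.Subsystem
import Cfsg.Agent.Lib.Helper89.FusionConj

set_option autoImplicit false
open Cfsg

namespace Cfsg.Agent.Lib.Helper88

open Cfsg.FusionSystem Cfsg.Agent.Lib.Helper87
open Cfsg.Agent.Lib.Helper90 (autMap mem_autMap autMap_le apply_mem_autMap range_eq_of_forall_mem)
open Cfsg.Agent.Lib.Helper91 (isCentric_of_isConj isCentric_self)

variable {Ω : Type*} [Group Ω] {S T : Subgroup Ω}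

/-- A saturated subsystem of `p`-power index in a saturated subsystem `X` invariant in `F`, over a subgroup strongly closed
in `X` and in `F`, is invariant in `F`. -/
theorem isInvariantIn_of_pPowerIndex [Finite S] (p : ℕ) [Fact p.Prime] (hS : IsPGroup p S) (F : FusionSystem S)
    (X : FusionSystem T) (hX : X.IsSaturated p) (hXinv : X.IsInvariantIn F) {H : Subgroup Ω}
    (hHX : X.StronglyClosed H) (hHF : F.StronglyClosed H)
    (D : FusionSystem H) (hDs : D.IsSaturated p) (hDi : D.HasPPowerIndexIn X p) : D.IsInvariantIn F := by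
  have hTS : T ≤ S := hXinv.2.1.1
  haveI : Finite T := finite_of_le hTS
  have hTp : IsPGroup p T := hS.to_le hTS
  have hHT : H ≤ T := hHX.1
  have hHS : H ≤ S := hHT.trans hTS
  haveI : Finite H := finite_of_le hHS
  have hHp : IsPGroup p H := hS.to_le hHS
  have hSI : StrongInv X F := strongInv_of_isInvariantIn hXinv
  have hDX : D.IsSubsystemOf X := hDi.1
  have hall := hDi.2.2
  -- invariance under `Aut_F(H)`
  have hAI : AutInvariant D F := by
    apply autInvariant_of_le_conjCore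
    apply le_of_saturated_of_pResidual_le p hHp X D (conjCore D (F.autGroup H)) hDs hDX
    intro P hP
    apply le_autGroup_conjCore_of_transport D (F.autGroup H) (fun _ => True)
      (fun P => (pResidual p (X.autGroup P)).map (X.autGroup P).subtype) (fun P hP _ => hall P hP) _ _ hP trivial
    · intro α hα P hPH _
      refine ⟨trivial, fun n hn a hax => ?_⟩
      exact congr_mem_pResidual_of_strongInv p X F hSI (hPH.trans hHT) ((autMap_le α P).trans hHT)
        (isFIso_of_autMap_eq F hHS hα hPH a hax) hn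
    · intro α hα P hPH
      obtain ⟨a, -, hax⟩ := exists_autMap_equiv' F hHS hα hPH
      exact ⟨a, hax⟩
  refine ⟨fun P φ h => hXinv.1 P (hDX P h), hHF, forall_of_autInvariant D F hAI, ?_⟩
  -- the Frattini condition
  intro P hP φ hφ
  obtain ⟨β, hβ, φ₀, hφ₀, hφx⟩ := hXinv.2.2.2 P (hP.trans hHT) φ hφ
  have hinvDX : AutInvariant D X := autInvariant_of_pPowerIndex p hTp X hHT D hDs hDX hall
  obtain ⟨γ₀, hγ₀, φ₁, hφ₁, hφ₀x⟩ := frattini_of_pPowerIndex p hTp X hX hHX D hDX hall hinvDX P hP φ₀ hφ₀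
  obtain ⟨αβ, hαβ, hαβx⟩ := exists_restrict_autGroup F hHF hHT hTS hβ
  have hγ₀F : γ₀ ∈ F.autGroup H :=
    autGroup_le_autGroup_of_isSubsystemOf X F hXinv.1 _ hγ₀
  refine ⟨αβ * γ₀, Subgroup.mul_mem _ hαβ hγ₀F, φ₁, hφ₁, fun x hx => ?_⟩
  have hφ₀T : φ₀ x ∈ T := (X.le_of_mem hφ₀).2 x
  rw [hφx x hφ₀T, MulAut.mul_apply, hαβx]
  congr 2
  apply Subtype.ext
  exact hφ₀x x hx

/-- A saturated subsystem `E` of `F` over a subgroup of `U` lies in every subsystem of `F` over `U` of `p`-power
index. -/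
theorem le_of_hasPPowerIndexIn [Finite S] (p : ℕ) [Fact p.Prime] (hS : IsPGroup p S) (F : FusionSystem S)
    {U : Subgroup Ω} (E : FusionSystem T) (hEsat : E.IsSaturated p) (hEsub : E.IsSubsystemOf F) (hTU : T ≤ U)
    (F₀ : FusionSystem U) (hidx : F₀.HasPPowerIndexIn F p) : E.IsSubsystemOf F₀ := by
  have hTS : T ≤ S := le_of_isSubsystemOf hEsub
  haveI : Finite T := finite_of_le hTS
  have hT : IsPGroup p T := hS.to_le hTS
  obtain ⟨h1, -⟩ := (Cfsg.Agent.S5077.result p hT E).mp hEsat
  have key : E ≤ Cfsg.Agent.Lib.Helper89.fullSubsystem F₀ T hTU := by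
    apply Cfsg.Agent.S5082.result p hT E hEsat
    intro P hP
    have hfn : E.IsFullyNormalized P := by
      rcases hP with rfl | hess
      · exact Cfsg.Agent.Lib.Helper89.isFullyNormalized_self E
      · exact hess.2.1
    have hPT : P ≤ T := hfn.1
    obtain ⟨-, -, R, hR⟩ := h1 P hfn
    rw [Cfsg.Agent.Lib.Helper89.autGroup_fullSubsystem F₀ T hTU hPT]
    haveI : Finite P := finite_of_le hPT
    haveI : Finite (MulAut P) := inferInstance
    haveI : Finite (E.autGroup P) := inferInstance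
    apply Cfsg.Agent.Lib.Helper89.le_of_sylow_le_of_coprime_le (p := p) (E.autGroup P) (F₀.autGroup P) R
    · intro r hr
      rw [hR] at hr
      have hr' : (r : MulAut P) ∈ autInducedBy T P := hr
      obtain ⟨g, hg, hgr⟩ := (Cfsg.Agent.Lib.Helper89.mem_autInducedBy_iff T P _).mp hr'
      rw [Cfsg.Agent.Lib.Helper89.mem_autGroup_iff F₀ (hPT.trans hTU)]
      exact hom_congr F₀ (F₀.conj_mem (hPT.trans hTU) (hTU hg)) (fun x => hgr x)
    · intro a ha hco
      have haF : a ∈ F.autGroup P := by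
        rw [Cfsg.Agent.Lib.Helper89.mem_autGroup_iff F (hPT.trans hTS)]
        exact hEsub P ((Cfsg.Agent.Lib.Helper89.mem_autGroup_iff E hPT a).mp ha)
      apply hidx.2.2 P (hPT.trans hTU)
      refine ⟨⟨a, haF⟩, ?_, rfl⟩
      apply Subgroup.subset_closure
      show (orderOf (⟨a, haF⟩ : F.autGroup P)).Coprime p
      rw [Subgroup.orderOf_mk]
      exact hco
  intro P φ hφ
  exact (key P hφ).1

/-- Monotonicity of the image of `O^{p'}` in the ambient group. -/
theorem map_pElemGen_subtype_mono {G : Type*} [Group G] (p : ℕ) {A A' : Subgroup G} (h : A ≤ A') :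
    (pElemGen p ↥A).map A.subtype ≤ (pElemGen p ↥A').map A'.subtype := by
  rw [map_pElemGen_subtype, map_pElemGen_subtype]
  apply Subgroup.closure_mono
  rintro g ⟨hg, hk⟩
  exact ⟨h hg, hk⟩

/-- The maps of a subsystem invariant under `Aut_F(T)` are core maps. -/
theorem isCoreMap'_of_autInvariant {E : FusionSystem T} {F : FusionSystem S} (hAI : AutInvariant E F)
    {P : Subgroup Ω} {φ : P →* Ω} (hφ : φ ∈ E.Hom P) : IsCoreMap' E (F.autGroup T) φ := by
  intro α hα
  have hPT : P ≤ T := (E.le_of_mem hφ).1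
  obtain ⟨χ, hχ, hχx⟩ := hAI α hα P hPT φ hφ (autMap α P) (by
    intro y
    rw [mem_autMap]
    constructor
    · rintro ⟨t, ht, rfl⟩
      exact ⟨⟨t, ht⟩, rfl⟩
    · rintro ⟨x, rfl⟩
      exact ⟨⟨x, hPT x.2⟩, x.2, rfl⟩)
  exact ⟨χ, hχ, fun x hx hφx hαx => hχx x hφx hαx⟩

/-- A saturated subsystem `M` of index prime to `p` in a saturated subsystem `X` invariant in `F`, whose automorphism
group of the underlying group is normalized by the corresponding group of `F`, is invariant in `F`. -/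
theorem isInvariantIn_of_pPrimeIndex [Finite S] (p : ℕ) [Fact p.Prime] (hS : IsPGroup p S) (F : FusionSystem S)
    (X : FusionSystem T) (hX : X.IsSaturated p) (hXinv : X.IsInvariantIn F)
    (M : FusionSystem T) (hM : M.IsSaturated p) (hidx : M.HasPrimeToPIndexIn X p)
    (hconj : ∀ γ ∈ F.autGroup T, ∀ δ ∈ M.autGroup T, γ * δ * γ⁻¹ ∈ M.autGroup T) : M.IsInvariantIn F := by
  have hTS : T ≤ S := hXinv.2.1.1
  haveI : Finite T := finite_of_le hTS
  have hTp : IsPGroup p T := hS.to_le hTS
  have hMX : M.IsSubsystemOf X := hidx.1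
  have hopM : (opRes X p).IsSubsystemOf M := opRes_le_of p hTp X hX M hM hidx
  have hopidx := (opRes_saturated p hTp X hX).2
  have hfr1 := frattini_of_pElemGen_le p hTp M hM (opRes X p) hopM (by
    intro P hP
    refine le_trans ?_ (hopidx.2 P hP.1)
    exact map_pElemGen_subtype_mono p (autGroup_le_autGroup_of_isSubsystemOf M X hMX P))
  have hfr2 := frattini_of_pElemGen_le p hTp X hX M hMX (fun P hP => hidx.2 P hP.1)
  have hAIop : AutInvariant (opRes X p) F := autInvariant_opRes p hXinv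
  have hAI : AutInvariant M F := by
    apply autInvariant_of_le_conjCore
    intro P φ hφ
    obtain ⟨δ, hδ, φ₀, hφ₀, hφx⟩ := hfr1 P φ hφ
    have hφ₀T : ∀ x : P, φ₀ x ∈ T := ((opRes X p).le_of_mem hφ₀).2
    have h1 : φ₀ ∈ (conjCore M (F.autGroup T)).Hom P := by
      refine ⟨hopM P hφ₀, fun γ hγ => ?_⟩
      obtain ⟨χ, hχ, hχx⟩ := isCoreMap'_of_autInvariant hAIop hφ₀ γ hγ
      exact ⟨χ, hopM _ hχ, hχx⟩
    have h2 : T.subtype.comp (δ : T ≃* T).toMonoidHom ∈ (conjCore M (F.autGroup T)).Hom T := by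
      refine ⟨(mem_autGroup_iff M le_rfl).mp hδ, fun γ hγ => ?_⟩
      have hc := (mem_autGroup_iff M le_rfl).mp (hconj γ hγ δ hδ)
      refine ⟨_, restrict_mem M (autMap_le γ T) hc, fun x hx hφx hαx => ?_⟩
      show (((γ * δ * γ⁻¹) ⟨((γ ⟨x, hx⟩ : T) : Ω), _⟩ : T) : Ω) = ((γ ⟨((δ x : T) : Ω), hφx⟩ : T) : Ω)
      have e1 : (⟨((γ ⟨x, hx⟩ : T) : Ω), autMap_le γ T hαx⟩ : T) = γ x := rfl
      rw [e1, MulAut.mul_apply, MulAut.mul_apply, MulAut.inv_apply_self]
    exact comp_mem' (conjCore M (F.autGroup T)) h1 h2 hφ₀T (fun x => hφx x (hφ₀T x))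
  refine ⟨fun P φ h => hXinv.1 P (hMX P h), hXinv.2.1, forall_of_autInvariant M F hAI, ?_⟩
  intro P hP φ hφ
  obtain ⟨β, hβ, φ₀, hφ₀, hφx⟩ := hXinv.2.2.2 P hP φ hφ
  obtain ⟨γ₀, hγ₀, φ₁, hφ₁, hφ₀x⟩ := hfr2 P φ₀ hφ₀
  have hγ₀F : γ₀ ∈ F.autGroup T := autGroup_le_autGroup_of_isSubsystemOf X F hXinv.1 _ hγ₀
  refine ⟨β * γ₀, Subgroup.mul_mem _ hβ hγ₀F, φ₁, hφ₁, fun x hx => ?_⟩
  have hφ₀T : φ₀ x ∈ T := (X.le_of_mem hφ₀).2 x
  rw [hφx x hφ₀T, MulAut.mul_apply]
  congr 2
  apply Subtype.ext
  exact hφ₀x x hx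


theorem card_lt_of_lt' {G : Type*} [Group G] {H K : Subgroup G} [Finite K] (hle : H ≤ K) (hne : H ≠ K) :
    Nat.card H < Nat.card K := by
  by_contra h
  exact hne (Subgroup.eq_of_le_of_card_ge hle (not_lt.mp h))

/-- Every saturated fusion system over a finite `p`-group has a residual limit. -/
theorem exists_isResidualLimitOf_aux (p : ℕ) [Fact p.Prime] :
    ∀ (n m : ℕ) (S : Subgroup Ω), Finite S → IsPGroup p S → ∀ F : FusionSystem S, F.IsSaturated p →
      Nat.card S = n → Nat.card (F.autGroup S) = m →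
      ∃ (U : Subgroup Ω) (L : FusionSystem U), IsResidualLimitOf L F p := by
  intro n
  induction n using Nat.strong_induction_on with
  | _ n ihn =>
    intro m
    induction m using Nat.strong_induction_on with
    | _ m ihm =>
      intro S hfin hS F hF hn hm
      haveI := hfin
      obtain ⟨D, hD⟩ := exists_isPResidual p hS F hF
      have hle : F.hyperfocalSubgroup p ≤ S := hyperfocalSubgroup_le F p
      haveI : Finite (F.hyperfocalSubgroup p) := finite_of_le hle
      have hHp : IsPGroup p (F.hyperfocalSubgroup p) := hS.to_le hle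
      have hD' := isPPrimeResidual_opRes p hHp D hD.1
      by_cases hH : F.hyperfocalSubgroup p = S
      · have hDF : Sim D F := sim_of_pPowerIndex p hS F hle hH D F hD.1 hF hD.2 (hasPPowerIndexIn_self F p)
        by_cases hAut : D.autGroup (F.hyperfocalSubgroup p) ≤ (opRes D p).autGroup (F.hyperfocalSubgroup p)
        · have hfr := frattini_of_pElemGen_le p hHp D hD.1 (opRes D p) hD'.2.1.1 (fun P hP => hD'.2.1.2 P hP.1)
          have hDD' : ∀ P : Subgroup Ω, D.Hom P ⊆ (opRes D p).Hom P := by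
            intro P φ hφ
            obtain ⟨α, hα, φ₀, hφ₀, hφx⟩ := hfr P φ hφ
            have hφ₀H : ∀ x : P, φ₀ x ∈ F.hyperfocalSubgroup p := ((opRes D p).le_of_mem hφ₀).2
            exact comp_mem' (opRes D p) hφ₀ ((mem_autGroup_iff (opRes D p) le_rfl).mp (hAut hα)) hφ₀H
              (fun x => hφx x (hφ₀H x))
          have heq : opRes D p = D :=
            fusionSystem_ext' (fun P => Set.Subset.antisymm (hD'.2.1.1 P) (hDD' P))
          have hDD : D.IsPPrimeResidual p D := by
            have := hD'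
            rw [heq] at this
            exact this
          have hFF : F.IsPPrimeResidual p F := hDF.transport (fun W X => X.IsPPrimeResidual p X) hDD
          exact ⟨S, F, IsResidualLimitOf.stable F p hH hFF⟩
        · have h1 : (opRes D p).autGroup (F.hyperfocalSubgroup p) ≤ D.autGroup (F.hyperfocalSubgroup p) :=
            autGroup_le_autGroup_of_isSubsystemOf (opRes D p) D hD'.2.1.1 _
          haveI : Finite (D.autGroup (F.hyperfocalSubgroup p)) := inferInstance
          have h2 : Nat.card ((opRes D p).autGroup (F.hyperfocalSubgroup p)) <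
              Nat.card (D.autGroup (F.hyperfocalSubgroup p)) :=
            card_lt_of_lt' h1 (fun h => hAut (h ▸ le_rfl))
          have h3 : Nat.card (D.autGroup (F.hyperfocalSubgroup p)) = m :=
            hDF.symm.transport (fun W X => Nat.card (X.autGroup W) = m) hm
          have h4 : Nat.card (F.hyperfocalSubgroup p) = n := by rw [hH]; exact hn
          obtain ⟨U, L, hL⟩ := ihm _ (h3 ▸ h2) (F.hyperfocalSubgroup p) inferInstance hHp (opRes D p) hD'.1 h4 rfl
          exact ⟨U, L, IsResidualLimitOf.step F p D (opRes D p) hD hD' hL⟩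
      · have h1 : Nat.card (F.hyperfocalSubgroup p) < Nat.card S := card_lt_of_lt' hle hH
        obtain ⟨U, L, hL⟩ := ihn _ (hn ▸ h1) _ (F.hyperfocalSubgroup p) inferInstance hHp (opRes D p) hD'.1 rfl rfl
        exact ⟨U, L, IsResidualLimitOf.step F p D (opRes D p) hD hD' hL⟩

theorem exists_isResidualLimitOf {S : Subgroup Ω} [Finite S] (p : ℕ) [Fact p.Prime] (hS : IsPGroup p S)
    (F : FusionSystem S) (hF : F.IsSaturated p) :
    ∃ (U : Subgroup Ω) (L : FusionSystem U), IsResidualLimitOf L F p :=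
  exists_isResidualLimitOf_aux p _ _ S inferInstance hS F hF rfl rfl


end Cfsg.Agent.Lib.Helper88
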