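import Cfsg.Agent.Lib.Helper88.FusionRD11
import Cfsg.Agent.S5198
import Cfsg.Agent.S5113

set_option autoImplicit false
open Cfsg

namespace Cfsg.Agent.Lib.Helper88

open Cfsg.FusionSystem Cfsg.Agent.Lib.Helper87
open Cfsg.Agent.Lib.Helper90 (autMap mem_autMap autMap_le apply_mem_autMap range_eq_of_forall_mem inn_le_autGroup)
open Cfsg.Agent.Lib.Helper91 (isCentric_of_isConj isCentric_self)

variable {Ω : Type*} [Group Ω] {Sh S T : Subgroup Ω}

/-- The standing hypotheses of the reduction: `E` over `T` and `F` over `S` are saturated subsystems invariant in the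
saturated system `Fh` over `Sh`, with `E ≤ F` and `C_{Sh}(T) ≤ S`. -/
structure RedCtx (p : ℕ) (Fh : FusionSystem Sh) (E : FusionSystem T) (F : FusionSystem S) : Prop where
  satFh : Fh.IsSaturated p
  satE : E.IsSaturated p
  invE : E.IsInvariantIn Fh
  satF : F.IsSaturated p
  invF : F.IsInvariantIn Fh
  le : E.IsSubsystemOf F
  cen : centralizerIn Sh T ≤ S

namespace RedCtx

variable {p : ℕ} {Fh : FusionSystem Sh} {E : FusionSystem T} {F : FusionSystem S}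

theorem hSSh (c : RedCtx p Fh E F) : S ≤ Sh := c.invF.2.1.1

theorem hTS (c : RedCtx p Fh E F) : T ≤ S := le_of_isSubsystemOf c.le

theorem hTSh (c : RedCtx p Fh E F) : T ≤ Sh := c.invE.2.1.1

theorem invEF [Finite Sh] [Fact p.Prime] (c : RedCtx p Fh E F) (hSh : IsPGroup p Sh) : E.IsInvariantIn F :=
  isInvariantIn_of_le p hSh Fh E F c.invE c.satF c.invF.1 c.le

theorem autE_le (c : RedCtx p Fh E F) : E.autGroup T ≤ F.autGroup T :=
  autGroup_le_autGroup_of_isSubsystemOf E F c.le T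

theorem autF_le (c : RedCtx p Fh E F) : F.autGroup T ≤ Fh.autGroup T :=
  autGroup_le_autGroup_of_isSubsystemOf F Fh c.invF.1 T

/-- `Aut_{Fh}(T)` normalizes `Aut_E(T)`. -/
theorem conj_autE (c : RedCtx p Fh E F) {γ : MulAut T} (hγ : γ ∈ Fh.autGroup T) :
    ∀ b ∈ E.autGroup T, γ * b * γ⁻¹ ∈ E.autGroup T := fun _ hb =>
  conj_mem_autGroup_of_strongInv E Fh c.hTSh (strongInv_of_isInvariantIn c.invE) le_rfl hγ hb

/-- `Aut_{Fh}(T)` normalizes `Aut_F(T)`. -/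
theorem conj_autF (c : RedCtx p Fh E F) {γ : MulAut T} (hγ : γ ∈ Fh.autGroup T) :
    ∀ a ∈ F.autGroup T, γ * a * γ⁻¹ ∈ F.autGroup T := fun _ ha =>
  conj_mem_autGroup_of_strongInv F Fh c.hSSh (strongInv_of_isInvariantIn c.invF) c.hTS hγ ha

end RedCtx

/-- The automorphisms of `T` in `olSys` lie in `K`. -/
theorem olSys_autGroup_le [Finite S] (p : ℕ) [Fact p.Prime] (hS : IsPGroup p S) (F : FusionSystem S)
    (hT : F.StronglyClosed T) (E : FusionSystem T) (hEsat : E.IsSaturated p) (hEF : E.IsSubsystemOf F)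
    (hAI : AutInvariant E F) {K : Subgroup (MulAut T)} (hK : OLData F E p K) (hinv : HInv E K) :
    (olSys hS F hT E hK hinv).autGroup T ≤ K := by
  have hTS : T ≤ S := hT.1
  haveI : Finite T := finite_of_le hTS
  intro α hα
  have h1 := (mem_autGroup_iff _ hTS).mp hα
  have h2 := olSys_le_olD hS F hT E hK hinv T h1
  have hαF : α ∈ F.autGroup T := (mem_autGroup_iff F hTS).mpr h2.1
  have h3 := restrict_mem (autProdSystem E K hinv) (le_inf le_rfl le_rfl : T ≤ T ⊓ T) h2.2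
  apply ol_wd p hS F hTS E hEsat hEF hAI hK hinv hαF (isCentric_self E) h3
  intro x hx hxT
  rfl

/-- The step of index prime to `p`. -/
theorem pPrime_step [Finite Sh] (p : ℕ) [Fact p.Prime] (hSh : IsPGroup p Sh) {Fh : FusionSystem Sh}
    {E : FusionSystem T} {F : FusionSystem S} (c : RedCtx p Fh E F) :
    ∃ F₁ : FusionSystem S, RedCtx p Fh E F₁ ∧ F₁.HasPrimeToPIndexIn F p ∧
      F₁.autGroup T ≤ gamQ p (E.autGroup T) (F.autGroup T) := by
  have hSSh := c.hSSh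
  have hTS := c.hTS
  haveI : Finite S := finite_of_le hSSh
  haveI : Finite T := finite_of_le hTS
  have hS : IsPGroup p S := hSh.to_le hSSh
  have hEinvF := c.invEF hSh
  have hTF : F.StronglyClosed T := hEinvF.2.1
  have hEwn : E.IsWeaklyNormalIn F p := ⟨c.satE, c.satF, hEinvF⟩
  have hAI : AutInvariant E F := autInvariant_of_forall E F hEinvF.2.2.1
  have hK : OLData F E p (gamQ p (E.autGroup T) (F.autGroup T)) := by
    refine ⟨gamQ_le p c.autE_le, ?_, le_gamQ p _ _, ?_⟩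
    · intro a ha k hk
      exact conj_mem_gamQ p (fun a' ha' => Subgroup.mul_mem _ (Subgroup.mul_mem _ ha ha') (Subgroup.inv_mem _ ha))
        (c.conj_autE (c.autF_le ha)) hk
    · intro a ha e h
      exact mem_gamQ_of_pow_mem p ha h
  have hinv : HInv E (gamQ p (E.autGroup T) (F.autGroup T)) := hK.hInv hAI
  have hsat := olSys_saturated_wn p hS F c.satF hTF E hEwn hAI hK hinv
  have hidx := olSys_hasPrimeToPIndexIn_wn p hS F c.satF hTF E hEwn hAI hK hinv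
  have hle := le_olSys p hS F hTF E c.satE c.le hK hinv
  have hTFh : Fh.StronglyClosed T := c.invE.2.1
  have hinvF₁ : (olSys hS F hTF E hK hinv).IsInvariantIn Fh := by
    apply isInvariantIn_of_pPrimeIndex p hSh Fh F c.satF c.invF _ hsat hidx
    intro γ hγ δ hδ
    rw [mem_olSys_autGroup_iff p hS F hTF E c.satE c.le hAI hK hinv] at hδ ⊢
    obtain ⟨hδF, a, haK, hat⟩ := hδ
    refine ⟨conj_mem_autGroup_of_strongInv F Fh hSSh (strongInv_of_isInvariantIn c.invF) le_rfl hγ hδF, ?_⟩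
    obtain ⟨g, hg, hgx⟩ := exists_restrict_autGroup Fh hTFh hTS hSSh hγ
    refine ⟨g * a * g⁻¹, conj_mem_gamQ p (c.conj_autF hg) (c.conj_autE hg) haK, fun t => ?_⟩
    have e1 : (⟨((g⁻¹ t : T) : Ω), hTS (g⁻¹ t).2⟩ : S) = γ⁻¹ ⟨t, hTS t.2⟩ := by
      have e0 : γ ⟨((g⁻¹ t : T) : Ω), hTS (g⁻¹ t).2⟩ = ⟨t, hTS t.2⟩ := by
        apply Subtype.ext
        rw [← hgx, MulAut.apply_inv_self]
      rw [← e0, MulAut.inv_apply_self]
    have h1 : ((g (a (g⁻¹ t)) : T) : Ω) = ((γ ⟨(a (g⁻¹ t) : T), hTS (a (g⁻¹ t)).2⟩ : S) : Ω) := hgx _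
    have h2 : (⟨((a (g⁻¹ t) : T) : Ω), hTS (a (g⁻¹ t)).2⟩ : S) = δ ⟨((g⁻¹ t : T) : Ω), hTS (g⁻¹ t).2⟩ :=
      Subtype.ext (hat _)
    show ((g (a (g⁻¹ t)) : T) : Ω) = ((γ (δ (γ⁻¹ ⟨t, hTS t.2⟩)) : S) : Ω)
    rw [h1, h2, e1]
  exact ⟨olSys hS F hTF E hK hinv, ⟨c.satFh, c.satE, c.invE, hsat, hinvF₁, hle, c.cen⟩, hidx,
    olSys_autGroup_le p hS F hTF E c.satE c.le hAI hK hinv⟩


/-- The conjugate of an automorphism induced by `g` under an automorphism induced by `s` is induced by `s g s⁻¹`. -/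
theorem conj_apply_of_induced {c α : MulAut T} {s g : Ω} (hc : ∀ t : T, ((c t : T) : Ω) = s * t * s⁻¹)
    (hα : ∀ t : T, ((α t : T) : Ω) = g * t * g⁻¹) (t : T) :
    (((c * α * c⁻¹) t : T) : Ω) = (s * g * s⁻¹) * t * (s * g * s⁻¹)⁻¹ := by
  have h1 : (t : Ω) = s * ((c⁻¹ t : T) : Ω) * s⁻¹ := by rw [← hc, MulAut.apply_inv_self]
  have h2 : ((c⁻¹ t : T) : Ω) = s⁻¹ * t * s := by rw [h1]; group
  rw [MulAut.mul_apply, MulAut.mul_apply, hc, hα, h2]
  group

/-- The conjugate of an automorphism of `T` induced by `g ∈ S` under the restriction of an automorphism `γ` of `S` is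
induced by `γ g`. -/
theorem conj_apply_of_restrict (hTS : T ≤ S) {c α : MulAut T} {γ : MulAut S} {g : Ω} (hg : g ∈ S)
    (hc : ∀ t : T, ((c t : T) : Ω) = ((γ ⟨t, hTS t.2⟩ : S) : Ω))
    (hα : ∀ t : T, ((α t : T) : Ω) = g * t * g⁻¹) (t : T) :
    (((c * α * c⁻¹) t : T) : Ω) = ((γ ⟨g, hg⟩ : S) : Ω) * t * ((γ ⟨g, hg⟩ : S) : Ω)⁻¹ := by
  have h1 : (t : Ω) = ((γ ⟨((c⁻¹ t : T) : Ω), hTS (c⁻¹ t).2⟩ : S) : Ω) := by rw [← hc, MulAut.apply_inv_self]
  rw [MulAut.mul_apply, MulAut.mul_apply, hc]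
  have h2 : (⟨((α (c⁻¹ t) : T) : Ω), hTS (α (c⁻¹ t)).2⟩ : S) =
      ⟨g, hg⟩ * ⟨((c⁻¹ t : T) : Ω), hTS (c⁻¹ t).2⟩ * (⟨g, hg⟩ : S)⁻¹ := by
    apply Subtype.ext
    rw [hα]
    rfl
  rw [h2, map_mul, map_mul, map_inv]
  show ((γ ⟨g, hg⟩ : S) : Ω) * ((γ ⟨((c⁻¹ t : T) : Ω), hTS (c⁻¹ t).2⟩ : S) : Ω) * ((γ ⟨g, hg⟩ : S) : Ω)⁻¹ = _
  rw [← h1]

/-- The step of `p`-power index. -/
theorem pPower_step [Finite Sh] (p : ℕ) [Fact p.Prime] (hSh : IsPGroup p Sh) {Fh : FusionSystem Sh}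
    {E : FusionSystem T} {F : FusionSystem S} (c : RedCtx p Fh E F) :
    ∃ (S₁ : Subgroup Ω) (F₁ : FusionSystem S₁), RedCtx p Fh E F₁ ∧ F₁.HasPPowerIndexIn F p ∧
      F₁.autGroup T ≤ gamP p (E.autGroup T) (F.autGroup T) := by
  have hSSh := c.hSSh
  have hTS := c.hTS
  haveI : Finite S := finite_of_le hSSh
  haveI : Finite T := finite_of_le hTS
  have hS : IsPGroup p S := hSh.to_le hSSh
  have hEinvF := c.invEF hSh
  have hTF : F.StronglyClosed T := hEinvF.2.1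
  have hTFh : Fh.StronglyClosed T := c.invE.2.1
  have hBΓ : E.autGroup T ≤ gamP p (E.autGroup T) (F.autGroup T) := le_gamP p _ _
  have hS₁S : coreSub S T (gamP p (E.autGroup T) (F.autGroup T)) ≤ S := coreSub_le S T _
  have hTS₁ : T ≤ coreSub S T (gamP p (E.autGroup T) (F.autGroup T)) := by
    intro t ht
    exact ⟨hTS ht, MulAut.conj (⟨t, ht⟩ : T), hBΓ (inn_le_autGroup E le_rfl ⟨_, rfl⟩), fun x => rfl⟩
  have hcen : centralizerIn Sh T ≤ coreSub S T (gamP p (E.autGroup T) (F.autGroup T)) := by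
    intro g hg
    refine ⟨c.cen hg, 1, Subgroup.one_mem _, fun x => ?_⟩
    have h1 := (mem_centralizerIn.mp hg).2 x x.2
    show (x : Ω) = g * x * g⁻¹
    rw [← h1]
    group
  have hhyp : F.hyperfocalSubgroup p ≤ coreSub S T (gamP p (E.autGroup T) (F.autGroup T)) := by
    intro x hx
    obtain ⟨α, hα, hαt⟩ := Cfsg.Agent.S5198.result p hS F c.satF T hTF x hx
    refine ⟨hyperfocalSubgroup_le F p hx, α, ?_, hαt⟩
    exact (sup_le (pResidual_le_gamP p _ _) ((inn_le_autGroup E le_rfl).trans hBΓ)) hα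
  have hS₁n : ((coreSub S T (gamP p (E.autGroup T) (F.autGroup T))).subgroupOf S).Normal := by
    constructor
    intro n hn s
    rw [Subgroup.mem_subgroupOf] at hn ⊢
    obtain ⟨hnS, α, hα, hαt⟩ := hn
    have hsN : (s : Ω) ∈ Subgroup.normalizer (T : Set Ω) := mem_normalizer_of_stronglyClosed hTF s.2
    have hcs : conjAut T s hsN ∈ F.autGroup T :=
      autInducedBy_le_autGroup F hTS (conjAut_mem_autInducedBy s.2 hsN)
    refine ⟨S.mul_mem (S.mul_mem s.2 hnS) (S.inv_mem s.2), conjAut T s hsN * α * (conjAut T s hsN)⁻¹, ?_,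
      fun t => ?_⟩
    · exact conj_mem_gamP p
        (fun a' ha' => Subgroup.mul_mem _ (Subgroup.mul_mem _ hcs ha') (Subgroup.inv_mem _ hcs))
        (c.conj_autE (c.autF_le hcs)) hα
    · exact conj_apply_of_induced (fun t => rfl) hαt t
  have hS₁F : F.StronglyClosed (coreSub S T (gamP p (E.autGroup T) (F.autGroup T))) :=
    stronglyClosed_of_hyperfocal_le p hS F c.satF hS₁S hS₁n hhyp
  have hγS₁ : ∀ γ ∈ Fh.autGroup S, ∀ (g : Ω) (hg : g ∈ coreSub S T (gamP p (E.autGroup T) (F.autGroup T))),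
      ((γ ⟨g, hS₁S hg⟩ : S) : Ω) ∈ coreSub S T (gamP p (E.autGroup T) (F.autGroup T)) := by
    intro γ hγ g hg
    obtain ⟨hgS, α, hα, hαt⟩ := hg
    obtain ⟨cγ, hcγ, hcγx⟩ := exists_restrict_autGroup Fh hTFh hTS hSSh hγ
    refine ⟨(γ ⟨g, hgS⟩).2, cγ * α * cγ⁻¹, conj_mem_gamP p (c.conj_autF hcγ) (c.conj_autE hcγ) hα, fun t => ?_⟩
    exact conj_apply_of_restrict hTS hgS hcγx hαt t
  have hS₁Fh : Fh.StronglyClosed (coreSub S T (gamP p (E.autGroup T) (F.autGroup T))) := by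
    refine ⟨hS₁S.trans hSSh, fun R hR φ hφ x => ?_⟩
    obtain ⟨γ, hγ, φ₀, hφ₀, hφx⟩ := c.invF.2.2.2 R (hR.trans hS₁S) φ hφ
    have h0 : φ₀ x ∈ coreSub S T (gamP p (E.autGroup T) (F.autGroup T)) := hS₁F.2 R hR φ₀ hφ₀ x
    rw [hφx x (hS₁S h0)]
    exact hγS₁ γ hγ _ h0
  obtain ⟨F₁, ⟨hF₁sat, hF₁idx⟩, -⟩ := Cfsg.Agent.S5113.result p hS F c.satF _ hS₁S hhyp
  have hinvF₁ := isInvariantIn_of_pPowerIndex p hSh Fh F c.satF c.invF hS₁F hS₁Fh F₁ hF₁sat hF₁idx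
  have hEF₁ := le_of_hasPPowerIndexIn p hS F E c.satE c.le hTS₁ F₁ hF₁idx
  refine ⟨_, F₁, ⟨c.satFh, c.satE, c.invE, hF₁sat, hinvF₁, hEF₁, hcen⟩, hF₁idx, ?_⟩
  -- the automizer of `T`
  haveI : Finite (coreSub S T (gamP p (E.autGroup T) (F.autGroup T))) := finite_of_le hS₁S
  have hF₁F : F₁.IsSubsystemOf F := hF₁idx.1
  have hT₁ : F₁.StronglyClosed T := ⟨hTS₁, fun R hR φ hφ x => hTF.2 R hR φ (hF₁F R hφ) x⟩
  obtain ⟨-, R, hR⟩ := isFullyAutomized_of_stronglyClosed p F₁ hF₁sat hT₁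
  haveI : Finite (F₁.autGroup T) := inferInstance
  have h1 := Cfsg.Agent.Lib.Helper54.pResidual_sup_sylow R
  intro a ha
  have h2 : a ∈ (pResidual p (F₁.autGroup T) ⊔ (R : Subgroup (F₁.autGroup T))).map (F₁.autGroup T).subtype := by
    rw [h1]
    exact ⟨⟨a, ha⟩, Subgroup.mem_top _, rfl⟩
  rw [Subgroup.map_sup] at h2
  have h3 : (pResidual p (F₁.autGroup T)).map (F₁.autGroup T).subtype ⊔
      (R : Subgroup (F₁.autGroup T)).map (F₁.autGroup T).subtype ≤ gamP p (E.autGroup T) (F.autGroup T) := by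
    apply sup_le
    · exact (Cfsg.Agent.Lib.Helper54.map_pResidual_subtype_mono p
        (autGroup_le_autGroup_of_isSubsystemOf F₁ F hF₁F T)).trans (pResidual_le_gamP p _ _)
    · rw [hR]
      rintro _ ⟨r, hr, rfl⟩
      have hr' : (r : MulAut T) ∈ autInducedBy (coreSub S T (gamP p (E.autGroup T) (F.autGroup T))) T := hr
      obtain ⟨g, hg, hgr⟩ := Cfsg.Agent.Lib.Helper87.mem_autInducedBy_iff.mp hr'
      obtain ⟨-, α, hα, hαt⟩ := hg
      have : (r : MulAut T) = α := by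
        ext t
        rw [hgr, hαt]
      show (r : MulAut T) ∈ _
      rw [this]
      exact hα
  exact h3 h2


end Cfsg.Agent.Lib.Helper88
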