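import Cfsg.Agent.Lib.Helper88.FusionRL3
import Cfsg.Prelude.Def_FusionReduction

set_option autoImplicit false
open Cfsg

namespace Cfsg.Agent.Lib.Helper88

open Cfsg.FusionSystem Cfsg.Agent.Lib.Helper87

variable {Ω : Type*} [Group Ω]

theorem hasPPowerIndexIn_self {S : Subgroup Ω} (F : FusionSystem S) (p : ℕ) : F.HasPPowerIndexIn F p := by
  refine ⟨fun P => subset_rfl, hyperfocalSubgroup_le F p, fun P _ => ?_⟩
  rintro _ ⟨a, -, rfl⟩
  exact a.2

/-- Uniqueness of the saturated subsystem of `p`-power index over a given subgroup. -/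
theorem sim_of_pPowerIndex {S : Subgroup Ω} [Finite S] (p : ℕ) [Fact p.Prime] (hS : IsPGroup p S)
    (F : FusionSystem S) {T₁ T₂ : Subgroup Ω} (hT₁S : T₁ ≤ S) (hTT : T₁ = T₂) (E₁ : FusionSystem T₁)
    (E₂ : FusionSystem T₂) (h₁s : E₁.IsSaturated p) (h₂s : E₂.IsSaturated p) (h₁ : E₁.HasPPowerIndexIn F p)
    (h₂ : E₂.HasPPowerIndexIn F p) : Sim E₁ E₂ := by
  have hT₂S : T₂ ≤ S := hTT ▸ hT₁S
  haveI : Finite T₁ := finite_of_le hT₁S
  haveI : Finite T₂ := finite_of_le hT₂S
  refine ⟨hTT, fun P => Set.Subset.antisymm ?_ ?_⟩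
  · exact hom_subset_of_saturated_of_pResidual_le p (hS.to_le hT₁S) hTT F E₁ E₂ h₁s h₁.1 h₂.2.2 P
  · exact hom_subset_of_saturated_of_pResidual_le p (hS.to_le hT₂S) hTT.symm F E₂ E₁ h₂s h₂.1 h₁.2.2 P

/-- Uniqueness of the `p'`-residual. -/
theorem sim_pPrimeResidual {U V : Subgroup Ω} {A : FusionSystem U} {B : FusionSystem V} (h : Sim A B) (p : ℕ)
    {A' : FusionSystem U} {B' : FusionSystem V} (hA' : A.IsPPrimeResidual p A') (hB' : B.IsPPrimeResidual p B') :
    Sim A' B' := by
  obtain ⟨rfl, h⟩ := h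
  have : A = B := fusionSystem_ext' h
  subst this
  exact ⟨rfl, fun P => Set.Subset.antisymm (hA'.2.2 B' hB'.1 hB'.2.1 P) (hB'.2.2 A' hA'.1 hA'.2.1 P)⟩

/-- A system that is its own `p`-residual and `p'`-residual. -/
def Stable {U : Subgroup Ω} (A : FusionSystem U) (p : ℕ) : Prop :=
  A.hyperfocalSubgroup p = U ∧ A.IsPPrimeResidual p A

theorem Sim.stable {U V : Subgroup Ω} {A : FusionSystem U} {B : FusionSystem V} (h : Sim A B) {p : ℕ}
    (hA : Stable A p) : Stable B p :=
  h.transport (fun W X => X.hyperfocalSubgroup p = W ∧ X.IsPPrimeResidual p X) hA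

/-- A residual limit of a stable system is the system itself. -/
theorem sim_of_limit_of_stable {T S : Subgroup Ω} {L : FusionSystem T} {A : FusionSystem S} {p : ℕ}
    (h : IsResidualLimitOf L A p) : ∀ [Fact p.Prime] [Finite S], IsPGroup p S → Stable A p → Sim L A := by
  induction h with
  | stable F p h1 h2 =>
    intro _ _ _ _
    exact Sim.refl F
  | step F p D D' hD hD' hlim ih =>
    intro _ _ hS hst
    have hFsat : F.IsSaturated p := hst.2.1
    have hle := hyperfocalSubgroup_le F p
    have hDF : Sim D F :=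
      sim_of_pPowerIndex p hS F hle hst.1 D F hD.1 hFsat hD.2 (hasPPowerIndexIn_self F p)
    have hD'F : Sim D' F := sim_pPrimeResidual hDF p hD' hst.2
    have hstD' : Stable D' p := hD'F.symm.stable hst
    haveI : Finite (F.hyperfocalSubgroup p) := finite_of_le hle
    have := ih (hS.to_le hle) hstD'
    exact this.trans hD'F

/-- Uniqueness of residual limits. -/
theorem sim_limit_of_sim {T S : Subgroup Ω} {L : FusionSystem T} {A : FusionSystem S} {p : ℕ}
    (h : IsResidualLimitOf L A p) : ∀ [Fact p.Prime] [Finite S], IsPGroup p S →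
      ∀ {T' S' : Subgroup Ω} (L' : FusionSystem T') (B : FusionSystem S'), Sim A B →
        IsResidualLimitOf L' B p → Sim L L' := by
  induction h with
  | stable F p h1 h2 =>
    intro _ _ hS T' S' L' B hAB hB
    have hstB : Stable B p := hAB.stable ⟨h1, h2⟩
    obtain ⟨rfl, -⟩ := id hAB
    have := sim_of_limit_of_stable hB hS hstB
    exact hAB.trans this.symm
  | step F p D D' hD hD' hlim ih =>
    intro _ _ hS T' S' L' B hAB hB
    have hle := hyperfocalSubgroup_le F p
    cases hB with
    | stable _ _ h1 h2 =>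
      have hstF : Stable F p := hAB.symm.stable ⟨h1, h2⟩
      have := sim_of_limit_of_stable (IsResidualLimitOf.step F p D D' hD hD' hlim) hS hstF
      exact this.trans hAB
    | step _ _ DB DB' hDB hDB' hlimB =>
      have hhyp : F.hyperfocalSubgroup p = B.hyperfocalSubgroup p :=
        hAB.transport (fun W X => F.hyperfocalSubgroup p = X.hyperfocalSubgroup p) rfl
      have hDBF : DB.HasPPowerIndexIn F p :=
        hAB.symm.transport (fun W X => DB.HasPPowerIndexIn X p) hDB.2
      have hDDB : Sim D DB := sim_of_pPowerIndex p hS F hle hhyp D DB hD.1 hDB.1 hD.2 hDBF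
      have hD'DB' : Sim D' DB' := sim_pPrimeResidual hDDB p hD' hDB'
      haveI : Finite (F.hyperfocalSubgroup p) := finite_of_le hle
      exact ih (hS.to_le hle) L' DB' hD'DB' hlimB

/-- A normal subsystem of `p`-power index has the same residual limit. -/
theorem residualLimit_sim_of_normal_pPowerIndex {S T : Subgroup Ω} [Finite S] (p : ℕ) [Fact p.Prime]
    (hS : IsPGroup p S) (F : FusionSystem S) (hF : F.IsSaturated p) (E : FusionSystem T)
    (hE : E.IsNormalIn F p) (hidx : E.HasPPowerIndexIn F p) {U V : Subgroup Ω} (Finf : FusionSystem U)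
    (hFinf : Finf.IsResidualLimitOf F p) (Einf : FusionSystem V) (hEinf : Einf.IsResidualLimitOf E p) :
    Sim Finf Einf := by
  have hEsat : E.IsSaturated p := hE.1.1
  have hinv : E.IsInvariantIn F := hE.1.2.2
  have hTS : T ≤ S := hinv.2.1.1
  haveI : Finite T := finite_of_le hTS
  have hTp : IsPGroup p T := hS.to_le hTS
  have heq := hyperfocal_eq_of_invariant_pPowerIndex p hS F E hEsat hinv hidx
  have hleF := hyperfocalSubgroup_le F p
  have hleE := hyperfocalSubgroup_le E p
  cases hFinf with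
  | stable _ _ h1 h2 =>
    have hTeq : T = S := le_antisymm hTS (by rw [← h1]; exact hidx.2.1)
    have hEF : Sim E F :=
      sim_of_pPowerIndex p hS F hTS hTeq E F hEsat hF hidx (hasPPowerIndexIn_self F p)
    have := sim_limit_of_sim hEinf hTp F F hEF (IsResidualLimitOf.stable F p h1 h2)
    exact this.symm
  | step _ _ DF DF' hDF hDF' hlimF =>
    haveI : Finite (F.hyperfocalSubgroup p) := finite_of_le hleF
    cases hEinf with
    | stable _ _ h1 h2 =>
      have hDFE : Sim DF E :=
        sim_of_pPowerIndex p hS F hleF (heq.symm.trans h1) DF E hDF.1 hEsat hDF.2 hidx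
      have hDF'E : Sim DF' E := sim_pPrimeResidual hDFE p hDF' h2
      exact sim_limit_of_sim hlimF (hS.to_le hleF) E E hDF'E (IsResidualLimitOf.stable E p h1 h2)
    | step _ _ DE DE' hDE hDE' hlimE =>
      haveI : Finite (E.hyperfocalSubgroup p) := finite_of_le (hleE.trans hTS)
      have hDEF : DE.HasPPowerIndexIn F p := by
        refine ⟨fun P φ hφ => hidx.1 P (hDE.2.1 P hφ), heq.ge, fun P hP => ?_⟩
        have hPT : P ≤ T := hP.trans hleE
        have h1 := pResidual_map_eq_of_le p (autGroup_le_autGroup_of_isSubsystemOf E F hidx.1 P) (hidx.2.2 P hPT)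
        rw [← h1]
        exact hDE.2.2.2 P hP
      have hDEDF : Sim DE DF :=
        sim_of_pPowerIndex p hS F (hleE.trans hTS) heq DE DF hDE.1 hDF.1 hDEF hDF.2
      have h3 : Sim DE' DF' := sim_pPrimeResidual hDEDF p hDE' hDF'
      exact (sim_limit_of_sim hlimE (hTp.to_le hleE) Finf DF' h3 hlimF).symm

end Cfsg.Agent.Lib.Helper88
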