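import Cfsg.Agent.Lib.Helper88.FusionRD1
import Cfsg.Agent.Lib.Helper88.FusionRL4
import Cfsg.Agent.Lib.Helper54.Subnormal

set_option autoImplicit false
open Cfsg

namespace Cfsg.Agent.Lib.Helper88

open Cfsg.FusionSystem Cfsg.Agent.Lib.Helper87
open Cfsg.Agent.Lib.Helper90 (autMap mem_autMap autMap_le apply_mem_autMap range_eq_of_forall_mem)
open Cfsg.Agent.Lib.Helper91 (isCentric_of_isConj isCentric_self)

variable {Ω : Type*} [Group Ω] {S : Subgroup Ω}

/-- Elementwise form of index prime to `p`. -/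
theorem mem_autGroup_of_pow_eq_one {p : ℕ} [Fact p.Prime] {Y M : FusionSystem S} (hidx : M.HasPrimeToPIndexIn Y p)
    {Q : Subgroup Ω} (hQ : Q ≤ S) {a : MulAut Q} (ha : a ∈ Y.autGroup Q) {k : ℕ} (hk : a ^ p ^ k = 1) :
    a ∈ M.autGroup Q := by
  apply hidx.2 Q hQ
  refine ⟨⟨a, ha⟩, Subgroup.subset_closure ?_, rfl⟩
  have h1 : (⟨a, ha⟩ : Y.autGroup Q) ^ p ^ k = 1 := Subtype.ext hk
  have h2 := orderOf_dvd_of_pow_eq_one h1
  obtain ⟨j, -, hj⟩ := (Nat.dvd_prime_pow (Fact.out : p.Prime)).mp h2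
  exact ⟨j, hj⟩

/-- A subgroup centric in an invariant subsystem `X` over `H` has all its images under maps of the ambient system
containing their centralizers in `H`. -/
theorem hCen_of_isCentric {Y : FusionSystem S} {H : Subgroup Ω} {X : FusionSystem H} (hXinv : X.IsInvariantIn Y)
    {R : Subgroup Ω} (hR : X.IsCentric R) : HCen Y H R := by
  intro φ hφ
  have h1 : X.IsCentric φ.range := isCentric_range_of_frattini Y X hXinv.1 hXinv.2.2.2 hR hφ rfl
  exact h1.2 φ.range (isConj_refl X h1.1)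

/-- Monotonicity of the `p'`-residual: the `p'`-residual of a saturated subsystem `X`, invariant in `Y`, lies in every
saturated subsystem of `Y` of index prime to `p`. -/
theorem opRes_le_of_pPrimeIndex_of_invariant [Finite S] (p : ℕ) [Fact p.Prime] (hS : IsPGroup p S)
    (Y M : FusionSystem S) (hM : M.IsSaturated p) (hidx : M.HasPrimeToPIndexIn Y p)
    {H : Subgroup Ω} (X : FusionSystem H) (hXinv : X.IsInvariantIn Y) :
    (opRes X p).IsSubsystemOf M := by
  have hH : Y.StronglyClosed H := hXinv.2.1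
  have hHS : H ≤ S := hH.1
  have hXY : X.IsSubsystemOf Y := hXinv.1
  have hbase : ∀ Q, (opBase X p).Hom Q ⊆ (Cfsg.Agent.Lib.Helper89.fullSubsystem M H hHS).Hom Q := by
    apply opBase_le_of X p
    intro Q hQ
    rw [Cfsg.Agent.Lib.Helper89.autGroup_fullSubsystem _ H hHS hQ.1, Subgroup.map_le_iff_le_comap]
    unfold pElemGen
    rw [Subgroup.closure_le]
    rintro a ⟨k, hk⟩
    rw [SetLike.mem_coe, Subgroup.mem_comap]
    have h1 : ((a : X.autGroup Q) : MulAut Q) ^ p ^ k = 1 := by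
      have : a ^ p ^ k = 1 := by rw [← hk]; exact pow_orderOf_eq_one a
      exact congrArg Subtype.val this
    exact mem_autGroup_of_pow_eq_one hidx (hQ.1.trans hHS)
      (autGroup_le_autGroup_of_isSubsystemOf X Y hXY Q a.2) h1
  have hbaseM : ∀ Q, (opBase X p).Hom Q ⊆ M.Hom Q := fun Q φ hφ =>
    ((Cfsg.Agent.Lib.Helper89.mem_fullSubsystem_iff M H hHS φ).mp (hbase Q hφ)).1
  rintro P φ ⟨α, hα, φ₀, hφ₀, hφx⟩
  have hαM : H.subtype.comp (α : H ≃* H).toMonoidHom ∈ M.Hom H := by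
    have hle : opAut X p ≤ (Cfsg.Agent.Lib.Helper89.fullSubsystem M H hHS).autGroup H := by
      rw [opAut, Subgroup.closure_le]
      rintro γ ⟨hγ, R, hRc, φ₁, hφ₁, hφ₁x⟩
      rw [SetLike.mem_coe, mem_autGroup_iff _ le_rfl, Cfsg.Agent.Lib.Helper89.mem_fullSubsystem_iff]
      refine ⟨?_, le_rfl, fun x => (γ x).2⟩
      exact aut_mem_of_restrict_mem_hCen p hS Y M hM hidx.1
        (fun Q hQ a ha k hk => mem_autGroup_of_pow_eq_one hidx hQ ha hk) hH
        (autGroup_le_autGroup_of_isSubsystemOf X Y hXY H hγ) _ R rfl hRc.1 (hCen_of_isCentric hXinv hRc)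
        ⟨φ₁, hbaseM R hφ₁, hφ₁x⟩
    have := (mem_autGroup_iff _ le_rfl).mp (hle hα)
    exact ((Cfsg.Agent.Lib.Helper89.mem_fullSubsystem_iff M H hHS _).mp this).1
  have hφ₀H : ∀ x : P, φ₀ x ∈ H := ((opBase X p).le_of_mem hφ₀).2
  exact comp_mem' M (hbaseM P hφ₀) hαM hφ₀H (fun x => hφx x (hφ₀H x))

/-- The `p'`-residual of `X` in explicit form. -/
theorem isPPrimeResidual_opRes [Finite S] (p : ℕ) [Fact p.Prime] (hS : IsPGroup p S) (F : FusionSystem S)
    (hF : F.IsSaturated p) : F.IsPPrimeResidual p (opRes F p) := by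
  obtain ⟨hsat, hidx⟩ := opRes_saturated p hS F hF
  exact ⟨hsat, hidx, fun D hD hDi => opRes_le_of p hS F hF D hD hDi⟩

/-- Monotonicity of the `p'`-residual, in predicate form. -/
theorem pPrimeResidual_le_of_invariant [Finite S] (p : ℕ) [Fact p.Prime] (hS : IsPGroup p S)
    (Y M : FusionSystem S) (hM : Y.IsPPrimeResidual p M)
    {H : Subgroup Ω} (X : FusionSystem H) (hX : X.IsSaturated p) (hXinv : X.IsInvariantIn Y)
    (X' : FusionSystem H) (hX' : X.IsPPrimeResidual p X') : X'.IsSubsystemOf M := by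
  have hHS : H ≤ S := hXinv.2.1.1
  haveI : Finite H := finite_of_le hHS
  have hHp : IsPGroup p H := hS.to_le hHS
  have h1 : X'.IsSubsystemOf (opRes X p) := by
    have hs := opRes_saturated p hHp X hX
    exact hX'.2.2 _ hs.1 hs.2
  have h2 := opRes_le_of_pPrimeIndex_of_invariant p hS Y M hM.1 hM.2.1 X hXinv
  exact fun P φ hφ => h2 P (h1 P hφ)

end Cfsg.Agent.Lib.Helper88
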