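import Cfsg.Agent.Lib.Helper88.FusionRD2

set_option autoImplicit false
open Cfsg

namespace Cfsg.Agent.Lib.Helper88

open Cfsg.FusionSystem Cfsg.Agent.Lib.Helper87
open Cfsg.Agent.Lib.Helper90 (autMap mem_autMap autMap_le apply_mem_autMap range_eq_of_forall_mem)
open Cfsg.Agent.Lib.Helper91 (isCentric_of_isConj isCentric_self)

variable {Ω : Type*} [Group Ω] {S T : Subgroup Ω}

theorem le_of_isSubsystemOf {X' : FusionSystem T} {X : FusionSystem S} (h : X'.IsSubsystemOf X) : T ≤ S :=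
  hom_le X (h T (subtype_mem X' le_rfl))

/-- `O^p(Aut_{X'}(P)) ≤ O^p(Aut_X(P))` for a subsystem `X'` of `X`. -/
theorem pResidual_autGroup_mono (p : ℕ) {X' : FusionSystem T} {X : FusionSystem S} (h : X'.IsSubsystemOf X)
    (P : Subgroup Ω) :
    (pResidual p (X'.autGroup P)).map (X'.autGroup P).subtype ≤ (pResidual p (X.autGroup P)).map (X.autGroup P).subtype :=
  Cfsg.Agent.Lib.Helper54.map_pResidual_subtype_mono p (autGroup_le_autGroup_of_isSubsystemOf X' X h P)

/-- Monotonicity of the hyperfocal subgroup. -/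
theorem hyperfocal_le_of_isSubsystemOf (p : ℕ) {X' : FusionSystem T} {X : FusionSystem S} (h : X'.IsSubsystemOf X) :
    X'.hyperfocalSubgroup p ≤ X.hyperfocalSubgroup p := by
  have hTS : T ≤ S := le_of_isSubsystemOf h
  unfold FusionSystem.hyperfocalSubgroup
  rw [Subgroup.closure_le]
  rintro y ⟨P, α, x, hPT, hα, rfl⟩
  have h1 : (α : MulAut P) ∈ (pResidual p (X.autGroup P)).map (X.autGroup P).subtype :=
    pResidual_autGroup_mono p h P ⟨α, hα, rfl⟩
  obtain ⟨β, hβ, hβα⟩ := h1
  apply Subgroup.subset_closure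
  refine ⟨P, β, x, hPT.trans hTS, hβ, ?_⟩
  have : (β : MulAut P) = (α : MulAut P) := hβα
  rw [this]

/-- Monotonicity of the `p`-residual. -/
theorem pResidual_le_of_isSubsystemOf [Finite S] (p : ℕ) [Fact p.Prime] (hS : IsPGroup p S)
    {X' : FusionSystem T} {X : FusionSystem S} (h : X'.IsSubsystemOf X)
    (A : FusionSystem (X'.hyperfocalSubgroup p)) (hA : X'.IsPResidual p A)
    (B : FusionSystem (X.hyperfocalSubgroup p)) (hB : X.IsPResidual p B) : A.IsSubsystemOf B := by
  have hTS : T ≤ S := le_of_isSubsystemOf h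
  have hle : X'.hyperfocalSubgroup p ≤ X.hyperfocalSubgroup p := hyperfocal_le_of_isSubsystemOf p h
  have hAX' : A.IsSubsystemOf X' := hA.2.1
  have hH'T : X'.hyperfocalSubgroup p ≤ T := le_of_isSubsystemOf hAX'
  haveI : Finite (X'.hyperfocalSubgroup p) := finite_of_le (hH'T.trans hTS)
  have hH'p : IsPGroup p (X'.hyperfocalSubgroup p) := hS.to_le (hH'T.trans hTS)
  have key := le_of_saturated_of_pResidual_le p hH'p X' A
    (Cfsg.Agent.Lib.Helper89.fullSubsystem B (X'.hyperfocalSubgroup p) hle) hA.1 hAX' (by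
    intro P hP
    rw [Cfsg.Agent.Lib.Helper89.autGroup_fullSubsystem _ _ hle hP]
    exact (pResidual_autGroup_mono p h P).trans (hB.2.2.2 P (hP.trans hle)))
  intro P φ hφ
  exact ((Cfsg.Agent.Lib.Helper89.mem_fullSubsystem_iff B _ hle φ).mp (key P hφ)).1

end Cfsg.Agent.Lib.Helper88
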