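import Cfsg.Agent.Lib.Helper88.FusionRD3

set_option autoImplicit false
open Cfsg

namespace Cfsg.Agent.Lib.Helper88

open Cfsg.FusionSystem Cfsg.Agent.Lib.Helper87
open Cfsg.Agent.Lib.Helper90 (autMap mem_autMap autMap_le apply_mem_autMap range_eq_of_forall_mem)
open Cfsg.Agent.Lib.Helper91 (isCentric_of_isConj isCentric_self)

variable {Ω : Type*} [Group Ω] {S T : Subgroup Ω}

/-- Transport of `O^p(Aut_X(P))` along an isomorphism of `F`, for `X` strongly invariant in `F`. -/
theorem congr_mem_pResidual_of_strongInv (p : ℕ) (X : FusionSystem T) (F : FusionSystem S) (hSI : StrongInv X F)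
    {P Q : Subgroup Ω} (hPT : P ≤ T) (hQT : Q ≤ T) {e : P ≃* Q} (he : IsFIso F e)
    {n : MulAut P} (hn : n ∈ (pResidual p (X.autGroup P)).map (X.autGroup P).subtype) :
    MulAut.congr e n ∈ (pResidual p (X.autGroup Q)).map (X.autGroup Q).subtype := by
  obtain ⟨m, hm, rfl⟩ := hn
  set f : X.autGroup P →* X.autGroup Q :=
    MonoidHom.codRestrict ((MulAut.congr e).toMonoidHom.comp (X.autGroup P).subtype) (X.autGroup Q)
      (fun a => congr_mem_autGroup_of_strongInv X F hSI hPT hQT he a.2) with hf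
  have h2 : f m ∈ pResidual p (X.autGroup Q) := pResidual_map_le p f ⟨m, hm, rfl⟩
  exact ⟨f m, h2, rfl⟩

/-- A general form of `pResidual_le_autGroup_conjCore`: a family of subgroups `G P ≤ Aut_E(P)`, for the subgroups `P`
with a property `C`, which is carried to itself by the transports under a group `A` of automorphisms of `T` lies in the
automorphism groups of the core of `E` with respect to `A`. -/
theorem le_autGroup_conjCore_of_transport (E : FusionSystem T) (A : Subgroup (MulAut T)) (C : Subgroup Ω → Prop)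
    (G : ∀ P : Subgroup Ω, Subgroup (MulAut P))
    (hall : ∀ P : Subgroup Ω, P ≤ T → C P → G P ≤ E.autGroup P)
    (htr : ∀ α ∈ A, ∀ (P : Subgroup Ω) (hPT : P ≤ T), C P → C (autMap α P) ∧ ∀ n ∈ G P, ∀ a : P ≃* autMap α P,
      (∀ x : P, ((a x : autMap α P) : Ω) = ((α ⟨x, hPT x.2⟩ : T) : Ω)) → MulAut.congr a n ∈ G (autMap α P))
    (hex : ∀ α ∈ A, ∀ P : Subgroup Ω, ∀ hPT : P ≤ T, ∃ a : P ≃* autMap α P,
      ∀ x : P, ((a x : autMap α P) : Ω) = ((α ⟨x, hPT x.2⟩ : T) : Ω))
    {P : Subgroup Ω} (hPT : P ≤ T) (hC : C P) : G P ≤ (conjCore E A).autGroup P := by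
  intro n hn
  rw [mem_autGroup_iff (conjCore E A) hPT]
  refine ⟨(mem_autGroup_iff E hPT).mp (hall P hPT hC hn), fun α hα => ?_⟩
  obtain ⟨a, hax⟩ := hex α hα P hPT
  obtain ⟨hC', htr'⟩ := htr α hα P hPT hC
  have h2 := hall _ (autMap_le α P) hC' (htr' n hn a hax)
  have h3 := (mem_autGroup_iff E (autMap_le α P)).mp h2
  refine ⟨_, h3, fun x hx hφx hαx => ?_⟩
  show (((MulAut.congr a n) ⟨α ⟨x, hx⟩, hαx⟩ : autMap α P) : Ω) = _
  have e1 : (⟨α ⟨x, hx⟩, hαx⟩ : autMap α P) = a x := Subtype.ext (hax x).symm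
  rw [e1]
  show ((a (n (a.symm (a x))) : autMap α P) : Ω) = _
  rw [MulEquiv.symm_apply_apply, hax]
  rfl

/-- The hyperfocal subgroup of a strongly invariant subsystem `X` over `T` is invariant under `Aut_F(T)`. -/
theorem hyperfocal_aut_mem_of_strongInv (p : ℕ) (X : FusionSystem T) (F : FusionSystem S) (hTS : T ≤ S)
    (hSI : StrongInv X F) {β : MulAut T} (hβ : β ∈ F.autGroup T) :
    ∀ y ∈ X.hyperfocalSubgroup p, ∀ hyT : y ∈ T, ((β ⟨y, hyT⟩ : T) : Ω) ∈ X.hyperfocalSubgroup p := by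
  have hHT : X.hyperfocalSubgroup p ≤ T := hyperfocalSubgroup_le X p
  intro y hy
  have hyK := hy
  unfold FusionSystem.hyperfocalSubgroup at hy
  induction hy using Subgroup.closure_induction with
  | mem y hy =>
    intro hyT
    obtain ⟨P, α, x, hP, hα, rfl⟩ := hy
    obtain ⟨e, heF, hex⟩ := exists_autMap_equiv' F hTS hβ hP
    have hQT : autMap β P ≤ T := autMap_le β P
    have h1 : MulAut.congr e (α : MulAut P) ∈
        (pResidual p (X.autGroup (autMap β P))).map (X.autGroup (autMap β P)).subtype :=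
      congr_mem_pResidual_of_strongInv p X F hSI hP hQT heF ⟨α, hα, rfl⟩
    obtain ⟨α', hα', hαα'⟩ := h1
    apply Subgroup.subset_closure
    refine ⟨autMap β P, α', e x, hQT, hα', ?_⟩
    have h2 : ((α' : MulAut (autMap β P))) = MulAut.congr e (α : MulAut P) := hαα'
    rw [h2]
    have h3 : (MulAut.congr e (α : MulAut P)) (e x) = e ((α : MulAut P) x) := by
      show e ((α : MulAut P) (e.symm (e x))) = _
      rw [MulEquiv.symm_apply_apply]
    rw [h3, hex, hex]
    have e1 : (⟨(x : Ω)⁻¹ * (((α : MulAut P) x : P) : Ω), hyT⟩ : T) =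
        (⟨(x : Ω), hP x.2⟩ : T)⁻¹ * ⟨(((α : MulAut P) x : P) : Ω), hP ((α : MulAut P) x).2⟩ := rfl
    rw [e1, map_mul, map_inv]
    rfl
  | one =>
    intro hyT
    have : (⟨1, hyT⟩ : T) = 1 := rfl
    rw [this, map_one]
    exact Subgroup.one_mem _
  | mul a b ha hb iha ihb =>
    intro hyT
    have haK : a ∈ X.hyperfocalSubgroup p := ha
    have hbK : b ∈ X.hyperfocalSubgroup p := hb
    have haT := hHT haK
    have hbT := hHT hbK
    have : (⟨a * b, hyT⟩ : T) = ⟨a, haT⟩ * ⟨b, hbT⟩ := rfl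
    rw [this, map_mul]
    exact Subgroup.mul_mem _ (iha haK haT) (ihb hbK hbT)
  | inv a ha iha =>
    intro hyT
    have haK : a ∈ X.hyperfocalSubgroup p := ha
    have haT := hHT haK
    have : (⟨a⁻¹, hyT⟩ : T) = (⟨a, haT⟩ : T)⁻¹ := rfl
    rw [this, map_inv]
    exact Subgroup.inv_mem _ (iha haK haT)

/-- The hyperfocal subgroup of a saturated subsystem `X` invariant in `F` is strongly closed in `F`. -/
theorem stronglyClosed_hyperfocal_of_invariant [Finite S] (p : ℕ) [Fact p.Prime] (hS : IsPGroup p S)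
    (F : FusionSystem S) (X : FusionSystem T) (hX : X.IsSaturated p) (hXinv : X.IsInvariantIn F) :
    F.StronglyClosed (X.hyperfocalSubgroup p) := by
  have hTS : T ≤ S := hXinv.2.1.1
  haveI : Finite T := finite_of_le hTS
  have hTp : IsPGroup p T := hS.to_le hTS
  have hHT := hyperfocalSubgroup_le X p
  have hHX := stronglyClosed_hyperfocalSubgroup p hTp X hX
  have hSI := strongInv_of_isInvariantIn hXinv
  refine ⟨hHT.trans hTS, fun R hR φ hφ x => ?_⟩
  obtain ⟨β, hβ, φ₀, hφ₀, hφx⟩ := hXinv.2.2.2 R (hR.trans hHT) φ hφ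
  have h1 : φ₀ x ∈ X.hyperfocalSubgroup p := hHX.2 R hR φ₀ hφ₀ x
  rw [hφx x (hHT h1)]
  exact hyperfocal_aut_mem_of_strongInv p X F hTS hSI hβ _ h1 _

end Cfsg.Agent.Lib.Helper88
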