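import Cfsg.Agent.Lib.Helper88.FusionRD4

set_option autoImplicit false
open Cfsg

namespace Cfsg.Agent.Lib.Helper88

open Cfsg.FusionSystem Cfsg.Agent.Lib.Helper87
open Cfsg.Agent.Lib.Helper90 (autMap mem_autMap autMap_le apply_mem_autMap range_eq_of_forall_mem)
open Cfsg.Agent.Lib.Helper91 (isCentric_of_isConj isCentric_self)

variable {Ω : Type*} [Group Ω] {S T : Subgroup Ω}

/-- Restriction of an automorphism in the system to a strongly closed subgroup. -/
theorem exists_restrict_autGroup [Finite S] (F : FusionSystem S) {H U : Subgroup Ω} (hH : F.StronglyClosed H)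
    (hHU : H ≤ U) (hUS : U ≤ S) {β : MulAut U} (hβ : β ∈ F.autGroup U) :
    ∃ α ∈ F.autGroup H, ∀ x : H, ((α x : H) : Ω) = ((β ⟨x, hHU x.2⟩ : U) : Ω) := by
  have hφ : (U.subtype.comp (β : U ≃* U).toMonoidHom).comp (Subgroup.inclusion hHU) ∈ F.Hom H :=
    restrict_mem F hHU (autGroup_hom_mem F hUS hβ)
  have hr := range_eq_of_forall_mem F hφ (fun x => hH.2 H le_rfl _ hφ x)
  exact ⟨homEquiv F hφ hr, homEquiv_mem_autGroup F hφ hr, fun x => homEquiv_apply F hφ hr x⟩

/-- An equivalence given by the restriction of an automorphism in the system is an isomorphism of the system. -/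
theorem isFIso_of_autMap_eq (F : FusionSystem S) {U : Subgroup Ω} (hUS : U ≤ S) {α : MulAut U}
    (hα : α ∈ F.autGroup U) {P : Subgroup Ω} (hPU : P ≤ U) (a : P ≃* autMap α P)
    (hax : ∀ x : P, ((a x : autMap α P) : Ω) = ((α ⟨x, hPU x.2⟩ : U) : Ω)) : IsFIso F a := by
  have hφ : (U.subtype.comp (α : U ≃* U).toMonoidHom).comp (Subgroup.inclusion hPU) ∈ F.Hom P :=
    restrict_mem F hPU (autGroup_hom_mem F hUS hα)
  exact hom_congr F hφ (fun x => hax x)

/-- The `p`-residual subsystem of a saturated subsystem invariant in `F` is invariant in `F`. -/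
theorem isInvariantIn_pResidual [Finite S] (p : ℕ) [Fact p.Prime] (hS : IsPGroup p S) (F : FusionSystem S)
    (X : FusionSystem T) (hX : X.IsSaturated p) (hXinv : X.IsInvariantIn F)
    (D : FusionSystem (X.hyperfocalSubgroup p)) (hD : X.IsPResidual p D) : D.IsInvariantIn F := by
  have hTS : T ≤ S := hXinv.2.1.1
  haveI : Finite T := finite_of_le hTS
  have hTp : IsPGroup p T := hS.to_le hTS
  have hHT : X.hyperfocalSubgroup p ≤ T := hyperfocalSubgroup_le X p
  have hHS : X.hyperfocalSubgroup p ≤ S := hHT.trans hTS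
  haveI : Finite (X.hyperfocalSubgroup p) := finite_of_le hHS
  have hHp : IsPGroup p (X.hyperfocalSubgroup p) := hS.to_le hHS
  have hHX : X.StronglyClosed (X.hyperfocalSubgroup p) := stronglyClosed_hyperfocalSubgroup p hTp X hX
  have hHF : F.StronglyClosed (X.hyperfocalSubgroup p) :=
    stronglyClosed_hyperfocal_of_invariant p hS F X hX hXinv
  have hSI : StrongInv X F := strongInv_of_isInvariantIn hXinv
  have hDX : D.IsSubsystemOf X := hD.2.1
  have hall := hD.2.2.2
  -- invariance under `Aut_F(H)`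
  have hAI : AutInvariant D F := by
    apply autInvariant_of_le_conjCore
    apply le_of_saturated_of_pResidual_le p hHp X D (conjCore D (F.autGroup (X.hyperfocalSubgroup p))) hD.1 hDX
    intro P hP
    apply le_autGroup_conjCore_of_transport D (F.autGroup (X.hyperfocalSubgroup p)) (fun _ => True)
      (fun P => (pResidual p (X.autGroup P)).map (X.autGroup P).subtype) (fun P hP _ => hall P hP) _ _ hP trivial
    · intro α hα P hPH _
      refine ⟨trivial, fun n hn a hax => ?_⟩
      exact congr_mem_pResidual_of_strongInv p X F hSI (hPH.trans hHT) ((autMap_le α P).trans hHT)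
        (isFIso_of_autMap_eq F hHS hα hPH a hax) hn
    · intro α hα P hPH
      obtain ⟨a, -, hax⟩ := exists_autMap_equiv' F hHS hα hPH
      exact ⟨a, hax⟩
  refine ⟨fun P φ h => hXinv.1 P (hDX P h), hHF, forall_of_autInvariant D F hAI, ?_⟩
  -- the Frattini condition
  intro P hP φ hφ
  obtain ⟨β, hβ, φ₀, hφ₀, hφx⟩ := hXinv.2.2.2 P (hP.trans hHT) φ hφ
  have hinvDX : AutInvariant D X := autInvariant_of_pPowerIndex p hTp X hHT D hD.1 hDX hall
  obtain ⟨γ₀, hγ₀, φ₁, hφ₁, hφ₀x⟩ := frattini_of_pPowerIndex p hTp X hX hHX D hDX hall hinvDX P hP φ₀ hφ₀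
  obtain ⟨αβ, hαβ, hαβx⟩ := exists_restrict_autGroup F hHF hHT hTS hβ
  have hγ₀F : γ₀ ∈ F.autGroup (X.hyperfocalSubgroup p) :=
    autGroup_le_autGroup_of_isSubsystemOf X F hXinv.1 _ hγ₀
  refine ⟨αβ * γ₀, Subgroup.mul_mem _ hαβ hγ₀F, φ₁, hφ₁, fun x hx => ?_⟩
  have hφ₀T : φ₀ x ∈ T := (X.le_of_mem hφ₀).2 x
  rw [hφx x hφ₀T, MulAut.mul_apply, hαβx]
  congr 2
  apply Subtype.ext
  exact hφ₀x x hx

end Cfsg.Agent.Lib.Helper88
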