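import Cfsg.Agent.Lib.Helper88.FusionRD7

set_option autoImplicit false
open Cfsg

namespace Cfsg.Agent.Lib.Helper88

open Cfsg.FusionSystem Cfsg.Agent.Lib.Helper87
open Cfsg.Agent.Lib.Helper90 (autMap mem_autMap autMap_le apply_mem_autMap range_eq_of_forall_mem)
open Cfsg.Agent.Lib.Helper91 (isCentric_of_isConj isCentric_self)

variable {Ω : Type*} [Group Ω] {S : Subgroup Ω}

/-- Monotonicity of the double residual `O^{p'}(O^p(-))` on saturated subsystems invariant in `F`. -/
theorem residual_le_of_invariant [Finite S] (p : ℕ) [Fact p.Prime] (hS : IsPGroup p S) (F : FusionSystem S)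
    {U V : Subgroup Ω} (X : FusionSystem U) (Y : FusionSystem V) (hX : X.IsSaturated p) (hY : Y.IsSaturated p)
    (hXinv : X.IsInvariantIn F) (hYinv : Y.IsInvariantIn F) (hXY : X.IsSubsystemOf Y)
    (DX DX' : FusionSystem (X.hyperfocalSubgroup p)) (hDX : X.IsPResidual p DX) (hDX' : DX.IsPPrimeResidual p DX')
    (DY DY' : FusionSystem (Y.hyperfocalSubgroup p)) (hDY : Y.IsPResidual p DY) (hDY' : DY.IsPPrimeResidual p DY') :
    DX'.IsSubsystemOf DY' := by
  have hVS : V ≤ S := hYinv.2.1.1
  haveI : Finite V := finite_of_le hVS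
  have hVp : IsPGroup p V := hS.to_le hVS
  have hHV := hyperfocalSubgroup_le Y p
  haveI : Finite (Y.hyperfocalSubgroup p) := finite_of_le (hHV.trans hVS)
  have hHp : IsPGroup p (Y.hyperfocalSubgroup p) := hS.to_le (hHV.trans hVS)
  have h1 : DX.IsSubsystemOf DY := pResidual_le_of_isSubsystemOf p hVp hXY DX hDX DY hDY
  have hDXinv : DX.IsInvariantIn F := isInvariantIn_pResidual p hS F X hX hXinv DX hDX
  have hDYinv : DY.IsInvariantIn F := isInvariantIn_pResidual p hS F Y hY hYinv DY hDY
  have h2 : DX.IsInvariantIn DY := isInvariantIn_of_le p hS F DX DY hDXinv hDY.1 hDYinv.1 h1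
  exact pPrimeResidual_le_of_invariant p hHp DY DY' hDY' DX hDX.1 h2 DX' hDX'

/-- The double residual of a saturated subsystem invariant in `F` is invariant in `F`. -/
theorem isInvariantIn_residual [Finite S] (p : ℕ) [Fact p.Prime] (hS : IsPGroup p S) (F : FusionSystem S)
    {U : Subgroup Ω} (X : FusionSystem U) (hX : X.IsSaturated p) (hXinv : X.IsInvariantIn F)
    (DX DX' : FusionSystem (X.hyperfocalSubgroup p)) (hDX : X.IsPResidual p DX) (hDX' : DX.IsPPrimeResidual p DX') :
    DX'.IsInvariantIn F :=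
  isInvariantIn_pPrimeResidual p hS F DX hDX.1 (isInvariantIn_pResidual p hS F X hX hXinv DX hDX) DX' hDX'

/-- The hypotheses on a pair `X ≤ Y` of saturated subsystems invariant in `F`, with the double residual of `Y` inside
`X`. -/
structure PairHyp (p : ℕ) (F : FusionSystem S) {U V : Subgroup Ω} (X : FusionSystem U) (Y : FusionSystem V) :
    Prop where
  satX : X.IsSaturated p
  satY : Y.IsSaturated p
  invX : X.IsInvariantIn F
  invY : Y.IsInvariantIn F
  le : X.IsSubsystemOf Y
  res : ∀ (D D' : FusionSystem (Y.hyperfocalSubgroup p)), Y.IsPResidual p D → D.IsPPrimeResidual p D' →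
    D'.IsSubsystemOf X

/-- Interleaving: if `R(Y) ≤ X ≤ Y` then `X` and `Y` have the same residual limit. -/
theorem limit_sim_of_pairHyp {V Tinf : Subgroup Ω} {Y : FusionSystem V} {Finf : FusionSystem Tinf} {p : ℕ}
    (hlim : IsResidualLimitOf Finf Y p) :
    ∀ [Fact p.Prime] {S : Subgroup Ω} [Finite S], IsPGroup p S → ∀ (F : FusionSystem S)
      {U : Subgroup Ω} (X : FusionSystem U), PairHyp p F X Y →
      ∀ {W : Subgroup Ω} (L : FusionSystem W), IsResidualLimitOf L X p → Sim L Finf := by
  induction hlim with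
  | stable Y p h1 h2 =>
    intro _ S _ hS F U X hp W L hL
    have hVS := hp.invY.2.1.1
    haveI := finite_of_le hVS
    have hVp : IsPGroup p _ := hS.to_le hVS
    have hUS := hp.invX.2.1.1
    haveI := finite_of_le hUS
    have hUp : IsPGroup p U := hS.to_le hUS
    obtain ⟨D, hD⟩ := exists_isPResidual p hVp Y hp.satY
    have hHV := hyperfocalSubgroup_le Y p
    haveI := finite_of_le (hHV.trans hVS)
    obtain ⟨D', hD'⟩ := exists_isPPrimeResidual p (hS.to_le (hHV.trans hVS)) D hD.1
    have hD'Y : Sim D' Y := sim_residual_of_stable p hVp Y ⟨h1, h2⟩ D D' hD hD'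
    have hD'X := hp.res D D' hD hD'
    have hXY : Sim X Y := by
      refine ⟨le_antisymm (le_of_isSubsystemOf hp.le) ?_, fun P => Set.Subset.antisymm (hp.le P) ?_⟩
      · rw [← h1]
        exact le_of_isSubsystemOf hD'X
      · rw [← hD'Y.2 P]
        exact hD'X P
    exact sim_limit_of_sim hL hUp Y Y hXY (IsResidualLimitOf.stable Y p h1 h2)
  | step Y p D D' hD hD' hlim ih =>
    intro _ S _ hS F U X hp W L hL
    have hVS := hp.invY.2.1.1
    haveI := finite_of_le hVS
    have hVp : IsPGroup p _ := hS.to_le hVS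
    have hUS := hp.invX.2.1.1
    haveI := finite_of_le hUS
    have hUp : IsPGroup p U := hS.to_le hUS
    have hHV := hyperfocalSubgroup_le Y p
    haveI := finite_of_le (hHV.trans hVS)
    have hHp : IsPGroup p (Y.hyperfocalSubgroup p) := hS.to_le (hHV.trans hVS)
    have hHU := hyperfocalSubgroup_le X p
    haveI := finite_of_le (hHU.trans hUS)
    have hHUp : IsPGroup p (X.hyperfocalSubgroup p) := hS.to_le (hHU.trans hUS)
    have hD'X := hp.res D D' hD hD'
    have hD'inv : D'.IsInvariantIn F := isInvariantIn_residual p hS F Y hp.satY hp.invY D D' hD hD'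
    cases hL with
    | stable _ _ g1 g2 =>
      -- `X` is stable, hence equal to its double residual, which lies in `D'`
      obtain ⟨DX, hDX⟩ := exists_isPResidual p hUp X hp.satX
      obtain ⟨DX', hDX'⟩ := exists_isPPrimeResidual p hHUp DX hDX.1
      have hDX'X : Sim DX' X := sim_residual_of_stable p hUp X ⟨g1, g2⟩ DX DX' hDX hDX'
      have hle : DX'.IsSubsystemOf D' :=
        residual_le_of_invariant p hS F X Y hp.satX hp.satY hp.invX hp.invY hp.le DX DX' hDX hDX' D D' hD hD'
      have hD'Xs : Sim D' X := by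
        refine ⟨le_antisymm (le_of_isSubsystemOf hD'X) ?_, fun P => Set.Subset.antisymm (hD'X P) ?_⟩
        · have := le_of_isSubsystemOf hle
          rw [g1] at this
          exact this
        · rw [← hDX'X.2 P]
          exact hle P
      exact (sim_limit_of_sim hlim hHp X X hD'Xs (IsResidualLimitOf.stable X p g1 g2)).symm
    | step _ _ DX DX' hDX hDX' hlimX =>
      apply ih hS F DX' _ L hlimX
      refine ⟨hDX'.1, hD'.1, isInvariantIn_residual p hS F X hp.satX hp.invX DX DX' hDX hDX', hD'inv,
        residual_le_of_invariant p hS F X Y hp.satX hp.satY hp.invX hp.invY hp.le DX DX' hDX hDX' D D' hD hD',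
        fun E E' hE hE' => ?_⟩
      exact residual_le_of_invariant p hS F D' X hD'.1 hp.satX hD'inv hp.invX hD'X E E' hE hE' DX DX' hDX hDX'

end Cfsg.Agent.Lib.Helper88
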