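import Cfsg.Agent.Lib.Helper88.FusionSolv4
import Cfsg.Agent.Lib.Helper90.FusionInvariant

set_option autoImplicit false
open Cfsg

namespace Cfsg.Agent.Lib.Helper88

open Cfsg.FusionSystem Cfsg.Agent.Lib.Helper87
open Cfsg.Agent.Lib.Helper90 (autMap mem_autMap autMap_le apply_mem_autMap)
open scoped commutatorElement

variable {Ω : Type*} [Group Ω] {S T : Subgroup Ω}

/-- The smallest strongly closed subgroup containing `X`. -/
def scl (E : FusionSystem T) (X : Subgroup Ω) : Subgroup Ω := sInf {R | E.StronglyClosed R ∧ X ≤ R}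

theorem le_scl (E : FusionSystem T) (X : Subgroup Ω) : X ≤ scl E X := le_sInf (fun _ hR => hR.2)

theorem scl_le {E : FusionSystem T} {X R : Subgroup Ω} (hR : E.StronglyClosed R) (hX : X ≤ R) : scl E X ≤ R :=
  sInf_le ⟨hR, hX⟩

theorem stronglyClosed_scl (E : FusionSystem T) {X A : Subgroup Ω} (hA : E.StronglyClosed A) (hXA : X ≤ A) :
    E.StronglyClosed (scl E X) := by
  refine ⟨(scl_le hA hXA).trans hA.1, fun P hP φ hφ x => ?_⟩
  rw [scl, Subgroup.mem_sInf]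
  intro R hR
  exact hR.1.2 P (hP.trans (sInf_le hR)) φ hφ x

theorem autMap_mono (α : MulAut T) {P Q : Subgroup Ω} (h : P ≤ Q) : autMap α P ≤ autMap α Q := by
  intro y hy
  obtain ⟨t, ht, rfl⟩ := (mem_autMap α P y).mp hy
  exact apply_mem_autMap α t (h ht)

/-- Elements of `Aut_F(T)` permute the subgroups strongly closed in an invariant subsystem over `T`. -/
theorem stronglyClosed_autMap {E : FusionSystem T} {F : FusionSystem S} (hinv : E.IsInvariantIn F)
    {R : Subgroup Ω} (hR : E.StronglyClosed R) {α : MulAut T} (hα : α ∈ F.autGroup T) :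
    E.StronglyClosed (autMap α R) := by
  refine ⟨autMap_le α R, fun P hP φ hφ x => ?_⟩
  have hPT : P ≤ T := hP.trans (autMap_le α R)
  have hα' : α⁻¹ ∈ F.autGroup T := Subgroup.inv_mem _ hα
  obtain ⟨χ, hχ, hχeq⟩ := Cfsg.Agent.Lib.Helper90.IsInvariantIn.exists_conj hinv hPT hφ hα'
  have hle : autMap α⁻¹ P ≤ R := by
    intro y hy
    obtain ⟨t, ht, rfl⟩ := (mem_autMap _ _ _).mp hy
    obtain ⟨r, hr, hrt⟩ := (mem_autMap _ _ _).mp (hP ht)
    have : α r = t := Subtype.ext hrt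
    rw [← this, MulAut.inv_apply_self]
    exact hr
  have h1 := hR.2 _ hle χ hχ ⟨α⁻¹ ⟨x, hPT x.2⟩, apply_mem_autMap α⁻¹ ⟨x, hPT x.2⟩ x.2⟩
  rw [hχeq ⟨x, hPT x.2⟩ x.2] at h1
  rw [mem_autMap]
  refine ⟨α⁻¹ ⟨φ x, hom_mem E hφ x⟩, h1, ?_⟩
  rw [MulAut.apply_inv_self]

/-- The strongly closed closure of a subgroup invariant under `Aut_F(T)` is invariant under `Aut_F(T)`. -/
theorem scl_invariant {E : FusionSystem T} {F : FusionSystem S} (hinv : E.IsInvariantIn F) {X A : Subgroup Ω}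
    (hA : E.StronglyClosed A) (hXA : X ≤ A) (hX : ∀ α ∈ F.autGroup T, X ≤ autMap α X) :
    ∀ α ∈ F.autGroup T, ∀ t : T, (t : Ω) ∈ scl E X → ((α t : T) : Ω) ∈ scl E X := by
  intro α hα t ht
  have hα' : α⁻¹ ∈ F.autGroup T := Subgroup.inv_mem _ hα
  have hsc := stronglyClosed_autMap hinv (stronglyClosed_scl E hA hXA) hα'
  have hle : scl E X ≤ autMap α⁻¹ (scl E X) :=
    scl_le hsc ((hX α⁻¹ hα').trans (autMap_mono α⁻¹ (le_scl E X)))
  obtain ⟨y, hy, hyt⟩ := (mem_autMap _ _ _).mp (hle ht)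
  have : α⁻¹ y = t := Subtype.ext hyt
  rw [← this, MulAut.apply_inv_self]
  exact hy

/-- A subgroup strongly closed in an invariant subsystem and invariant under `Aut_F(T)` is strongly closed in `F`. -/
theorem stronglyClosed_of_invariant {E : FusionSystem T} {F : FusionSystem S} (hinv : E.IsInvariantIn F)
    {Y : Subgroup Ω} (hY : E.StronglyClosed Y)
    (hYinv : ∀ α ∈ F.autGroup T, ∀ t : T, (t : Ω) ∈ Y → ((α t : T) : Ω) ∈ Y) : F.StronglyClosed Y := by
  refine ⟨hY.1.trans hinv.2.1.1, fun P hP φ hφ x => ?_⟩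
  obtain ⟨α, hα, φ₀, hφ₀, hx⟩ := Cfsg.Agent.Lib.Helper90.IsInvariantIn.frattini hinv (hP.trans hY.1) hφ
  rw [hx x]
  exact hYinv α hα _ (hY.2 P hP φ₀ hφ₀ x)

/-- A subgroup of `T` strongly closed in `F` is strongly closed in every subsystem over `T`. -/
theorem stronglyClosed_of_subsystem {E : FusionSystem T} {F : FusionSystem S} (hEF : E.IsSubsystemOf F)
    {A : Subgroup Ω} (hA : F.StronglyClosed A) (hAT : A ≤ T) : E.StronglyClosed A :=
  ⟨hAT, fun P hP φ hφ x => hA.2 P hP φ (hEF P hφ) x⟩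

/-- The commutator subgroup of a subgroup of `T` strongly closed in `F` is invariant under `Aut_F(T)`. -/
theorem commutator_le_autMap {F : FusionSystem S} (hTS : T ≤ S) {A : Subgroup Ω} (hA : F.StronglyClosed A)
    (hAT : A ≤ T) {α : MulAut T} (hα : α ∈ F.autGroup T) : ⁅A, A⁆ ≤ autMap α ⁅A, A⁆ := by
  have hα' : α⁻¹ ∈ F.autGroup T := Subgroup.inv_mem _ hα
  rw [Subgroup.commutator_le]
  intro a ha b hb
  have ha' := Cfsg.Agent.Lib.Helper90.StronglyClosed.aut_mem F hA hTS hα' ⟨a, hAT ha⟩ ha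
  have hb' := Cfsg.Agent.Lib.Helper90.StronglyClosed.aut_mem F hA hTS hα' ⟨b, hAT hb⟩ hb
  rw [mem_autMap]
  refine ⟨⁅α⁻¹ ⟨a, hAT ha⟩, α⁻¹ ⟨b, hAT hb⟩⁆, ?_, ?_⟩
  · have : ((⁅α⁻¹ ⟨a, hAT ha⟩, α⁻¹ ⟨b, hAT hb⟩⁆ : T) : Ω) =
        ⁅((α⁻¹ ⟨a, hAT ha⟩ : T) : Ω), ((α⁻¹ ⟨b, hAT hb⟩ : T) : Ω)⁆ := by
      simp [commutatorElement_def]
    rw [this]
    exact Subgroup.commutator_mem_commutator ha' hb'
  · rw [map_commutatorElement, MulAut.apply_inv_self, MulAut.apply_inv_self]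
    simp [commutatorElement_def]

/-- Key step: in a solvable subsystem `E` over `T` invariant in `F`, for a subgroup `R` strongly closed in `F` and not
containing `T` there is a subgroup strongly closed in `F`, not in `R`, abelian modulo `R`. -/
theorem exists_step_of_invariant_solvable [Finite S] {E : FusionSystem T} {F : FusionSystem S}
    (hinv : E.IsInvariantIn F)
    (hprev : ∀ A : Subgroup Ω, E.StronglyClosed A → A ≠ ⊥ →
      ∃ A' : Subgroup Ω, E.StronglyClosed A' ∧ A' ≤ A ∧ A' ≠ A ∧ ⁅A, A⁆ ≤ A')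
    {R : Subgroup Ω} (hTR : ¬ T ≤ R) :
    ∃ B : Subgroup Ω, F.StronglyClosed B ∧ ¬ B ≤ R ∧ ⁅B, B⁆ ≤ R := by
  classical
  have hTsc : F.StronglyClosed T := hinv.2.1
  have hTS : T ≤ S := hTsc.1
  have hex : ∃ k : ℕ, ∃ A : Subgroup Ω, F.StronglyClosed A ∧ A ≤ T ∧ ¬ A ≤ R ∧ Nat.card A = k :=
    ⟨_, T, hTsc, le_rfl, hTR, rfl⟩
  obtain ⟨A, hA, hAT, hAR, hcard⟩ := Nat.find_spec hex
  have hmin := fun j => Nat.find_min hex (m := j)
  refine ⟨A, hA, hAR, ?_⟩
  have hAE : E.StronglyClosed A := stronglyClosed_of_subsystem hinv.1 hA hAT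
  have hcA := commutator_self_le A
  have hYE : E.StronglyClosed (scl E ⁅A, A⁆) := stronglyClosed_scl E hAE hcA
  have hYA : scl E ⁅A, A⁆ ≤ A := scl_le hAE hcA
  have hYF : F.StronglyClosed (scl E ⁅A, A⁆) :=
    stronglyClosed_of_invariant hinv hYE
      (scl_invariant hinv hAE hcA (fun α hα => commutator_le_autMap hTS hA hAT hα))
  refine (le_scl E ⁅A, A⁆).trans ?_
  by_contra hYR
  have hfinA : Finite A := finite_of_le (hAT.trans hTS)
  have hcardle : Nat.card (scl E ⁅A, A⁆ : Subgroup Ω) ≤ Nat.card A := by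
    exact Nat.card_le_card_of_injective (Subgroup.inclusion hYA) (Subgroup.inclusion_injective hYA)
  have hge : ¬ Nat.card (scl E ⁅A, A⁆ : Subgroup Ω) < Nat.find hex := by
    intro hlt
    exact hmin _ hlt ⟨_, hYF, hYA.trans hAT, hYR, rfl⟩
  have heq : scl E ⁅A, A⁆ = A := by
    apply Subgroup.eq_of_le_of_card_ge hYA
    rw [hcard]
    exact not_lt.mp hge
  have hAne : A ≠ ⊥ := by
    intro h
    apply hAR
    rw [h]
    exact bot_le
  obtain ⟨A', hA', hA'A, hne, hcomm⟩ := hprev A hAE hAne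
  apply hne
  apply le_antisymm hA'A
  rw [← heq]
  exact scl_le hA' hcomm

end Cfsg.Agent.Lib.Helper88
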