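import Cfsg.Agent.Lib.Helper88.FusionHyp2
import Cfsg.Agent.Lib.Helper88.FusionSolv5
import Cfsg.Agent.Lib.Helper88.FusionPP1
import Cfsg.Agent.Lib.Helper87.PPowerIndex
import Cfsg.Agent.Lib.Helper90.FusionRadical

set_option autoImplicit false
open Cfsg

namespace Cfsg.Agent.Lib.Helper88

open Cfsg.FusionSystem Cfsg.Agent.Lib.Helper87
open Cfsg.Agent.Lib.Helper90 (autMap mem_autMap autMap_le apply_mem_autMap)

variable {Ω : Type*} [Group Ω] {S : Subgroup Ω}

/-- Two fusion systems over the same group with the same maps are equal. -/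
theorem fusionSystem_ext' {A B : FusionSystem S} (h : ∀ P : Subgroup Ω, A.Hom P = B.Hom P) : A = B := by
  cases A
  cases B
  simp only [FusionSystem.mk.injEq]
  funext P
  exact h P

/-- Two fusion systems, possibly over subgroups not yet known to be equal, are the same. -/
def Sim {U V : Subgroup Ω} (A : FusionSystem U) (B : FusionSystem V) : Prop :=
  U = V ∧ ∀ P : Subgroup Ω, A.Hom P = B.Hom P

theorem Sim.refl {U : Subgroup Ω} (A : FusionSystem U) : Sim A A := ⟨rfl, fun _ => rfl⟩

theorem Sim.symm {U V : Subgroup Ω} {A : FusionSystem U} {B : FusionSystem V} (h : Sim A B) : Sim B A :=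
  ⟨h.1.symm, fun P => (h.2 P).symm⟩

theorem Sim.trans {U V W : Subgroup Ω} {A : FusionSystem U} {B : FusionSystem V} {C : FusionSystem W}
    (h : Sim A B) (h' : Sim B C) : Sim A C :=
  ⟨h.1.trans h'.1, fun P => (h.2 P).trans (h'.2 P)⟩

/-- Transport of any property along `Sim`. -/
theorem Sim.transport {U V : Subgroup Ω} {A : FusionSystem U} {B : FusionSystem V} (h : Sim A B)
    (motive : ∀ W : Subgroup Ω, FusionSystem W → Prop) (hA : motive U A) : motive V B := by
  obtain ⟨rfl, h⟩ := h
  have : A = B := fusionSystem_ext' h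
  subst this
  exact hA

/-- An automorphism of `p'`-order stabilizing a normal series `G ≥ ? ≥ N` acts trivially modulo `N`,
elementwise version. -/
theorem comm_mem_of_stable {G : Type*} [Group G] (N : Subgroup G) [N.Normal] (α : MulAut G)
    (hαN : ∀ k ∈ N, α k ∈ N) (x : G) (hc : (x⁻¹ * α x)⁻¹ * α (x⁻¹ * α x) ∈ N) {n : ℕ} (hn : (α ^ n) x = x)
    {q : ℕ} (hq : (x⁻¹ * α x) ^ q = 1) (hcop : Nat.Coprime n q) : x⁻¹ * α x ∈ N := by
  set c := x⁻¹ * α x with hc_def
  have h0 : ∀ a b : G, (QuotientGroup.mk a : G ⧸ N) = QuotientGroup.mk b →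
      (QuotientGroup.mk (α a) : G ⧸ N) = QuotientGroup.mk (α b) := by
    intro a b hab
    rw [QuotientGroup.eq] at hab ⊢
    have := hαN _ hab
    rwa [map_mul, map_inv] at this
  have hc' : (QuotientGroup.mk (α c) : G ⧸ N) = QuotientGroup.mk c := by
    rw [eq_comm, QuotientGroup.eq]
    exact hc
  have h1 : ∀ j : ℕ, (QuotientGroup.mk ((α ^ j) c) : G ⧸ N) = QuotientGroup.mk c := by
    intro j
    induction j with
    | zero => rfl
    | succ j ih =>
      rw [pow_succ', MulAut.mul_apply]
      rw [h0 _ _ ih]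
      exact hc'
  have h2 : ∀ j : ℕ, (QuotientGroup.mk ((α ^ j) x) : G ⧸ N) = QuotientGroup.mk x * (QuotientGroup.mk c) ^ j := by
    intro j
    induction j with
    | zero => simp
    | succ j ih =>
      have e : α x = x * c := by rw [hc_def, mul_inv_cancel_left]
      rw [pow_succ, MulAut.mul_apply, e, map_mul, QuotientGroup.mk_mul, ih, h1 j, pow_succ, mul_assoc]
  have h3 : ((QuotientGroup.mk c : G ⧸ N)) ^ n = 1 := by
    have := h2 n
    rw [hn] at this
    exact (mul_eq_left.mp this.symm)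
  have h4 : c ^ n ∈ N := by
    rw [← QuotientGroup.eq_one_iff, QuotientGroup.mk_pow]
    exact h3
  -- Bezout
  have h5 : c ^ (n.gcd q) ∈ N := by
    have hb := Nat.gcd_eq_gcd_ab n q
    rw [← zpow_natCast, hb, zpow_add, zpow_mul, zpow_mul, zpow_natCast, zpow_natCast, hq, one_zpow, mul_one]
    exact Subgroup.zpow_mem _ h4 _
  rw [hcop, pow_one] at h5
  exact h5

/-- If `O^p(B) ≤ A ≤ B` then `O^p(A) = O^p(B)`. -/
theorem pResidual_map_eq_of_le {M : Type*} [Group M] (p : ℕ) {A B : Subgroup M} (hAB : A ≤ B)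
    (h : (pResidual p B).map B.subtype ≤ A) : (pResidual p A).map A.subtype = (pResidual p B).map B.subtype := by
  apply le_antisymm
  · have h1 := pResidual_map_le p (Subgroup.inclusion hAB)
    have h2 : A.subtype = B.subtype.comp (Subgroup.inclusion hAB) := rfl
    rw [h2, ← Subgroup.map_map]
    exact Subgroup.map_mono h1
  · rw [Subgroup.map_le_iff_le_comap]
    unfold pResidual
    rw [Subgroup.closure_le]
    intro b hb
    have hbA : (b : M) ∈ A := h ⟨b, Subgroup.subset_closure hb, rfl⟩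
    refine ⟨⟨(b : M), hbA⟩, Subgroup.subset_closure ?_, rfl⟩
    show Nat.Coprime (orderOf (⟨(b : M), hbA⟩ : A)) p
    have e1 : orderOf (⟨(b : M), hbA⟩ : A) = orderOf (b : M) := Subgroup.orderOf_mk _ _
    have e2 : orderOf b = orderOf (b : M) := (Subgroup.orderOf_coe b).symm
    rw [e1, ← e2]
    exact hb

end Cfsg.Agent.Lib.Helper88
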