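import Cfsg.Agent.Lib.Helper88.FusionRS2

set_option autoImplicit false
open Cfsg

namespace Cfsg.Agent.Lib.Helper88

open Cfsg.FusionSystem Cfsg.Agent.Lib.Helper87

variable {Ω : Type*} [Group Ω] {S : Subgroup Ω}

theorem isPGroup_zpowers_of_pow_eq_one {A : Type*} [Group A] {p b : ℕ} {g : A} (hg : g ^ (p ^ b) = 1) :
    IsPGroup p (Subgroup.zpowers g) := by
  rintro ⟨h, hh⟩
  obtain ⟨j, rfl⟩ := Subgroup.mem_zpowers_iff.mp hh
  refine ⟨b, Subtype.ext ?_⟩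
  show (g ^ j) ^ (p ^ b) = 1
  rw [← zpow_natCast, ← zpow_mul, mul_comm, zpow_mul, zpow_natCast, hg, one_zpow]

/-- The final step of the Roberts–Shpectorov argument. -/
theorem mem_autInducedBy_of_extension [Finite S] (p : ℕ) [Fact p.Prime] (F : FusionSystem S)
    {Q : Subgroup Ω} (hQ : F.IsFullyNormalized Q) (α₀ : MulAut Q) (γ : MulAut (normalizerIn S Q))
    (hγ : γ ∈ F.autGroup (normalizerIn S Q)) (b : ℕ) (hγp : γ ^ (p ^ b) = 1)
    (hres : ∀ x : Q, ((γ ⟨x, le_normalizerIn hQ.1 x.2⟩ : normalizerIn S Q) : Ω) = α₀ x)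
    {R₁ : Subgroup Ω} (hconj : F.IsConj (normalizerIn S Q) R₁) (hR₁ : F.IsFullyAutomized p R₁) :
    α₀ ∈ autInducedBy S Q := by
  have hQS : Q ≤ S := hQ.1
  obtain ⟨θ, hθ⟩ := exists_isFIso_of_isConj F hconj
  obtain ⟨hR₁S, Y, hY⟩ := hR₁
  have : Finite (F.autGroup R₁) := finite_autGroup F hR₁S
  set γ' := MulAut.congr θ γ with hγ'def
  have hγ' : γ' ∈ F.autGroup R₁ := (congr_mem_autGroup_iff F hθ γ).mpr hγ
  have hγ'p : γ' ^ (p ^ b) = 1 := by rw [hγ'def, ← map_pow, hγp, map_one]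
  set g' : F.autGroup R₁ := ⟨γ', hγ'⟩ with hg'
  have hg'p : g' ^ (p ^ b) = 1 := Subtype.ext (by simpa using hγ'p)
  obtain ⟨χ, hχ⟩ := exists_conj_le_sylow Y (isPGroup_zpowers_of_pow_eq_one hg'p)
  have h3 : χ * g' * χ⁻¹ ∈ (Y : Subgroup (F.autGroup R₁)) :=
    hχ ⟨g', Subgroup.mem_zpowers g', rfl⟩
  rw [hY, Subgroup.mem_subgroupOf] at h3
  obtain ⟨s, hsS, hs⟩ := mem_autInducedBy_iff.mp h3
  set θ' : normalizerIn S Q ≃* R₁ := θ.trans ((χ : MulAut R₁) : R₁ ≃* R₁) with hθ'def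
  have hθ' : IsFIso F θ' := IsFIso.trans F hθ ((isFIso_iff_mem_autGroup F hR₁S).mpr χ.2)
  have hkey : ∀ n : normalizerIn S Q, ((θ' (γ n) : R₁) : Ω) = s * (θ' n : R₁) * s⁻¹ := by
    intro n
    rw [← hs (θ' n)]
    congr 1
    show θ' (γ n) = ((χ : MulAut R₁) * γ' * (χ : MulAut R₁)⁻¹) (θ' n)
    simp [hθ'def, hγ'def, MulAut.congr, MulAut.mul_apply, MulAut.inv_apply]
  have hN : normalizerIn S Q ≤ S := normalizerIn_le S Q
  have hQN : Q ≤ normalizerIn S Q := le_normalizerIn hQS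
  -- the image of `Q`
  set Q' : Subgroup Ω := (Q.subgroupOf (normalizerIn S Q)).map (R₁.subtype.comp θ'.toMonoidHom) with hQ'def
  have hmemQ' : ∀ y, y ∈ Q' ↔ ∃ n : normalizerIn S Q, (n : Ω) ∈ Q ∧ ((θ' n : R₁) : Ω) = y := by
    intro y
    constructor
    · rintro ⟨n, hn, rfl⟩
      exact ⟨n, Subgroup.mem_subgroupOf.mp hn, rfl⟩
    · rintro ⟨n, hn, rfl⟩
      exact ⟨n, Subgroup.mem_subgroupOf.mpr hn, rfl⟩
  have hQ'R₁ : Q' ≤ R₁ := by
    intro y hy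
    obtain ⟨n, -, rfl⟩ := (hmemQ' y).mp hy
    exact (θ' n).2
  have hconjQ : F.IsConj Q Q' := by
    refine ⟨(R₁.subtype.comp θ'.toMonoidHom).comp (Subgroup.inclusion hQN), restrict_mem F hQN hθ', ?_⟩
    ext y
    rw [hmemQ']
    constructor
    · rintro ⟨q, rfl⟩
      exact ⟨Subgroup.inclusion hQN q, q.2, rfl⟩
    · rintro ⟨n, hn, rfl⟩
      exact ⟨⟨n, hn⟩, rfl⟩
  have hcard : Nat.card (normalizerIn S Q') ≤ Nat.card (normalizerIn S Q) := hQ.2 Q' hconjQ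
  have : Finite R₁ := finite_of_le hR₁S
  have : Finite Q' := finite_of_le (hQ'R₁.trans hR₁S)
  have hR₁N : R₁ ≤ normalizerIn S Q' := by
    intro r hr
    refine ⟨hR₁S hr, ?_⟩
    apply mem_normalizer_of_conj_mem
    intro y hy
    obtain ⟨n, hn, rfl⟩ := (hmemQ' y).mp hy
    set m : normalizerIn S Q := θ'.symm ⟨r, hr⟩ with hm
    have hr' : r = ((θ' m : R₁) : Ω) := by rw [hm, MulEquiv.apply_symm_apply]
    rw [hmemQ']
    refine ⟨m * n * m⁻¹, ?_, ?_⟩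
    · show (m : Ω) * n * (m : Ω)⁻¹ ∈ Q
      exact (Subgroup.mem_normalizer_iff.mp m.2.2 _).mp hn
    · rw [hr', map_mul, map_mul, map_inv]
      rfl
  have hR₁eq : R₁ = normalizerIn S Q' := by
    have : Finite (normalizerIn S Q') := finite_of_le (normalizerIn_le S Q')
    apply Subgroup.eq_of_le_of_card_ge hR₁N
    rw [← Nat.card_congr θ.toEquiv]
    exact hcard
  have hsR₁ : s ∈ R₁ := by
    rw [hR₁eq]
    refine ⟨hsS, ?_⟩
    apply mem_normalizer_of_conj_mem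
    intro y hy
    obtain ⟨n, hn, rfl⟩ := (hmemQ' y).mp hy
    rw [← hkey n, hmemQ']
    refine ⟨γ n, ?_, rfl⟩
    have := hres ⟨n, hn⟩
    have e : (⟨((⟨(n : Ω), hn⟩ : Q) : Ω), le_normalizerIn hQ.1 hn⟩ : normalizerIn S Q) = n := Subtype.ext rfl
    rw [e] at this
    rw [this]
    exact (α₀ _).2
  set n₀ : normalizerIn S Q := θ'.symm ⟨s, hsR₁⟩ with hn₀
  have hsn₀ : s = ((θ' n₀ : R₁) : Ω) := by rw [hn₀, MulEquiv.apply_symm_apply]
  have hγn₀ : ∀ n : normalizerIn S Q, γ n = n₀ * n * n₀⁻¹ := by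
    intro n
    apply θ'.injective
    apply Subtype.ext
    rw [hkey n, hsn₀, map_mul, map_mul, map_inv]
    rfl
  refine mem_autInducedBy_iff.mpr ⟨(n₀ : Ω), hN n₀.2, fun x => ?_⟩
  rw [← hres x, hγn₀]
  rfl

end Cfsg.Agent.Lib.Helper88
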