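import Cfsg.Agent.Lib.Helper88.SylowIn
import Cfsg.Agent.Lib.Helper88.FusionBasic
import Cfsg.Agent.Lib.Helper88.FusionRS1
import Cfsg.Agent.Lib.Helper87.FusionSaturated

set_option autoImplicit false
open Cfsg

namespace Cfsg.Agent.Lib.Helper88

open Cfsg.FusionSystem Cfsg.Agent.Lib.Helper87

variable {Ω : Type*} [Group Ω] {S : Subgroup Ω}

/-! ### Images of subgroups -/

/-- The image of `X ∩ A` under a homomorphism defined on `A`. -/
def img {A : Subgroup Ω} (φ : A →* Ω) (X : Subgroup Ω) : Subgroup Ω := (X.subgroupOf A).map φ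

theorem mem_img {A : Subgroup Ω} (φ : A →* Ω) (X : Subgroup Ω) (y : Ω) :
    y ∈ img φ X ↔ ∃ (x : Ω) (hA : x ∈ A), x ∈ X ∧ φ ⟨x, hA⟩ = y := mem_map_subgroupOf φ y

theorem apply_mem_img {A : Subgroup Ω} (φ : A →* Ω) {X : Subgroup Ω} (x : A) (hx : (x : Ω) ∈ X) :
    φ x ∈ img φ X := (mem_img φ X _).mpr ⟨x, x.2, hx, rfl⟩

theorem img_mono {A : Subgroup Ω} (φ : A →* Ω) {X Y : Subgroup Ω} (h : X ≤ Y) : img φ X ≤ img φ Y := by
  intro y hy
  obtain ⟨x, hA, hx, rfl⟩ := (mem_img φ X y).mp hy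
  exact apply_mem_img φ ⟨x, hA⟩ (h hx)

theorem img_le_range {A : Subgroup Ω} (φ : A →* Ω) (X : Subgroup Ω) : img φ X ≤ φ.range := by
  intro y hy
  obtain ⟨x, hA, -, rfl⟩ := (mem_img φ X y).mp hy
  exact ⟨⟨x, hA⟩, rfl⟩

theorem img_self {A : Subgroup Ω} (φ : A →* Ω) : img φ A = φ.range := by
  apply le_antisymm (img_le_range φ A)
  rintro _ ⟨x, rfl⟩
  exact apply_mem_img φ x x.2

theorem apply_mem_img_iff {A : Subgroup Ω} {φ : A →* Ω} (hinj : Function.Injective φ) {X : Subgroup Ω} (x : A) :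
    φ x ∈ img φ X ↔ (x : Ω) ∈ X := by
  constructor
  · intro h
    obtain ⟨x', hA, hx', heq⟩ := (mem_img φ X _).mp h
    have : (⟨x', hA⟩ : A) = x := hinj heq
    rw [← this]
    exact hx'
  · exact apply_mem_img φ x

theorem card_img {A : Subgroup Ω} {φ : A →* Ω} (hinj : Function.Injective φ) {X : Subgroup Ω} (hXA : X ≤ A) :
    Nat.card (img φ X) = Nat.card X := by
  unfold img
  rw [Subgroup.card_map_of_injective hinj]
  exact Nat.card_congr (Subgroup.subgroupOfEquivOfLe hXA).toEquiv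

theorem img_subtype {A : Subgroup Ω} {X : Subgroup Ω} (hXA : X ≤ A) : img A.subtype X = X := by
  ext y
  rw [mem_img]
  constructor
  · rintro ⟨x, hA, hx, rfl⟩
    exact hx
  · intro hy
    exact ⟨y, hXA hy, hy, rfl⟩

/-- The image of a subgroup under a map of the system is conjugate to it. -/
theorem isConj_img (F : FusionSystem S) {A : Subgroup Ω} {φ : A →* Ω} (hφ : φ ∈ F.Hom A) {X : Subgroup Ω}
    (hXA : X ≤ A) : F.IsConj X (img φ X) := by
  refine ⟨φ.comp (Subgroup.inclusion hXA), restrict_mem F hXA hφ, ?_⟩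
  ext y
  rw [mem_img]
  constructor
  · rintro ⟨x, rfl⟩
    exact ⟨x, hXA x.2, x.2, rfl⟩
  · rintro ⟨x, hA, hx, rfl⟩
    exact ⟨⟨x, hx⟩, rfl⟩

theorem img_le (F : FusionSystem S) {A : Subgroup Ω} {φ : A →* Ω} (hφ : φ ∈ F.Hom A) (X : Subgroup Ω) :
    img φ X ≤ S := by
  intro y hy
  obtain ⟨x, hA, -, rfl⟩ := (mem_img φ X y).mp hy
  exact hom_mem F hφ _

/-- A map of the system carries the normalizer of `X` (inside its source) into the normalizer of the image. -/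
theorem apply_mem_normalizer_img [Finite S] (F : FusionSystem S) {A : Subgroup Ω} {φ : A →* Ω} (hφ : φ ∈ F.Hom A)
    {X : Subgroup Ω} (hXA : X ≤ A) (g : A) (hg : (g : Ω) ∈ Subgroup.normalizer (X : Set Ω)) :
    φ g ∈ Subgroup.normalizer (img φ X : Set Ω) := by
  haveI : Finite (img φ X) := finite_of_le (img_le F hφ X)
  apply mem_normalizer_of_conj_mem
  intro y hy
  obtain ⟨x, hA, hx, rfl⟩ := (mem_img φ X y).mp hy
  have hgx : (g : Ω) * x * (g : Ω)⁻¹ ∈ X := (Subgroup.mem_normalizer_iff.mp hg x).mp hx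
  have e : φ g * φ ⟨x, hA⟩ * (φ g)⁻¹ = φ (g * ⟨x, hA⟩ * g⁻¹) := by
    rw [map_mul, map_mul, map_inv]
  rw [e]
  exact apply_mem_img φ _ hgx

/-- Composition of maps of the system, with a restriction. -/
theorem exists_comp (F : FusionSystem S) {A B : Subgroup Ω} {φ : A →* Ω} {ψ : B →* Ω} (hφ : φ ∈ F.Hom A)
    (hψ : ψ ∈ F.Hom B) (h : ∀ x : A, φ x ∈ B) :
    ∃ χ ∈ F.Hom A, ∀ x : A, χ x = ψ ⟨φ x, h x⟩ :=
  ⟨ψ.comp (φ.codRestrict B h), F.comp_mem hφ hψ h, fun _ => rfl⟩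

theorem img_comp {A B : Subgroup Ω} {φ : A →* Ω} {ψ : B →* Ω} (h : ∀ x : A, φ x ∈ B) {χ : A →* Ω}
    (hχ : ∀ x : A, χ x = ψ ⟨φ x, h x⟩) (X : Subgroup Ω) : img χ X = img ψ (img φ X) := by
  ext y
  rw [mem_img, mem_img]
  constructor
  · rintro ⟨x, hA, hx, rfl⟩
    exact ⟨φ ⟨x, hA⟩, h _, apply_mem_img φ ⟨x, hA⟩ hx, (hχ _).symm⟩
  · rintro ⟨z, hB, hz, rfl⟩
    obtain ⟨x, hA, hx, rfl⟩ := (mem_img φ X z).mp hz
    exact ⟨x, hA, hx, hχ _⟩

theorem img_restrict {A R : Subgroup Ω} (φ : A →* Ω) (hRA : R ≤ A) {X : Subgroup Ω} (hXR : X ≤ R) :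
    img (φ.comp (Subgroup.inclusion hRA)) X = img φ X := by
  ext y
  rw [mem_img, mem_img]
  constructor
  · rintro ⟨x, hR, hx, rfl⟩
    exact ⟨x, hRA hR, hx, rfl⟩
  · rintro ⟨x, hA, hx, rfl⟩
    exact ⟨x, hXR hx, hx, rfl⟩

/-! ### Pairs -/

/-- The stabilizer of `X` in `Aut_F(R)`. -/
def stabAut (F : FusionSystem S) (R X : Subgroup Ω) : Subgroup (MulAut R) where
  carrier := {β | β ∈ F.autGroup R ∧ ∀ x : R, (x : Ω) ∈ X ↔ ((β x : R) : Ω) ∈ X}
  one_mem' := ⟨Subgroup.one_mem _, fun _ => Iff.rfl⟩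
  mul_mem' := by
    rintro a b ⟨ha, ha'⟩ ⟨hb, hb'⟩
    exact ⟨Subgroup.mul_mem _ ha hb, fun x => (hb' x).trans (ha' (b x))⟩
  inv_mem' := by
    rintro a ⟨ha, ha'⟩
    refine ⟨Subgroup.inv_mem _ ha, fun x => ?_⟩
    have := ha' (a⁻¹ x)
    rw [MulAut.apply_inv_self] at this
    exact this.symm

theorem mem_stabAut {F : FusionSystem S} {R X : Subgroup Ω} {β : MulAut R} :
    β ∈ stabAut F R X ↔ β ∈ F.autGroup R ∧ ∀ x : R, (x : Ω) ∈ X ↔ ((β x : R) : Ω) ∈ X := Iff.rfl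

theorem stabAut_le (F : FusionSystem S) (R X : Subgroup Ω) : stabAut F R X ≤ F.autGroup R := fun _ h => h.1

/-- The common normalizer in `S` of `R` and `X`. -/
def pairNorm (S R X : Subgroup Ω) : Subgroup Ω := normalizerIn S R ⊓ Subgroup.normalizer (X : Set Ω)

theorem mem_pairNorm {S R X : Subgroup Ω} {g : Ω} :
    g ∈ pairNorm S R X ↔ g ∈ S ∧ g ∈ Subgroup.normalizer (R : Set Ω) ∧ g ∈ Subgroup.normalizer (X : Set Ω) := by
  unfold pairNorm normalizerIn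
  rw [Subgroup.mem_inf, Subgroup.mem_inf, and_assoc]

theorem pairNorm_le (S R X : Subgroup Ω) : pairNorm S R X ≤ S := fun _ h => (mem_pairNorm.mp h).1

theorem pairNorm_le_normalizerIn (S R X : Subgroup Ω) : pairNorm S R X ≤ normalizerIn S R := inf_le_left

theorem pairNorm_le_normalizerIn' (S R X : Subgroup Ω) : pairNorm S R X ≤ normalizerIn S X := fun _ h =>
  ⟨(mem_pairNorm.mp h).1, (mem_pairNorm.mp h).2.2⟩

theorem le_pairNorm {S R X : Subgroup Ω} (hRS : R ≤ S) (hRX : R ≤ normalizerIn S X) : R ≤ pairNorm S R X :=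
  fun _ h => mem_pairNorm.mpr ⟨hRS h, Subgroup.le_normalizer h, (hRX h).2⟩

/-- `(R, X)` is fully automized as a pair. -/
def PairAut (F : FusionSystem S) (p : ℕ) (R X : Subgroup Ω) : Prop :=
  IsSylIn p (autInducedBy (pairNorm S R X) R) (stabAut F R X)

/-- `(R, X)` is receptive as a pair. -/
def PairRec (F : FusionSystem S) (R X : Subgroup Ω) : Prop :=
  ∀ (R' : Subgroup Ω) (τ : R' →* Ω), τ ∈ F.Hom R' → τ.range = R → ∀ X' : Subgroup Ω, X' ≤ R' →
    R' ≤ Subgroup.normalizer (X' : Set Ω) → img τ X' = X →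
    ∃ ψ ∈ F.Hom (extender S R' τ ⊓ Subgroup.normalizer (X' : Set Ω)),
      ∀ (x : Ω) (hR' : x ∈ R') (hN : x ∈ extender S R' τ ⊓ Subgroup.normalizer (X' : Set Ω)),
        ψ ⟨x, hN⟩ = τ ⟨x, hR'⟩

theorem pairRec_of_isReceptive (F : FusionSystem S) {R : Subgroup Ω} (h : F.IsReceptive R) (X : Subgroup Ω) :
    PairRec F R X := by
  intro R' τ hτ hr X' _ _ _
  obtain ⟨ψ, hψ, hext⟩ := h.2 R' τ hτ hr
  have hle : extender S R' τ ⊓ Subgroup.normalizer (X' : Set Ω) ≤ extender S R' τ := inf_le_left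
  exact ⟨ψ.comp (Subgroup.inclusion hle), restrict_mem F hle hψ, fun x hR' hN => hext x hR' (hle hN)⟩

/-- A subgroup whose class contains a fully automized receptive member. -/
def Good (F : FusionSystem S) (p : ℕ) (Q : Subgroup Ω) : Prop :=
  ∃ Q', F.IsConj Q Q' ∧ F.IsFullyAutomized p Q' ∧ F.IsReceptive Q'

theorem isFullyAutomized_iff [Finite S] (F : FusionSystem S) (p : ℕ) [Fact p.Prime] {Q : Subgroup Ω} (hQ : Q ≤ S) :
    F.IsFullyAutomized p Q ↔ IsSylIn p (autInducedBy S Q) (F.autGroup Q) := by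
  haveI : Finite (F.autGroup Q) := finite_autGroup F hQ
  rw [isSylIn_iff]
  constructor
  · rintro ⟨-, h⟩
    exact ⟨autInducedBy_le_autGroup F hQ, h⟩
  · rintro ⟨-, h⟩
    exact ⟨hQ, h⟩

/-- An element of `Aut_S(R)` stabilizing `X ≤ R` is induced by an element of the pair normalizer. -/
theorem autInducedBy_inf_stabAut (F : FusionSystem S) {R X : Subgroup Ω} (hRS : R ≤ S) (hXR : X ≤ R) :
    autInducedBy S R ⊓ stabAut F R X = autInducedBy (pairNorm S R X) R := by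
  apply le_antisymm
  · rintro β ⟨hβ, hβX⟩
    obtain ⟨g, hg, hgβ⟩ := mem_autInducedBy_iff.mp hβ
    have hgR := mem_normalizer_of_conj_eq hgβ
    refine mem_autInducedBy_iff.mpr ⟨g, mem_pairNorm.mpr ⟨hg, hgR, ?_⟩, hgβ⟩
    rw [Subgroup.mem_normalizer_iff]
    intro x
    constructor
    · intro hx
      have := (hβX.2 ⟨x, hXR hx⟩).mp hx
      rwa [hgβ] at this
    · intro hx
      have hxR : x ∈ R := by
        have h1 : g⁻¹ * (g * x * g⁻¹) * g⁻¹⁻¹ ∈ R :=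
          (Subgroup.mem_normalizer_iff.mp (Subgroup.inv_mem _ hgR) _).mp (hXR hx)
        have e : g⁻¹ * (g * x * g⁻¹) * g⁻¹⁻¹ = x := by group
        rwa [e] at h1
      have := (hβX.2 ⟨x, hxR⟩).mpr (by rw [hgβ]; exact hx)
      exact this
  · intro β hβ
    obtain ⟨g, hg, hgβ⟩ := mem_autInducedBy_iff.mp hβ
    have hg' := mem_pairNorm.mp hg
    refine ⟨mem_autInducedBy_iff.mpr ⟨g, hg'.1, hgβ⟩,
      autInducedBy_le_autGroup F hRS (mem_autInducedBy_iff.mpr ⟨g, hg'.1, hgβ⟩), fun x => ?_⟩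
    rw [hgβ]
    exact Subgroup.mem_normalizer_iff.mp hg'.2.2 x

end Cfsg.Agent.Lib.Helper88
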