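import Cfsg.Agent.Lib.Helper88.FusionSC1

set_option autoImplicit false
open Cfsg

namespace Cfsg.Agent.Lib.Helper88

open Cfsg.FusionSystem Cfsg.Agent.Lib.Helper87

variable {Ω : Type*} [Group Ω] {S : Subgroup Ω}

theorem stabAut_map_conj (F : FusionSystem S) {R X X' : Subgroup Ω} {a : MulAut R} (ha : a ∈ F.autGroup R)
    (h : ∀ z : R, (z : Ω) ∈ X' ↔ ((a⁻¹ z : R) : Ω) ∈ X) :
    (stabAut F R X).map (MulAut.conj a).toMonoidHom = stabAut F R X' := by
  ext β
  constructor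
  · rintro ⟨b, ⟨hb, hbX⟩, rfl⟩
    refine ⟨?_, fun z => ?_⟩
    · show a * b * a⁻¹ ∈ F.autGroup R
      exact Subgroup.mul_mem _ (Subgroup.mul_mem _ ha hb) (Subgroup.inv_mem _ ha)
    · show (z : Ω) ∈ X' ↔ (((a * b * a⁻¹) z : R) : Ω) ∈ X'
      rw [h z, h ((a * b * a⁻¹) z), hbX (a⁻¹ z)]
      have e : a⁻¹ ((a * b * a⁻¹) z) = b (a⁻¹ z) := by
        simp [MulAut.mul_apply]
      rw [e]
  · rintro ⟨hβ, hβX⟩
    refine ⟨a⁻¹ * β * a, ⟨?_, fun x => ?_⟩, ?_⟩
    · exact Subgroup.mul_mem _ (Subgroup.mul_mem _ (Subgroup.inv_mem _ ha) hβ) ha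
    · have h1 := h (a x)
      rw [MulAut.inv_apply_self] at h1
      rw [← h1, hβX (a x), h (β (a x))]
      rfl
    · show a * (a⁻¹ * β * a) * a⁻¹ = β
      group

theorem img_congr {M R' : Subgroup Ω} {ψ : M →* Ω} {τ : R' →* Ω} (hR'M : R' ≤ M)
    (h : ∀ (x : Ω) (hx : x ∈ R'), ψ ⟨x, hR'M hx⟩ = τ ⟨x, hx⟩) {X' : Subgroup Ω} (hX' : X' ≤ R') :
    img ψ X' = img τ X' := by
  ext y
  rw [mem_img, mem_img]
  constructor
  · rintro ⟨x, hM, hx, rfl⟩
    exact ⟨x, hX' hx, hx, (h x (hX' hx)).symm⟩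
  · rintro ⟨x, hR, hx, rfl⟩
    exact ⟨x, hR'M hR, hx, h x hR⟩

/-- Elementwise criterion for membership in the extender. -/
theorem mem_extender_of_congr {P Q : Subgroup Ω} (e : Q ≃* P) {g : Ω} (hg : g ∈ normalizerIn S Q)
    (h : MulAut.congr e (conjAut Q g hg.2) ∈ autInducedBy S P) :
    g ∈ extender S Q (P.subtype.comp e.toMonoidHom) := by
  rw [mem_extender_iff]
  refine ⟨hg.1, hg.2, ?_⟩
  obtain ⟨k, hk, hkα⟩ := mem_autInducedBy_iff.mp h
  refine ⟨k, hk, fun x hx => ?_⟩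
  have := hkα (e x)
  show ((e ⟨g * x * g⁻¹, hx⟩ : P) : Ω) = k * ((e x : P) : Ω) * k⁻¹
  rw [← this]
  congr 1
  simp only [MulAut.congr_apply, MulEquiv.trans_apply, MulEquiv.symm_apply_apply]
  congr 1

/-- Extension of an isomorphism of pairs onto a fully automized receptive pair, after twisting by an element of the
stabilizer. -/
theorem exists_pair_extension [Finite S] (p : ℕ) [Fact p.Prime] (hS : IsPGroup p S) (F : FusionSystem S)
    {R X : Subgroup Ω} (hRS : R ≤ S) (hPA : PairAut F p R X) (hPR : PairRec F R X)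
    {R' X' : Subgroup Ω} {τ : R' →* Ω} (hτ : τ ∈ F.Hom R') (hτr : τ.range = R) (hX'R' : X' ≤ R')
    (hτX : img τ X' = X) {M : Subgroup Ω} (hR'M : R' ≤ M) (hM : M ≤ pairNorm S R' X') :
    ∃ κ ∈ stabAut F R X, ∃ ψ ∈ F.Hom M, (∀ (x : Ω) (hx : x ∈ R'),
      ψ ⟨x, hR'M hx⟩ = ((κ (homEquiv F hτ hτr ⟨x, hx⟩) : R) : Ω)) ∧ img ψ X' = X ∧ img ψ R' = R := by
  set e : R' ≃* R := homEquiv F hτ hτr with he_def
  have he : IsFIso F e := isFIso_homEquiv F hτ hτr
  have hR'S : R' ≤ S := hom_le F hτ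
  have hMS : M ≤ S := hM.trans (pairNorm_le S R' X')
  haveI : Finite R := finite_of_le hRS
  have hinj := F.injective_of_mem hτ
  have hX : ∀ x : R', (x : Ω) ∈ X' ↔ ((e x : R) : Ω) ∈ X := by
    intro x
    rw [← hτX]
    exact (apply_mem_img_iff hinj x).symm
  set B : Subgroup (MulAut R) := (autInducedBy M R').map (MulAut.congr e).toMonoidHom with hB
  have hBK : B ≤ stabAut F R X := by
    rintro _ ⟨α, hα, rfl⟩
    have hαF : α ∈ F.autGroup R' := autInducedBy_le_autGroup F hR'S (autInducedBy_mono hMS hα)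
    refine ⟨(congr_mem_autGroup_iff F he α).mpr hαF, fun z => ?_⟩
    obtain ⟨g, hg, hgα⟩ := mem_autInducedBy_iff.mp hα
    have hgX : g ∈ Subgroup.normalizer (X' : Set Ω) := (mem_pairNorm.mp (hM hg)).2.2
    show (z : Ω) ∈ X ↔ ((e (α (e.symm z)) : R) : Ω) ∈ X
    rw [← hX (α (e.symm z)), hgα]
    have h1 := hX (e.symm z)
    rw [MulEquiv.apply_symm_apply] at h1
    rw [← h1]
    exact Subgroup.mem_normalizer_iff.mp hgX _
  have hBp : IsPGroup p B := (isPGroup_autInducedBy (hS.to_le hMS) R').map _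
  haveI : Finite (stabAut F R X) := inferInstance
  obtain ⟨κ, hκ, hκB⟩ := hPA.exists_conj_le hBK hBp
  have hκF : IsFIso F ((κ : MulAut R) : R ≃* R) := (isFIso_iff_mem_autGroup F hRS).mpr hκ.1
  set e' : R' ≃* R := e.trans (κ : R ≃* R) with he'
  have he'F : IsFIso F e' := IsFIso.trans F he hκF
  set τ' : R' →* Ω := R.subtype.comp e'.toMonoidHom with hτ'
  have hτ'r : τ'.range = R := IsFIso.range_eq e'
  have himg : img τ' X' = X := by
    ext y
    rw [mem_img]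
    constructor
    · rintro ⟨x, hx, hxX, rfl⟩
      show ((κ (e ⟨x, hx⟩) : R) : Ω) ∈ X
      exact (hκ.2 _).mp ((hX ⟨x, hx⟩).mp hxX)
    · intro hy
      have hyR : y ∈ R := by
        rw [← hτX] at hy
        rw [← hτr]
        exact img_le_range τ X' hy
      have h1 : ((κ⁻¹ ⟨y, hyR⟩ : R) : Ω) ∈ X := by
        have := (stabAut F R X).inv_mem hκ
        exact (this.2 ⟨y, hyR⟩).mp hy
      have h2 := hX (e.symm (κ⁻¹ ⟨y, hyR⟩))
      rw [MulEquiv.apply_symm_apply] at h2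
      refine ⟨_, (e.symm (κ⁻¹ ⟨y, hyR⟩)).2, h2.mpr h1, ?_⟩
      show ((κ (e (e.symm (κ⁻¹ ⟨y, hyR⟩))) : R) : Ω) = y
      rw [MulEquiv.apply_symm_apply, MulAut.apply_inv_self]
  have hMext : M ≤ extender S R' τ' ⊓ Subgroup.normalizer (X' : Set Ω) := by
    intro g hg
    have hg' := mem_pairNorm.mp (hM hg)
    refine ⟨?_, hg'.2.2⟩
    have hgN : g ∈ normalizerIn S R' := ⟨hg'.1, hg'.2.1⟩
    apply mem_extender_of_congr e' hgN
    have h1 : MulAut.congr e (conjAut R' g hgN.2) ∈ B :=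
      ⟨_, conjAut_mem_autInducedBy hg hgN.2, rfl⟩
    have h2 := hκB _ h1
    have h3 : MulAut.congr e' (conjAut R' g hgN.2) = κ * MulAut.congr e (conjAut R' g hgN.2) * κ⁻¹ := by
      ext y
      simp [he', MulAut.congr, MulAut.mul_apply, MulAut.inv_apply]
    rw [h3]
    exact autInducedBy_mono (pairNorm_le S R X) h2
  obtain ⟨ψ₀, hψ₀, hext⟩ := hPR R' τ' he'F hτ'r X' hX'R'
    (fun x hx => (mem_pairNorm.mp (hM (hR'M hx))).2.2) himg
  have hagree : ∀ (x : Ω) (hx : x ∈ R'), (ψ₀.comp (Subgroup.inclusion hMext)) ⟨x, hR'M hx⟩ = τ' ⟨x, hx⟩ :=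
    fun x hx => hext x hx (hMext (hR'M hx))
  refine ⟨κ, hκ, ψ₀.comp (Subgroup.inclusion hMext), restrict_mem F hMext hψ₀, hagree, ?_, ?_⟩
  · rw [← himg]
    exact img_congr hR'M hagree hX'R'
  · rw [← hτ'r, ← img_self τ']
    exact img_congr hR'M hagree le_rfl

/-- Every pair `(R, X)` with `R` in a good class is isomorphic to a fully automized pair with receptive first member. -/
theorem exists_fn_pair [Finite S] (p : ℕ) [Fact p.Prime] (hS : IsPGroup p S) (F : FusionSystem S)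
    {R X : Subgroup Ω} (hgood : Good F p R) :
    ∃ θ ∈ F.Hom R, F.IsReceptive θ.range ∧ F.IsFullyAutomized p θ.range ∧ PairAut F p θ.range (img θ X) := by
  obtain ⟨Rs, hconj, hfa, hrec⟩ := hgood
  obtain ⟨e₀, he₀⟩ := exists_isFIso_of_isConj F hconj
  have hRsS : Rs ≤ S := hrec.1
  have hRS : R ≤ S := isConj_le_left F hconj
  haveI : Finite Rs := finite_of_le hRsS
  set θ₀ : R →* Ω := Rs.subtype.comp e₀.toMonoidHom with hθ₀
  set X₀ := img θ₀ X with hX₀
  haveI : Finite (stabAut F Rs X₀) := inferInstance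
  haveI : Finite (F.autGroup Rs) := inferInstance
  obtain ⟨Y₀, hY₀⟩ := exists_isSylIn p (stabAut F Rs X₀)
  have hSy := (isFullyAutomized_iff F p hRsS).mp hfa
  obtain ⟨a, ha, haY⟩ := hSy.exists_conj_le (hY₀.1.trans (stabAut_le F Rs X₀)) hY₀.isPGroup
  have haF : IsFIso F ((a : MulAut Rs) : Rs ≃* Rs) := (isFIso_iff_mem_autGroup F hRsS).mpr ha
  set e : R ≃* Rs := e₀.trans (a : Rs ≃* Rs) with he
  have heF : IsFIso F e := IsFIso.trans F he₀ haF
  set θ : R →* Ω := Rs.subtype.comp e.toMonoidHom with hθ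
  have hθr : θ.range = Rs := IsFIso.range_eq e
  refine ⟨θ, heF, ?_⟩
  rw [hθr]
  refine ⟨hrec, hfa, ?_⟩
  have hXsR : img θ X ≤ Rs := by
    rw [← hθr]
    exact img_le_range θ X
  -- transfer
  have htr : ∀ z : Rs, (z : Ω) ∈ img θ X ↔ ((a⁻¹ z : Rs) : Ω) ∈ X₀ := by
    intro z
    rw [mem_img, hX₀, mem_img]
    constructor
    · rintro ⟨x, hx, hxX, hxz⟩
      refine ⟨x, hx, hxX, ?_⟩
      have h1 : a (e₀ ⟨x, hx⟩) = z := Subtype.ext hxz
      rw [← h1, MulAut.inv_apply_self]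
      rfl
    · rintro ⟨x, hx, hxX, hxz⟩
      refine ⟨x, hx, hxX, ?_⟩
      have h1 : e₀ ⟨x, hx⟩ = a⁻¹ z := Subtype.ext hxz
      show ((a (e₀ ⟨x, hx⟩) : Rs) : Ω) = z
      rw [h1, MulAut.apply_inv_self]
  have hstab := stabAut_map_conj F ha htr
  have hinj : Function.Injective (MulAut.conj a).toMonoidHom := (MulAut.conj a).injective
  have h1 := hY₀.map_of_injective (MulAut.conj a).toMonoidHom hinj
  rw [hstab] at h1
  haveI : Finite (stabAut F Rs (img θ X)) := inferInstance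
  have hle : Y₀.map (MulAut.conj a).toMonoidHom ≤ autInducedBy (pairNorm S Rs (img θ X)) Rs := by
    rw [← autInducedBy_inf_stabAut F hRsS hXsR]
    refine le_inf ?_ h1.1
    rintro _ ⟨y, hy, rfl⟩
    exact haY y hy
  have hQle : autInducedBy (pairNorm S Rs (img θ X)) Rs ≤ stabAut F Rs (img θ X) := by
    rw [← autInducedBy_inf_stabAut F hRsS hXsR]
    exact inf_le_right
  have hQp : IsPGroup p (autInducedBy (pairNorm S Rs (img θ X)) Rs) :=
    isPGroup_autInducedBy (hS.to_le (pairNorm_le S Rs _)) Rs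
  have hcard : Nat.card (Y₀.map (MulAut.conj a).toMonoidHom) ≤
      Nat.card (autInducedBy (pairNorm S Rs (img θ X)) Rs) :=
    Nat.card_le_card_of_injective (Subgroup.inclusion hle) (Subgroup.inclusion_injective hle)
  exact h1.of_le hQle hQp hcard

end Cfsg.Agent.Lib.Helper88
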