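import Cfsg.Agent.Lib.Helper88.FusionSC2

set_option autoImplicit false
open Cfsg

namespace Cfsg.Agent.Lib.Helper88

open Cfsg.FusionSystem Cfsg.Agent.Lib.Helper87

variable {Ω : Type*} [Group Ω] {S : Subgroup Ω}

/-- There is a map of the system defined on `N_S(X)` carrying `X` onto `W`. -/
def NMap (F : FusionSystem S) (X W : Subgroup Ω) : Prop :=
  ∃ u ∈ F.Hom (normalizerIn S X), img u X = W

theorem NMap.refl (F : FusionSystem S) {X : Subgroup Ω} (hX : X ≤ S) : NMap F X X :=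
  ⟨(normalizerIn S X).subtype, subtype_mem F (normalizerIn_le S X), img_subtype (le_normalizerIn hX)⟩

theorem apply_mem_normalizerIn_img [Finite S] (F : FusionSystem S) {A X : Subgroup Ω} {u : A →* Ω}
    (hu : u ∈ F.Hom A) (hXA : X ≤ A) (hA : A ≤ normalizerIn S X) (x : A) :
    u x ∈ normalizerIn S (img u X) :=
  ⟨hom_mem F hu x, apply_mem_normalizer_img F hu hXA x (hA x.2).2⟩

theorem NMap.trans [Finite S] (F : FusionSystem S) {X W W' : Subgroup Ω} (hXS : X ≤ S)
    (h : NMap F X W) (h' : NMap F W W') : NMap F X W' := by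
  obtain ⟨u, hu, rfl⟩ := h
  obtain ⟨v, hv, rfl⟩ := h'
  have huN : ∀ x, u x ∈ normalizerIn S (img u X) :=
    apply_mem_normalizerIn_img F hu (le_normalizerIn hXS) le_rfl
  obtain ⟨χ, hχ, hχx⟩ := exists_comp F hu hv huN
  exact ⟨χ, hχ, img_comp huN hχx X⟩

theorem NMap.isConj (F : FusionSystem S) {X W : Subgroup Ω} (hXS : X ≤ S) (h : NMap F X W) : F.IsConj X W := by
  obtain ⟨u, hu, rfl⟩ := h
  exact isConj_img F hu (le_normalizerIn hXS)

/-- Two subgroups whose normalizers map to the normalizer of a common third one. -/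
def Joinable (F : FusionSystem S) (X Y : Subgroup Ω) : Prop := ∃ W, NMap F X W ∧ NMap F Y W

theorem Joinable.symm {F : FusionSystem S} {X Y : Subgroup Ω} (h : Joinable F X Y) : Joinable F Y X := by
  obtain ⟨W, h1, h2⟩ := h
  exact ⟨W, h2, h1⟩

/-- The image under the inverse. -/
theorem img_inv_img (F : FusionSystem S) {R Q : Subgroup Ω} {f : R →* Ω} (hf : f ∈ F.Hom R) {fi : Q →* Ω}
    (hfi : ∀ (x : R) (y : Q), f x = (y : Ω) → fi y = (x : Ω)) (hr : f.range = Q) {X : Subgroup Ω} (hXR : X ≤ R) :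
    img fi (img f X) = X := by
  ext z
  rw [mem_img]
  constructor
  · rintro ⟨y, hyQ, hy, rfl⟩
    obtain ⟨x, hxR, hx, hxy⟩ := (mem_img f X y).mp hy
    rw [hfi ⟨x, hxR⟩ ⟨y, hyQ⟩ hxy]
    exact hx
  · intro hz
    have hy : f ⟨z, hXR hz⟩ ∈ Q := hr ▸ ⟨⟨z, hXR hz⟩, rfl⟩
    exact ⟨f ⟨z, hXR hz⟩, hy, apply_mem_img f ⟨z, hXR hz⟩ hz, hfi ⟨z, hXR hz⟩ ⟨_, hy⟩ rfl⟩

/-- If `f` maps `R` onto the full normalizer of the image of `X`, then `g ∘ f⁻¹` is a normalizer map. -/
theorem nmap_of_range_eq [Finite S] (F : FusionSystem S) {R X : Subgroup Ω} (hXR : X ≤ R) {f g : R →* Ω}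
    (hf : f ∈ F.Hom R) (hg : g ∈ F.Hom R) (hr : f.range = normalizerIn S (img f X)) :
    NMap F (img f X) (img g X) := by
  obtain ⟨fi, hfi, hfix, hfir⟩ := inv_mem' F hf hr
  have hfiR : ∀ y, fi y ∈ R := fun y => by
    have : fi y ∈ fi.range := ⟨y, rfl⟩
    rwa [hfir] at this
  obtain ⟨u, hu, hux⟩ := exists_comp F hfi hg hfiR
  refine ⟨u, hu, ?_⟩
  rw [img_comp hfiR hux, img_inv_img F hf hfix hr hXR]

theorem card_lt_of_le_of_not_mem {A B : Subgroup Ω} [Finite B] (h : A ≤ B) {s : Ω} (hsB : s ∈ B) (hsA : s ∉ A) :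
    Nat.card A < Nat.card B := by
  by_contra hge
  have := Subgroup.eq_of_le_of_card_ge h (not_lt.mp hge)
  exact hsA (this ▸ hsB)

/-- The pair normalizer of a proper subgroup `R₂` of `N_S(X₂)` is strictly larger than `R₂`. -/
theorem card_lt_card_pairNorm [Finite S] {p : ℕ} [Fact p.Prime] (hS : IsPGroup p S) {R₂ X₂ : Subgroup Ω}
    (hR₂ : R₂ ≤ normalizerIn S X₂) (hlt : Nat.card R₂ < Nat.card (normalizerIn S X₂)) :
    Nat.card R₂ < Nat.card (pairNorm S R₂ X₂) := by
  have hNS : normalizerIn S X₂ ≤ S := normalizerIn_le S X₂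
  haveI : Finite (normalizerIn S X₂) := finite_of_le hNS
  have hne : R₂ ≠ normalizerIn S X₂ := by
    intro h
    rw [h] at hlt
    exact lt_irrefl _ hlt
  obtain ⟨s, hsN, hsR⟩ := exists_mem_normalizerIn_not_mem (hS.to_le hNS) hR₂ hne
  have hs : s ∈ pairNorm S R₂ X₂ := mem_pairNorm.mpr ⟨hNS hsN.1, hsN.2, hsN.1.2⟩
  haveI : Finite (pairNorm S R₂ X₂) := finite_of_le (pairNorm_le S R₂ X₂)
  exact card_lt_of_le_of_not_mem (le_pairNorm (hR₂.trans hNS) hR₂) hs hsR

/-- The confluence lemma: two maps out of a pair `(R, X)` with `X < R`, all subgroups larger than `X` being good,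
lead to subgroups whose normalizers map into a common one. -/
theorem confluence [Finite S] (p : ℕ) [Fact p.Prime] (hS : IsPGroup p S) (F : FusionSystem S) (n : ℕ)
    (hgood : ∀ Q : Subgroup Ω, Q ≤ S → n < Nat.card Q → Good F p Q) :
    ∀ (m : ℕ) (R X : Subgroup Ω), Nat.card S - Nat.card R = m → Nat.card X = n → X ≤ R →
      R ≤ normalizerIn S X → Nat.card X < Nat.card R →
      ∀ (f g : R →* Ω), f ∈ F.Hom R → g ∈ F.Hom R → Joinable F (img f X) (img g X) := by
  intro m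
  induction m using Nat.strong_induction_on with
  | _ m ih =>
  intro R X hm hXn hXR hRN hlt f g hf hg
  have hRS : R ≤ S := hRN.trans (normalizerIn_le S X)
  have hXS : X ≤ S := hXR.trans hRS
  haveI : Finite R := finite_of_le hRS
  have hfinj := F.injective_of_mem hf
  have hginj := F.injective_of_mem hg
  have hX₂S : img f X ≤ S := img_le F hf X
  have hX₃S : img g X ≤ S := img_le F hg X
  have hfN : ∀ r : R, f r ∈ normalizerIn S (img f X) := apply_mem_normalizerIn_img F hf hXR hRN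
  have hgN : ∀ r : R, g r ∈ normalizerIn S (img g X) := apply_mem_normalizerIn_img F hg hXR hRN
  have hfr : f.range ≤ normalizerIn S (img f X) := by
    rintro _ ⟨r, rfl⟩; exact hfN r
  have hgr : g.range ≤ normalizerIn S (img g X) := by
    rintro _ ⟨r, rfl⟩; exact hgN r
  have hcf : Nat.card f.range = Nat.card R := (Nat.card_congr (MonoidHom.ofInjective hfinj).toEquiv).symm
  have hcg : Nat.card g.range = Nat.card R := (Nat.card_congr (MonoidHom.ofInjective hginj).toEquiv).symm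
  haveI : Finite (normalizerIn S (img f X)) := finite_of_le (normalizerIn_le S _)
  haveI : Finite (normalizerIn S (img g X)) := finite_of_le (normalizerIn_le S _)
  by_cases hA : Nat.card (normalizerIn S (img f X)) ≤ Nat.card R
  · have hr : f.range = normalizerIn S (img f X) :=
      Subgroup.eq_of_le_of_card_ge hfr (hcf ▸ hA)
    exact ⟨img g X, nmap_of_range_eq F hXR hf hg hr, NMap.refl F hX₃S⟩
  by_cases hB : Nat.card (normalizerIn S (img g X)) ≤ Nat.card R
  · have hr : g.range = normalizerIn S (img g X) :=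
      Subgroup.eq_of_le_of_card_ge hgr (hcg ▸ hB)
    exact ⟨img f X, NMap.refl F hX₂S, nmap_of_range_eq F hXR hg hf hr⟩
  -- main case
  have hA' : Nat.card f.range < Nat.card (normalizerIn S (img f X)) := by rw [hcf]; exact not_le.mp hA
  have hB' : Nat.card g.range < Nat.card (normalizerIn S (img g X)) := by rw [hcg]; exact not_le.mp hB
  have hM₂ := card_lt_card_pairNorm hS hfr hA'
  have hM₃ := card_lt_card_pairNorm hS hgr hB'
  have hR₂S : f.range ≤ S := hfr.trans (normalizerIn_le S _)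
  have hR₃S : g.range ≤ S := hgr.trans (normalizerIn_le S _)
  have hX₂R₂ : img f X ≤ f.range := img_le_range f X
  have hX₃R₃ : img g X ≤ g.range := img_le_range g X
  have hcX₂ : Nat.card (img f X) = n := (card_img hfinj hXR).trans hXn
  have hcX₃ : Nat.card (img g X) = n := (card_img hginj hXR).trans hXn
  -- the good class of `f(R)`
  have hgoodR₂ : Good F p f.range := hgood _ hR₂S (by rw [hcf, ← hXn]; exact hlt)
  obtain ⟨θ, hθ, hrec, hfa, hPA⟩ := exists_fn_pair p hS F (X := img f X) hgoodR₂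
  have hRsS : θ.range ≤ S := hrec.1
  have hPR := pairRec_of_isReceptive F hrec (img θ (img f X))
  have hθinj := F.injective_of_mem hθ
  -- first extension
  obtain ⟨κ₂, -, ψ₂, hψ₂, -, hψ₂X, -⟩ := exists_pair_extension p hS F hRsS hPA hPR hθ rfl hX₂R₂ rfl
    (le_pairNorm hR₂S hfr) le_rfl
  -- the second isomorphism `θ ∘ f ∘ g⁻¹`
  obtain ⟨gi, hgi, hgix, hgir⟩ := inv_mem' F hg (rfl : g.range = g.range)
  have hgiR : ∀ y, gi y ∈ R := fun y => by
    have : gi y ∈ gi.range := ⟨y, rfl⟩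
    rwa [hgir] at this
  obtain ⟨fg, hfg, hfgx⟩ := exists_comp F hgi hf hgiR
  have hfgR₂ : ∀ y, fg y ∈ f.range := fun y => by rw [hfgx]; exact ⟨_, rfl⟩
  obtain ⟨τ₃, hτ₃, hτ₃x⟩ := exists_comp F hfg hθ hfgR₂
  have hτ₃r : τ₃.range = θ.range := by
    apply le_antisymm
    · rintro _ ⟨y, rfl⟩
      rw [hτ₃x]
      exact ⟨_, rfl⟩
    · rintro _ ⟨⟨_, r, rfl⟩, rfl⟩
      refine ⟨⟨g r, ⟨r, rfl⟩⟩, ?_⟩
      have h1 : fg ⟨g r, ⟨r, rfl⟩⟩ = f r := by
        rw [hfgx]
        congr 1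
        exact Subtype.ext (hgix r ⟨g r, ⟨r, rfl⟩⟩ rfl)
      rw [hτ₃x]
      congr 1
      exact Subtype.ext h1
  have hτ₃X : img τ₃ (img g X) = img θ (img f X) := by
    rw [img_comp hfgR₂ hτ₃x, img_comp hgiR hfgx, img_inv_img F hg hgix rfl hXR]
  obtain ⟨κ₃, -, ψ₃, hψ₃, -, hψ₃X, -⟩ := exists_pair_extension p hS F hRsS hPA hPR hτ₃ hτ₃r hX₃R₃ hτ₃X
    (le_pairNorm hR₃S hgr) le_rfl
  -- induction hypotheses
  have hXsS : img θ (img f X) ≤ S := img_le F hθ _
  have hcXs : Nat.card (img θ (img f X)) = n := (card_img hθinj hX₂R₂).trans hcX₂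
  have hcardS : ∀ A : Subgroup Ω, A ≤ S → Nat.card A ≤ Nat.card S := fun A hA => card_le_of_le hA
  have hM₂S := pairNorm_le S f.range (img f X)
  have hM₃S := pairNorm_le S g.range (img g X)
  have hlt₂ : Nat.card S - Nat.card (pairNorm S f.range (img f X)) < m := by
    have := hcardS _ hM₂S
    have := hcardS _ hRS
    omega
  have hlt₃ : Nat.card S - Nat.card (pairNorm S g.range (img g X)) < m := by
    have := hcardS _ hM₃S
    have := hcardS _ hRS
    omega
  have hX₂M₂ : img f X ≤ pairNorm S f.range (img f X) := hX₂R₂.trans (le_pairNorm hR₂S hfr)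
  have hX₃M₃ : img g X ≤ pairNorm S g.range (img g X) := hX₃R₃.trans (le_pairNorm hR₃S hgr)
  have hcR₂ : n < Nat.card f.range := by rw [hcf, ← hXn]; exact hlt
  have hcR₃ : n < Nat.card g.range := by rw [hcg, ← hXn]; exact hlt
  have J₂ := ih _ hlt₂ (pairNorm S f.range (img f X)) (img f X) rfl hcX₂ hX₂M₂
    (pairNorm_le_normalizerIn' S _ _) (by rw [hcX₂]; exact hcR₂.trans hM₂) _ ψ₂
    (subtype_mem F hM₂S) hψ₂
  rw [img_subtype hX₂M₂, hψ₂X] at J₂
  have J₃ := ih _ hlt₃ (pairNorm S g.range (img g X)) (img g X) rfl hcX₃ hX₃M₃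
    (pairNorm_le_normalizerIn' S _ _) (by rw [hcX₃]; exact hcR₃.trans hM₃) _ ψ₃
    (subtype_mem F hM₃S) hψ₃
  rw [img_subtype hX₃M₃, hψ₃X] at J₃
  obtain ⟨W₁, hX₂W₁, ⟨v₁, hv₁, hv₁W⟩⟩ := J₂
  obtain ⟨W₂, hX₃W₂, ⟨v₂, hv₂, hv₂W⟩⟩ := J₃
  -- the normalizer of the image pair is large
  haveI : Finite (normalizerIn S (img θ (img f X))) := finite_of_le (normalizerIn_le S _)
  have hcNs : Nat.card (pairNorm S f.range (img f X)) ≤ Nat.card (normalizerIn S (img θ (img f X))) := by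
    have hmem : ∀ x : pairNorm S f.range (img f X), ψ₂ x ∈ normalizerIn S (img θ (img f X)) := by
      intro x
      rw [← hψ₂X]
      exact apply_mem_normalizerIn_img F hψ₂ hX₂M₂ (pairNorm_le_normalizerIn' S _ _) x
    have hinj : Function.Injective (fun x : pairNorm S f.range (img f X) =>
        (⟨ψ₂ x, hmem x⟩ : normalizerIn S (img θ (img f X)))) := by
      intro a b hab
      exact F.injective_of_mem hψ₂ (congrArg Subtype.val hab)
    exact Nat.card_le_card_of_injective _ hinj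
  have hltN : Nat.card S - Nat.card (normalizerIn S (img θ (img f X))) < m := by
    have := hcardS _ (normalizerIn_le S (img θ (img f X)))
    have := hcardS _ hRS
    omega
  have J := ih _ hltN (normalizerIn S (img θ (img f X))) (img θ (img f X)) rfl hcXs (le_normalizerIn hXsS)
    le_rfl (by rw [hcXs]; omega) v₁ v₂ hv₁ hv₂
  rw [hv₁W, hv₂W] at J
  obtain ⟨W, hW₁, hW₂⟩ := J
  exact ⟨W, NMap.trans F hX₂S hX₂W₁ hW₁, NMap.trans F hX₃S hX₃W₂ hW₂⟩

end Cfsg.Agent.Lib.Helper88
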