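import Cfsg.Agent.Lib.Helper88.FusionSC3

set_option autoImplicit false
open Cfsg

namespace Cfsg.Agent.Lib.Helper88

open Cfsg.FusionSystem Cfsg.Agent.Lib.Helper87

variable {Ω : Type*} [Group Ω] {S : Subgroup Ω}

/-- The subsystem of the maps of `F` satisfying a predicate stable under the operations of a fusion system. -/
def predSystem (F : FusionSystem S) (Φ : ∀ A : Subgroup Ω, (A →* Ω) → Prop)
    (hconj : ∀ {A : Subgroup Ω} {g : Ω}, A ≤ S → g ∈ S → Φ A (conjHom A g))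
    (hcomp : ∀ {A B : Subgroup Ω} {φ : A →* Ω} {ψ : B →* Ω}, φ ∈ F.Hom A → ψ ∈ F.Hom B → Φ A φ → Φ B ψ →
      ∀ h : ∀ x : A, φ x ∈ B, Φ A (ψ.comp (φ.codRestrict B h)))
    (hinv : ∀ {A : Subgroup Ω} {φ : A →* Ω}, φ ∈ F.Hom A → Φ A φ → ∀ ψ ∈ F.Hom φ.range,
      (∀ x : A, ψ ⟨φ x, ⟨x, rfl⟩⟩ = (x : Ω)) → Φ φ.range ψ) : FusionSystem S where
  Hom A := {φ | φ ∈ F.Hom A ∧ Φ A φ}
  le_of_mem h := F.le_of_mem h.1
  injective_of_mem h := F.injective_of_mem h.1
  conj_mem hA hg := ⟨F.conj_mem hA hg, hconj hA hg⟩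
  comp_mem hφ hψ h := ⟨F.comp_mem hφ.1 hψ.1 h, hcomp hφ.1 hψ.1 hφ.2 hψ.2 h⟩
  inv_mem hφ := by
    obtain ⟨ψ, hψ, hψx⟩ := F.inv_mem hφ.1
    exact ⟨ψ, ⟨hψ, hinv hφ.1 hφ.2 ψ hψ hψx⟩, hψx⟩

/-- Induction over a generating family. -/
theorem forall_of_generated (F : FusionSystem S) (ℋ : Set (Subgroup Ω))
    (hgen : ∀ E : FusionSystem S, (∀ P ∈ ℋ, F.Hom P ⊆ E.Hom P) → F ≤ E)
    (Φ : ∀ A : Subgroup Ω, (A →* Ω) → Prop)
    (hconj : ∀ {A : Subgroup Ω} {g : Ω}, A ≤ S → g ∈ S → Φ A (conjHom A g))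
    (hcomp : ∀ {A B : Subgroup Ω} {φ : A →* Ω} {ψ : B →* Ω}, φ ∈ F.Hom A → ψ ∈ F.Hom B → Φ A φ → Φ B ψ →
      ∀ h : ∀ x : A, φ x ∈ B, Φ A (ψ.comp (φ.codRestrict B h)))
    (hinv : ∀ {A : Subgroup Ω} {φ : A →* Ω}, φ ∈ F.Hom A → Φ A φ → ∀ ψ ∈ F.Hom φ.range,
      (∀ x : A, ψ ⟨φ x, ⟨x, rfl⟩⟩ = (x : Ω)) → Φ φ.range ψ)
    (hℋ : ∀ A ∈ ℋ, ∀ φ ∈ F.Hom A, Φ A φ) :
    ∀ (A : Subgroup Ω) (φ : A →* Ω), φ ∈ F.Hom A → Φ A φ := by
  intro A φ hφ
  exact (hgen (predSystem F Φ hconj hcomp hinv) (fun P hP ψ hψ => ⟨hψ, hℋ P hP ψ hψ⟩) A hφ).2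

theorem card_of_isConj (F : FusionSystem S) {P Q : Subgroup Ω} (h : F.IsConj P Q) : Nat.card Q = Nat.card P := by
  obtain ⟨e, -⟩ := exists_isFIso_of_isConj F h
  exact (Nat.card_congr e.toEquiv).symm

theorem img_conjHom {A X : Subgroup Ω} (g : Ω) (hXA : X ≤ A) :
    img (conjHom A g) X = X.map (MulAut.conj g).toMonoidHom := by
  ext y
  rw [mem_img]
  constructor
  · rintro ⟨x, hA, hx, rfl⟩
    exact ⟨x, hx, rfl⟩
  · rintro ⟨x, hx, rfl⟩
    exact ⟨x, hXA hx, hx, rfl⟩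

theorem joinable_conj [Finite S] (F : FusionSystem S) {A X : Subgroup Ω} (hAS : A ≤ S) (hXA : X ≤ A) {g : Ω}
    (hg : g ∈ S) : Joinable F X (img (conjHom A g) X) := by
  have hXS : X ≤ S := hXA.trans hAS
  refine ⟨img (conjHom A g) X, ⟨conjHom (normalizerIn S X) g, F.conj_mem (normalizerIn_le S X) hg, ?_⟩,
    NMap.refl F (img_le F (F.conj_mem hAS hg) X)⟩
  rw [img_conjHom g hXA, img_conjHom g (le_normalizerIn hXS)]

/-- Under the goodness of all larger subgroups, joinability is transitive through a subgroup of order `n`. -/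
theorem Joinable.trans [Finite S] (p : ℕ) [Fact p.Prime] (hS : IsPGroup p S) (F : FusionSystem S) (n : ℕ)
    (hgood : ∀ Q : Subgroup Ω, Q ≤ S → n < Nat.card Q → Good F p Q) (hn : n < Nat.card S)
    {X Y Z : Subgroup Ω} (hXS : X ≤ S) (hYS : Y ≤ S) (hZS : Z ≤ S) (hY : Nat.card Y = n)
    (h₁ : Joinable F X Y) (h₂ : Joinable F Y Z) : Joinable F X Z := by
  obtain ⟨W₁, hXW₁, ⟨u, hu, huW⟩⟩ := h₁
  obtain ⟨W₂, ⟨u', hu', hu'W⟩, hZW₂⟩ := h₂
  have hNS : normalizerIn S Y ≤ S := normalizerIn_le S Y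
  haveI : Finite (normalizerIn S Y) := finite_of_le hNS
  have hlt : Nat.card Y < Nat.card (normalizerIn S Y) := by
    by_cases hYeq : Y = S
    · rw [hYeq] at hY
      omega
    · obtain ⟨s, hsN, hsY⟩ := exists_mem_normalizerIn_not_mem hS hYS hYeq
      exact card_lt_of_le_of_not_mem (le_normalizerIn hYS) hsN hsY
  have J := confluence p hS F n hgood _ (normalizerIn S Y) Y rfl hY (le_normalizerIn hYS) le_rfl hlt u u' hu hu'
  rw [huW, hu'W] at J
  obtain ⟨W, hW₁, hW₂⟩ := J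
  exact ⟨W, NMap.trans F hXS hXW₁ hW₁, NMap.trans F hZS hZW₂ hW₂⟩

/-- Step (a): in a system generated by a family avoiding the class of `P`, all larger subgroups being good, every map
of the system joins each conjugate of `P` in its source to its image. -/
theorem joinable_of_generated [Finite S] (p : ℕ) [Fact p.Prime] (hS : IsPGroup p S) (F : FusionSystem S)
    (ℋ : Set (Subgroup Ω)) (hgen : ∀ E : FusionSystem S, (∀ P ∈ ℋ, F.Hom P ⊆ E.Hom P) → F ≤ E)
    (P : Subgroup Ω) (hlt : Nat.card P < Nat.card S)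
    (hgood : ∀ Q : Subgroup Ω, Q ≤ S → Nat.card P < Nat.card Q → Good F p Q)
    (hℋ : ∀ X, F.IsConj P X → X ∉ ℋ) :
    ∀ (A : Subgroup Ω) (φ : A →* Ω), φ ∈ F.Hom A →
      ∀ X : Subgroup Ω, X ≤ A → F.IsConj P X → Joinable F X (img φ X) := by
  apply forall_of_generated F ℋ hgen (fun A φ => ∀ X : Subgroup Ω, X ≤ A → F.IsConj P X → Joinable F X (img φ X))
  · intro A g hAS hg X hXA _
    exact joinable_conj F hAS hXA hg
  · intro A B φ ψ hφ hψ hΦφ hΦψ h X hXA hPX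
    have hAS : A ≤ S := hom_le F hφ
    have hXS : X ≤ S := hXA.trans hAS
    have hφX : img φ X ≤ B := by
      intro y hy
      obtain ⟨x, hA, -, rfl⟩ := (mem_img φ X y).mp hy
      exact h _
    have hconj : F.IsConj P (img φ X) := isConj_trans F hPX (isConj_img F hφ hXA)
    have h1 := hΦφ X hXA hPX
    have h2 := hΦψ (img φ X) hφX hconj
    have e : img (ψ.comp (φ.codRestrict B h)) X = img ψ (img φ X) := img_comp h (fun _ => rfl) X
    rw [e]
    exact Joinable.trans p hS F (Nat.card P) hgood hlt hXS (img_le F hφ X) (img_le F hψ _)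
      (card_of_isConj F hconj) h1 h2
  · intro A φ hφ hΦφ ψ hψ hψx X' hX' hPX'
    have hAS : A ≤ S := hom_le F hφ
    -- `X'` is the image of `img ψ X'`
    have hψA : ∀ y : φ.range, ψ y ∈ A := by
      rintro ⟨_, x, rfl⟩
      rw [hψx]
      exact x.2
    have hXA : img ψ X' ≤ A := by
      intro z hz
      obtain ⟨y, hy, -, rfl⟩ := (mem_img ψ X' z).mp hz
      exact hψA _
    have hconj : F.IsConj P (img ψ X') := isConj_trans F hPX' (isConj_img F hψ hX')
    have h1 := hΦφ (img ψ X') hXA hconj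
    have e : img φ (img ψ X') = X' := by
      ext y
      rw [mem_img]
      constructor
      · rintro ⟨z, hzA, hz, rfl⟩
        obtain ⟨y, hy, hyX', rfl⟩ := (mem_img ψ X' z).mp hz
        obtain ⟨x, hx⟩ := id hy
        have h2 : ψ ⟨y, hy⟩ = (x : Ω) := by
          have := hψx x
          rw [← this]
          congr 1
          exact Subtype.ext hx.symm
        have h3 : (⟨ψ ⟨y, hy⟩, hzA⟩ : A) = x := Subtype.ext h2
        rw [h3, hx]
        exact hyX'
      · intro hy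
        obtain ⟨x, hx⟩ := hX' hy
        refine ⟨(x : Ω), x.2, ?_, hx⟩
        rw [mem_img]
        refine ⟨y, hX' hy, hy, ?_⟩
        have := hψx x
        rw [← this]
        congr 1
        exact Subtype.ext hx.symm
    rw [e] at h1
    exact h1.symm
  · intro A hA φ hφ X hXA hPX
    have hAS : A ≤ S := hom_le F hφ
    have hXS : X ≤ S := hXA.trans hAS
    haveI : Finite A := finite_of_le hAS
    have hne : X ≠ A := by
      rintro rfl
      exact hℋ X hPX hA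
    obtain ⟨s, hsN, hsX⟩ := exists_mem_normalizerIn_not_mem (hS.to_le hAS) hXA hne
    have hRA : normalizerIn A X ≤ A := normalizerIn_le A X
    have hRS : normalizerIn A X ≤ S := hRA.trans hAS
    haveI : Finite (normalizerIn A X) := finite_of_le hRS
    have hXR : X ≤ normalizerIn A X := le_normalizerIn hXA
    have hRN : normalizerIn A X ≤ normalizerIn S X := fun g hg => ⟨hAS hg.1, hg.2⟩
    have hcard : Nat.card X < Nat.card (normalizerIn A X) := card_lt_of_le_of_not_mem hXR hsN hsX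
    have J := confluence p hS F (Nat.card P) hgood _ (normalizerIn A X) X rfl (card_of_isConj F hPX) hXR hRN
      hcard (normalizerIn A X).subtype (φ.comp (Subgroup.inclusion hRA)) (subtype_mem F hRS)
      (restrict_mem F hRA hφ)
    rw [img_subtype hXR, img_restrict φ hRA hXR] at J
    exact J

end Cfsg.Agent.Lib.Helper88
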