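import Cfsg.Agent.Lib.Helper88.FusionSC4

set_option autoImplicit false
open Cfsg

namespace Cfsg.Agent.Lib.Helper88

open Cfsg.FusionSystem Cfsg.Agent.Lib.Helper87

variable {Ω : Type*} [Group Ω] {S : Subgroup Ω}

/-- Existence of a member of the class of `P` to whose normalizer all normalizers of members of the class map. -/
theorem exists_nmap_target [Finite S] (p : ℕ) [Fact p.Prime] (hS : IsPGroup p S) (F : FusionSystem S)
    (ℋ : Set (Subgroup Ω)) (hgen : ∀ E : FusionSystem S, (∀ P ∈ ℋ, F.Hom P ⊆ E.Hom P) → F ≤ E)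
    (P : Subgroup Ω) (hPS : P ≤ S) (hlt : Nat.card P < Nat.card S)
    (hgood : ∀ Q : Subgroup Ω, Q ≤ S → Nat.card P < Nat.card Q → Good F p Q)
    (hℋ : ∀ X, F.IsConj P X → X ∉ ℋ) :
    ∃ Ph, F.IsConj P Ph ∧ ∀ X, F.IsConj P X → NMap F X Ph := by
  obtain ⟨Ph, hPPh, hfn⟩ := exists_isFullyNormalized F hPS
  refine ⟨Ph, hPPh, fun X hPX => ?_⟩
  have hJ := joinable_of_generated p hS F ℋ hgen P hlt hgood hℋ
  have hjoin : ∀ Y, F.IsConj P Y → Joinable F P Y := by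
    intro Y hPY
    obtain ⟨φ, hφ, hr⟩ := hPY
    have := hJ P φ hφ P le_rfl (isConj_refl F hPS)
    rwa [img_self, hr] at this
  have hXS := isConj_le_right F hPX
  have hPhS := isConj_le_right F hPPh
  have J : Joinable F X Ph :=
    Joinable.trans p hS F (Nat.card P) hgood hlt hXS hPS hPhS rfl (hjoin X hPX).symm (hjoin Ph hPPh)
  obtain ⟨W, hXW, ⟨v, hv, hvW⟩⟩ := J
  have hvN : ∀ x, v x ∈ normalizerIn S (img v Ph) :=
    apply_mem_normalizerIn_img F hv (le_normalizerIn hPhS) le_rfl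
  have hconj : F.IsConj Ph W := hvW ▸ isConj_img F hv (le_normalizerIn hPhS)
  have hcard := hfn.2 W hconj
  have hvr : v.range = normalizerIn S (img v Ph) := by
    haveI : Finite (normalizerIn S (img v Ph)) := finite_of_le (normalizerIn_le S _)
    apply Subgroup.eq_of_le_of_card_ge
    · rintro _ ⟨x, rfl⟩
      exact hvN x
    · rw [hvW]
      have : Nat.card v.range = Nat.card (normalizerIn S Ph) :=
        (Nat.card_congr (MonoidHom.ofInjective (F.injective_of_mem hv)).toEquiv).symm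
      rw [this]
      exact hcard
  have h1 := nmap_of_range_eq F (le_normalizerIn hPhS) hv (subtype_mem F (normalizerIn_le S Ph)) hvr
  rw [hvW, img_subtype (le_normalizerIn hPhS)] at h1
  exact NMap.trans F hXS hXW h1

/-! ### Transport of pairs -/

theorem stabAut_map_congr (F : FusionSystem S) {R R' X X' : Subgroup Ω} {e : R ≃* R'} (he : IsFIso F e)
    (hX : ∀ x : R, (x : Ω) ∈ X ↔ ((e x : R') : Ω) ∈ X') :
    (stabAut F R X).map (MulAut.congr e).toMonoidHom = stabAut F R' X' := by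
  ext β'
  constructor
  · rintro ⟨β, ⟨hβ, hβX⟩, rfl⟩
    refine ⟨(congr_mem_autGroup_iff F he β).mpr hβ, fun x' => ?_⟩
    show (x' : Ω) ∈ X' ↔ ((e (β (e.symm x')) : R') : Ω) ∈ X'
    rw [← hX (β (e.symm x')), ← hβX (e.symm x'), hX (e.symm x'), MulEquiv.apply_symm_apply]
  · rintro ⟨hβ', hβ'X⟩
    refine ⟨MulAut.congr e.symm β', ⟨?_, fun x => ?_⟩, ?_⟩
    · exact (congr_mem_autGroup_iff F (IsFIso.symm F he) β').mpr hβ'
    · show (x : Ω) ∈ X ↔ ((e.symm (β' (e.symm.symm x)) : R) : Ω) ∈ X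
      rw [hX (e.symm (β' (e.symm.symm x))), MulEquiv.apply_symm_apply, MulEquiv.symm_symm, ← hβ'X (e x), hX x]
    · ext x'
      simp [MulAut.congr]

theorem autInducedBy_map_congr {M R R' K' : Subgroup Ω} {w : M →* Ω} (hRM : R ≤ M)
    (hMR : M ≤ Subgroup.normalizer (R : Set Ω)) (e : R ≃* R')
    (he : ∀ x : R, ((e x : R') : Ω) = w ⟨x, hRM x.2⟩) (hK : ∀ g, g ∈ K' ↔ ∃ m : M, w m = g) :
    (autInducedBy M R).map (MulAut.congr e).toMonoidHom = autInducedBy K' R' := by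
  have key : ∀ (m : M) (x' : R'), ((e (conjAut R m (hMR m.2) (e.symm x')) : R') : Ω) = w m * x' * (w m)⁻¹ := by
    intro m x'
    rw [he]
    have h1 : (⟨((conjAut R m (hMR m.2) (e.symm x') : R) : Ω), hRM (conjAut R m (hMR m.2) (e.symm x')).2⟩ : M) =
        m * ⟨(e.symm x' : R), hRM (e.symm x').2⟩ * m⁻¹ := by
      apply Subtype.ext
      rw [conjAut_apply]
      rfl
    rw [h1, map_mul, map_mul, map_inv, ← he (e.symm x'), MulEquiv.apply_symm_apply]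
  ext β'
  constructor
  · rintro ⟨α, hα, rfl⟩
    obtain ⟨m, hm, hmα⟩ := mem_autInducedBy_iff.mp hα
    have hαeq : α = conjAut R m (hMR hm) := by
      ext x
      rw [hmα, conjAut_apply]
    refine mem_autInducedBy_iff.mpr ⟨w ⟨m, hm⟩, (hK _).mpr ⟨⟨m, hm⟩, rfl⟩, fun x' => ?_⟩
    show ((e (α (e.symm x')) : R') : Ω) = _
    rw [hαeq]
    exact key ⟨m, hm⟩ x'
  · intro hβ'
    obtain ⟨g, hg, hgβ⟩ := mem_autInducedBy_iff.mp hβ'
    obtain ⟨m, rfl⟩ := (hK g).mp hg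
    refine ⟨conjAut R m (hMR m.2), conjAut_mem_autInducedBy m.2 (hMR m.2), ?_⟩
    ext x'
    show ((e (conjAut R m (hMR m.2) (e.symm x')) : R') : Ω) = _
    rw [key m x', hgβ]

/-- Transport of the fully automized condition of a pair along a map defined on its pair normalizer and onto the
pair normalizer of the image. -/
theorem PairAut.transport [Finite S] (p : ℕ) (F : FusionSystem S) {R X : Subgroup Ω} (hRS : R ≤ S)
    (hXR : X ≤ R) (hRX : R ≤ normalizerIn S X) {w : pairNorm S R X →* Ω} (hw : w ∈ F.Hom (pairNorm S R X))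
    (hsurj : ∀ g ∈ pairNorm S (img w R) (img w X), ∃ m : pairNorm S R X, w m = g)
    (h : PairAut F p R X) : PairAut F p (img w R) (img w X) := by
  have hRM : R ≤ pairNorm S R X := le_pairNorm hRS hRX
  have hwinj := F.injective_of_mem hw
  have hwR : w.comp (Subgroup.inclusion hRM) ∈ F.Hom R := restrict_mem F hRM hw
  have hwRr : (w.comp (Subgroup.inclusion hRM)).range = img w R :=
    (img_self _).symm.trans (img_restrict w hRM le_rfl)
  have he : IsFIso F (homEquiv F hwR hwRr) := isFIso_homEquiv F hwR hwRr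
  have hex : ∀ x : R, ((homEquiv F hwR hwRr x : img w R) : Ω) = w ⟨x, hRM x.2⟩ :=
    fun x => homEquiv_apply F hwR hwRr x
  have hX : ∀ x : R, (x : Ω) ∈ X ↔ ((homEquiv F hwR hwRr x : img w R) : Ω) ∈ img w X := by
    intro x
    rw [hex]
    exact (apply_mem_img_iff hwinj (⟨x, hRM x.2⟩ : pairNorm S R X)).symm
  have hK : ∀ g, g ∈ pairNorm S (img w R) (img w X) ↔ ∃ m : pairNorm S R X, w m = g := by
    intro g
    constructor
    · exact hsurj g
    · rintro ⟨m, rfl⟩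
      have hm := mem_pairNorm.mp m.2
      exact mem_pairNorm.mpr ⟨hom_mem F hw m, apply_mem_normalizer_img F hw hRM m hm.2.1,
        apply_mem_normalizer_img F hw (hXR.trans hRM) m hm.2.2⟩
  have hMR : pairNorm S R X ≤ Subgroup.normalizer (R : Set Ω) := fun g hg => (mem_pairNorm.mp hg).2.1
  have h1 := IsSylIn.map_of_injective h (MulAut.congr (homEquiv F hwR hwRr)).toMonoidHom
    (MulAut.congr (homEquiv F hwR hwRr)).injective
  rw [stabAut_map_congr F he hX, autInducedBy_map_congr hRM hMR (homEquiv F hwR hwRr) hex hK] at h1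
  exact h1

/-- Transport of the receptivity of a pair. -/
theorem PairRec.transport [Finite S] (F : FusionSystem S) {R X : Subgroup Ω} (hRS : R ≤ S)
    (hXR : X ≤ R) (hRX : R ≤ normalizerIn S X) {w : pairNorm S R X →* Ω} (hw : w ∈ F.Hom (pairNorm S R X))
    (hsurj : ∀ g ∈ pairNorm S (img w R) (img w X), ∃ m : pairNorm S R X, w m = g)
    (h : PairRec F R X) : PairRec F (img w R) (img w X) := by
  intro R₁ τ hτ hτr X₁ hX₁R₁ hR₁X₁ hτX
  have hRM : R ≤ pairNorm S R X := le_pairNorm hRS hRX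
  have hwinj := F.injective_of_mem hw
  have hτinj := F.injective_of_mem hτ
  have hR₁S : R₁ ≤ S := hom_le F hτ
  have hwR : w.comp (Subgroup.inclusion hRM) ∈ F.Hom R := restrict_mem F hRM hw
  have hwRr : (w.comp (Subgroup.inclusion hRM)).range = img w R :=
    (img_self _).symm.trans (img_restrict w hRM le_rfl)
  obtain ⟨e, he_def⟩ : ∃ e : R ≃* img w R, e = homEquiv F hwR hwRr := ⟨_, rfl⟩
  have he : IsFIso F e := he_def ▸ isFIso_homEquiv F hwR hwRr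
  have hex : ∀ x : R, ((e x : img w R) : Ω) = w ⟨x, hRM x.2⟩ := fun x => by
    rw [he_def]
    exact homEquiv_apply F hwR hwRr x
  obtain ⟨e₁, he₁_def⟩ : ∃ e₁ : R₁ ≃* img w R, e₁ = homEquiv F hτ hτr := ⟨_, rfl⟩
  have he₁ : IsFIso F e₁ := he₁_def ▸ isFIso_homEquiv F hτ hτr
  have he₁x : ∀ x : R₁, ((e₁ x : img w R) : Ω) = τ x := fun x => by
    rw [he₁_def]
    exact homEquiv_apply F hτ hτr x
  have he₀ : IsFIso F (e₁.trans e.symm) := IsFIso.trans F he₁ (IsFIso.symm F he)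
  obtain ⟨τ₀, hτ₀_def⟩ : ∃ τ₀ : R₁ →* Ω, τ₀ = R.subtype.comp (e₁.trans e.symm).toMonoidHom := ⟨_, rfl⟩
  have hτ₀ : τ₀ ∈ F.Hom R₁ := hτ₀_def ▸ he₀
  have hτ₀r : τ₀.range = R := hτ₀_def ▸ IsFIso.range_eq (e₁.trans e.symm)
  have hτ₀x : ∀ x : R₁, τ₀ x = ((e.symm (e₁ x) : R) : Ω) := fun x => by
    rw [hτ₀_def]
    rfl
  have hτ₀R : ∀ x : R₁, τ₀ x ∈ R := fun x => by
    rw [hτ₀x]
    exact (e.symm (e₁ x)).2
  have hwτ₀ : ∀ x : R₁, w ⟨τ₀ x, hRM (hτ₀R x)⟩ = τ x := by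
    intro x
    have h1 := hex (e.symm (e₁ x))
    rw [MulEquiv.apply_symm_apply, he₁x] at h1
    rw [h1]
    congr 1
    exact Subtype.ext (hτ₀x x)
  have hτ₀X : img τ₀ X₁ = X := by
    ext y
    rw [mem_img]
    constructor
    · rintro ⟨x, hx, hxX, rfl⟩
      have h1 : τ ⟨x, hx⟩ ∈ img w X := by
        rw [← hτX]
        exact apply_mem_img τ ⟨x, hx⟩ hxX
      rw [← hwτ₀ ⟨x, hx⟩] at h1
      exact (apply_mem_img_iff hwinj _).mp h1
    · intro hy
      have hyR : y ∈ R := hXR hy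
      have h1 : w ⟨y, hRM hyR⟩ ∈ img w X := apply_mem_img w ⟨y, hRM hyR⟩ hy
      have h2 : w ⟨y, hRM hyR⟩ ∈ τ.range := by
        rw [hτr]
        exact apply_mem_img w ⟨y, hRM hyR⟩ hyR
      obtain ⟨x, hx⟩ := h2
      refine ⟨x, x.2, ?_, ?_⟩
      · rw [← hτX, ← hx] at h1
        exact (apply_mem_img_iff hτinj x).mp h1
      · have h3 : w ⟨τ₀ x, hRM (hτ₀R x)⟩ = w ⟨y, hRM hyR⟩ := by
          rw [hwτ₀, hx]
        exact congrArg Subtype.val (hwinj h3)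
  have hD : extender S R₁ τ ⊓ Subgroup.normalizer (X₁ : Set Ω) ≤
      extender S R₁ τ₀ ⊓ Subgroup.normalizer (X₁ : Set Ω) := by
    rintro g ⟨hgτ, hgX⟩
    refine ⟨?_, hgX⟩
    obtain ⟨hgS, hgN, k, hkS, hk⟩ := mem_extender_iff.mp hgτ
    haveI : Finite (img w R) := finite_of_le (img_le F hw R)
    haveI : Finite (img w X) := finite_of_le (img_le F hw X)
    have hkR : k ∈ Subgroup.normalizer (img w R : Set Ω) := by
      apply mem_normalizer_of_conj_mem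
      intro y hy
      rw [← hτr] at hy ⊢
      obtain ⟨x, rfl⟩ := hy
      have hx' : g * (x : Ω) * g⁻¹ ∈ R₁ := (Subgroup.mem_normalizer_iff.mp hgN x).mp x.2
      rw [← hk x hx']
      exact ⟨_, rfl⟩
    have hkX : k ∈ Subgroup.normalizer (img w X : Set Ω) := by
      apply mem_normalizer_of_conj_mem
      intro y hy
      rw [← hτX] at hy ⊢
      obtain ⟨x, hxR, hxX, rfl⟩ := (mem_img τ X₁ y).mp hy
      have hx' : g * x * g⁻¹ ∈ R₁ := (Subgroup.mem_normalizer_iff.mp hgN x).mp hxR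
      have hx'' : g * x * g⁻¹ ∈ X₁ := (Subgroup.mem_normalizer_iff.mp hgX x).mp hxX
      rw [← hk ⟨x, hxR⟩ hx']
      exact apply_mem_img τ ⟨_, hx'⟩ hx''
    obtain ⟨m, hm⟩ := hsurj k (mem_pairNorm.mpr ⟨hkS, hkR, hkX⟩)
    show g ∈ extender S R₁ τ₀
    refine mem_extender_iff.mpr ⟨hgS, hgN, (m : Ω), pairNorm_le S R X m.2, fun x hx => ?_⟩
    have hmR : (m : Ω) ∈ Subgroup.normalizer (R : Set Ω) := (mem_pairNorm.mp m.2).2.1
    have hmx : (m : Ω) * τ₀ x * (m : Ω)⁻¹ ∈ R := (Subgroup.mem_normalizer_iff.mp hmR _).mp (hτ₀R x)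
    have h1 : w ⟨τ₀ ⟨g * x * g⁻¹, hx⟩, hRM (hτ₀R _)⟩ = w ⟨(m : Ω) * τ₀ x * (m : Ω)⁻¹, hRM hmx⟩ := by
      have h2 : (⟨(m : Ω) * τ₀ x * (m : Ω)⁻¹, hRM hmx⟩ : pairNorm S R X) =
          m * ⟨τ₀ x, hRM (hτ₀R x)⟩ * m⁻¹ := Subtype.ext rfl
      rw [hwτ₀, hk x hx, h2, map_mul, map_mul, map_inv, hwτ₀ x, hm]
    exact congrArg Subtype.val (hwinj h1)
  have hR₁D₀ : R₁ ≤ extender S R₁ τ₀ ⊓ Subgroup.normalizer (X₁ : Set Ω) :=
    le_inf (le_extender hR₁S (hom_mem F hτ₀)) hR₁X₁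
  obtain ⟨ψ₀, hψ₀, hext₀⟩ := h R₁ τ₀ hτ₀ hτ₀r X₁ hX₁R₁ hR₁X₁ hτ₀X
  have hagree : ∀ (x : Ω) (hx : x ∈ R₁), ψ₀ ⟨x, hR₁D₀ hx⟩ = τ₀ ⟨x, hx⟩ := fun x hx => hext₀ x hx (hR₁D₀ hx)
  have hψ₀R : img ψ₀ R₁ = R := by
    rw [img_congr hR₁D₀ hagree le_rfl, img_self, hτ₀r]
  have hψ₀X : img ψ₀ X₁ = X := by
    rw [img_congr hR₁D₀ hagree hX₁R₁, hτ₀X]
  have hψ₀M : ∀ g : (extender S R₁ τ₀ ⊓ Subgroup.normalizer (X₁ : Set Ω) : Subgroup Ω),
      ψ₀ g ∈ pairNorm S R X := by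
    intro g
    have hgN : (g : Ω) ∈ Subgroup.normalizer (R₁ : Set Ω) := (extender_le S R₁ τ₀ g.2.1).2
    refine mem_pairNorm.mpr ⟨hom_mem F hψ₀ g, ?_, ?_⟩
    · rw [← hψ₀R]
      exact apply_mem_normalizer_img F hψ₀ hR₁D₀ g hgN
    · rw [← hψ₀X]
      exact apply_mem_normalizer_img F hψ₀ (hX₁R₁.trans hR₁D₀) g g.2.2
  obtain ⟨χ, hχ, hχx⟩ := exists_comp F hψ₀ hw hψ₀M
  refine ⟨χ.comp (Subgroup.inclusion hD), restrict_mem F hD hχ, fun x hR₁ hN => ?_⟩
  show χ ⟨x, hD hN⟩ = τ ⟨x, hR₁⟩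
  rw [hχx, ← hwτ₀ ⟨x, hR₁⟩]
  congr 1
  apply Subtype.ext
  exact hext₀ x hR₁ (hD hN)

/-- A fully automized receptive pair has the largest pair normalizer among the pairs isomorphic to it. -/
theorem card_pairNorm_le [Finite S] (p : ℕ) [Fact p.Prime] (hS : IsPGroup p S) (F : FusionSystem S)
    {R X : Subgroup Ω} (hRS : R ≤ S) (hPA : PairAut F p R X) (hPR : PairRec F R X)
    {R' X' : Subgroup Ω} {τ : R' →* Ω} (hτ : τ ∈ F.Hom R') (hτr : τ.range = R) (hX'R' : X' ≤ R')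
    (hτX : img τ X' = X) (hR'N : R' ≤ normalizerIn S X') :
    Nat.card (pairNorm S R' X') ≤ Nat.card (pairNorm S R X) := by
  have hR'S := hom_le F hτ
  have hR'M := le_pairNorm hR'S hR'N
  obtain ⟨κ, -, ψ, hψ, -, hψX, hψR⟩ := exists_pair_extension p hS F hRS hPA hPR hτ hτr hX'R' hτX hR'M le_rfl
  have hmem : ∀ x : pairNorm S R' X', ψ x ∈ pairNorm S R X := by
    intro x
    have hx := mem_pairNorm.mp x.2
    refine mem_pairNorm.mpr ⟨hom_mem F hψ x, ?_, ?_⟩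
    · rw [← hψR]
      exact apply_mem_normalizer_img F hψ hR'M x hx.2.1
    · rw [← hψX]
      exact apply_mem_normalizer_img F hψ (hX'R'.trans hR'M) x hx.2.2
  haveI : Finite (pairNorm S R X) := finite_of_le (pairNorm_le S R X)
  exact Nat.card_le_card_of_injective (fun x => (⟨ψ x, hmem x⟩ : pairNorm S R X))
    (fun a b hab => F.injective_of_mem hψ (congrArg Subtype.val hab))

/-- Every subgroup between `Ph` and its normalizer is isomorphic, by a map preserving `Ph`, to the first member of a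
fully automized receptive pair over `Ph`. -/
theorem exists_fn_pair_over [Finite S] (p : ℕ) [Fact p.Prime] (hS : IsPGroup p S) (F : FusionSystem S)
    {Ph : Subgroup Ω}
    (hgood : ∀ Q : Subgroup Ω, Q ≤ S → Nat.card Ph < Nat.card Q → Good F p Q)
    (hnm : ∀ X, F.IsConj Ph X → NMap F X Ph)
    {R : Subgroup Ω} (hPhR : Ph ≤ R) (hRN : R ≤ normalizerIn S Ph) (hlt : Nat.card Ph < Nat.card R) :
    ∃ θ ∈ F.Hom R, img θ Ph = Ph ∧ PairAut F p θ.range Ph ∧ PairRec F θ.range Ph := by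
  have hRS : R ≤ S := hRN.trans (normalizerIn_le S Ph)
  obtain ⟨θ₁, hθ₁, hrec, -, hPA⟩ := exists_fn_pair p hS F (X := Ph) (hgood R hRS hlt)
  have hR₁S : θ₁.range ≤ S := hrec.1
  have hPR := pairRec_of_isReceptive F hrec (img θ₁ Ph)
  have hX₁R₁ : img θ₁ Ph ≤ θ₁.range := img_le_range θ₁ Ph
  have hR₁N : θ₁.range ≤ normalizerIn S (img θ₁ Ph) := by
    rintro _ ⟨r, rfl⟩
    exact apply_mem_normalizerIn_img F hθ₁ hPhR hRN r
  have hconj : F.IsConj Ph (img θ₁ Ph) := isConj_img F hθ₁ hPhR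
  obtain ⟨u, hu, huX⟩ := hnm (img θ₁ Ph) hconj
  have hM₁N : pairNorm S θ₁.range (img θ₁ Ph) ≤ normalizerIn S (img θ₁ Ph) := pairNorm_le_normalizerIn' S _ _
  have hR₁M₁ : θ₁.range ≤ pairNorm S θ₁.range (img θ₁ Ph) := le_pairNorm hR₁S hR₁N
  obtain ⟨w, hw_def⟩ : ∃ w : pairNorm S θ₁.range (img θ₁ Ph) →* Ω, w = u.comp (Subgroup.inclusion hM₁N) :=
    ⟨_, rfl⟩
  have hw : w ∈ F.Hom (pairNorm S θ₁.range (img θ₁ Ph)) := hw_def ▸ restrict_mem F hM₁N hu
  have hwX : img w (img θ₁ Ph) = Ph := by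
    rw [hw_def, img_restrict u hM₁N (hX₁R₁.trans hR₁M₁), huX]
  have hwinj := F.injective_of_mem hw
  have hwM : ∀ m : pairNorm S θ₁.range (img θ₁ Ph), w m ∈ pairNorm S (img w θ₁.range) Ph := by
    intro m
    have hm := mem_pairNorm.mp m.2
    refine mem_pairNorm.mpr ⟨hom_mem F hw m, apply_mem_normalizer_img F hw hR₁M₁ m hm.2.1, ?_⟩
    have := apply_mem_normalizer_img F hw (hX₁R₁.trans hR₁M₁) m hm.2.2
    rwa [hwX] at this
  have hwR : w.comp (Subgroup.inclusion hR₁M₁) ∈ F.Hom θ₁.range := restrict_mem F hR₁M₁ hw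
  have hwRr : (w.comp (Subgroup.inclusion hR₁M₁)).range = img w θ₁.range :=
    (img_self _).symm.trans (img_restrict w hR₁M₁ le_rfl)
  obtain ⟨τ, hτ, hτx, hτr⟩ := inv_mem' F hwR hwRr
  have hPhR₂ : Ph ≤ img w θ₁.range := by
    have := img_mono w hX₁R₁
    rwa [hwX] at this
  have hτX : img τ Ph = img θ₁ Ph := by
    have := img_inv_img F hwR hτx hwRr hX₁R₁
    rwa [img_restrict w hR₁M₁ hX₁R₁, hwX] at this
  have hR₂N : img w θ₁.range ≤ normalizerIn S Ph := by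
    intro y hy
    obtain ⟨x, hxM, hxR, rfl⟩ := (mem_img w θ₁.range y).mp hy
    exact pairNorm_le_normalizerIn' S _ Ph (hwM ⟨x, hxM⟩)
  have hcard := card_pairNorm_le p hS F hR₁S hPA hPR hτ hτr hPhR₂ hτX hR₂N
  haveI : Finite (pairNorm S (img w θ₁.range) Ph) := finite_of_le (pairNorm_le S _ Ph)
  have hwr : w.range = pairNorm S (img w θ₁.range) Ph := by
    apply Subgroup.eq_of_le_of_card_ge
    · rintro _ ⟨m, rfl⟩
      exact hwM m
    · have : Nat.card w.range = Nat.card (pairNorm S θ₁.range (img θ₁ Ph)) :=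
        (Nat.card_congr (MonoidHom.ofInjective hwinj).toEquiv).symm
      rw [this]
      exact hcard
  have hsurj : ∀ g ∈ pairNorm S (img w θ₁.range) (img w (img θ₁ Ph)),
      ∃ m : pairNorm S θ₁.range (img θ₁ Ph), w m = g := by
    intro g hg
    rw [hwX, ← hwr] at hg
    exact hg
  have hPA₂ := PairAut.transport p F hR₁S hX₁R₁ hR₁N hw hsurj hPA
  have hPR₂ := PairRec.transport F hR₁S hX₁R₁ hR₁N hw hsurj hPR
  rw [hwX] at hPA₂ hPR₂
  have hθ₁M : ∀ x : R, θ₁ x ∈ pairNorm S θ₁.range (img θ₁ Ph) := fun x => hR₁M₁ ⟨x, rfl⟩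
  obtain ⟨θ, hθ, hθx⟩ := exists_comp F hθ₁ hw hθ₁M
  have hθr : θ.range = img w θ₁.range := by
    rw [← img_self θ, img_comp hθ₁M hθx, img_self θ₁]
  refine ⟨θ, hθ, ?_, ?_, ?_⟩
  · rw [img_comp hθ₁M hθx, hwX]
  · rw [hθr]
    exact hPA₂
  · rw [hθr]
    exact hPR₂

end Cfsg.Agent.Lib.Helper88
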