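import Cfsg.Agent.Lib.Helper88.SylowIn

set_option autoImplicit false

namespace Cfsg.Agent.Lib.Helper88

variable {G : Type*} [Group G]

/-- A Sylow subgroup of `H` contained in a smaller subgroup `H'` is a Sylow subgroup of `H'`. -/
theorem IsSylIn.mono {p : ℕ} [Fact p.Prime] {Y H H' : Subgroup G} [Finite H] (h : IsSylIn p Y H)
    (hY : Y ≤ H') (hH : H' ≤ H) : IsSylIn p Y H' := by
  haveI : Finite H' := Finite.of_injective (Subgroup.inclusion hH) (Subgroup.inclusion_injective hH)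
  refine ⟨hY, ?_⟩
  rw [h.2]
  congr 1
  have hp := (Fact.out : p.Prime)
  have h1 : Nat.card H' ∣ Nat.card H := Subgroup.card_dvd_of_le hH
  have h2 : Nat.card Y ∣ Nat.card H' := Subgroup.card_dvd_of_le hY
  rw [h.2] at h2
  have hH'0 : Nat.card H' ≠ 0 := Nat.card_pos.ne'
  have hH0 : Nat.card H ≠ 0 := Nat.card_pos.ne'
  apply le_antisymm
  · exact (hp.pow_dvd_iff_le_factorization hH'0).mp h2
  · exact (Nat.factorization_le_iff_dvd hH'0 hH0).mpr h1 p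

/-- The image of a Sylow subgroup under a homomorphism defined on the subgroup is a Sylow subgroup of the image. -/
theorem IsSylIn.map_hom {p : ℕ} [Fact p.Prime] {G' : Type*} [Group G'] {Y H : Subgroup G} [Finite H]
    (h : IsSylIn p Y H) (f : ↥H →* G') : IsSylIn p ((Y.subgroupOf H).map f) f.range := by
  obtain ⟨-, R, hR⟩ := isSylIn_iff.mp h
  have hsurj : Function.Surjective f.rangeRestrict := f.rangeRestrict_surjective
  haveI : Finite f.range := Finite.of_surjective _ hsurj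
  rw [isSylIn_iff]
  refine ⟨?_, R.mapSurjective hsurj, ?_⟩
  · rintro _ ⟨y, -, rfl⟩
    exact ⟨y, rfl⟩
  · rw [Sylow.coe_mapSurjective, hR]
    ext ⟨z, hz⟩
    rw [Subgroup.mem_subgroupOf]
    constructor
    · rintro ⟨y, hy, hyz⟩
      exact ⟨y, hy, congrArg Subtype.val hyz⟩
    · rintro ⟨y, hy, hyz⟩
      exact ⟨y, hy, Subtype.ext hyz⟩

/-- A Sylow subgroup of a `p`-group is the whole group. -/
theorem IsSylIn.eq_of_isPGroup {p : ℕ} [Fact p.Prime] {Y H : Subgroup G} [Finite H] (h : IsSylIn p Y H)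
    (hH : IsPGroup p H) : Y = H := (h.eq_of_le le_rfl hH h.1).symm

/-- If `f` maps `v` into a `p`-subgroup normalized by the image of `f`, then `f v` is the image of an element of a
given Sylow subgroup. -/
theorem IsSylIn.exists_map_eq {p : ℕ} [Fact p.Prime] {G' : Type*} [Group G'] {Y H : Subgroup G} [Finite H]
    (h : IsSylIn p Y H) (f : ↥H →* G') (K' : Subgroup G') (hK' : IsPGroup p K')
    (hn : ∀ (a : ↥H), ∀ k ∈ K', f a * k * (f a)⁻¹ ∈ K') (v : ↥H) (hv : f v ∈ K') :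
    ∃ y : ↥H, (y : G) ∈ Y ∧ f y = f v := by
  have hVH : (K'.comap f).map H.subtype ≤ H := Subgroup.map_subtype_le _
  have hmemV : ∀ z : G, z ∈ (K'.comap f).map H.subtype ↔ ∃ hz : z ∈ H, f ⟨z, hz⟩ ∈ K' := by
    intro z
    constructor
    · rintro ⟨v₀, hv₀, rfl⟩
      exact ⟨v₀.2, hv₀⟩
    · rintro ⟨hz, hfz⟩
      exact ⟨⟨z, hz⟩, hfz, rfl⟩
  have hnV : ∀ k ∈ H, ∀ z ∈ (K'.comap f).map H.subtype, k * z * k⁻¹ ∈ (K'.comap f).map H.subtype := by
    intro k hk z hz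
    obtain ⟨hzH, hfz⟩ := (hmemV z).mp hz
    refine (hmemV _).mpr ⟨H.mul_mem (H.mul_mem hk hzH) (H.inv_mem hk), ?_⟩
    have e : (⟨k * z * k⁻¹, H.mul_mem (H.mul_mem hk hzH) (H.inv_mem hk)⟩ : ↥H) =
        ⟨k, hk⟩ * ⟨z, hzH⟩ * ⟨k, hk⟩⁻¹ := Subtype.ext rfl
    rw [e, map_mul, map_mul, map_inv]
    exact hn _ _ hfz
  have hsyl := h.inf_normal hVH hnV
  haveI : Finite ((K'.comap f).map H.subtype : Subgroup G) :=
    Finite.of_injective (Subgroup.inclusion hVH) (Subgroup.inclusion_injective hVH)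
  have hsyl2 := hsyl.map_hom (f.comp (Subgroup.inclusion hVH))
  have hle : (f.comp (Subgroup.inclusion hVH)).range ≤ K' := by
    rintro _ ⟨z, rfl⟩
    obtain ⟨hzH, hfz⟩ := (hmemV z).mp z.2
    exact hfz
  haveI : Finite (f.comp (Subgroup.inclusion hVH)).range :=
    Finite.of_surjective _ (f.comp (Subgroup.inclusion hVH)).rangeRestrict_surjective
  have heq := hsyl2.eq_of_isPGroup (hK'.to_le hle)
  have hvV : (v : G) ∈ (K'.comap f).map H.subtype := (hmemV _).mpr ⟨v.2, hv⟩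
  have hfv : f v ∈ (f.comp (Subgroup.inclusion hVH)).range := ⟨⟨v, hvV⟩, rfl⟩
  rw [← heq] at hfv
  obtain ⟨z, hz, hzv⟩ := hfv
  refine ⟨Subgroup.inclusion hVH z, ?_, hzv⟩
  have := Subgroup.mem_subgroupOf.mp hz
  exact this.1

theorem mem_map_comap_subtype {G' : Type*} [Group G'] {H : Subgroup G} (f : ↥H →* G') (K' : Subgroup G') (z : G) :
    z ∈ (K'.comap f).map H.subtype ↔ ∃ hz : z ∈ H, f ⟨z, hz⟩ ∈ K' := by
  constructor
  · rintro ⟨v₀, hv₀, rfl⟩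
    exact ⟨v₀.2, hv₀⟩
  · rintro ⟨hz, hfz⟩
    exact ⟨⟨z, hz⟩, hfz, rfl⟩

/-- Frattini argument for the preimage of a normalized `p`-subgroup, with the first factor taken in the Sylow
subgroup. -/
theorem IsSylIn.frattini_map {p : ℕ} [Fact p.Prime] {G' : Type*} [Group G'] {Y H : Subgroup G} [Finite H]
    (h : IsSylIn p Y H) (f : ↥H →* G') (K' : Subgroup G') (hK' : IsPGroup p K')
    (hn : ∀ (a : ↥H), ∀ k ∈ K', f a * k * (f a)⁻¹ ∈ K') (κ : ↥H) :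
    ∃ y ν : ↥H, (y : G) ∈ Y ∧ f y ∈ K' ∧ f κ = f y * f ν ∧
      ∀ z : ↥H, (z : G) ∈ Y → f z ∈ K' → ((ν * z * ν⁻¹ : ↥H) : G) ∈ Y ∧ f (ν * z * ν⁻¹) ∈ K' := by
  have hVH : (K'.comap f).map H.subtype ≤ H := Subgroup.map_subtype_le _
  have hnV : ∀ k ∈ H, ∀ z ∈ (K'.comap f).map H.subtype, k * z * k⁻¹ ∈ (K'.comap f).map H.subtype := by
    intro k hk z hz
    obtain ⟨hzH, hfz⟩ := (mem_map_comap_subtype f K' z).mp hz
    refine (mem_map_comap_subtype f K' _).mpr ⟨H.mul_mem (H.mul_mem hk hzH) (H.inv_mem hk), ?_⟩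
    have e : (⟨k * z * k⁻¹, H.mul_mem (H.mul_mem hk hzH) (H.inv_mem hk)⟩ : ↥H) =
        ⟨k, hk⟩ * ⟨z, hzH⟩ * ⟨k, hk⟩⁻¹ := Subtype.ext rfl
    rw [e, map_mul, map_mul, map_inv]
    exact hn _ _ hfz
  obtain ⟨v, hv, n, hnH, hκ, hnn⟩ := h.frattini hVH hnV κ.2
  obtain ⟨hvH, hfv⟩ := (mem_map_comap_subtype f K' v).mp hv
  obtain ⟨y, hyY, hyv⟩ := h.exists_map_eq f K' hK' hn ⟨v, hvH⟩ hfv
  refine ⟨y, ⟨n, hnH⟩, hyY, hyv ▸ hfv, ?_, fun z hzY hzK => ?_⟩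
  · have e : κ = ⟨v, hvH⟩ * ⟨n, hnH⟩ := Subtype.ext hκ
    rw [e, map_mul, hyv]
  · have hzV : (z : G) ∈ (K'.comap f).map H.subtype := (mem_map_comap_subtype f K' _).mpr ⟨z.2, hzK⟩
    have h1 := hnn (z : G) ⟨hzY, hzV⟩
    refine ⟨h1.1, ?_⟩
    obtain ⟨hz', hfz'⟩ := (mem_map_comap_subtype f K' _).mp h1.2
    exact hfz'

end Cfsg.Agent.Lib.Helper88
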