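import Cfsg.Agent.Lib.Helper88.FusionSC5
import Cfsg.Agent.Lib.Helper88.SylowIn2
import Cfsg.Agent.Lib.Helper88.FusionExtMod3
import Cfsg.Agent.Lib.Helper90.FusionRadical

set_option autoImplicit false
open Cfsg

namespace Cfsg.Agent.Lib.Helper88

open Cfsg.FusionSystem Cfsg.Agent.Lib.Helper87

variable {Ω : Type*} [Group Ω] {S : Subgroup Ω}

/-! ### The subgroup of elements inducing automorphisms in a given group -/

/-- The elements of `S` inducing on `Ph` an automorphism lying in `K`. -/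
def coreSub (S Ph : Subgroup Ω) (K : Subgroup (MulAut Ph)) : Subgroup Ω where
  carrier := {g | g ∈ S ∧ ∃ k ∈ K, ∀ x : Ph, ((k x : Ph) : Ω) = g * x * g⁻¹}
  one_mem' := ⟨S.one_mem, 1, K.one_mem, fun x => by simp⟩
  mul_mem' := by
    rintro a b ⟨ha, k, hk, hka⟩ ⟨hb, l, hl, hlb⟩
    refine ⟨S.mul_mem ha hb, k * l, K.mul_mem hk hl, fun x => ?_⟩
    rw [MulAut.mul_apply, hka, hlb]
    group
  inv_mem' := by
    rintro a ⟨ha, k, hk, hka⟩
    refine ⟨S.inv_mem ha, k⁻¹, K.inv_mem hk, fun x => ?_⟩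
    have := hka (k⁻¹ x)
    rw [MulAut.apply_inv_self] at this
    rw [this]
    group

theorem mem_coreSub {S Ph : Subgroup Ω} {K : Subgroup (MulAut Ph)} {g : Ω} :
    g ∈ coreSub S Ph K ↔ g ∈ S ∧ ∃ k ∈ K, ∀ x : Ph, ((k x : Ph) : Ω) = g * x * g⁻¹ := Iff.rfl

theorem coreSub_le (S Ph : Subgroup Ω) (K : Subgroup (MulAut Ph)) : coreSub S Ph K ≤ S := fun _ h => h.1

theorem coreSub_le_normalizerIn (S Ph : Subgroup Ω) (K : Subgroup (MulAut Ph)) :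
    coreSub S Ph K ≤ normalizerIn S Ph := by
  rintro g ⟨hg, k, -, hk⟩
  exact ⟨hg, mem_normalizer_of_conj_eq hk⟩

/-- In a finite `p`-group, if `R` normalizes `T` and does not contain it, some element of `T` outside `R`
normalizes `R`. -/
theorem exists_mem_normalizer_not_mem_of_not_le [Finite S] {p : ℕ} [Fact p.Prime] (hS : IsPGroup p S) {R T : Subgroup Ω}
    (hRS : R ≤ S) (hTS : T ≤ S) (hn : ∀ x ∈ R, ∀ t ∈ T, x * t * x⁻¹ ∈ T) (hTR : ¬ T ≤ R) :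
    ∃ g ∈ T, g ∈ Subgroup.normalizer (R : Set Ω) ∧ g ∉ R := by
  have hHS : R ⊔ T ≤ S := sup_le hRS hTS
  haveI : Finite (R ⊔ T : Subgroup Ω) := finite_of_le hHS
  have hne : R ≠ R ⊔ T := by
    intro h
    apply hTR
    rw [h]
    exact le_sup_right
  obtain ⟨s, hsN, hsR⟩ := exists_mem_normalizerIn_not_mem (hS.to_le hHS) (le_sup_left : R ≤ R ⊔ T) hne
  obtain ⟨x, hx, t, ht, rfl⟩ := exists_mul_of_mem_sup hn hsN.1
  refine ⟨t, ht, ?_, ?_⟩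
  · have h1 : x⁻¹ ∈ Subgroup.normalizer (R : Set Ω) := Subgroup.le_normalizer (R.inv_mem hx)
    have h2 := Subgroup.mul_mem _ h1 hsN.2
    rwa [inv_mul_cancel_left] at h2
  · intro htR
    exact hsR (R.mul_mem hx htR)

/-! ### Restriction to `Ph` -/

/-- `β` restricts on `Ph` to the automorphism `α`. -/
def Restr {R Ph : Subgroup Ω} (β : R →* Ω) (α : MulAut Ph) : Prop :=
  ∀ (x : Ω) (hx : x ∈ Ph) (hxR : x ∈ R), β ⟨x, hxR⟩ = ((α ⟨x, hx⟩ : Ph) : Ω)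

theorem Restr.img_eq {R Ph : Subgroup Ω} {β : R →* Ω} {α : MulAut Ph} (h : Restr β α) (hPhR : Ph ≤ R) :
    img β Ph = Ph := by
  ext y
  rw [mem_img]
  constructor
  · rintro ⟨x, hxR, hx, rfl⟩
    rw [h x hx hxR]
    exact (α ⟨x, hx⟩).2
  · intro hy
    refine ⟨(α⁻¹ ⟨y, hy⟩ : Ph), hPhR (α⁻¹ ⟨y, hy⟩).2, (α⁻¹ ⟨y, hy⟩).2, ?_⟩
    rw [h _ (α⁻¹ ⟨y, hy⟩).2]
    show ((α (α⁻¹ ⟨y, hy⟩) : Ph) : Ω) = y
    rw [MulAut.apply_inv_self]

theorem Restr.mem_autGroup (F : FusionSystem S) {R Ph : Subgroup Ω} {β : R →* Ω} {α : MulAut Ph}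
    (h : Restr β α) (hβ : β ∈ F.Hom R) (hPhR : Ph ≤ R) : α ∈ F.autGroup Ph := by
  rw [mem_autGroup_iff F (hPhR.trans (hom_le F hβ))]
  exact hom_congr F (restrict_mem F hPhR hβ) (fun x => (h x x.2 (hPhR x.2)).symm)

theorem exists_restr (F : FusionSystem S) {R Ph : Subgroup Ω} {β : R →* Ω} (hβ : β ∈ F.Hom R) (hPhR : Ph ≤ R)
    (himg : img β Ph = Ph) : ∃ α : MulAut Ph, Restr β α := by
  have hr : (β.comp (Subgroup.inclusion hPhR)).range = Ph :=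
    ((img_self _).symm.trans (img_restrict β hPhR le_rfl)).trans himg
  refine ⟨homEquiv F (restrict_mem F hPhR hβ) hr, fun x hx hxR => ?_⟩
  rw [homEquiv_apply]
  rfl

theorem Restr.restrict {R R₁ Ph : Subgroup Ω} {β : R →* Ω} {α : MulAut Ph} (h : Restr β α) (hR₁R : R₁ ≤ R) :
    Restr (β.comp (Subgroup.inclusion hR₁R)) α := fun x hx hxR => h x hx (hR₁R hxR)

theorem Restr.comp {R R' Ph : Subgroup Ω} {β : R →* Ω} {β' : R' →* Ω} {α α' : MulAut Ph}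
    (hmem : ∀ x : R, β x ∈ R') {χ : R →* Ω} (hχ : ∀ x : R, χ x = β' ⟨β x, hmem x⟩) (h : Restr β α)
    (h' : Restr β' α') : Restr χ (α' * α) := by
  intro x hx hxR
  rw [hχ, MulAut.mul_apply]
  have h1 := h x hx hxR
  have h2 := h' ((α ⟨x, hx⟩ : Ph) : Ω) (α ⟨x, hx⟩).2 (h1 ▸ hmem ⟨x, hxR⟩)
  rw [← h2]
  congr 1
  exact Subtype.ext h1

theorem Restr.inv {R R' Ph : Subgroup Ω} {β : R →* Ω} {βi : R' →* Ω} {α : MulAut Ph} (hPhR : Ph ≤ R)
    (hβi : ∀ (x : R) (y : R'), β x = (y : Ω) → βi y = (x : Ω)) (h : Restr β α) : Restr βi α⁻¹ := by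
  intro x hx hxR'
  have h1 := h ((α⁻¹ ⟨x, hx⟩ : Ph) : Ω) (α⁻¹ ⟨x, hx⟩).2 (hPhR (α⁻¹ ⟨x, hx⟩).2)
  have h2 : ((α (α⁻¹ ⟨x, hx⟩) : Ph) : Ω) = x := by
    rw [MulAut.apply_inv_self]
  exact hβi ⟨_, hPhR (α⁻¹ ⟨x, hx⟩).2⟩ ⟨x, hxR'⟩ (h1.trans h2)

theorem Restr.unique {R Ph : Subgroup Ω} {β : R →* Ω} {α α' : MulAut Ph} (hPhR : Ph ≤ R) (h : Restr β α)
    (h' : Restr β α') : α = α' := by
  ext x
  rw [← h x x.2 (hPhR x.2), ← h' x x.2 (hPhR x.2)]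

theorem restr_conjHom {R Ph : Subgroup Ω} {g : Ω} (hg : g ∈ Subgroup.normalizer (Ph : Set Ω)) :
    Restr (conjHom R g) (conjAut Ph g hg) := by
  intro x hx hxR
  rw [conjAut_apply]
  rfl

theorem restr_subtype {R Ph : Subgroup Ω} : Restr R.subtype (1 : MulAut Ph) := fun _ _ _ => rfl

/-! ### The restriction homomorphism on the stabilizer -/

/-- Restriction to `X` of the automorphisms of `R` stabilizing `X`. -/
noncomputable def stabResHom (F : FusionSystem S) {R X : Subgroup Ω} (hXR : X ≤ R) :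
    ↥(stabAut F R X) →* MulAut X where
  toFun β := Cfsg.Agent.Lib.Helper90.restrictAut hXR β.1 (fun x => (β.2.2 ⟨x, hXR x.2⟩).mp x.2)
    (fun x => (((stabAut F R X).inv_mem β.2).2 ⟨x, hXR x.2⟩).mp x.2)
  map_one' := by
    ext x
    rfl
  map_mul' a b := by
    ext x
    rfl

theorem stabResHom_apply (F : FusionSystem S) {R X : Subgroup Ω} (hXR : X ≤ R) (β : ↥(stabAut F R X)) (x : X) :
    ((stabResHom F hXR β x : X) : Ω) = ((β.1 ⟨x, hXR x.2⟩ : R) : Ω) := rfl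

theorem restr_stabResHom (F : FusionSystem S) {R X : Subgroup Ω} (hXR : X ≤ R) (β : ↥(stabAut F R X)) :
    Restr (R.subtype.comp (β.1 : R ≃* R).toMonoidHom) (stabResHom F hXR β) := fun _ _ _ => rfl

end Cfsg.Agent.Lib.Helper88
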