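import Cfsg.Agent.Lib.Helper88.FusionSC6

set_option autoImplicit false
open Cfsg

namespace Cfsg.Agent.Lib.Helper88

open Cfsg.FusionSystem Cfsg.Agent.Lib.Helper87

variable {Ω : Type*} [Group Ω] {S : Subgroup Ω}

/-- The data and hypotheses of the inductive step of the saturation criterion: `Ph` is a member of its class to
whose normalizer all normalizers of the class map, all larger subgroups are good, and `K` is a normal `p`-subgroup
of `Aut_F(Ph)` containing the inner automorphisms, some element outside `Ph` inducing an element of `K`. -/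
structure SCtx [Finite S] (F : FusionSystem S) (p : ℕ) (Ph : Subgroup Ω) (K : Subgroup (MulAut Ph)) : Prop where
  hS : IsPGroup p S
  hPhS : Ph ≤ S
  hgood : ∀ Q : Subgroup Ω, Q ≤ S → Nat.card Ph < Nat.card Q → Good F p Q
  hnm : ∀ X, F.IsConj Ph X → NMap F X Ph
  hKA : K ≤ F.autGroup Ph
  hKn : ∀ a ∈ F.autGroup Ph, ∀ k ∈ K, a * k * a⁻¹ ∈ K
  hKp : IsPGroup p K
  hInn : ∀ g ∈ Ph, ∃ k ∈ K, ∀ x : Ph, ((k x : Ph) : Ω) = g * x * g⁻¹
  hbig : ∃ g ∈ coreSub S Ph K, g ∉ Ph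

namespace SCtx

variable [Finite S] {F : FusionSystem S} {p : ℕ} [Fact p.Prime] {Ph : Subgroup Ω} {K : Subgroup (MulAut Ph)}

theorem le_coreSub (c : SCtx F p Ph K) : Ph ≤ coreSub S Ph K := fun g hg => ⟨c.hPhS hg, c.hInn g hg⟩

theorem coreSub_normal (c : SCtx F p Ph K) :
    ∀ n ∈ normalizerIn S Ph, ∀ g ∈ coreSub S Ph K, n * g * n⁻¹ ∈ coreSub S Ph K := by
  rintro n hn g ⟨hg, k, hk, hkx⟩
  refine ⟨S.mul_mem (S.mul_mem hn.1 hg) (S.inv_mem hn.1),
    conjAut Ph n hn.2 * k * (conjAut Ph n hn.2)⁻¹, ?_, fun x => ?_⟩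
  · exact c.hKn _ (autInducedBy_le_autGroup F c.hPhS (conjAut_mem_autInducedBy hn.1 hn.2)) k hk
  · have h1 : (((conjAut Ph n hn.2)⁻¹ x : Ph) : Ω) = n⁻¹ * x * n := by
      have := conjAut_apply Ph n hn.2 ((conjAut Ph n hn.2)⁻¹ x)
      rw [MulAut.apply_inv_self] at this
      rw [this]
      group
    rw [MulAut.mul_apply, MulAut.mul_apply, conjAut_apply, hkx, h1]
    group

/-- Weak closure of the core subgroup. -/
theorem range_eq_coreSub (c : SCtx F p Ph K) {β : coreSub S Ph K →* Ω} (hβ : β ∈ F.Hom (coreSub S Ph K))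
    {α : MulAut Ph} (h : Restr β α) : β.range = coreSub S Ph K := by
  have hPhR₀ := c.le_coreSub
  have hαA : α ∈ F.autGroup Ph := h.mem_autGroup F hβ hPhR₀
  haveI : Finite (coreSub S Ph K) := finite_of_le (coreSub_le S Ph K)
  apply Subgroup.eq_of_le_of_card_ge
  · rintro _ ⟨g, rfl⟩
    obtain ⟨hgS, k, hk, hkx⟩ := g.2
    refine ⟨hom_mem F hβ g, α * k * α⁻¹, c.hKn α hαA k hk, fun x => ?_⟩
    have hx : ((α (α⁻¹ x) : Ph) : Ω) = x := by
      rw [MulAut.apply_inv_self]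
    rw [MulAut.mul_apply, MulAut.mul_apply]
    have h1 := h _ (k (α⁻¹ x)).2 (hPhR₀ (k (α⁻¹ x)).2)
    have h2 := h _ (α⁻¹ x).2 (hPhR₀ (α⁻¹ x).2)
    rw [Subtype.coe_eta] at h1 h2
    rw [← h1]
    have e : (⟨((k (α⁻¹ x) : Ph) : Ω), hPhR₀ (k (α⁻¹ x)).2⟩ : coreSub S Ph K) =
        g * ⟨(α⁻¹ x : Ph), hPhR₀ (α⁻¹ x).2⟩ * g⁻¹ := Subtype.ext (hkx (α⁻¹ x))
    rw [e, map_mul, map_mul, map_inv, h2, hx]
  · exact (Nat.card_congr (MonoidHom.ofInjective (F.injective_of_mem hβ)).toEquiv).le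

/-- The automorphisms of `Ph` that extend to a map of the system defined on the core subgroup. -/
def extSub (c : SCtx F p Ph K) : Subgroup (MulAut Ph) where
  carrier := {α | ∃ β ∈ F.Hom (coreSub S Ph K), Restr β α}
  one_mem' := ⟨_, subtype_mem F (coreSub_le S Ph K), restr_subtype⟩
  mul_mem' := by
    rintro a b ⟨βa, hβa, ha⟩ ⟨βb, hβb, hb⟩
    have hbr := c.range_eq_coreSub hβb hb
    have hmem : ∀ x, βb x ∈ coreSub S Ph K := fun x => by
      have : βb x ∈ βb.range := ⟨x, rfl⟩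
      rwa [hbr] at this
    obtain ⟨χ, hχ, hχx⟩ := exists_comp F hβb hβa hmem
    exact ⟨χ, hχ, Restr.comp hmem hχx hb ha⟩
  inv_mem' := by
    rintro a ⟨β, hβ, ha⟩
    have hr := c.range_eq_coreSub hβ ha
    obtain ⟨βi, hβi, hβix, -⟩ := inv_mem' F hβ hr
    exact ⟨βi, hβi, Restr.inv c.le_coreSub hβix ha⟩

theorem mem_extSub (c : SCtx F p Ph K) {α : MulAut Ph} :
    α ∈ c.extSub ↔ ∃ β ∈ F.Hom (coreSub S Ph K), Restr β α := Iff.rfl

theorem mem_extSub_of_le (c : SCtx F p Ph K) {R : Subgroup Ω} {β : R →* Ω} (hβ : β ∈ F.Hom R) {α : MulAut Ph}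
    (h : Restr β α) (hle : coreSub S Ph K ≤ R) : α ∈ c.extSub :=
  ⟨β.comp (Subgroup.inclusion hle), restrict_mem F hle hβ, h.restrict hle⟩

theorem mem_extSub_of_le_range (c : SCtx F p Ph K) {R : Subgroup Ω} {β : R →* Ω} (hβ : β ∈ F.Hom R)
    {α : MulAut Ph} (h : Restr β α) (hPhR : Ph ≤ R) (hle : coreSub S Ph K ≤ β.range) : α ∈ c.extSub := by
  obtain ⟨βi, hβi, hβix, -⟩ := inv_mem' F hβ rfl
  have h1 := c.mem_extSub_of_le hβi (Restr.inv hPhR hβix h) hle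
  have h2 := c.extSub.inv_mem h1
  rwa [inv_inv] at h2

theorem mem_extSub_of_conj (c : SCtx F p Ph K) {α : MulAut Ph} (hα : α ∈ K) {g : Ω} (hg : g ∈ S)
    (hgα : ∀ x : Ph, ((α x : Ph) : Ω) = g * x * g⁻¹) : α ∈ c.extSub := by
  refine ⟨conjHom (coreSub S Ph K) g, F.conj_mem (coreSub_le S Ph K) hg, fun x hx hxR => ?_⟩
  rw [hgα]
  rfl

/-- The inductive hypothesis: maps defined on subgroups of `N_S(Ph)` of order larger than `n` and preserving `Ph`
restrict to extendable automorphisms. -/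
def IHc (c : SCtx F p Ph K) (n : ℕ) : Prop :=
  ∀ R : Subgroup Ω, n < Nat.card R → Ph ≤ R → R ≤ normalizerIn S Ph → ∀ β ∈ F.Hom R, ∀ α : MulAut Ph,
    Restr β α → α ∈ c.extSub

theorem sub_claim (c : SCtx F p Ph K) {Rn : Subgroup Ω} (hPhR : Ph ≤ Rn) (hRN : Rn ≤ normalizerIn S Ph)
    (hPA : PairAut F p Rn Ph) (hPR : PairRec F Rn Ph) (hnot : ¬ coreSub S Ph K ≤ Rn)
    (IH : c.IHc (Nat.card Rn)) (κ : ↥(stabAut F Rn Ph)) : stabResHom F hPhR κ ∈ c.extSub := by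
  have hRS : Rn ≤ S := hRN.trans (normalizerIn_le S Ph)
  haveI : Finite Rn := finite_of_le hRS
  haveI : Finite (stabAut F Rn Ph) := inferInstance
  have hρA : ∀ β, stabResHom F hPhR β ∈ F.autGroup Ph := fun β =>
    (restr_stabResHom F hPhR β).mem_autGroup F (autGroup_hom_mem F hRS β.2.1) hPhR
  have hnK : ∀ (a : ↥(stabAut F Rn Ph)), ∀ k ∈ K, stabResHom F hPhR a * k * (stabResHom F hPhR a)⁻¹ ∈ K :=
    fun a k hk => c.hKn _ (hρA a) k hk
  obtain ⟨y, ν, hyY, hyK, hκ, hνn⟩ := IsSylIn.frattini_map hPA (stabResHom F hPhR) K c.hKp hnK κ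
  -- first factor
  have h1 : stabResHom F hPhR y ∈ c.extSub := by
    obtain ⟨g, hg, hgy⟩ := mem_autInducedBy_iff.mp hyY
    refine c.mem_extSub_of_conj hyK (pairNorm_le S Rn Ph hg) (fun x => ?_)
    rw [stabResHom_apply, hgy]
  -- second factor
  have hν' : Rn.subtype.comp ((ν.1 : Rn ≃* Rn)).toMonoidHom ∈ F.Hom Rn := autGroup_hom_mem F hRS ν.2.1
  have hν'r : (Rn.subtype.comp ((ν.1 : Rn ≃* Rn)).toMonoidHom).range = Rn := IsFIso.range_eq (ν.1 : Rn ≃* Rn)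
  have hrestr := restr_stabResHom F hPhR ν
  have himg := hrestr.img_eq hPhR
  have hRnorm : Rn ≤ Subgroup.normalizer (Ph : Set Ω) := fun x hx => (hRN hx).2
  obtain ⟨ψ', hψ', hext⟩ := hPR Rn _ hν' hν'r Ph hPhR hRnorm himg
  have hRM : Rn ≤ extender S Rn (Rn.subtype.comp ((ν.1 : Rn ≃* Rn)).toMonoidHom) ⊓
      Subgroup.normalizer (Ph : Set Ω) := le_inf (le_extender hRS (hom_mem F hν')) hRnorm
  have hMN : extender S Rn (Rn.subtype.comp ((ν.1 : Rn ≃* Rn)).toMonoidHom) ⊓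
      Subgroup.normalizer (Ph : Set Ω) ≤ normalizerIn S Ph :=
    fun g hg => ⟨(extender_le S Rn _ hg.1).1, hg.2⟩
  obtain ⟨g, hgR₀, hgN, hgR⟩ := exists_mem_normalizer_not_mem_of_not_le c.hS hRS (coreSub_le S Ph K)
    (fun x hx t ht => c.coreSub_normal x (hRN hx) t ht) hnot
  have hgM : g ∈ extender S Rn (Rn.subtype.comp ((ν.1 : Rn ≃* Rn)).toMonoidHom) ⊓
      Subgroup.normalizer (Ph : Set Ω) := by
    refine ⟨?_, (coreSub_le_normalizerIn S Ph K hgR₀).2⟩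
    have hgNS : g ∈ normalizerIn S Rn := ⟨coreSub_le S Ph K hgR₀, hgN⟩
    apply mem_extender_of_congr (ν.1 : Rn ≃* Rn) hgNS
    have hcY : conjAut Rn g hgN ∈ autInducedBy (pairNorm S Rn Ph) Rn :=
      conjAut_mem_autInducedBy (mem_pairNorm.mpr ⟨hgNS.1, hgN, (coreSub_le_normalizerIn S Ph K hgR₀).2⟩) hgN
    have hcΓ : conjAut Rn g hgN ∈ stabAut F Rn Ph := hPA.1 hcY
    obtain ⟨-, k, hk, hkx⟩ := hgR₀
    have hcK : stabResHom F hPhR ⟨_, hcΓ⟩ ∈ K := by
      have : stabResHom F hPhR ⟨_, hcΓ⟩ = k := by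
        ext x
        rw [stabResHom_apply, hkx]
        exact conjAut_apply Rn g hgN _
      rw [this]
      exact hk
    have h2 := (hνn ⟨_, hcΓ⟩ hcY hcK).1
    have h3 : MulAut.congr (ν.1 : Rn ≃* Rn) (conjAut Rn g hgN) = ν.1 * conjAut Rn g hgN * ν.1⁻¹ := by
      ext y
      simp [MulAut.congr, MulAut.mul_apply, MulAut.inv_apply]
    rw [h3]
    exact autInducedBy_mono (pairNorm_le S Rn Ph) h2
  haveI : Finite (extender S Rn (Rn.subtype.comp ((ν.1 : Rn ≃* Rn)).toMonoidHom) ⊓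
      Subgroup.normalizer (Ph : Set Ω) : Subgroup Ω) := finite_of_le (hMN.trans (normalizerIn_le S Ph))
  have hlt := card_lt_of_le_of_not_mem hRM hgM hgR
  have hrestr' : Restr ψ' (stabResHom F hPhR ν) := by
    intro x hx hxM
    rw [hext x (hPhR hx) hxM]
    exact hrestr x hx (hPhR hx)
  have h2 := IH _ hlt (hPhR.trans hRM) hMN ψ' hψ' (stabResHom F hPhR ν) hrestr'
  rw [hκ]
  exact c.extSub.mul_mem h1 h2

theorem xi (c : SCtx F p Ph K) {R₁ Rn : Subgroup Ω} (hPhR₁ : Ph ≤ R₁) (hR₁N : R₁ ≤ normalizerIn S Ph)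
    {γ : R₁ →* Ω} (hγ : γ ∈ F.Hom R₁) (hγr : γ.range = Rn) (hPA : PairAut F p Rn Ph) (hPR : PairRec F Rn Ph)
    {a : MulAut Ph} (ha : Restr γ a) (hnot : ¬ coreSub S Ph K ≤ R₁) (IH : c.IHc (Nat.card R₁)) :
    a ∈ c.extSub := by
  by_cases hle : coreSub S Ph K ≤ Rn
  · exact c.mem_extSub_of_le_range hγ ha hPhR₁ (hγr ▸ hle)
  have hR₁S : R₁ ≤ S := hR₁N.trans (normalizerIn_le S Ph)
  have himg := ha.img_eq hPhR₁
  have hcard : Nat.card Rn = Nat.card R₁ := by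
    rw [← hγr]
    exact (Nat.card_congr (MonoidHom.ofInjective (F.injective_of_mem hγ)).toEquiv).symm
  have hPhRn : Ph ≤ Rn := by
    have := img_le_range γ Ph
    rwa [himg, hγr] at this
  have hRnN : Rn ≤ normalizerIn S Ph := by
    rw [← hγr]
    rintro _ ⟨x, rfl⟩
    have := apply_mem_normalizerIn_img F hγ hPhR₁ hR₁N x
    rwa [himg] at this
  have hRnS := hRnN.trans (normalizerIn_le S Ph)
  obtain ⟨g, hgR₀, hgR₁⟩ := SetLike.not_le_iff_exists.mp hnot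
  haveI : Finite (normalizerIn S Ph) := finite_of_le (normalizerIn_le S Ph)
  have hltN : Nat.card R₁ < Nat.card (normalizerIn S Ph) :=
    card_lt_of_le_of_not_mem hR₁N (coreSub_le_normalizerIn S Ph K hgR₀) hgR₁
  have hltM := card_lt_card_pairNorm c.hS hR₁N hltN
  have hR₁M : R₁ ≤ pairNorm S R₁ Ph := le_pairNorm hR₁S hR₁N
  obtain ⟨κ, hκ, ψ, hψ, hψx, -, -⟩ :=
    exists_pair_extension p c.hS F hRnS hPA hPR hγ hγr hPhR₁ himg hR₁M le_rfl
  have hrestr : Restr ψ (stabResHom F hPhRn ⟨κ, hκ⟩ * a) := by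
    intro x hx hxM
    rw [hψx x (hPhR₁ hx), MulAut.mul_apply, stabResHom_apply]
    congr 2
    apply Subtype.ext
    rw [homEquiv_apply]
    exact ha x hx (hPhR₁ hx)
  have h1 := IH (pairNorm S R₁ Ph) hltM (hPhR₁.trans hR₁M) (pairNorm_le_normalizerIn' S R₁ Ph) ψ hψ _ hrestr
  have h2 := c.sub_claim hPhRn hRnN hPA hPR hle (hcard ▸ IH) ⟨κ, hκ⟩
  have h3 := c.extSub.mul_mem (c.extSub.inv_mem h2) h1
  rwa [inv_mul_cancel_left] at h3

theorem psi_step (c : SCtx F p Ph K) (n : ℕ) (hn : Nat.card Ph ≤ n) (IH : c.IHc (n + 1)) : c.IHc n := by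
  intro R hlt hPhR hRN β hβ α hα
  by_cases hbig : n + 1 < Nat.card R
  · exact IH R hbig hPhR hRN β hβ α hα
  have hcR : Nat.card R = n + 1 := by omega
  have IH' : c.IHc (Nat.card R) := hcR ▸ IH
  by_cases h1 : coreSub S Ph K ≤ R
  · exact c.mem_extSub_of_le hβ hα h1
  by_cases h2 : coreSub S Ph K ≤ β.range
  · exact c.mem_extSub_of_le_range hβ hα hPhR h2
  have himg := hα.img_eq hPhR
  have hcard : Nat.card β.range = Nat.card R :=
    (Nat.card_congr (MonoidHom.ofInjective (F.injective_of_mem hβ)).toEquiv).symm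
  have hPhR' : Ph ≤ β.range := by
    have := img_le_range β Ph
    rwa [himg] at this
  have hR'N : β.range ≤ normalizerIn S Ph := by
    rintro _ ⟨x, rfl⟩
    have := apply_mem_normalizerIn_img F hβ hPhR hRN x
    rwa [himg] at this
  obtain ⟨θ, hθ, hθPh, hPA, hPR⟩ := exists_fn_pair_over p c.hS F c.hgood c.hnm hPhR' hR'N
    (by rw [hcard]; omega)
  obtain ⟨αθ, hαθ⟩ := exists_restr F hθ hPhR' hθPh
  have hA := c.xi hPhR' hR'N hθ rfl hPA hPR hαθ h2 (hcard ▸ IH')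
  have hmem : ∀ x : R, β x ∈ β.range := fun x => ⟨x, rfl⟩
  obtain ⟨γ, hγ, hγx⟩ := exists_comp F hβ hθ hmem
  have hγr : γ.range = θ.range := by
    rw [← img_self γ, img_comp hmem hγx, img_self β, img_self θ]
  have hB := c.xi hPhR hRN hγ hγr hPA hPR (Restr.comp hmem hγx hα hαθ) h1 IH'
  have h3 := c.extSub.mul_mem (c.extSub.inv_mem hA) hB
  rwa [inv_mul_cancel_left] at h3

/-- Every map of the system defined on a subgroup of `N_S(Ph)` properly containing `Ph` and preserving `Ph`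
restricts to an extendable automorphism. -/
theorem psi (c : SCtx F p Ph K) : c.IHc (Nat.card Ph) := by
  have key : ∀ d n, Nat.card S - n = d → Nat.card Ph ≤ n → c.IHc n := by
    intro d
    induction d with
    | zero =>
      intro n hd hn R hlt hPhR hRN
      have := card_le_of_le (hRN.trans (normalizerIn_le S Ph))
      omega
    | succ d ih =>
      intro n hd hn
      exact c.psi_step n hn (ih (n + 1) (by omega) (by omega))
  exact key _ _ rfl le_rfl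

end SCtx

end Cfsg.Agent.Lib.Helper88
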