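import Cfsg.Agent.Lib.Helper88.FusionSC7

set_option autoImplicit false
open Cfsg

namespace Cfsg.Agent.Lib.Helper88

open Cfsg.FusionSystem Cfsg.Agent.Lib.Helper87

variable {Ω : Type*} [Group Ω] {S : Subgroup Ω}

/-- `α` is the automorphism of `Ph` induced by `φ` through the maps `u` and `v` of normalizers onto that of `Ph`:
`v ∘ φ = α ∘ u` on `X`. -/
def Rel3 {B X Y Ph : Subgroup Ω} (φ : B →* Ω) (u : normalizerIn S X →* Ω) (v : normalizerIn S Y →* Ω)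
    (α : MulAut Ph) : Prop :=
  ∀ (x : Ω) (hxB : x ∈ B) (hxN : x ∈ normalizerIn S X) (hφN : φ ⟨x, hxB⟩ ∈ normalizerIn S Y)
    (huP : u ⟨x, hxN⟩ ∈ Ph), x ∈ X → v ⟨φ ⟨x, hxB⟩, hφN⟩ = ((α ⟨u ⟨x, hxN⟩, huP⟩ : Ph) : Ω)

/-- The composite `v ∘ φ₁ ∘ u⁻¹` on the image of `R₁` under `u`. -/
theorem build [Finite S] (F : FusionSystem S) {R₁ X Y : Subgroup Ω} (hXR₁ : X ≤ R₁)
    (hR₁N : R₁ ≤ normalizerIn S X) {φ₁ : R₁ →* Ω} (hφ₁ : φ₁ ∈ F.Hom R₁) (hY : img φ₁ X = Y)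
    {u : normalizerIn S X →* Ω} (hu : u ∈ F.Hom (normalizerIn S X))
    {v : normalizerIn S Y →* Ω} (hv : v ∈ F.Hom (normalizerIn S Y)) :
    ∃ β ∈ F.Hom (img u R₁), ∀ (x : Ω) (hxR : x ∈ R₁) (hxN : x ∈ normalizerIn S X)
      (hφN : φ₁ ⟨x, hxR⟩ ∈ normalizerIn S Y) (huR : u ⟨x, hxN⟩ ∈ img u R₁),
      β ⟨u ⟨x, hxN⟩, huR⟩ = v ⟨φ₁ ⟨x, hxR⟩, hφN⟩ := by
  subst hY
  have hu₁ : u.comp (Subgroup.inclusion hR₁N) ∈ F.Hom R₁ := restrict_mem F hR₁N hu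
  have hu₁r : (u.comp (Subgroup.inclusion hR₁N)).range = img u R₁ :=
    (img_self _).symm.trans (img_restrict u hR₁N le_rfl)
  obtain ⟨ui, hui, huix, -⟩ := inv_mem' F hu₁ hu₁r
  have huiR : ∀ y : img u R₁, ui y ∈ R₁ := by
    intro y
    obtain ⟨x, hxN, hxR, hxy⟩ := (mem_img u R₁ y).mp y.2
    have := huix ⟨x, hxR⟩ y hxy
    rw [this]
    exact hxR
  obtain ⟨χ₁, hχ₁, hχ₁x⟩ := exists_comp F hui hφ₁ huiR
  have hφ₁N : ∀ x : R₁, φ₁ x ∈ normalizerIn S (img φ₁ X) := apply_mem_normalizerIn_img F hφ₁ hXR₁ hR₁N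
  have hχ₁N : ∀ y, χ₁ y ∈ normalizerIn S (img φ₁ X) := fun y => by
    rw [hχ₁x]
    exact hφ₁N _
  obtain ⟨β, hβ, hβx⟩ := exists_comp F hχ₁ hv hχ₁N
  refine ⟨β, hβ, fun x hxR hxN hφN huR => ?_⟩
  rw [hβx]
  congr 1
  apply Subtype.ext
  show χ₁ ⟨u ⟨x, hxN⟩, huR⟩ = φ₁ ⟨x, hxR⟩
  rw [hχ₁x]
  congr 1
  apply Subtype.ext
  exact huix ⟨x, hxR⟩ ⟨u ⟨x, hxN⟩, huR⟩ rfl

theorem exists_rel3 [Finite S] (F : FusionSystem S) {B X Y Ph : Subgroup Ω} (hXB : X ≤ B) {φ : B →* Ω}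
    (hφ : φ ∈ F.Hom B) (hY : img φ X = Y)
    {u : normalizerIn S X →* Ω} (hu : u ∈ F.Hom (normalizerIn S X)) (huX : img u X = Ph)
    {v : normalizerIn S Y →* Ω} (hv : v ∈ F.Hom (normalizerIn S Y)) (hvY : img v Y = Ph) :
    ∃ α : MulAut Ph, α ∈ F.autGroup Ph ∧ Rel3 φ u v α := by
  have hBS : B ≤ S := hom_le F hφ
  have hXS : X ≤ S := hXB.trans hBS
  have hXN : X ≤ normalizerIn S X := le_normalizerIn hXS
  have hφ₁ : φ.comp (Subgroup.inclusion hXB) ∈ F.Hom X := restrict_mem F hXB hφ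
  have hY₁ : img (φ.comp (Subgroup.inclusion hXB)) X = Y := (img_restrict φ hXB le_rfl).trans hY
  obtain ⟨β, hβ, hβx⟩ := build F le_rfl hXN hφ₁ hY₁ hu hv
  obtain ⟨β', hβ', hβ'x⟩ := hom_cast F huX β hβ
  have hYS : Y ≤ S := hY ▸ img_le F hφ X
  have hYN : Y ≤ normalizerIn S Y := le_normalizerIn hYS
  have hφY : ∀ (x : Ω) (hx : x ∈ X), φ ⟨x, hXB hx⟩ ∈ Y := fun x hx => by
    rw [← hY]
    exact apply_mem_img φ ⟨x, hXB hx⟩ hx
  have himg : img β' Ph = Ph := by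
    ext z
    rw [mem_img]
    constructor
    · rintro ⟨y, hy, -, rfl⟩
      have hy' := hy
      rw [← huX] at hy'
      obtain ⟨x, hxN, hxX, hxy⟩ := (mem_img u X y).mp hy'
      have huR : u ⟨x, hxN⟩ ∈ img u X := apply_mem_img u ⟨x, hxN⟩ hxX
      have h1 := hβx x hxX hxN (hYN (hφY x hxX)) huR
      have h2 := hβ'x (u ⟨x, hxN⟩) huR (hxy ▸ hy)
      have e : (⟨y, hy⟩ : Ph) = ⟨u ⟨x, hxN⟩, hxy ▸ hy⟩ := Subtype.ext hxy.symm
      rw [e, h2, h1, ← hvY]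
      exact apply_mem_img v ⟨_, hYN (hφY x hxX)⟩ (hφY x hxX)
    · intro hz
      have hz' := hz
      rw [← hvY] at hz'
      obtain ⟨y, hyN, hyY, rfl⟩ := (mem_img v Y z).mp hz'
      have hyY' := hyY
      rw [← hY] at hyY'
      obtain ⟨x, hxB, hxX, rfl⟩ := (mem_img φ X y).mp hyY'
      have huR : u ⟨x, hXN hxX⟩ ∈ img u X := apply_mem_img u ⟨x, hXN hxX⟩ hxX
      have huP : u ⟨x, hXN hxX⟩ ∈ Ph := huX ▸ huR
      refine ⟨u ⟨x, hXN hxX⟩, huP, huP, ?_⟩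
      rw [hβ'x _ huR huP, hβx x hxX (hXN hxX) hyN huR]
      rfl
  obtain ⟨α, hα⟩ := exists_restr F hβ' le_rfl himg
  refine ⟨α, hα.mem_autGroup F hβ' le_rfl, fun x hxB hxN hφN huP hxX => ?_⟩
  have huR : u ⟨x, hxN⟩ ∈ img u X := apply_mem_img u ⟨x, hxN⟩ hxX
  rw [← hα _ huP huP, hβ'x _ huR huP, hβx x hxX hxN hφN huR]
  rfl

theorem Rel3.unique {B X Y Ph : Subgroup Ω} {φ : B →* Ω} {u : normalizerIn S X →* Ω}
    {v : normalizerIn S Y →* Ω} {α α' : MulAut Ph} (hXB : X ≤ B)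
    (hφN : ∀ (x : Ω) (hx : x ∈ X), φ ⟨x, hXB hx⟩ ∈ normalizerIn S Y)
    (huX : img u X = Ph) (h : Rel3 φ u v α) (h' : Rel3 φ u v α') : α = α' := by
  ext y
  have hy : (y : Ω) ∈ img u X := by
    rw [huX]
    exact y.2
  obtain ⟨x, hxN, hxX, hxy⟩ := (mem_img u X y).mp hy
  have huP : u ⟨x, hxN⟩ ∈ Ph := hxy ▸ y.2
  have e : y = ⟨u ⟨x, hxN⟩, huP⟩ := Subtype.ext hxy.symm
  rw [e, ← h x (hXB hxX) hxN (hφN x hxX) huP hxX, ← h' x (hXB hxX) hxN (hφN x hxX) huP hxX]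

theorem Rel3.comp {A B X Y Z Ph : Subgroup Ω} {φ : A →* Ω} {ψ : B →* Ω} {u : normalizerIn S X →* Ω}
    {w : normalizerIn S Y →* Ω} {v : normalizerIn S Z →* Ω} {α₁ α₂ : MulAut Ph} (hmem : ∀ x : A, φ x ∈ B)
    (hXA : X ≤ A) (hφY : ∀ (x : Ω) (hx : x ∈ X), φ ⟨x, hXA hx⟩ ∈ Y) (hYN : Y ≤ normalizerIn S Y)
    (hwP : ∀ (y : Ω) (hy : y ∈ Y), w ⟨y, hYN hy⟩ ∈ Ph)
    (h₁ : Rel3 φ u w α₁) (h₂ : Rel3 ψ w v α₂) : Rel3 (ψ.comp (φ.codRestrict B hmem)) u v (α₂ * α₁) := by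
  intro x hxA hxN hψN huP hxX
  have hφx : φ ⟨x, hxA⟩ ∈ Y := hφY x hxX
  have h1 := h₁ x hxA hxN (hYN hφx) huP hxX
  have hwp : w ⟨φ ⟨x, hxA⟩, hYN hφx⟩ ∈ Ph := hwP _ hφx
  have h2 := h₂ (φ ⟨x, hxA⟩) (hmem _) (hYN hφx) hψN hwp hφx
  rw [MulAut.mul_apply]
  refine h2.trans ?_
  congr 2
  exact Subtype.ext h1

namespace SCtx

variable [Finite S] {F : FusionSystem S} {p : ℕ} [Fact p.Prime] {Ph : Subgroup Ω} {K : Subgroup (MulAut Ph)}

theorem card_lt (c : SCtx F p Ph K) : Nat.card Ph < Nat.card S := by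
  obtain ⟨g, hg, hgP⟩ := c.hbig
  exact card_lt_of_le_of_not_mem c.hPhS (coreSub_le S Ph K hg) hgP

/-- The statement `psi` for a general pair `(R₁, X)` in the class, through the maps of normalizers. -/
theorem psi' (c : SCtx F p Ph K) {R₁ X Y : Subgroup Ω} (hXR₁ : X ≤ R₁) (hR₁N : R₁ ≤ normalizerIn S X)
    (hlt : Nat.card X < Nat.card R₁) (hconj : F.IsConj Ph X)
    {φ₁ : R₁ →* Ω} (hφ₁ : φ₁ ∈ F.Hom R₁) (hY : img φ₁ X = Y)
    {u : normalizerIn S X →* Ω} (hu : u ∈ F.Hom (normalizerIn S X)) (huX : img u X = Ph)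
    {v : normalizerIn S Y →* Ω} (hv : v ∈ F.Hom (normalizerIn S Y)) (hvY : img v Y = Ph)
    {α : MulAut Ph} (hα : Rel3 φ₁ u v α) : α ∈ c.extSub := by
  have hR₁S := hom_le F hφ₁
  have hXS := hXR₁.trans hR₁S
  obtain ⟨β, hβ, hβx⟩ := build F hXR₁ hR₁N hφ₁ hY hu hv
  have hPhR : Ph ≤ img u R₁ := huX ▸ img_mono u hXR₁
  have huN : ∀ x, u x ∈ normalizerIn S Ph := by
    intro x
    have := apply_mem_normalizerIn_img F hu (le_normalizerIn hXS) le_rfl x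
    rwa [huX] at this
  have hRN : img u R₁ ≤ normalizerIn S Ph := by
    intro y hy
    obtain ⟨x, hxN, -, rfl⟩ := (mem_img u R₁ y).mp hy
    exact huN _
  have hcard : Nat.card (img u R₁) = Nat.card R₁ := card_img (F.injective_of_mem hu) hR₁N
  have hcX : Nat.card X = Nat.card Ph := card_of_isConj F hconj
  have hφ₁N : ∀ x : R₁, φ₁ x ∈ normalizerIn S Y := by
    intro x
    have := apply_mem_normalizerIn_img F hφ₁ hXR₁ hR₁N x
    rwa [hY] at this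
  have hrestr : Restr β α := by
    intro y hy hyR
    have hy' := hy
    rw [← huX] at hy'
    obtain ⟨x, hxN, hxX, hxy⟩ := (mem_img u X y).mp hy'
    have huR : u ⟨x, hxN⟩ ∈ img u R₁ := hxy ▸ hyR
    have huP : u ⟨x, hxN⟩ ∈ Ph := hxy ▸ hy
    have h1 := hβx x (hXR₁ hxX) hxN (hφ₁N _) huR
    have h3 := hα x (hXR₁ hxX) hxN (hφ₁N _) huP hxX
    have e1 : (⟨y, hyR⟩ : img u R₁) = ⟨u ⟨x, hxN⟩, huR⟩ := Subtype.ext hxy.symm
    have e2 : (⟨y, hy⟩ : Ph) = ⟨u ⟨x, hxN⟩, huP⟩ := Subtype.ext hxy.symm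
    rw [e1, e2, h1, h3]
  exact c.psi (img u R₁) (by rw [hcard, ← hcX]; exact hlt) hPhR hRN β hβ α hrestr

/-- The predicate propagated along the generation of the system. -/
def Phi (c : SCtx F p Ph K) (B : Subgroup Ω) (φ : B →* Ω) : Prop :=
  ∀ X : Subgroup Ω, X ≤ B → F.IsConj Ph X → ∀ Y : Subgroup Ω, img φ X = Y →
    ∀ u ∈ F.Hom (normalizerIn S X), img u X = Ph → ∀ v ∈ F.Hom (normalizerIn S Y), img v Y = Ph →
      ∀ α : MulAut Ph, Rel3 φ u v α → α ∈ c.extSub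

theorem phi_of_lt (c : SCtx F p Ph K) {A : Subgroup Ω} {φ : A →* Ω} (hφ : φ ∈ F.Hom A)
    (hne : ∀ X, F.IsConj Ph X → X ≠ A) : c.Phi A φ := by
  intro X hXA hconj Y hY u hu huX v hv hvY α hα
  have hAS : A ≤ S := hom_le F hφ
  have hXS : X ≤ S := hXA.trans hAS
  haveI : Finite A := finite_of_le hAS
  obtain ⟨s, hsN, hsX⟩ := exists_mem_normalizerIn_not_mem (c.hS.to_le hAS) hXA (hne X hconj)
  have hRA : normalizerIn A X ≤ A := normalizerIn_le A X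
  have hRS : normalizerIn A X ≤ S := hRA.trans hAS
  haveI : Finite (normalizerIn A X) := finite_of_le hRS
  have hXR : X ≤ normalizerIn A X := le_normalizerIn hXA
  have hRN : normalizerIn A X ≤ normalizerIn S X := fun g hg => ⟨hAS hg.1, hg.2⟩
  have hcard : Nat.card X < Nat.card (normalizerIn A X) := card_lt_of_le_of_not_mem hXR hsN hsX
  refine c.psi' hXR hRN hcard hconj (restrict_mem F hRA hφ) ((img_restrict φ hRA hXR).trans hY) hu huX hv hvY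
    (fun x hxR hxN hφN huP hxX => hα x (hRA hxR) hxN hφN huP hxX)

theorem phi_conj (c : SCtx F p Ph K) {A : Subgroup Ω} {g : Ω} (hAS : A ≤ S) (hg : g ∈ S) :
    c.Phi A (conjHom A g) := by
  intro X hXA hconj Y hY u hu huX v hv hvY α hα
  have hXS : X ≤ S := hXA.trans hAS
  have hNS : normalizerIn S X ≤ S := normalizerIn_le S X
  haveI : Finite (normalizerIn S X) := finite_of_le hNS
  have hXN : X ≤ normalizerIn S X := le_normalizerIn hXS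
  have hcX : Nat.card X = Nat.card Ph := card_of_isConj F hconj
  have hne : X ≠ S := by
    rintro rfl
    have := c.card_lt
    omega
  obtain ⟨s, hsN, hsX⟩ := exists_mem_normalizerIn_not_mem c.hS hXS hne
  have hcard : Nat.card X < Nat.card (normalizerIn S X) := card_lt_of_le_of_not_mem hXN hsN hsX
  have hY' : img (conjHom (normalizerIn S X) g) X = Y := by
    rw [img_conjHom g hXN, ← img_conjHom g hXA]
    exact hY
  exact c.psi' hXN le_rfl hcard hconj (F.conj_mem hNS hg) hY' hu huX hv hvY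
    (fun x hxR hxN hφN huP hxX => hα x (hXA hxX) hxN hφN huP hxX)

theorem phi_comp (c : SCtx F p Ph K) {A B : Subgroup Ω} {φ : A →* Ω} {ψ : B →* Ω} (hφ : φ ∈ F.Hom A)
    (hψ : ψ ∈ F.Hom B) (hΦφ : c.Phi A φ) (hΦψ : c.Phi B ψ) (h : ∀ x : A, φ x ∈ B) :
    c.Phi A (ψ.comp (φ.codRestrict B h)) := by
  intro X hXA hconj Z hZ u hu huX v hv hvZ α hα
  have hAS : A ≤ S := hom_le F hφ
  have hXS : X ≤ S := hXA.trans hAS
  have hconjY : F.IsConj Ph (img φ X) := isConj_trans F hconj (isConj_img F hφ hXA)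
  have hYS : img φ X ≤ S := img_le F hφ X
  have hYN : img φ X ≤ normalizerIn S (img φ X) := le_normalizerIn hYS
  have hYB : img φ X ≤ B := by
    intro y hy
    obtain ⟨x, hA, -, rfl⟩ := (mem_img φ X y).mp hy
    exact h _
  obtain ⟨w, hw, hwY⟩ := c.hnm (img φ X) hconjY
  have hZ' : img ψ (img φ X) = Z := by
    rw [← hZ]
    exact (img_comp h (fun _ => rfl) X).symm
  obtain ⟨α₁, -, hα₁⟩ := exists_rel3 F hXA hφ rfl hu huX hw hwY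
  obtain ⟨α₂, -, hα₂⟩ := exists_rel3 F hYB hψ hZ' hw hwY hv hvZ
  have h1 := hΦφ X hXA hconj (img φ X) rfl u hu huX w hw hwY α₁ hα₁
  have h2 := hΦψ (img φ X) hYB hconjY Z hZ' w hw hwY v hv hvZ α₂ hα₂
  have hφY : ∀ (x : Ω) (hx : x ∈ X), φ ⟨x, hXA hx⟩ ∈ img φ X := fun x hx => apply_mem_img φ ⟨x, hXA hx⟩ hx
  have hwP : ∀ (y : Ω) (hy : y ∈ img φ X), w ⟨y, hYN hy⟩ ∈ Ph := fun y hy => by
    rw [← hwY]
    exact apply_mem_img w ⟨y, hYN hy⟩ hy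
  have h3 := Rel3.comp h hXA hφY hYN hwP hα₁ hα₂
  have hZS : Z ≤ S := by
    rw [← hZ']
    exact img_le F hψ _
  have hcompN : ∀ (x : Ω) (hx : x ∈ X), (ψ.comp (φ.codRestrict B h)) ⟨x, hXA hx⟩ ∈ normalizerIn S Z := by
    intro x hx
    apply le_normalizerIn hZS
    rw [← hZ]
    exact apply_mem_img _ ⟨x, hXA hx⟩ hx
  have e := Rel3.unique hXA hcompN huX hα h3
  rw [e]
  exact c.extSub.mul_mem h2 h1

theorem phi_inv (c : SCtx F p Ph K) {A : Subgroup Ω} {φ : A →* Ω} (hφ : φ ∈ F.Hom A) (hΦφ : c.Phi A φ)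
    (ψ : φ.range →* Ω) (hψ : ψ ∈ F.Hom φ.range) (hψx : ∀ x : A, ψ ⟨φ x, ⟨x, rfl⟩⟩ = (x : Ω)) :
    c.Phi φ.range ψ := by
  intro X' hX' hconj X hX u' hu' hu'X' v' hv' hv'X α' hα'
  have hAS : A ≤ S := hom_le F hφ
  have hψA : ∀ y : φ.range, ψ y ∈ A := by
    rintro ⟨_, x, rfl⟩
    rw [hψx]
    exact x.2
  have hXA : X ≤ A := by
    rw [← hX]
    intro z hz
    obtain ⟨y, hy, -, rfl⟩ := (mem_img ψ X' z).mp hz
    exact hψA _
  have hconjX : F.IsConj Ph X := hX ▸ isConj_trans F hconj (isConj_img F hψ hX')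
  -- every element of `X` is `ψ y` with `y ∈ X'` and `φ (ψ y) = y`
  have hdesc : ∀ (x : Ω) (hx : x ∈ X), ∃ (y : Ω) (hy : y ∈ φ.range), y ∈ X' ∧ ψ ⟨y, hy⟩ = x ∧
      φ ⟨x, hXA hx⟩ = y := by
    intro x hx
    have hx' := hx
    rw [← hX] at hx'
    obtain ⟨y, hy, hyX', hyx⟩ := (mem_img ψ X' x).mp hx'
    refine ⟨y, hy, hyX', hyx, ?_⟩
    obtain ⟨a, ha⟩ := id hy
    have h2 : ψ ⟨y, hy⟩ = (a : Ω) := by
      have := hψx a
      rw [← this]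
      congr 1
      exact Subtype.ext ha.symm
    have h3 : (⟨x, hXA hx⟩ : A) = a := Subtype.ext (hyx.symm.trans h2)
    rw [h3, ha]
  have himg : img φ X = X' := by
    ext y
    rw [mem_img]
    constructor
    · rintro ⟨x, hxA, hxX, rfl⟩
      obtain ⟨y, hy, hyX', -, hφx⟩ := hdesc x hxX
      rw [hφx]
      exact hyX'
    · intro hy
      have hyr := hX' hy
      have hx : ψ ⟨y, hyr⟩ ∈ X := by
        rw [← hX]
        exact apply_mem_img ψ ⟨y, hyr⟩ hy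
      obtain ⟨y', hy', -, hy'x, hφx⟩ := hdesc _ hx
      refine ⟨ψ ⟨y, hyr⟩, hψA _, hx, ?_⟩
      have hinj := F.injective_of_mem hψ
      have : (⟨y', hy'⟩ : φ.range) = ⟨y, hyr⟩ := hinj hy'x
      rw [hφx]
      exact congrArg Subtype.val this
  have hrel : Rel3 φ v' u' α'⁻¹ := by
    intro x hxA hxN hφN hvP hxX
    obtain ⟨y, hy, hyX', hyx, hφx⟩ := hdesc x hxX
    have hyN : y ∈ normalizerIn S X' := hφx ▸ hφN
    have hψN : ψ ⟨y, hy⟩ ∈ normalizerIn S X := hyx ▸ hxN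
    have hu'P : u' ⟨y, hyN⟩ ∈ Ph := by
      rw [← hu'X']
      exact apply_mem_img u' ⟨y, hyN⟩ hyX'
    have h1 := hα' y hy hyN hψN hu'P hyX'
    have e1 : (⟨φ ⟨x, hxA⟩, hφN⟩ : normalizerIn S X') = ⟨y, hyN⟩ := Subtype.ext hφx
    have e2 : (⟨x, hxN⟩ : normalizerIn S X) = ⟨ψ ⟨y, hy⟩, hψN⟩ := Subtype.ext hyx.symm
    have e3 : (⟨v' ⟨x, hxN⟩, hvP⟩ : Ph) = α' ⟨u' ⟨y, hyN⟩, hu'P⟩ := by
      apply Subtype.ext
      rw [← h1]
      show v' ⟨x, hxN⟩ = v' ⟨ψ ⟨y, hy⟩, hψN⟩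
      rw [e2]
    rw [e1, e3, MulAut.inv_apply_self]
  have h2 := hΦφ X hXA hconjX X' himg v' hv' hv'X u' hu' hu'X' α'⁻¹ hrel
  have h3 := c.extSub.inv_mem h2
  rwa [inv_inv] at h3

/-- Claim 1: every automorphism of `Ph` in the system extends to the core subgroup. -/
theorem autGroup_le_extSub (c : SCtx F p Ph K) (ℋ : Set (Subgroup Ω))
    (hgen : ∀ E : FusionSystem S, (∀ P ∈ ℋ, F.Hom P ⊆ E.Hom P) → F ≤ E)
    (hℋ : ∀ X, F.IsConj Ph X → X ∉ ℋ) : F.autGroup Ph ≤ c.extSub := by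
  have hall := forall_of_generated F ℋ hgen c.Phi
    (fun hAS hg => c.phi_conj hAS hg)
    (fun hφ hψ hΦφ hΦψ h => c.phi_comp hφ hψ hΦφ hΦψ h)
    (fun hφ hΦφ ψ hψ hψx => c.phi_inv hφ hΦφ ψ hψ hψx)
    (fun A hA φ hφ => c.phi_of_lt hφ (fun X hconj hXA => hℋ X hconj (hXA ▸ hA)))
  intro α hα
  have hφ := autGroup_hom_mem F c.hPhS hα
  have hN : Ph ≤ normalizerIn S Ph := le_normalizerIn c.hPhS
  have hrestr : Restr (Ph.subtype.comp (α : Ph ≃* Ph).toMonoidHom) α := fun _ _ _ => rfl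
  have himg := hrestr.img_eq le_rfl
  have hsub := subtype_mem F (normalizerIn_le S Ph)
  refine hall Ph _ hφ Ph le_rfl (isConj_refl F c.hPhS) Ph himg _ hsub (img_subtype hN) _ hsub (img_subtype hN) α ?_
  intro x hxB hxN hφN huP hxX
  rfl

end SCtx

end Cfsg.Agent.Lib.Helper88
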