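import Cfsg.Agent.Lib.Helper88.FusionSC8

set_option autoImplicit false
open Cfsg

namespace Cfsg.Agent.Lib.Helper88

open Cfsg.FusionSystem Cfsg.Agent.Lib.Helper87

variable {Ω : Type*} [Group Ω] {S : Subgroup Ω}

namespace SCtx

variable [Finite S] {F : FusionSystem S} {p : ℕ} [Fact p.Prime] {Ph : Subgroup Ω} {K : Subgroup (MulAut Ph)}

theorem card_lt_coreSub (c : SCtx F p Ph K) : Nat.card Ph < Nat.card (coreSub S Ph K) := by
  obtain ⟨g, hg, hgP⟩ := c.hbig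
  haveI : Finite (coreSub S Ph K) := finite_of_le (coreSub_le S Ph K)
  exact card_lt_of_le_of_not_mem c.le_coreSub hg hgP

theorem normalizerIn_le_normalizer_coreSub (c : SCtx F p Ph K) :
    normalizerIn S Ph ≤ Subgroup.normalizer (coreSub S Ph K : Set Ω) := by
  intro n hn
  haveI : Finite (coreSub S Ph K) := finite_of_le (coreSub_le S Ph K)
  exact mem_normalizer_of_conj_mem (fun g hg => c.coreSub_normal n hn g hg)

theorem pairNorm_coreSub (c : SCtx F p Ph K) : pairNorm S (coreSub S Ph K) Ph = normalizerIn S Ph := by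
  apply le_antisymm (pairNorm_le_normalizerIn' S _ Ph)
  intro n hn
  exact mem_pairNorm.mpr ⟨hn.1, c.normalizerIn_le_normalizer_coreSub hn, hn.2⟩

theorem coreSub_pair (c : SCtx F p Ph K) :
    IsSylIn p (autInducedBy (normalizerIn S Ph) (coreSub S Ph K)) (stabAut F (coreSub S Ph K) Ph) ∧
      PairRec F (coreSub S Ph K) Ph := by
  obtain ⟨θ, hθ, hθPh, hPA, hPR⟩ := exists_fn_pair_over p c.hS F c.hgood c.hnm c.le_coreSub
    (coreSub_le_normalizerIn S Ph K) c.card_lt_coreSub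
  obtain ⟨α, hα⟩ := exists_restr F hθ c.le_coreSub hθPh
  have hr := c.range_eq_coreSub hθ hα
  rw [hr] at hPA hPR
  unfold PairAut at hPA
  rw [c.pairNorm_coreSub] at hPA
  exact ⟨hPA, hPR⟩

/-- An extendable automorphism is the restriction of an element of the stabilizer of `Ph` in the automorphism
group of the core subgroup. -/
theorem exists_stab_of_mem_extSub (c : SCtx F p Ph K) {α : MulAut Ph} (hα : α ∈ c.extSub) :
    ∃ κ : ↥(stabAut F (coreSub S Ph K) Ph), stabResHom F c.le_coreSub κ = α := by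
  obtain ⟨β, hβ, hr⟩ := hα
  have hrange := c.range_eq_coreSub hβ hr
  have hinj := F.injective_of_mem hβ
  have himg := hr.img_eq c.le_coreSub
  have hstab : ∀ x : coreSub S Ph K, (x : Ω) ∈ Ph ↔ ((homEquiv F hβ hrange x : coreSub S Ph K) : Ω) ∈ Ph := by
    intro x
    rw [homEquiv_apply]
    constructor
    · intro hx
      have := apply_mem_img β x hx
      rwa [himg] at this
    · intro hx
      have : β x ∈ img β Ph := by
        rw [himg]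
        exact hx
      exact (apply_mem_img_iff hinj x).mp this
  refine ⟨⟨homEquiv F hβ hrange, homEquiv_mem_autGroup F hβ hrange, hstab⟩, ?_⟩
  ext x
  rw [stabResHom_apply]
  show ((homEquiv F hβ hrange ⟨x, _⟩ : coreSub S Ph K) : Ω) = _
  rw [homEquiv_apply]
  exact hr x x.2 _

/-- Claim 3: `Ph` is fully automized. -/
theorem fullyAutomized (c : SCtx F p Ph K) (ℋ : Set (Subgroup Ω))
    (hgen : ∀ E : FusionSystem S, (∀ P ∈ ℋ, F.Hom P ⊆ E.Hom P) → F ≤ E)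
    (hℋ : ∀ X, F.IsConj Ph X → X ∉ ℋ) : F.IsFullyAutomized p Ph := by
  rw [isFullyAutomized_iff F p c.hPhS]
  have hPhR₀ := c.le_coreSub
  obtain ⟨hSyl, -⟩ := c.coreSub_pair
  have hR₀S := coreSub_le S Ph K
  haveI : Finite (coreSub S Ph K) := finite_of_le hR₀S
  haveI : Finite (stabAut F (coreSub S Ph K) Ph) := inferInstance
  have h1 := IsSylIn.map_hom hSyl (stabResHom F hPhR₀)
  have hrange : (stabResHom F hPhR₀).range = F.autGroup Ph := by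
    apply le_antisymm
    · rintro _ ⟨κ, rfl⟩
      exact (restr_stabResHom F hPhR₀ κ).mem_autGroup F (autGroup_hom_mem F hR₀S κ.2.1) hPhR₀
    · intro α hα
      obtain ⟨κ, hκ⟩ := c.exists_stab_of_mem_extSub (c.autGroup_le_extSub ℋ hgen hℋ hα)
      exact ⟨κ, hκ⟩
  have hmap : ((autInducedBy (normalizerIn S Ph) (coreSub S Ph K)).subgroupOf
      (stabAut F (coreSub S Ph K) Ph)).map (stabResHom F hPhR₀) = autInducedBy S Ph := by
    ext α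
    constructor
    · rintro ⟨κ, hκ, rfl⟩
      obtain ⟨g, hg, hgκ⟩ := mem_autInducedBy_iff.mp (Subgroup.mem_subgroupOf.mp hκ)
      exact mem_autInducedBy_iff.mpr ⟨g, hg.1, fun x => by rw [stabResHom_apply, hgκ]⟩
    · intro hα
      obtain ⟨g, hg, hgα⟩ := mem_autInducedBy_iff.mp hα
      have hgN : g ∈ normalizerIn S Ph := ⟨hg, mem_normalizer_of_conj_eq hgα⟩
      have hgR₀ : g ∈ Subgroup.normalizer (coreSub S Ph K : Set Ω) := c.normalizerIn_le_normalizer_coreSub hgN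
      have hcY : conjAut (coreSub S Ph K) g hgR₀ ∈ autInducedBy (normalizerIn S Ph) (coreSub S Ph K) :=
        conjAut_mem_autInducedBy hgN hgR₀
      have hcΓ : conjAut (coreSub S Ph K) g hgR₀ ∈ stabAut F (coreSub S Ph K) Ph := hSyl.1 hcY
      refine ⟨⟨_, hcΓ⟩, Subgroup.mem_subgroupOf.mpr hcY, ?_⟩
      ext x
      rw [stabResHom_apply, hgα]
      exact conjAut_apply _ g hgR₀ _
  rw [hmap, hrange] at h1
  exact h1

/-- Receptivity with respect to automorphisms. -/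
theorem receptive_aut (c : SCtx F p Ph K) (ℋ : Set (Subgroup Ω))
    (hgen : ∀ E : FusionSystem S, (∀ P ∈ ℋ, F.Hom P ⊆ E.Hom P) → F ≤ E)
    (hℋ : ∀ X, F.IsConj Ph X → X ∉ ℋ) {α : MulAut Ph} (hα : α ∈ F.autGroup Ph) :
    ∃ ψ₁ ∈ F.Hom (extender S Ph (Ph.subtype.comp (α : Ph ≃* Ph).toMonoidHom)),
      ∀ (x : Ω) (hx : x ∈ Ph) (hxN : x ∈ extender S Ph (Ph.subtype.comp (α : Ph ≃* Ph).toMonoidHom)),
        ψ₁ ⟨x, hxN⟩ = ((α ⟨x, hx⟩ : Ph) : Ω) := by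
  have hPhR₀ := c.le_coreSub
  have hR₀S := coreSub_le S Ph K
  have hR₀N := coreSub_le_normalizerIn S Ph K
  haveI : Finite (coreSub S Ph K) := finite_of_le hR₀S
  haveI : Finite (stabAut F (coreSub S Ph K) Ph) := inferInstance
  obtain ⟨hSyl, hPR⟩ := c.coreSub_pair
  obtain ⟨κ₀, hκ₀⟩ := c.exists_stab_of_mem_extSub (c.autGroup_le_extSub ℋ hgen hℋ hα)
  have hNαN : extender S Ph (Ph.subtype.comp (α : Ph ≃* Ph).toMonoidHom) ≤ normalizerIn S Ph :=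
    extender_le S Ph _
  have hNαR₀ : extender S Ph (Ph.subtype.comp (α : Ph ≃* Ph).toMonoidHom) ≤
      Subgroup.normalizer (coreSub S Ph K : Set Ω) :=
    fun g hg => c.normalizerIn_le_normalizer_coreSub (hNαN hg)
  have hΓ₁Γ₀ : ((autInducedBy S Ph).comap (stabResHom F hPhR₀)).map (stabAut F (coreSub S Ph K) Ph).subtype ≤
      stabAut F (coreSub S Ph K) Ph := Subgroup.map_subtype_le _
  have hmemΓ₁ := fun z => mem_map_comap_subtype (stabResHom F hPhR₀) (autInducedBy S Ph) z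
  have hY₀Γ₁ : autInducedBy (normalizerIn S Ph) (coreSub S Ph K) ≤
      ((autInducedBy S Ph).comap (stabResHom F hPhR₀)).map (stabAut F (coreSub S Ph K) Ph).subtype := by
    intro y hy
    obtain ⟨g, hg, hgy⟩ := mem_autInducedBy_iff.mp hy
    refine (hmemΓ₁ y).mpr ⟨hSyl.1 hy, mem_autInducedBy_iff.mpr ⟨g, hg.1, fun x => ?_⟩⟩
    rw [stabResHom_apply, hgy]
  have hSyl₁ := hSyl.mono hY₀Γ₁ hΓ₁Γ₀
  haveI : Finite (((autInducedBy S Ph).comap (stabResHom F hPhR₀)).map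
      (stabAut F (coreSub S Ph K) Ph).subtype : Subgroup (MulAut (coreSub S Ph K))) :=
    Finite.of_injective (Subgroup.inclusion hΓ₁Γ₀) (Subgroup.inclusion_injective hΓ₁Γ₀)
  have hLp : IsPGroup p ((autInducedBy (extender S Ph (Ph.subtype.comp (α : Ph ≃* Ph).toMonoidHom))
      (coreSub S Ph K)).map (MulAut.conj κ₀.1).toMonoidHom) :=
    (isPGroup_autInducedBy (c.hS.to_le (hNαN.trans (normalizerIn_le S Ph))) (coreSub S Ph K)).map _
  have hLΓ₁ : (autInducedBy (extender S Ph (Ph.subtype.comp (α : Ph ≃* Ph).toMonoidHom))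
      (coreSub S Ph K)).map (MulAut.conj κ₀.1).toMonoidHom ≤
      ((autInducedBy S Ph).comap (stabResHom F hPhR₀)).map (stabAut F (coreSub S Ph K) Ph).subtype := by
    rintro _ ⟨l, hl, rfl⟩
    obtain ⟨g, hg, hgl⟩ := mem_autInducedBy_iff.mp hl
    have hlΓ : l ∈ stabAut F (coreSub S Ph K) Ph := hSyl.1 (autInducedBy_mono hNαN hl)
    have hmem : κ₀.1 * l * κ₀.1⁻¹ ∈ stabAut F (coreSub S Ph K) Ph :=
      (stabAut F _ Ph).mul_mem ((stabAut F _ Ph).mul_mem κ₀.2 hlΓ) ((stabAut F _ Ph).inv_mem κ₀.2)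
    refine (hmemΓ₁ _).mpr ⟨hmem, ?_⟩
    have e : (⟨κ₀.1 * l * κ₀.1⁻¹, hmem⟩ : ↥(stabAut F (coreSub S Ph K) Ph)) = κ₀ * ⟨l, hlΓ⟩ * κ₀⁻¹ :=
      Subtype.ext rfl
    show stabResHom F hPhR₀ ⟨κ₀.1 * l * κ₀.1⁻¹, hmem⟩ ∈ autInducedBy S Ph
    rw [e, map_mul, map_mul, map_inv, hκ₀]
    obtain ⟨-, -, h, hhS, hh⟩ := mem_extender_iff.mp hg
    refine mem_autInducedBy_iff.mpr ⟨h, hhS, fun y => ?_⟩
    rw [MulAut.mul_apply, MulAut.mul_apply]
    have h1 : ((stabResHom F hPhR₀ ⟨l, hlΓ⟩ (α⁻¹ y) : Ph) : Ω) = g * ((α⁻¹ y : Ph) : Ω) * g⁻¹ := by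
      rw [stabResHom_apply, hgl]
    have hx : g * ((α⁻¹ y : Ph) : Ω) * g⁻¹ ∈ Ph := h1 ▸ (stabResHom F hPhR₀ ⟨l, hlΓ⟩ (α⁻¹ y)).2
    have h2 := hh (α⁻¹ y) hx
    have e2 : stabResHom F hPhR₀ ⟨l, hlΓ⟩ (α⁻¹ y) = ⟨g * ((α⁻¹ y : Ph) : Ω) * g⁻¹, hx⟩ := Subtype.ext h1
    rw [e2]
    have h3 : ((α (α⁻¹ y) : Ph) : Ω) = y := by
      rw [MulAut.apply_inv_self]
    refine h2.trans ?_
    show h * ((α (α⁻¹ y) : Ph) : Ω) * h⁻¹ = h * y * h⁻¹
    rw [h3]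
  obtain ⟨k, hk, hkL⟩ := hSyl₁.exists_conj_le hLΓ₁ hLp
  obtain ⟨hkΓ₀, hkT⟩ := (hmemΓ₁ k).mp hk
  obtain ⟨t, htS, htk⟩ := mem_autInducedBy_iff.mp hkT
  have hᾱΓ : k * κ₀.1 ∈ stabAut F (coreSub S Ph K) Ph := (stabAut F _ Ph).mul_mem hkΓ₀ κ₀.2
  have hᾱ' : (coreSub S Ph K).subtype.comp ((k * κ₀.1 : MulAut (coreSub S Ph K)) :
      coreSub S Ph K ≃* coreSub S Ph K).toMonoidHom ∈ F.Hom (coreSub S Ph K) :=
    autGroup_hom_mem F hR₀S hᾱΓ.1
  have hᾱ'r : ((coreSub S Ph K).subtype.comp ((k * κ₀.1 : MulAut (coreSub S Ph K)) :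
      coreSub S Ph K ≃* coreSub S Ph K).toMonoidHom).range = coreSub S Ph K := IsFIso.range_eq _
  have hrestr := restr_stabResHom F hPhR₀ ⟨k * κ₀.1, hᾱΓ⟩
  have himg := hrestr.img_eq hPhR₀
  have hR₀norm : coreSub S Ph K ≤ Subgroup.normalizer (Ph : Set Ω) := fun x hx => (hR₀N hx).2
  obtain ⟨ψ₂, hψ₂, hext⟩ := hPR (coreSub S Ph K) _ hᾱ' hᾱ'r Ph hPhR₀ hR₀norm himg
  have hNαle : extender S Ph (Ph.subtype.comp (α : Ph ≃* Ph).toMonoidHom) ≤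
      extender S (coreSub S Ph K) ((coreSub S Ph K).subtype.comp ((k * κ₀.1 : MulAut (coreSub S Ph K)) :
        coreSub S Ph K ≃* coreSub S Ph K).toMonoidHom) ⊓ Subgroup.normalizer (Ph : Set Ω) := by
    intro g hg
    refine ⟨?_, (hNαN hg).2⟩
    have hgNS : g ∈ normalizerIn S (coreSub S Ph K) := ⟨(hNαN hg).1, hNαR₀ hg⟩
    apply mem_extender_of_congr ((k * κ₀.1 : MulAut (coreSub S Ph K)) :
      coreSub S Ph K ≃* coreSub S Ph K) hgNS
    have hc : conjAut (coreSub S Ph K) g hgNS.2 ∈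
        autInducedBy (extender S Ph (Ph.subtype.comp (α : Ph ≃* Ph).toMonoidHom)) (coreSub S Ph K) :=
      conjAut_mem_autInducedBy hg hgNS.2
    have h1 := hkL _ ⟨_, hc, rfl⟩
    have h3 : MulAut.congr ((k * κ₀.1 : MulAut (coreSub S Ph K)) : coreSub S Ph K ≃* coreSub S Ph K)
        (conjAut (coreSub S Ph K) g hgNS.2) =
        k * ((MulAut.conj κ₀.1).toMonoidHom (conjAut (coreSub S Ph K) g hgNS.2)) * k⁻¹ := by
      ext y
      rfl
    rw [h3]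
    exact autInducedBy_mono (normalizerIn_le S Ph) h1
  have hψ₃ := restrict_mem F hNαle hψ₂
  have hψ₃S : ∀ x, (ψ₂.comp (Subgroup.inclusion hNαle)) x ∈ S := hom_mem F hψ₃
  obtain ⟨ψ₁, hψ₁, hψ₁x⟩ := exists_comp F hψ₃ (F.conj_mem le_rfl (S.inv_mem htS)) hψ₃S
  refine ⟨ψ₁, hψ₁, fun x hx hxN => ?_⟩
  rw [hψ₁x]
  show t⁻¹ * (ψ₂ ⟨x, hNαle hxN⟩) * t⁻¹⁻¹ = _
  rw [hext x (hPhR₀ hx) (hNαle hxN), hrestr x hx (hPhR₀ hx)]
  have e : (⟨k * κ₀.1, hᾱΓ⟩ : ↥(stabAut F (coreSub S Ph K) Ph)) = ⟨k, hkΓ₀⟩ * κ₀ := Subtype.ext rfl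
  rw [e, map_mul, MulAut.mul_apply, htk, hκ₀]
  group

/-- Claim 4: `Ph` is receptive. -/
theorem receptive (c : SCtx F p Ph K) (ℋ : Set (Subgroup Ω))
    (hgen : ∀ E : FusionSystem S, (∀ P ∈ ℋ, F.Hom P ⊆ E.Hom P) → F ≤ E)
    (hℋ : ∀ X, F.IsConj Ph X → X ∉ ℋ) : F.IsReceptive Ph := by
  refine ⟨c.hPhS, fun Q φ hφ hr => ?_⟩
  have hQS := hom_le F hφ
  have hconj : F.IsConj Ph Q := isConj_symm F ⟨φ, hφ, hr⟩
  obtain ⟨u, hu, huQ⟩ := c.hnm Q hconj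
  have hQN := le_normalizerIn hQS
  have hY : img φ Q = Ph := (img_self φ).trans hr
  have hsub := subtype_mem F (normalizerIn_le S Ph)
  have hPhN := le_normalizerIn c.hPhS
  obtain ⟨α, hαA, hα⟩ := exists_rel3 F le_rfl hφ hY hu huQ hsub (img_subtype hPhN)
  obtain ⟨ψ₁, hψ₁, hψ₁x⟩ := c.receptive_aut ℋ hgen hℋ hαA
  have hD : extender S Q φ ≤ normalizerIn S Q := extender_le S Q φ
  have huP : ∀ (x : Ω) (hx : x ∈ Q), u ⟨x, hQN hx⟩ ∈ Ph := fun x hx => by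
    rw [← huQ]
    exact apply_mem_img u ⟨x, hQN hx⟩ hx
  have hφN : ∀ (x : Ω) (hx : x ∈ Q), φ ⟨x, hx⟩ ∈ normalizerIn S Ph := fun x hx => by
    apply hPhN
    rw [← hr]
    exact ⟨⟨x, hx⟩, rfl⟩
  have hαu : ∀ (x : Ω) (hx : x ∈ Q), ((α ⟨u ⟨x, hQN hx⟩, huP x hx⟩ : Ph) : Ω) = φ ⟨x, hx⟩ :=
    fun x hx => (hα x hx (hQN hx) (hφN x hx) (huP x hx) hx).symm
  have huN : ∀ g : normalizerIn S Q, u g ∈ normalizerIn S Ph := by
    intro g
    have := apply_mem_normalizerIn_img F hu hQN le_rfl g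
    rwa [huQ] at this
  have humem : ∀ g : extender S Q φ, (u.comp (Subgroup.inclusion hD)) g ∈
      extender S Ph (Ph.subtype.comp (α : Ph ≃* Ph).toMonoidHom) := by
    intro g
    obtain ⟨hgS, hgN, h, hhS, hh⟩ := mem_extender_iff.mp g.2
    have hug := huN ⟨g, hD g.2⟩
    refine mem_extender_iff.mpr ⟨hug.1, hug.2, h, hhS, fun y hy => ?_⟩
    have hy' : (y : Ω) ∈ img u Q := by
      rw [huQ]
      exact y.2
    obtain ⟨x, hxN, hxQ, hxy⟩ := (mem_img u Q y).mp hy'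
    have hgx : (g : Ω) * x * (g : Ω)⁻¹ ∈ Q := (Subgroup.mem_normalizer_iff.mp hgN x).mp hxQ
    have h1 := hh ⟨x, hxQ⟩ hgx
    have e1 : (u.comp (Subgroup.inclusion hD)) g * (y : Ω) * ((u.comp (Subgroup.inclusion hD)) g)⁻¹ =
        u ⟨(g : Ω) * x * (g : Ω)⁻¹, hQN hgx⟩ := by
      rw [← hxy]
      have : (⟨(g : Ω) * x * (g : Ω)⁻¹, hQN hgx⟩ : normalizerIn S Q) =
          ⟨g, hD g.2⟩ * ⟨x, hxN⟩ * ⟨g, hD g.2⟩⁻¹ := Subtype.ext rfl
      rw [this, map_mul, map_mul, map_inv]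
      rfl
    show ((α ⟨_, hy⟩ : Ph) : Ω) = h * ((α y : Ph) : Ω) * h⁻¹
    have e2 : (⟨_, hy⟩ : Ph) = ⟨u ⟨(g : Ω) * x * (g : Ω)⁻¹, hQN hgx⟩, huP _ hgx⟩ := Subtype.ext e1
    have e3 : y = ⟨u ⟨x, hQN hxQ⟩, huP x hxQ⟩ := Subtype.ext hxy.symm
    rw [e2, hαu _ hgx, e3, hαu x hxQ]
    exact h1
  obtain ⟨ψ, hψ, hψx⟩ := exists_comp F (restrict_mem F hD hu) hψ₁ humem
  refine ⟨ψ, hψ, fun x hQ hN => ?_⟩
  rw [hψx]
  have := hψ₁x (u ⟨x, hQN hQ⟩) (huP x hQ) (humem ⟨x, hN⟩)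
  exact this.trans (hαu x hQ)

end SCtx

end Cfsg.Agent.Lib.Helper88
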