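import Cfsg.Agent.Lib.Helper88.FusionFactor6

set_option autoImplicit false
open Cfsg

namespace Cfsg.Agent.Lib.Helper88

open Cfsg.FusionSystem Cfsg.Agent.Lib.Helper87

variable {Ω : Type*} [Group Ω] {S : Subgroup Ω}

section solv1

variable {Ω' : Type*} [Group Ω'] {S' : Subgroup Ω'}

/-- The full preimage of a strongly closed subgroup of the factor system is strongly closed. -/
theorem stronglyClosed_preimageAlong [Finite S] (p : ℕ) [Fact p.Prime] (hS : IsPGroup p S) (F : FusionSystem S)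
    (hF : F.IsSaturated p) {T : Subgroup Ω}
    (hT : F.StronglyClosed T) (θ : S →* Ω')
    (hker : ∀ s : S, θ s = 1 ↔ (s : Ω) ∈ T) (hrange : θ.range = S') (E : FusionSystem S')
    (hE : ∀ (P' : Subgroup Ω') (φ' : P' →* Ω'),
      φ' ∈ E.Hom P' ↔ P' ≤ S' ∧ ∃ φ ∈ F.Hom (preimageAlong θ P'), InducedAlong θ φ φ')
    {A' : Subgroup Ω'} (hA' : E.StronglyClosed A') : F.StronglyClosed (preimageAlong θ A') := by
  refine ⟨preimageAlong_le θ A', fun R hR φ hφ x => ?_⟩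
  obtain ⟨φ', hψ, hind⟩ := exists_induced_of_saturated p hS F hF hT θ hker hrange hφ
  have hφ' : φ' ∈ E.Hom (imageAlong θ R) := (hE _ φ').mpr ⟨imageAlong_le θ hrange R, hψ⟩
  have hle : imageAlong θ R ≤ A' := by
    rintro _ ⟨r, hr, rfl⟩
    have hr' : (r : Ω) ∈ R := Subgroup.mem_subgroupOf.mp hr
    exact ((mem_preimageAlong θ A' r).mp (hR hr')).2
  obtain ⟨hRS, hφS, hRR', hind⟩ := hind
  have h1 := hA'.2 _ hle φ' hφ' ⟨θ ⟨x, hRS x.2⟩, hRR' x⟩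
  rw [hind x] at h1
  exact (mem_preimageAlong θ A' _).mpr ⟨hφS x, h1⟩

/-- The image of a strongly closed subgroup is strongly closed in the factor system. -/
theorem stronglyClosed_imageAlong [Finite S] (p : ℕ) [Fact p.Prime] (hS : IsPGroup p S) (F : FusionSystem S)
    (hF : F.IsSaturated p) {T : Subgroup Ω}
    (hT : F.StronglyClosed T) (θ : S →* Ω')
    (hker : ∀ s : S, θ s = 1 ↔ (s : Ω) ∈ T) (hrange : θ.range = S') (E : FusionSystem S')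
    (hE : ∀ (P' : Subgroup Ω') (φ' : P' →* Ω'),
      φ' ∈ E.Hom P' ↔ P' ≤ S' ∧ ∃ φ ∈ F.Hom (preimageAlong θ P'), InducedAlong θ φ φ')
    {T₁ : Subgroup Ω} (hT₁ : F.StronglyClosed T₁) : E.StronglyClosed (imageAlong θ T₁) := by
  refine ⟨imageAlong_le θ hrange T₁, fun R' hR' φ' hφ' x' => ?_⟩
  obtain ⟨hR'S', φ, hφ, hRS, hφS, hRR', hind⟩ := (hE _ _).mp hφ'
  obtain ⟨s, hsS, hsP, hs⟩ := exists_preimage θ hrange hR'S' x'
  have hsc := stronglyClosed_sup p hS F hF hT₁ hT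
  have hle : preimageAlong θ R' ≤ T₁ ⊔ T := by
    rw [← preimageAlong_imageAlong θ hT.1 hker hT₁.1]
    exact preimageAlong_mono θ hR'
  have h1 := hsc.2 _ hle φ hφ ⟨s, hsP⟩
  obtain ⟨t₁, ht₁, t, ht, hφs⟩ :=
    exists_mul_of_mem_sup (fun a ha t ht => stronglyClosed_conj_mem hT (hT₁.1 ha) ht) h1
  have h2 := hind ⟨s, hsP⟩
  have e : (⟨θ ⟨((⟨s, hsP⟩ : ↥(preimageAlong θ R')) : Ω), hRS hsP⟩, hRR' ⟨s, hsP⟩⟩ : R') = x' := Subtype.ext hs
  rw [e] at h2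
  rw [h2]
  have e2 : (⟨φ ⟨s, hsP⟩, hφS _⟩ : S) = ⟨t₁, hT₁.1 ht₁⟩ * ⟨t, hT.1 ht⟩ := Subtype.ext hφs
  rw [e2, map_mul, (hker ⟨t, hT.1 ht⟩).mpr ht, mul_one]
  exact ⟨⟨t₁, hT₁.1 ht₁⟩, Subgroup.mem_subgroupOf.mpr ht₁, rfl⟩

end solv1

end Cfsg.Agent.Lib.Helper88
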