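import Cfsg.Agent.Lib.Helper88.FusionSolv3

set_option autoImplicit false
open Cfsg

namespace Cfsg.Agent.Lib.Helper88

open Cfsg.FusionSystem Cfsg.Agent.Lib.Helper87
open scoped commutatorElement

variable {Ω : Type*} [Group Ω] {S : Subgroup Ω}

/-- Criterion for solvability: above (not inside) every proper strongly closed subgroup `R` there is a strongly closed
subgroup which is abelian modulo `R`. -/
theorem isSolvableSystem_of_forall_exists [Finite S] (p : ℕ) [Fact p.Prime] (hS : IsPGroup p S) (F : FusionSystem S)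
    (hF : F.IsSaturated p)
    (h : ∀ R : Subgroup Ω, F.StronglyClosed R → R ≠ S →
      ∃ B : Subgroup Ω, F.StronglyClosed B ∧ ¬ B ≤ R ∧ ⁅B, B⁆ ≤ R) : F.IsSolvableSystem := by
  intro R hR hne hn E hE
  have hker := hE.2.1
  have hrange := hE.2.2.1
  have hEsat : E.IsSaturated p := isSaturated_of_isFactorSystem p hS F hF hR _ E hE
  have hp' : IsPGroup p (⊤ : Subgroup (S ⧸ R.subgroupOf S)) := by
    have h1 : IsPGroup p (S ⧸ R.subgroupOf S) := hS.to_quotient _
    exact h1.to_subgroup ⊤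
  have hfin : Finite (⊤ : Subgroup (S ⧸ R.subgroupOf S)) := inferInstance
  rw [Cfsg.Agent.S5089.result p hp' E hEsat]
  obtain ⟨B, hB, hBR, hcomm⟩ := h R hR hne
  obtain ⟨x, hxT, hxR⟩ := SetLike.not_le_iff_exists.mp hBR
  have hxS : x ∈ S := hB.1 hxT
  refine ⟨imageAlong (QuotientGroup.mk' (R.subgroupOf S)) B, ?_, ?_,
    stronglyClosed_imageAlong p hS F hF hR _ hker hrange E hE.2.2.2 hB⟩
  · intro hbot
    have hmem : QuotientGroup.mk' (R.subgroupOf S) ⟨x, hxS⟩ ∈
        imageAlong (QuotientGroup.mk' (R.subgroupOf S)) B :=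
      ⟨⟨x, hxS⟩, Subgroup.mem_subgroupOf.mpr hxT, rfl⟩
    rw [hbot, Subgroup.mem_bot] at hmem
    exact hxR ((hker _).mp hmem)
  · refine ⟨⟨fun a b => ?_⟩⟩
    obtain ⟨_, ⟨s, hs, rfl⟩⟩ := a
    obtain ⟨_, ⟨t, ht, rfl⟩⟩ := b
    apply Subtype.ext
    show QuotientGroup.mk' (R.subgroupOf S) s * QuotientGroup.mk' (R.subgroupOf S) t =
      QuotientGroup.mk' (R.subgroupOf S) t * QuotientGroup.mk' (R.subgroupOf S) s
    have hs' : (s : Ω) ∈ B := Subgroup.mem_subgroupOf.mp hs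
    have ht' : (t : Ω) ∈ B := Subgroup.mem_subgroupOf.mp ht
    have hc : ⁅(s : Ω), (t : Ω)⁆ ∈ R := hcomm (Subgroup.commutator_mem_commutator hs' ht')
    have h1 : QuotientGroup.mk' (R.subgroupOf S) (s * t * s⁻¹ * t⁻¹) = 1 := by
      apply (hker _).mpr
      show (s : Ω) * (t : Ω) * (s : Ω)⁻¹ * (t : Ω)⁻¹ ∈ R
      rw [← commutatorElement_def]
      exact hc
    rw [map_mul, map_mul, map_mul, map_inv, map_inv] at h1
    have h2 := mul_inv_eq_one.mp h1
    exact mul_inv_eq_iff_eq_mul.mp h2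

theorem commutator_self_le (A : Subgroup Ω) : ⁅A, A⁆ ≤ A := by
  rw [Subgroup.commutator_le]
  intro x hx y hy
  rw [commutatorElement_def]
  exact A.mul_mem (A.mul_mem (A.mul_mem hx hy) (A.inv_mem hx)) (A.inv_mem hy)

/-- Top-down step in a system with an abelian strongly closed chain: below every nontrivial strongly closed subgroup
there is a strictly smaller one with abelian quotient. -/
theorem exists_prev_of_chain (F : FusionSystem S) (n : ℕ) (c : ℕ → Subgroup Ω) (hc0 : c 0 = ⊥) (hcn : c n = S)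
    (hcsc : ∀ i, F.StronglyClosed (c i)) (hccomm : ∀ i, ⁅c (i + 1), c (i + 1)⁆ ≤ c i)
    {A : Subgroup Ω} (hA : F.StronglyClosed A) (hne : A ≠ ⊥) :
    ∃ A' : Subgroup Ω, F.StronglyClosed A' ∧ A' ≤ A ∧ A' ≠ A ∧ ⁅A, A⁆ ≤ A' := by
  classical
  have hex : ∃ i, A ≤ c i := ⟨n, by rw [hcn]; exact hA.1⟩
  have hfind := Nat.find_spec hex
  have hmin := fun j => Nat.find_min hex (m := j)
  set i := Nat.find hex with hi
  have hi0 : i ≠ 0 := by
    intro h0
    rw [h0, hc0] at hfind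
    exact hne (le_bot_iff.mp hfind)
  obtain ⟨j, hj⟩ := Nat.exists_eq_succ_of_ne_zero hi0
  have hnot : ¬ A ≤ c j := hmin j (by omega)
  refine ⟨A ⊓ c j, stronglyClosed_inf hA (hcsc j), inf_le_left, ?_, le_inf (commutator_self_le A) ?_⟩
  · intro heq
    apply hnot
    rw [← heq]
    exact inf_le_right
  · refine le_trans (Subgroup.commutator_mono ?_ ?_) (hccomm j)
    · rw [← Nat.succ_eq_add_one, ← hj]; exact hfind
    · rw [← Nat.succ_eq_add_one, ← hj]; exact hfind

/-- Bottom-up step for the intersection of a chain with a subgroup `T`. -/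
theorem exists_step_inf_of_chain (n : ℕ) (c : ℕ → Subgroup Ω) (hc0 : c 0 = ⊥) {T : Subgroup Ω} (hcn : T ≤ c n)
    (hccomm : ∀ i, ⁅c (i + 1), c (i + 1)⁆ ≤ c i) {R : Subgroup Ω} (hR : ¬ T ≤ R) :
    ∃ j, ¬ c (j + 1) ⊓ T ≤ R ∧ ⁅c (j + 1) ⊓ T, c (j + 1) ⊓ T⁆ ≤ R := by
  classical
  have hex : ∃ i, ¬ c i ⊓ T ≤ R := ⟨n, by rw [inf_eq_right.mpr hcn]; exact hR⟩
  have hfind := Nat.find_spec hex
  have hmin := fun j => Nat.find_min hex (m := j)
  set i := Nat.find hex with hi
  have hi0 : i ≠ 0 := by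
    intro h0
    rw [h0, hc0] at hfind
    apply hfind
    rw [bot_inf_eq]
    exact bot_le
  obtain ⟨j, hj⟩ := Nat.exists_eq_succ_of_ne_zero hi0
  have hle : c j ⊓ T ≤ R := not_not.mp (hmin j (by omega))
  refine ⟨j, ?_, ?_⟩
  · rw [← Nat.succ_eq_add_one, ← hj]; exact hfind
  · refine le_trans (le_inf ?_ ?_) hle
    · exact le_trans (Subgroup.commutator_mono inf_le_left inf_le_left) (hccomm j)
    · exact le_trans (Subgroup.commutator_mono inf_le_right inf_le_right) (commutator_self_le T)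

end Cfsg.Agent.Lib.Helper88
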