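import Cfsg.Agent.Lib.Helper88.FusionSolv5

set_option autoImplicit false
open Cfsg

namespace Cfsg.Agent.Lib.Helper88

open Cfsg.FusionSystem Cfsg.Agent.Lib.Helper87
open scoped commutatorElement

variable {Ω : Type*} [Group Ω] {S : Subgroup Ω}

section solv6

variable {Ω' : Type*} [Group Ω'] {S' : Subgroup Ω'}

theorem finite_of_range_eq [Finite S] (θ : S →* Ω') (hrange : θ.range = S') : Finite S' := by
  subst hrange
  exact Finite.of_surjective θ.rangeRestrict θ.rangeRestrict_surjective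

theorem isPGroup_of_range_eq {p : ℕ} (hS : IsPGroup p S) (θ : S →* Ω') (hrange : θ.range = S') : IsPGroup p S' := by
  subst hrange
  exact hS.of_surjective θ.rangeRestrict θ.rangeRestrict_surjective

theorem preimageAlong_range_eq (θ : S →* Ω') (hrange : θ.range = S') : preimageAlong θ S' = S := by
  apply le_antisymm (preimageAlong_le θ S')
  intro x hx
  rw [mem_preimageAlong]
  refine ⟨hx, ?_⟩
  rw [← hrange]
  exact ⟨_, rfl⟩

theorem map_commutatorElement_mem (θ : S →* Ω') {x y : Ω} (hxS : x ∈ S) (hyS : y ∈ S) :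
    ∃ h : ⁅x, y⁆ ∈ S, θ ⟨⁅x, y⁆, h⟩ = ⁅θ ⟨x, hxS⟩, θ ⟨y, hyS⟩⁆ := by
  have hmem : ⁅x, y⁆ ∈ S := by
    rw [commutatorElement_def]
    exact S.mul_mem (S.mul_mem (S.mul_mem hxS hyS) (S.inv_mem hxS)) (S.inv_mem hyS)
  refine ⟨hmem, ?_⟩
  have e : (⟨⁅x, y⁆, hmem⟩ : S) = ⁅(⟨x, hxS⟩ : S), ⟨y, hyS⟩⁆ := by
    apply Subtype.ext
    simp [commutatorElement_def]
  rw [e, map_commutatorElement]

/-- The factor system of a solvable saturated system is solvable. -/
theorem isSolvableSystem_factor [Finite S] (p : ℕ) [Fact p.Prime] (hS : IsPGroup p S) (F : FusionSystem S)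
    (hF : F.IsSaturated p) (hsolv : F.IsSolvableSystem) {T : Subgroup Ω} (hT : F.StronglyClosed T)
    (θ : S →* Ω') (D : FusionSystem S') (hD : F.IsFactorSystem T θ D) : D.IsSolvableSystem := by
  obtain ⟨hTS, hker, hrange, hiff⟩ := hD
  have hfin : Finite S' := finite_of_range_eq θ hrange
  have hS' : IsPGroup p S' := isPGroup_of_range_eq hS θ hrange
  have hDsat : D.IsSaturated p := isSaturated_of_isFactorSystem p hS F hF hT θ D ⟨hTS, hker, hrange, hiff⟩
  apply isSolvableSystem_of_forall_exists p hS' D hDsat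
  intro R' hR' hne
  have hR : F.StronglyClosed (preimageAlong θ R') :=
    stronglyClosed_preimageAlong p hS F hF hT θ hker hrange D hiff hR'
  have hRne : preimageAlong θ R' ≠ S := by
    intro heq
    apply hne
    apply le_antisymm hR'.1
    rw [← imageAlong_preimageAlong θ hrange hR'.1, heq]
    intro y hy
    rw [← hrange] at hy
    obtain ⟨s, rfl⟩ := hy
    exact ⟨s, Subgroup.mem_subgroupOf.mpr s.2, rfl⟩
  obtain ⟨B, hB, hlt, hcomm⟩ := exists_next_of_isSolvableSystem p hS F hF hsolv hR hRne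
  refine ⟨imageAlong θ B, stronglyClosed_imageAlong p hS F hF hT θ hker hrange D hiff hB, ?_, ?_⟩
  · intro hle
    apply hlt.not_ge
    intro b hb
    rw [mem_preimageAlong]
    refine ⟨hB.1 hb, hle ?_⟩
    exact ⟨⟨b, hB.1 hb⟩, Subgroup.mem_subgroupOf.mpr hb, rfl⟩
  · rw [Subgroup.commutator_le]
    rintro _ ⟨s, hs, rfl⟩ _ ⟨t, ht, rfl⟩
    have hs' : (s : Ω) ∈ B := Subgroup.mem_subgroupOf.mp hs
    have ht' : (t : Ω) ∈ B := Subgroup.mem_subgroupOf.mp ht
    obtain ⟨hmem, he⟩ := map_commutatorElement_mem θ s.2 t.2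
    have h1 : ⁅(s : Ω), (t : Ω)⁆ ∈ preimageAlong θ R' := hcomm (Subgroup.commutator_mem_commutator hs' ht')
    obtain ⟨h2, h3⟩ := (mem_preimageAlong θ R' _).mp h1
    rw [← he]
    exact h3

/-- A saturated subsystem of a solvable saturated system is solvable. -/
theorem isSolvableSystem_subsystem [Finite S] (p : ℕ) [Fact p.Prime] (hS : IsPGroup p S) (F : FusionSystem S)
    (hF : F.IsSaturated p) (hsolv : F.IsSolvableSystem) {T : Subgroup Ω} (hTS : T ≤ S) (E : FusionSystem T)
    (hEsat : E.IsSaturated p) (hEF : E.IsSubsystemOf F) : E.IsSolvableSystem := by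
  have hfinT : Finite T := finite_of_le hTS
  have hTp : IsPGroup p T := hS.to_le hTS
  obtain ⟨n, c, hc0, hcn, hcsc, -, hccomm⟩ :=
    exists_chain_nat_of_isSolvableSystem p hS F hF hsolv (Nat.card S) ⊥
      (Cfsg.Agent.Lib.Helper90.stronglyClosed_bot F) (Nat.sub_le _ _)
  apply isSolvableSystem_of_forall_exists p hTp E hEsat
  intro R hR hne
  have hTR : ¬ T ≤ R := fun h => hne (le_antisymm hR.1 h)
  obtain ⟨j, hj1, hj2⟩ := exists_step_inf_of_chain n c hc0 (by rw [hcn]; exact hTS) hccomm hTR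
  refine ⟨c (j + 1) ⊓ T, ⟨inf_le_right, fun P hP φ hφ x => ?_⟩, hj1, hj2⟩
  exact ⟨(hcsc (j + 1)).2 P (hP.trans inf_le_left) φ (hEF P hφ) x, hom_mem E hφ x⟩

/-- If a normal (invariant, saturated) subsystem and the factor system modulo it are solvable, so is the system. -/
theorem isSolvableSystem_of_invariant_factor [Finite S] (p : ℕ) [Fact p.Prime] (hS : IsPGroup p S)
    (F : FusionSystem S) (hF : F.IsSaturated p) {T : Subgroup Ω} (E : FusionSystem T) (hEsat : E.IsSaturated p)
    (hinv : E.IsInvariantIn F) (hEsolv : E.IsSolvableSystem)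
    (θ : S →* Ω') (D : FusionSystem S') (hD : F.IsFactorSystem T θ D) (hDsolv : D.IsSolvableSystem) :
    F.IsSolvableSystem := by
  have hT : F.StronglyClosed T := hinv.2.1
  obtain ⟨hTS, hker, hrange, hiff⟩ := hD
  have hfin : Finite S' := finite_of_range_eq θ hrange
  have hS' : IsPGroup p S' := isPGroup_of_range_eq hS θ hrange
  have hDsat : D.IsSaturated p := isSaturated_of_isFactorSystem p hS F hF hT θ D ⟨hTS, hker, hrange, hiff⟩
  have hfinT : Finite T := finite_of_le hTS
  have hTp : IsPGroup p T := hS.to_le hTS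
  obtain ⟨n, c, hc0, hcn, hcsc, -, hccomm⟩ :=
    exists_chain_nat_of_isSolvableSystem p hTp E hEsat hEsolv (Nat.card T) ⊥
      (Cfsg.Agent.Lib.Helper90.stronglyClosed_bot E) (Nat.sub_le _ _)
  apply isSolvableSystem_of_forall_exists p hS F hF
  intro R hR hne
  by_cases hTR : T ≤ R
  · have hR' : D.StronglyClosed (imageAlong θ R) :=
      stronglyClosed_imageAlong p hS F hF hT θ hker hrange D hiff hR
    have hpre : preimageAlong θ (imageAlong θ R) = R := by
      rw [preimageAlong_imageAlong θ hTS hker hR.1]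
      exact sup_eq_left.mpr hTR
    have hR'ne : imageAlong θ R ≠ S' := by
      intro heq
      apply hne
      rw [← hpre, heq]
      exact preimageAlong_range_eq θ hrange
    obtain ⟨B', hB', hlt, hcomm⟩ := exists_next_of_isSolvableSystem p hS' D hDsat hDsolv hR' hR'ne
    refine ⟨preimageAlong θ B', stronglyClosed_preimageAlong p hS F hF hT θ hker hrange D hiff hB', ?_, ?_⟩
    · intro hle
      apply hlt.not_ge
      intro y hy
      obtain ⟨s, hsS, hsP, hs⟩ := exists_preimage θ hrange hB'.1 ⟨y, hy⟩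
      have : θ ⟨s, hsS⟩ = y := hs
      rw [← this]
      exact ⟨⟨s, hsS⟩, Subgroup.mem_subgroupOf.mpr (hle hsP), rfl⟩
    · rw [Subgroup.commutator_le]
      intro x hx y hy
      obtain ⟨hxS, hx'⟩ := (mem_preimageAlong θ B' x).mp hx
      obtain ⟨hyS, hy'⟩ := (mem_preimageAlong θ B' y).mp hy
      obtain ⟨hmem, he⟩ := map_commutatorElement_mem θ hxS hyS
      rw [← hpre, mem_preimageAlong]
      refine ⟨hmem, ?_⟩
      rw [he]
      exact hcomm (Subgroup.commutator_mem_commutator hx' hy')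
  · exact exists_step_of_invariant_solvable hinv
      (fun A hA hAne => exists_prev_of_chain E n c hc0 hcn hcsc hccomm hA hAne) hTR

end solv6

end Cfsg.Agent.Lib.Helper88
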