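import Cfsg.Agent.Lib.Helper88.FusionSubnormal

set_option autoImplicit false
open Cfsg

namespace Cfsg.Agent.Lib.Helper88

open Cfsg.FusionSystem Cfsg.Agent.Lib.Helper87

variable {Ω : Type*} [Group Ω]

/-- In a saturated system, a subgroup fully centralized in `F` and contained in a strongly closed subgroup `T` is fully
centralized in every subsystem over `T`. -/
theorem isFullyCentralized_of_subsystem {S : Subgroup Ω} [Finite S] (p : ℕ) [Fact p.Prime] (hS : IsPGroup p S)
    (F : FusionSystem S) (hF : F.IsSaturated p) {T : Subgroup Ω} (E : FusionSystem T) (hEF : E.IsSubsystemOf F)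
    (hT : F.StronglyClosed T) (P : Subgroup Ω) (hPT : P ≤ T) (hP : F.IsFullyCentralized P) :
    E.IsFullyCentralized P := by
  refine ⟨hPT, fun Q hQ => ?_⟩
  obtain ⟨hPS, hrec⟩ := isReceptive_of_isFullyCentralized p hS F hF P hP
  obtain ⟨φ, hφE, hφr⟩ := hQ
  have hφ : φ ∈ F.Hom P := hEF P hφE
  obtain ⟨ψ, hψ, hψφ, hψr⟩ := inv_mem' F hφ hφr
  obtain ⟨χ, hχ, hχψ⟩ := hrec Q ψ hψ hψr
  have hQS : Q ≤ S := hom_le F hψ
  have hTS : T ≤ S := hT.1
  have hQN : Q ≤ extender S Q ψ := le_extender hQS (hom_mem F hψ)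
  have hCN : centralizerIn T Q ≤ extender S Q ψ :=
    (inf_le_inf_right _ hTS : centralizerIn T Q ≤ centralizerIn S Q).trans (centralizerIn_le_extender S Q ψ)
  have hχinj := F.injective_of_mem hχ
  have hχ' := restrict_mem F hCN hχ
  have hmem : ∀ c : centralizerIn T Q, χ ⟨c, hCN c.2⟩ ∈ centralizerIn T P := by
    intro c
    rw [mem_centralizerIn]
    refine ⟨hT.2 _ (inf_le_left : centralizerIn T Q ≤ T) _ hχ' c, fun y hy => ?_⟩
    rw [← hψr] at hy
    obtain ⟨q, rfl⟩ := hy
    rw [← hχψ q q.2 (hQN q.2)]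
    rw [← map_mul, ← map_mul]
    congr 1
    apply Subtype.ext
    show (q : Ω) * c = c * q
    exact (mem_centralizerIn.mp c.2).2 q q.2
  have : Finite T := finite_of_le hTS
  have : Finite (centralizerIn T P) := finite_of_le (centralizerIn_le T P)
  refine Nat.card_le_card_of_injective (fun c => (⟨χ ⟨c, hCN c.2⟩, hmem c⟩ : centralizerIn T P)) ?_
  intro a b hab
  have h1 : χ ⟨a, hCN a.2⟩ = χ ⟨b, hCN b.2⟩ := congrArg Subtype.val hab
  have h2 := hχinj h1
  exact Subtype.ext (congrArg (fun z : ↥(extender S Q ψ) => (z : Ω)) h2)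

end Cfsg.Agent.Lib.Helper88
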