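import Mathlib
import Cfsg.Prelude.Def_HallClasses
import Cfsg.Agent.Lib.Helper06.HallSym.Keys
import Cfsg.Agent.Lib.Helper38.HallAlt.Main
import Cfsg.Agent.Lib.Helper20.HallSymG1
import Cfsg.Agent.Lib.Helper30.HallAltY
import Cfsg.Agent.Lib.Helper63.HallAltG5

set_option autoImplicit false
open Cfsg
open scoped Pointwise

namespace Cfsg.Agent.Lib.Helper88.HallAlt
open Cfsg.Agent.Lib.Helper06.HallSym Cfsg.Agent.Lib.Helper38.HallAlt Cfsg.Agent.Lib.Helper30.HallAlt
open Cfsg.Agent.Lib.Helper63.HallAlt Cfsg.Agent.Lib.Helper20.HallSym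

/-- `a! (n - a)! ≤ 2 (n - 2)!` for `2 ≤ a ≤ n / 2`. -/
theorem factorial_mul_le_aux (n : ℕ) : ∀ a : ℕ, 2 ≤ a → 2 * a ≤ n →
    a.factorial * (n - a).factorial ≤ 2 * (n - 2).factorial := by
  intro a ha
  induction a, ha using Nat.le_induction with
  | base => intro _; simp [Nat.factorial]
  | succ a ha ih =>
    intro h
    have ih' := ih (by omega)
    obtain ⟨m, hm⟩ : ∃ m, n - (a + 1) = m := ⟨_, rfl⟩
    have hna : n - a = m + 1 := by omega
    rw [hm]
    rw [hna, Nat.factorial_succ] at ih'
    rw [Nat.factorial_succ]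
    have h1 : a + 1 ≤ m + 1 := by omega
    calc (a + 1) * a.factorial * m.factorial ≤ (m + 1) * a.factorial * m.factorial := by gcongr
      _ = a.factorial * ((m + 1) * m.factorial) := by ring
      _ ≤ 2 * (n - 2).factorial := ih'

/-- `a! (n - a)! < (n - 1)!` for `2 ≤ a ≤ n - 2`. -/
theorem factorial_mul_lt (n a : ℕ) (ha : 2 ≤ a) (han : a + 2 ≤ n) :
    a.factorial * (n - a).factorial < (n - 1).factorial := by
  have h1 : a.factorial * (n - a).factorial ≤ 2 * (n - 2).factorial := by
    by_cases h : 2 * a ≤ n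
    · exact factorial_mul_le_aux n a ha h
    · have := factorial_mul_le_aux n (n - a) (by omega) (by omega)
      have e : n - (n - a) = a := by omega
      rw [e, mul_comm] at this
      exact this
  obtain ⟨m, hm⟩ : ∃ m, n - 2 = m := ⟨_, rfl⟩
  have e : n - 1 = m + 1 := by omega
  rw [hm] at h1
  rw [e, Nat.factorial_succ]
  have hpos : 0 < m.factorial := Nat.factorial_pos m
  have h3 : 3 ≤ m + 1 := by omega
  nlinarith

/-- A subgroup of `Perm α` not inside the alternating group has twice the order of its even part. -/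
theorem card_eq_two_mul_card_inf_altSub {α : Type} [Finite α] (M : Subgroup (Equiv.Perm α))
    (hodd : ¬ M ≤ altSub α) : Nat.card M = 2 * Nat.card ↥(M ⊓ altSub α) := by
  classical
  letI := Fintype.ofFinite α
  have h2 : 2 ≤ Nat.card α := by
    by_contra h
    apply hodd
    have h1 : Nat.card α ≤ 1 := by omega
    haveI : Subsingleton α := (Finite.card_le_one_iff_subsingleton).1 h1
    intro g _
    have : g = 1 := Subsingleton.elim _ _
    rw [this]
    exact Subgroup.one_mem _
  have hidx : (altSub α).index = 2 := by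
    have h1 := (altSub α).card_mul_index
    have h3 := two_mul_card_altSub α h2
    rw [Nat.card_perm] at h1
    have hpos : 0 < Nat.card (altSub α) := Nat.card_pos
    have : Nat.card ↥(altSub α) * (altSub α).index = Nat.card ↥(altSub α) * 2 := by
      rw [h1, ← h3]; ring
    exact Nat.eq_of_mul_eq_mul_left hpos this
  have hrel : (altSub α).relIndex M = 2 := by
    have hd : (altSub α).relIndex M ∣ 2 := hidx ▸ Subgroup.relIndex_dvd_index_of_normal (altSub α) M
    have hne : (altSub α).relIndex M ≠ 1 := fun h => hodd (Subgroup.relIndex_eq_one.mp h)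
    rcases (Nat.dvd_prime Nat.prime_two).mp hd with h | h
    · exact absurd h hne
    · exact h
  have h4 := Subgroup.relIndex_mul_relIndex ⊥ (M ⊓ altSub α) M bot_le inf_le_left
  rw [Subgroup.relIndex_bot_left, Subgroup.relIndex_bot_left, Subgroup.inf_relIndex_left, hrel] at h4
  omega

end Cfsg.Agent.Lib.Helper88.HallAlt
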