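import Mathlib
import Cfsg.Agent.Lib.Helper05.N3Defs

/-!
# K-N3 leaf A3 (400405, pack S4004 of helper5): all primes in one class => Moebius values
-/

set_option autoImplicit false

namespace Cfsg.Agent.Lib.Helper88.N3

open Cfsg.Agent.Lib.Helper05.N3 Cfsg.Agent.Lib.Helper22.Nse

theorem a3_sum_moebius (D : ℕ) (hD : D ≠ 1) :
    ∑ d ∈ D.divisors, (ArithmeticFunction.moebius d : ℤ) = 0 := by
  have h := congrFun (congrArg (fun f : ArithmeticFunction ℤ => (f : ℕ → ℤ))
    ArithmeticFunction.moebius_mul_coe_zeta) D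
  simp only [ArithmeticFunction.coe_mul_zeta_apply, ArithmeticFunction.one_apply, hD, if_false] at h
  exact h

theorem a3_moebius_sqf {d : ℕ} (hd : Squarefree d) :
    ArithmeticFunction.moebius d = (-1) ^ d.primeFactors.card := by
  rw [ArithmeticFunction.moebius_apply_of_squarefree hd]
  congr 1
  have h0 : d ≠ 0 := hd.ne_zero
  rw [← (ArithmeticFunction.cardDistinctFactors_eq_cardFactors_iff_squarefree h0).mpr hd,
    ArithmeticFunction.cardDistinctFactors_apply, Nat.primeFactors, List.card_toFinset]

/-- LEAF A3. -/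
theorem moebius_values {N : ℕ} {S : ℕ → ℕ} {m n : ℕ} (C : Ctx N S m n) {p q : ℕ} (hp : p.Prime) (hq : q.Prime)
    (hpq : p ≠ q) (hpN : p ∣ N) (hqN : q ∣ N) (hall : ∀ t : ℕ, t.Prime → t ∣ N → S t = m) :
    (∀ k, S k ≠ 0 → Squarefree k) ∧
      ∀ D, D ∣ N → Squarefree D → D ≠ 1 → S D = if Even D.primeFactors.card then n else m := by
  have hH := C.H
  have hN0 : N ≠ 0 := hH.pos.ne'
  have val : ∀ k, S k = 0 ∨ S k = 1 ∨ S k = m ∨ S k = n := by
    intro k
    by_cases h0 : S k = 0
    · exact Or.inl h0
    · have := hH.mem k h0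
      simp only [Finset.mem_insert, Finset.mem_singleton] at this
      exact Or.inr this
  have h3 : ∀ t, t.Prime → t ∣ N → 3 ≤ t := by
    intro t ht htN
    have h2 : t ≠ 2 := by
      rintro rfl
      exact (Nat.not_even_iff_odd.mpr C.odd) (even_iff_two_dvd.mpr htN)
    have := ht.two_le
    omega
  -- basic facts in ZMod t
  have hA : ∀ t, t.Prime → (1 : ZMod t) ≠ 0 := by
    intro t ht
    have : Fact t.Prime := ⟨ht⟩
    exact one_ne_zero
  have hB : ∀ t, t.Prime → t ∣ N → (1 : ZMod t) ≠ -1 := by
    intro t ht htN h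
    have h2 : ((2 : ℕ) : ZMod t) = 0 := by
      push_cast
      have : (1 : ZMod t) + 1 = 0 := by nth_rewrite 1 [h]; ring
      rw [← this]; ring
    have h4 := (ZMod.natCast_eq_zero_iff 2 t).mp h2
    have h5 := Nat.le_of_dvd (by norm_num) h4
    have := h3 t ht htN
    omega
  have hCn : ∀ t, t.Prime → (-1 : ZMod t) ≠ 0 := fun t ht => neg_ne_zero.mpr (hA t ht)
  have hm : ∀ t, t.Prime → t ∣ N → ((m : ℕ) : ZMod t) = -1 := by
    intro t ht htN
    have h1 := hH.frob t htN
    rw [Cfsg.Agent.S3995.sum_div_prime t ht, hH.one, hall t ht htN] at h1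
    have h2 : ((1 + m : ℕ) : ZMod t) = 0 := (ZMod.natCast_eq_zero_iff _ _).mpr h1
    push_cast at h2
    exact eq_neg_of_add_eq_zero_right h2
  -- totient obstruction: S k = 1 is impossible when a prime t ∣ N divides k
  have hphi : ∀ k t, t.Prime → t ∣ N → t ∣ k → S k ≠ 1 := by
    intro k t ht htN htk h1
    have h2 := hH.phi k
    rw [h1] at h2
    have h4 : Nat.totient t ∣ Nat.totient k := Nat.totient_dvd_of_dvd htk
    rw [Nat.totient_prime ht] at h4
    have h5 := Nat.le_of_dvd (by norm_num) (h4.trans h2)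
    have := h3 t ht htN
    omega
  -- (a) n = 1 in ZMod t
  have hn : ∀ t, t.Prime → t ∣ N → ((n : ℕ) : ZMod t) = 1 := by
    intro t ht htN
    obtain ⟨u, hu, huN, hut⟩ : ∃ u, u.Prime ∧ u ∣ N ∧ u ≠ t := by
      by_cases h : t = p
      · exact ⟨q, hq, hqN, fun h' => hpq (h.symm ▸ h'.symm)⟩
      · exact ⟨p, hp, hpN, fun h' => h h'.symm⟩
    have hcop : Nat.Coprime t u := (Nat.coprime_primes ht hu).mpr (Ne.symm hut)
    have htuN : t * u ∣ N := hcop.mul_dvd_of_dvd_of_dvd htN huN
    have h1 := hH.frob (t * u) htuN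
    rw [Cfsg.Agent.S3995.sum_div_mul_primes ht hu (Ne.symm hut), hH.one, hall t ht htN, hall u hu huN] at h1
    have h2 : ((1 + m + m + S (t * u) : ℕ) : ZMod t) = 0 :=
      (ZMod.natCast_eq_zero_iff _ _).mpr ((Dvd.intro _ rfl).trans h1)
    push_cast at h2
    rw [hm t ht htN] at h2
    have h4 : ((S (t * u) : ℕ) : ZMod t) = 1 := by
      have : (1 : ZMod t) + -1 + -1 + (S (t * u) : ZMod t) = 0 := h2
      linear_combination this
    rcases val (t * u) with h | h | h | h
    · rw [h] at h4; exact absurd h4.symm (by simpa using hA t ht)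
    · exact absurd h (hphi (t * u) t ht htN (Dvd.intro _ rfl))
    · rw [h, hm t ht htN] at h4; exact absurd h4.symm (hB t ht htN)
    · rw [h] at h4; exact h4
  -- (b) no squares
  have hsq : ∀ t, t.Prime → t ∣ N → S (t ^ 2) = 0 := by
    intro t ht htN
    by_cases hd : t ^ 2 ∣ N
    · have h1 := hH.frob (t ^ 2) hd
      rw [Cfsg.Agent.S3995.sum_div_prime_sq t ht, hH.one, hall t ht htN] at h1
      have h2 : ((1 + m + S (t ^ 2) : ℕ) : ZMod t) = 0 :=
        (ZMod.natCast_eq_zero_iff _ _).mpr ((Dvd.intro (t) (by ring)).trans h1)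
      push_cast at h2
      rw [hm t ht htN] at h2
      have h4 : ((S (t ^ 2) : ℕ) : ZMod t) = 0 := by
        have : (1 : ZMod t) + -1 + (S (t ^ 2) : ZMod t) = 0 := h2
        linear_combination this
      rcases val (t ^ 2) with h | h | h | h
      · exact h
      · rw [h] at h4; exact absurd (by simpa using h4) (hA t ht)
      · rw [h, hm t ht htN] at h4; exact absurd h4 (hCn t ht)
      · rw [h, hn t ht htN] at h4; exact absurd h4 (hA t ht)
    · by_contra h
      exact hd (hH.dvd _ h)
  refine ⟨?_, ?_⟩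
  · intro k hk
    rw [Nat.squarefree_iff_prime_squarefree]
    intro x hx hxx
    have hkN : k ∣ N := hH.dvd k hk
    have hxN : x ∣ N := (Dvd.intro x rfl : x ∣ x * x).trans (hxx.trans hkN)
    have h1 := hH.closed k (x * x) hk hxx
    rw [← sq] at h1
    exact h1 (hsq x hx hxN)
  · intro D
    induction D using Nat.strong_induction_on with
    | _ D IH =>
      intro hDN hDs hD1
      obtain ⟨t, ht, htD⟩ := Nat.exists_prime_and_dvd hD1
      have htN : t ∣ N := htD.trans hDN
      have hD0 : D ≠ 0 := hDs.ne_zero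
      -- congruence for proper divisors
      have hcong : ∀ d ∈ D.divisors.erase D,
          ((S d : ℕ) : ZMod t) = ((ArithmeticFunction.moebius d : ℤ) : ZMod t) := by
        intro d hd
        rw [Finset.mem_erase, Nat.mem_divisors] at hd
        obtain ⟨hdD, hdd, _⟩ := hd
        have hdlt : d < D := lt_of_le_of_ne (Nat.le_of_dvd (Nat.pos_of_ne_zero hD0) hdd) hdD
        have hds : Squarefree d := hDs.squarefree_of_dvd hdd
        by_cases hd1 : d = 1
        · subst hd1
          simp [hH.one]
        · have h1 := IH d hdlt (hdd.trans hDN) hds hd1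
          rw [h1, a3_moebius_sqf hds]
          by_cases hE : Even d.primeFactors.card
          · rw [if_pos hE, hn t ht htN, hE.neg_one_pow]; simp
          · rw [if_neg hE, hm t ht htN, (Nat.not_even_iff_odd.mp hE).neg_one_pow]; simp
      have hfrob := hH.frob D hDN
      have h2 : ((∑ d ∈ D.divisors, S d : ℕ) : ZMod t) = 0 :=
        (ZMod.natCast_eq_zero_iff _ _).mpr (htD.trans hfrob)
      have hDmem : D ∈ D.divisors := Nat.mem_divisors_self D hD0
      rw [← Finset.add_sum_erase _ _ hDmem] at h2
      push_cast at h2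
      rw [Finset.sum_congr rfl hcong] at h2
      have h3' : ((∑ d ∈ D.divisors, (ArithmeticFunction.moebius d : ℤ) : ℤ) : ZMod t) = 0 := by
        rw [a3_sum_moebius D hD1]; simp
      rw [← Finset.add_sum_erase _ _ hDmem] at h3'
      push_cast at h3'
      have h4 : ((S D : ℕ) : ZMod t) = ((ArithmeticFunction.moebius D : ℤ) : ZMod t) := by
        linear_combination h2 - h3'
      rw [a3_moebius_sqf hDs] at h4
      by_cases hE : Even D.primeFactors.card
      · rw [if_pos hE]
        rw [hE.neg_one_pow] at h4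
        have h5 : ((S D : ℕ) : ZMod t) = 1 := by simpa using h4
        rcases val D with h | h | h | h
        · rw [h] at h5; exact absurd h5.symm (by simpa using hA t ht)
        · exact absurd h (hphi D t ht htN htD)
        · rw [h, hm t ht htN] at h5; exact absurd h5.symm (hB t ht htN)
        · exact h
      · rw [if_neg hE]
        rw [(Nat.not_even_iff_odd.mp hE).neg_one_pow] at h4
        have h5 : ((S D : ℕ) : ZMod t) = -1 := by simpa using h4
        rcases val D with h | h | h | h
        · rw [h] at h5; exact absurd (by simpa using h5.symm) (hCn t ht)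
        · exact absurd h (hphi D t ht htN htD)
        · exact h
        · rw [h, hn t ht htN] at h5; exact absurd h5 (hB t ht htN)

end Cfsg.Agent.Lib.Helper88.N3
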