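import Cfsg.Agent.Lib.Helper69.OPbDefs
import Cfsg.Agent.Lib.Helper98.Os3
import Cfsg.Agent.Lib.Helper98.Oh0
import Cfsg.Agent.Lib.Helper98.Sy6
import Cfsg.Agent.Lib.Helper98.Elus15

/-!
# K-OPb LEAF 13 (helper88): the derangement property

`mod_le_of_fixed_core`: for an invariant nondegenerate `W`, if every invariant nondegenerate subspace of `V1 r y`
has dimension divisible by `c`, then `dim W % c ≤ dim V0`.

`mod_le_of_fixed_of`: LEAF 13 of `notes/S5989_keystones.lean.txt` (exact hypotheses and conclusion) with LEAF 9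
(`piece_chain`, for the given `B`, `y`) passed as the hypothesis `L9`.
-/

set_option autoImplicit false

namespace Cfsg.Agent.Lib.Helper88.OPb

open Module Cfsg.Agent.Lib.Helper98.Elus Cfsg.Agent.Lib.Helper98.Sy Cfsg.Agent.Lib.Helper98.Oh
  Cfsg.Agent.Lib.Helper69.OPb

universe u
variable {F : Type u} [Field F] {V : Type u} [AddCommGroup V] [Module F V]

/-- an invariant subspace is the sum of its parts in `V0` and `V1` -/
theorem inf_V0_sup_inf_V1 (r : ℕ) (hrF : (r : F) ≠ 0) (y : V →ₗ[F] V) (hy : y ^ r = 1)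
    (W : Submodule F V) (hWinv : Inv y W) : (W ⊓ V0 y) ⊔ (W ⊓ V1 r y) = W := by
  apply le_antisymm (sup_le inf_le_left inf_le_left)
  intro w hw
  have hG : gsum r y w ∈ W := gsum_mem_of_inv r y W hWinv w hw
  have hw' : w = (r : F)⁻¹ • gsum r y w + (w - (r : F)⁻¹ • gsum r y w) := by abel
  rw [hw']
  apply Submodule.add_mem_sup
  · exact Submodule.smul_mem _ _ (Submodule.mem_inf.mpr ⟨hG, gsum_mem_V0 r y hy w⟩)
  · refine Submodule.mem_inf.mpr ⟨Submodule.sub_mem _ hw (Submodule.smul_mem _ _ hG), ?_⟩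
    rw [mem_V1, map_sub, map_smul]
    have := congrArg (fun g => g w) (gsum_mul_gsum r y hy)
    simp only [Module.End.mul_apply, LinearMap.smul_apply] at this
    rw [this, smul_smul, inv_mul_cancel₀ hrF, one_smul, sub_self]

/-- core of LEAF 13: divisibility of the dimensions of the invariant nondegenerate subspaces of `V1` by `c` -/
theorem mod_le_of_fixed_core [FiniteDimensional F V]
    (B : LinearMap.BilinForm F V) (hS : ∀ a b, B a b = B b a)
    (r : ℕ) (hrF : (r : F) ≠ 0) (y : V →ₗ[F] V) (hy : y ^ r = 1) (hiso : Iso B y)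
    (c : ℕ)
    (L9 : ∀ (U : Submodule F V), U ≤ V1 r y → Inv y U → NonDeg B U → ∃ T : ℕ, finrank F U = T * c)
    (W : Submodule F V) (hW : Inv y W) (hWnd : NonDeg B W) :
    finrank F W % c ≤ finrank F (V0 y) := by
  have hR : B.IsRefl := Cfsg.Agent.Lib.Helper98.Os.isRefl_of_symm hS
  obtain ⟨hnd0, hnd1⟩ := nonDeg_inf_parts_refl hR r hrF y hy hiso W hWnd hW
  have hinv1 : Inv y (W ⊓ V1 r y) := Inv.inf hW (inv_V1 r y)
  obtain ⟨T, hT⟩ := L9 (W ⊓ V1 r y) inf_le_right hinv1 hnd1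
  have hdisj : (W ⊓ V0 y) ⊓ (W ⊓ V1 r y) = ⊥ := by
    rw [eq_bot_iff]
    intro v hv
    obtain ⟨h0, h1⟩ := Submodule.mem_inf.mp hv
    have : v ∈ V0 y ⊓ V1 r y :=
      Submodule.mem_inf.mpr ⟨(Submodule.mem_inf.mp h0).2, (Submodule.mem_inf.mp h1).2⟩
    rw [V0_inf_V1 r hrF y] at this
    exact this
  have hdim : finrank F ↥(W ⊓ V0 y) + finrank F ↥(W ⊓ V1 r y) = finrank F W := by
    have h := Submodule.finrank_sup_add_finrank_inf_eq (W ⊓ V0 y) (W ⊓ V1 r y)
    rw [hdisj, inf_V0_sup_inf_V1 r hrF y hy W hW, finrank_bot] at h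
    omega
  have hle : finrank F ↥(W ⊓ V0 y) ≤ finrank F (V0 y) := Submodule.finrank_mono inf_le_right
  calc finrank F W % c = finrank F ↥(W ⊓ V0 y) % c := by
        rw [← hdim, hT, Nat.add_mul_mod_self_right]
    _ ≤ finrank F ↥(W ⊓ V0 y) := Nat.mod_le _ _
    _ ≤ finrank F (V0 y) := hle

/-- LEAF 13 of `notes/S5989_keystones.lean.txt` (exact hypotheses and conclusion) from LEAF 9 (`piece_chain`, exact
conclusion, for the given `B`, `y`) as a hypothesis. -/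
theorem mod_le_of_fixed_of [Fintype F] (h2 : (2 : F) ≠ 0) [FiniteDimensional F V]
    (B : LinearMap.BilinForm F V) (hS : ∀ a b, B a b = B b a) (hV : NonDeg B ⊤)
    (p f : ℕ) [Fact p.Prime] (hF : Fintype.card F = p ^ f)
    (r : ℕ) [Fact r.Prime] (hpr : p ≠ r) (hr2 : r ≠ 2) (hrF : (r : F) ≠ 0) (y : V →ₗ[F] V)
    (hy : y ^ r = 1) (hiso : Iso B y)
    (L9 : ∀ (U : Submodule F V), U ≤ V1 r y → Inv y U → NonDeg B U →
      ∃ T : ℕ, finrank F U = T * cOf (orderOf ((Fintype.card F : ℕ) : ZMod r)) ∧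
        (Plus B U ↔ (Odd (orderOf ((Fintype.card F : ℕ) : ZMod r)) ∨ Even T)) ∧
        ∀ s : ℕ, s ≤ T → ∃ W : Submodule F V, W ≤ U ∧ Inv y W ∧ NonDeg B W ∧
          finrank F W = s * cOf (orderOf ((Fintype.card F : ℕ) : ZMod r)))
    (W : Submodule F V) (hW : Inv y W) (hWnd : NonDeg B W) :
    finrank F W % cOf (orderOf ((Fintype.card F : ℕ) : ZMod r)) ≤ finrank F (V0 y) :=
  mod_le_of_fixed_core B hS r hrF y hy hiso _
    (fun U h1 h2' h3 => let ⟨T, hT, _⟩ := L9 U h1 h2' h3; ⟨T, hT⟩) W hW hWnd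

/-- LEAF 13 (universally quantified over `V`, as `Helper57.OPb.case_derangement_of` takes it) from LEAF 9 (same form). -/
theorem h13_of_h9 {F : Type u} [Field F] [Fintype F]
    (H9 : ∀ {V : Type u} [AddCommGroup V] [Module F V] (h2 : (2 : F) ≠ 0) [FiniteDimensional F V]
      (B : LinearMap.BilinForm F V) (hS : ∀ a b, B a b = B b a) (hV : NonDeg B ⊤)
      (p f : ℕ) [Fact p.Prime] (hF : Fintype.card F = p ^ f)
      (r : ℕ) [Fact r.Prime] (hpr : p ≠ r) (hr2 : r ≠ 2) (hrF : (r : F) ≠ 0) (y : V →ₗ[F] V)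
      (hy : y ^ r = 1) (hiso : Iso B y)
      (U : Submodule F V) (hUV1 : U ≤ V1 r y) (hU : Inv y U) (hUnd : NonDeg B U),
      ∃ T : ℕ, finrank F U = T * cOf (orderOf ((Fintype.card F : ℕ) : ZMod r)) ∧
        (Plus B U ↔ (Odd (orderOf ((Fintype.card F : ℕ) : ZMod r)) ∨ Even T)) ∧
        ∀ s : ℕ, s ≤ T → ∃ W : Submodule F V, W ≤ U ∧ Inv y W ∧ NonDeg B W ∧
          finrank F W = s * cOf (orderOf ((Fintype.card F : ℕ) : ZMod r))) :
    ∀ {V : Type u} [AddCommGroup V] [Module F V] (h2 : (2 : F) ≠ 0) [FiniteDimensional F V]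
      (B : LinearMap.BilinForm F V) (hS : ∀ a b, B a b = B b a) (hV : NonDeg B ⊤)
      (p f : ℕ) [Fact p.Prime] (hF : Fintype.card F = p ^ f)
      (r : ℕ) [Fact r.Prime] (hpr : p ≠ r) (hr2 : r ≠ 2) (hrF : (r : F) ≠ 0) (y : V →ₗ[F] V)
      (hy : y ^ r = 1) (hiso : Iso B y)
      (W : Submodule F V) (hW : Inv y W) (hWnd : NonDeg B W),
      finrank F W % cOf (orderOf ((Fintype.card F : ℕ) : ZMod r)) ≤ finrank F (V0 y) := by
  intro V _ _ h2 _ B hS hV p f _ hF r _ hpr hr2 hrF y hy hiso W hW hWnd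
  exact mod_le_of_fixed_of h2 B hS hV p f hF r hpr hr2 hrF y hy hiso
    (fun U h1 h2' h3 => H9 h2 B hS hV p f hF r hpr hr2 hrF y hy hiso U h1 h2' h3) W hW hWnd

end Cfsg.Agent.Lib.Helper88.OPb
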