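import Mathlib
import Cfsg.Prelude.Def_GeometricClasses
import Cfsg.Prelude.Def_ClassicalGeometry
import Cfsg.Agent.Lib.Helper72.OQFDefs
import Cfsg.Agent.Lib.Helper63.OQFM0
import Cfsg.Agent.Lib.Helper19.OQFM2x

/-!
# K-OQF-M (597706, helper88): all `O`-type subalgebras are conjugate under `GO`

Matrix wrapper of M0 (`Helper63.OQF.exists_theta`) and M2 (`Helper19.OQF.exists_isometry_intertwining`).
-/

set_option autoImplicit false

namespace Cfsg.Agent.Lib.Helper88.OQF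

open Cfsg Cfsg.Geo Cfsg.Agent.Lib.Helper72.OQF
open scoped Matrix MatrixGroups

variable {F : Type*} [Field F] {ι : Type} [Fintype ι] [DecidableEq ι]

/-- conjugating `s + tθ` -/
theorem conj_genBy {K K' : Subalgebra F (Matrix ι ι F)} {θ θ' : Matrix ι ι F} (hK : GenBy K θ) (hK' : GenBy K' θ')
    (g : GL ι F) (hg : (g : Matrix ι ι F) * θ = θ' * (g : Matrix ι ι F)) (a : Matrix ι ι F) :
    a ∈ K ↔ (g : Matrix ι ι F) * a * ((g⁻¹ : GL ι F) : Matrix ι ι F) ∈ K' := by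
  have h1 : (g : Matrix ι ι F) * ((g⁻¹ : GL ι F) : Matrix ι ι F) = 1 := by
    rw [← Units.val_mul, mul_inv_cancel, Units.val_one]
  have h2 : ((g⁻¹ : GL ι F) : Matrix ι ι F) * (g : Matrix ι ι F) = 1 := by
    rw [← Units.val_mul, inv_mul_cancel, Units.val_one]
  have hθ' : (g : Matrix ι ι F) * θ * ((g⁻¹ : GL ι F) : Matrix ι ι F) = θ' := by
    rw [hg, mul_assoc, h1, mul_one]
  rw [hK a, hK' _]
  constructor
  · rintro ⟨s, t, rfl⟩
    refine ⟨s, t, ?_⟩
    rw [mul_add, add_mul, Matrix.mul_smul, Matrix.smul_mul, mul_one, h1, Matrix.mul_smul, Matrix.smul_mul, hθ']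
  · rintro ⟨s, t, h⟩
    refine ⟨s, t, ?_⟩
    have h3 : a = ((g⁻¹ : GL ι F) : Matrix ι ι F) *
        ((g : Matrix ι ι F) * a * ((g⁻¹ : GL ι F) : Matrix ι ι F)) * (g : Matrix ι ι F) := by
      rw [mul_assoc, mul_assoc, h2, mul_one, ← mul_assoc, h2, one_mul]
    rw [h3, h, mul_add, add_mul, Matrix.mul_smul, Matrix.smul_mul, mul_one, h2, Matrix.mul_smul, Matrix.smul_mul,
      ← hθ']
    congr 2
    rw [mul_assoc, mul_assoc, h2, mul_one, ← mul_assoc, h2, one_mul]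

/-- K-OQF-M (597706).  All `O`-type subalgebras are conjugate under `GO`. -/
theorem exists_conj [Fintype F] (hodd : Odd (Fintype.card F)) (Q : QuadraticForm F (ι → F))
    (hQ : (QuadraticMap.polarBilin Q).Nondegenerate) (K K' : Subalgebra F (Matrix ι ι F))
    (hK : IsOType (⇑Q) K) (hK' : IsOType (⇑Q) K') :
    ∃ g ∈ Cfsg.isometryGroup F (⇑Q), ∀ a : Matrix ι ι F,
      a ∈ K ↔ (g : Matrix ι ι F) * a * ((g⁻¹ : GL ι F) : Matrix ι ι F) ∈ K' := by
  classical
  have hchar : ringChar F ≠ 2 := by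
    intro h
    have := FiniteField.even_card_of_char_two h
    rcases hodd with ⟨k, hk⟩
    omega
  obtain ⟨δ, hδ⟩ := FiniteField.exists_nonsquare hchar
  obtain ⟨θ, hθK, hθ2, hgen⟩ := Cfsg.Agent.Lib.Helper63.OQF.exists_theta hodd K hK.field δ hδ
  obtain ⟨θ', hθK', hθ2', hgen'⟩ := Cfsg.Agent.Lib.Helper63.OQF.exists_theta hodd K' hK'.field δ hδ
  have hsq : ∀ (η : Matrix ι ι F), η * η = δ • (1 : Matrix ι ι F) →
      ∀ v, Matrix.toLin' η (Matrix.toLin' η v) = δ • v := by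
    intro η hη v
    rw [Matrix.toLin'_apply, Matrix.toLin'_apply, Matrix.mulVec_mulVec, hη, Matrix.smul_mulVec,
      Matrix.one_mulVec]
  have hsa : ∀ u v, QuadraticMap.polar (⇑Q) (Matrix.toLin' θ u) v =
      QuadraticMap.polar (⇑Q) u (Matrix.toLin' θ v) := by
    intro u v
    rw [Matrix.toLin'_apply, Matrix.toLin'_apply]
    exact hK.sa θ hθK u v
  have hsa' : ∀ u v, QuadraticMap.polar (⇑Q) (Matrix.toLin' θ' u) v =
      QuadraticMap.polar (⇑Q) u (Matrix.toLin' θ' v) := by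
    intro u v
    rw [Matrix.toLin'_apply, Matrix.toLin'_apply]
    exact hK'.sa θ' hθK' u v
  obtain ⟨g, hgQ, hgθ⟩ := Cfsg.Agent.Lib.Helper19.OQF.exists_isometry_intertwining hodd Q hQ δ hδ
    (Matrix.toLin' θ) (Matrix.toLin' θ') (hsq θ hθ2) (hsq θ' hθ2') hsa hsa'
  -- `g` as an invertible matrix
  have h1 : LinearMap.toMatrix' (g : (ι → F) →ₗ[F] (ι → F)) *
      LinearMap.toMatrix' (g.symm : (ι → F) →ₗ[F] (ι → F)) = 1 := by
    rw [← LinearMap.toMatrix'_comp, ← LinearMap.toMatrix'_id]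
    congr 1
    apply LinearMap.ext
    intro v
    simp
  have h2 : LinearMap.toMatrix' (g.symm : (ι → F) →ₗ[F] (ι → F)) *
      LinearMap.toMatrix' (g : (ι → F) →ₗ[F] (ι → F)) = 1 := by
    rw [← LinearMap.toMatrix'_comp, ← LinearMap.toMatrix'_id]
    congr 1
    apply LinearMap.ext
    intro v
    simp
  let c₀ : Matrix.GeneralLinearGroup ι F := ⟨_, _, h1, h2⟩
  have hc₀ : Matrix.toLin' (c₀ : Matrix ι ι F) = (g : (ι → F) →ₗ[F] (ι → F)) :=
    Matrix.toLin'_toMatrix' _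
  have hmem : c₀ ∈ Cfsg.isometryGroup F ⇑Q := by
    intro v _
    show Q ((c₀ : Matrix ι ι F).mulVec v) = Q v
    rw [← Matrix.toLin'_apply, hc₀]
    exact hgQ v
  have hcomm : (c₀ : Matrix ι ι F) * θ = θ' * (c₀ : Matrix ι ι F) := by
    apply Matrix.toLin'.injective
    rw [Matrix.toLin'_mul, Matrix.toLin'_mul, hc₀]
    apply LinearMap.ext
    intro v
    simp only [LinearMap.comp_apply, LinearEquiv.coe_coe]
    exact hgθ v
  exact ⟨c₀, hmem, fun a => conj_genBy hgen hgen' c₀ hcomm a⟩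

end Cfsg.Agent.Lib.Helper88.OQF
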