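import Mathlib
import Cfsg.Prelude.Def_Local
import Cfsg.Prelude.Def_LocalEven

/-!
# Keystone 293003 K-PMinAlt-G3: transport of `Cfsg.IsPMinimal` along a group isomorphism
-/

set_option autoImplicit false

namespace Cfsg.Agent.Lib.Helper88.PMinAlt

/-- Comap along a group isomorphism preserves and reflects coatoms of the subgroup lattice. -/
theorem isCoatom_comap_mulEquiv {X Y : Type*} [Group X] [Group Y] (e : X ≃* Y) (M : Subgroup Y) :
    IsCoatom (M.comap e.toMonoidHom) ↔ IsCoatom M := by
  exact (e.comapSubgroup).isCoatom_iff M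

/-- **K-PMinAlt-G3.** -/
theorem isPMinimal_of_mulEquiv {X Y : Type*} [Group X] [Group Y] (p : ℕ) (e : X ≃* Y)
    (hX : Cfsg.IsPMinimal p X) : Cfsg.IsPMinimal p Y := by
  intro S'
  have hrange : (S' : Subgroup Y) ≤ e.toMonoidHom.range := by
    rw [MonoidHom.range_eq_top.mpr e.surjective]; exact le_top
  set S : Sylow p X := S'.comapOfInjective e.toMonoidHom e.injective hrange with hS
  have hScoe : (S : Subgroup X) = (S' : Subgroup Y).comap e.toMonoidHom := rfl
  obtain ⟨hnn, M, ⟨hMco, hSM⟩, hMuniq⟩ := hX S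
  have hsurj : Function.Surjective e.toMonoidHom := e.surjective
  have hMeq : (M.map e.toMonoidHom).comap e.toMonoidHom = M :=
    Subgroup.comap_map_eq_self_of_injective e.injective M
  refine ⟨?_, M.map e.toMonoidHom, ⟨?_, ?_⟩, ?_⟩
  · intro hn
    apply hnn
    rw [hScoe]
    exact hn.comap _
  · rw [← isCoatom_comap_mulEquiv e, hMeq]
    exact hMco
  · have h1 : (S' : Subgroup Y).comap e.toMonoidHom ≤ (M.map e.toMonoidHom).comap e.toMonoidHom := by
      rw [hMeq, ← hScoe]; exact hSM
    exact (Subgroup.comap_le_comap_of_surjective hsurj).mp h1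
  · rintro M' ⟨hM'co, hSM'⟩
    have h1 : IsCoatom (M'.comap e.toMonoidHom) := (isCoatom_comap_mulEquiv e M').mpr hM'co
    have h2 : (S : Subgroup X) ≤ M'.comap e.toMonoidHom := by
      rw [hScoe]; exact Subgroup.comap_mono hSM'
    have h3 := hMuniq _ ⟨h1, h2⟩
    rw [← h3, Subgroup.map_comap_eq_self_of_surjective hsurj]

end Cfsg.Agent.Lib.Helper88.PMinAlt
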