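import Cfsg.Agent.Lib.Helper24.AddDef
import Cfsg.Agent.Lib.Helper24.FT_E7
import Cfsg.Agent.Lib.Helper24.Add_E7
import Cfsg.Agent.Lib.Helper24.Torus
import Cfsg.Prelude.Def_EvenType
import Cfsg.Prelude.Def_ChevE7

/-!
Keystone 178810 (K-R3-E7, helper88): the Chevalley group `E7(F)` over a field of characteristic 2 has 2-rank at least 3:
the root groups of the three highest roots (indices 125, 124, 123, of heights 17, 16, 15) commute pairwise and give an
elementary abelian group of order `|F|^3 ≥ 8`.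
-/

set_option autoImplicit false

namespace Cfsg.Agent.Lib.Helper88.R3

open Cfsg.Lie Cfsg.Agent.Lib.Helper24

theorem tableE7 : TableOK chevE7 := fun r hr => tableOK_E7_all r hr

theorem x_add_E7 {F : Type*} [Field F] (r : ℕ) (hr : r < 126) (t u : F) :
    chevE7.x F r t * chevE7.x F r u = chevE7.x F r (t + u) :=
  x_add_of_addOK chevE7 tableE7 r (addOK_E7_all r hr) t u

theorem comm_check_E7_a :
    checkWordF chevE7 false [125, 124] [(125, Poly.x0), (124, Poly.x1)] [(124, Poly.x1), (125, Poly.x0)] = true := by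
  decide +kernel

theorem comm_check_E7_b :
    checkWordF chevE7 false [125, 123] [(125, Poly.x0), (123, Poly.x1)] [(123, Poly.x1), (125, Poly.x0)] = true := by
  decide +kernel

theorem comm_check_E7_c :
    checkWordF chevE7 false [124, 123] [(124, Poly.x0), (123, Poly.x1)] [(123, Poly.x1), (124, Poly.x0)] = true := by
  decide +kernel

theorem x_comm_E7_a {F : Type*} [Field F] (t u : F) :
    chevE7.x F 125 t * chevE7.x F 124 u = chevE7.x F 124 u * chevE7.x F 125 t := by
  have h1 := wordMat_eq_of_checkWordF chevE7 t u 1 1 tableE7 false (by simp) [125, 124] _ _ comm_check_E7_a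
  simpa [ChevalleyDatum.wordMat, denW] using h1

theorem x_comm_E7_b {F : Type*} [Field F] (t u : F) :
    chevE7.x F 125 t * chevE7.x F 123 u = chevE7.x F 123 u * chevE7.x F 125 t := by
  have h1 := wordMat_eq_of_checkWordF chevE7 t u 1 1 tableE7 false (by simp) [125, 123] _ _ comm_check_E7_b
  simpa [ChevalleyDatum.wordMat, denW] using h1

theorem x_comm_E7_c {F : Type*} [Field F] (t u : F) :
    chevE7.x F 124 t * chevE7.x F 123 u = chevE7.x F 123 u * chevE7.x F 124 t := by
  have h1 := wordMat_eq_of_checkWordF chevE7 t u 1 1 tableE7 false (by simp) [124, 123] _ _ comm_check_E7_c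
  simpa [ChevalleyDatum.wordMat, denW] using h1

/-- `x_r(t)` in the general linear group -/
def xgE7 (F : Type*) [Field F] (r : ℕ) (hr : r < 126) (t : F) : GL chevE7.Idx F :=
  ⟨chevE7.x F r t, chevE7.x F r (-t), by rw [x_add_E7 r hr, add_neg_cancel, x_zero],
    by rw [x_add_E7 r hr, neg_add_cancel, x_zero]⟩

theorem xgE7_mem (F : Type*) [Field F] (r : ℕ) (hr : r < 126) (t : F) : xgE7 F r hr t ∈ chevE7.group F := by
  apply Subgroup.subset_closure
  refine ⟨⟨r, hr⟩, t, ?_⟩
  change chevE7.x F r t = _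
  unfold ChevalleyDatum.x
  rw [dif_pos (show r < chevE7.nroots from hr)]

theorem xgE7_mul (F : Type*) [Field F] (r : ℕ) (hr : r < 126) (t u : F) :
    xgE7 F r hr t * xgE7 F r hr u = xgE7 F r hr (t + u) :=
  Units.ext (x_add_E7 r hr t u)

theorem xgE7_zero (F : Type*) [Field F] (r : ℕ) (hr : r < 126) : xgE7 F r hr 0 = 1 :=
  Units.ext (x_zero chevE7 r)

/-- the root group of the root with index `r`, as a homomorphism -/
def phiE7 (F : Type*) [Field F] (r : ℕ) (hr : r < 126) : Multiplicative F →* GL chevE7.Idx F where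
  toFun a := xgE7 F r hr (Multiplicative.toAdd a)
  map_one' := xgE7_zero F r hr
  map_mul' a b := (xgE7_mul F r hr (Multiplicative.toAdd a) (Multiplicative.toAdd b)).symm

theorem lt125 : (125 : ℕ) < 126 := by norm_num
theorem lt124 : (124 : ℕ) < 126 := by norm_num
theorem lt123 : (123 : ℕ) < 126 := by norm_num

theorem comm_a (F : Type*) [Field F] (a b : Multiplicative F) :
    Commute (phiE7 F 125 lt125 a) (phiE7 F 124 lt124 b) :=
  Units.ext (x_comm_E7_a (Multiplicative.toAdd a) (Multiplicative.toAdd b))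

theorem comm_b (F : Type*) [Field F] (a b : Multiplicative F) :
    Commute (phiE7 F 125 lt125 a) (phiE7 F 123 lt123 b) :=
  Units.ext (x_comm_E7_b (Multiplicative.toAdd a) (Multiplicative.toAdd b))

theorem comm_c (F : Type*) [Field F] (a b : Multiplicative F) :
    Commute (phiE7 F 124 lt124 a) (phiE7 F 123 lt123 b) :=
  Units.ext (x_comm_E7_c (Multiplicative.toAdd a) (Multiplicative.toAdd b))

/-- the product of the root groups of `124` and `123` -/
def psiE7bc (F : Type*) [Field F] : Multiplicative F × Multiplicative F →* GL chevE7.Idx F :=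
  (phiE7 F 124 lt124).noncommCoprod (phiE7 F 123 lt123) (comm_c F)

theorem comm_abc (F : Type*) [Field F] (a : Multiplicative F) (bc : Multiplicative F × Multiplicative F) :
    Commute (phiE7 F 125 lt125 a) (psiE7bc F bc) := by
  unfold psiE7bc
  rw [MonoidHom.noncommCoprod_apply]
  exact (comm_a F a bc.1).mul_right (comm_b F a bc.2)

/-- the elementary abelian group `X_125 X_124 X_123` in `GL` -/
def psiE7GL (F : Type*) [Field F] :
    Multiplicative F × (Multiplicative F × Multiplicative F) →* GL chevE7.Idx F :=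
  (phiE7 F 125 lt125).noncommCoprod (psiE7bc F) (comm_abc F)

theorem psiE7GL_apply (F : Type*) [Field F] (p : Multiplicative F × (Multiplicative F × Multiplicative F)) :
    psiE7GL F p = xgE7 F 125 lt125 (Multiplicative.toAdd p.1) *
      (xgE7 F 124 lt124 (Multiplicative.toAdd p.2.1) * xgE7 F 123 lt123 (Multiplicative.toAdd p.2.2)) := by
  unfold psiE7GL
  rw [MonoidHom.noncommCoprod_apply]
  unfold psiE7bc
  rw [MonoidHom.noncommCoprod_apply]
  rfl

theorem psiE7GL_mem (F : Type*) [Field F] (p : Multiplicative F × (Multiplicative F × Multiplicative F)) :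
    psiE7GL F p ∈ chevE7.group F := by
  rw [psiE7GL_apply]
  exact mul_mem (xgE7_mem F 125 _ _) (mul_mem (xgE7_mem F 124 _ _) (xgE7_mem F 123 _ _))

/-- the elementary abelian group `X_125 X_124 X_123` in `E7(F)` -/
def psiE7 (F : Type*) [Field F] :
    Multiplicative F × (Multiplicative F × Multiplicative F) →* chevE7.group F :=
  (psiE7GL F).codRestrict (chevE7.group F) (psiE7GL_mem F)

/-! ### matrix entries -/

def hh0 : Fin chevE7.rank := ⟨0, show (0:ℕ) < 7 by norm_num⟩
def hh2 : Fin chevE7.rank := ⟨2, show (2:ℕ) < 7 by norm_num⟩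
def hh3 : Fin chevE7.rank := ⟨3, show (3:ℕ) < 7 by norm_num⟩
def ee125 : Fin chevE7.nroots := ⟨125, lt125⟩
def ee124 : Fin chevE7.nroots := ⟨124, lt124⟩
def ee123 : Fin chevE7.nroots := ⟨123, lt123⟩

theorem cartE7_0_125 : ((chevE7.cartanSR[0]?.getD #[])[125]?.getD 0 : ℤ) = 1 := by decide +kernel
theorem cartE7_2_124 : ((chevE7.cartanSR[2]?.getD #[])[124]?.getD 0 : ℤ) = 1 := by decide +kernel
theorem cartE7_3_123 : ((chevE7.cartanSR[3]?.getD #[])[123]?.getD 0 : ℤ) = 1 := by decide +kernel
theorem chainE7_125_124 : chevE7.chainCoeff 125 124 125 = [] := by decide +kernel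
theorem negE7_125 : chevE7.negIdx[125]?.getD 0 = 0 := by decide +kernel

/-- the columns of the toral basis vectors in a product `A * x_s(b)` -/
theorem mul_x_inl {F : Type*} [Field F] (A : Matrix chevE7.Idx chevE7.Idx F) (s : ℕ) (hs : s < 126) (b : F)
    (i : chevE7.Idx) (j : Fin chevE7.rank) :
    (A * chevE7.x F s b) i (Sum.inl j) = A i (Sum.inl j) +
      A i (Sum.inr ⟨s, hs⟩) * (-(((chevE7.cartanSR.getD j.val #[]).getD s 0 : ℤ) : F) * b) := by
  unfold ChevalleyDatum.x
  rw [dif_pos (show s < chevE7.nroots from hs)]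
  rw [Matrix.mul_apply, Fintype.sum_sum_type]
  congr 1
  · simp [ChevalleyDatum.xMat]
  · simp [ChevalleyDatum.xMat]

theorem x125_entry_1 {F : Type*} [Field F] (t : F) :
    chevE7.x F 125 t (Sum.inr ee125) (Sum.inl hh0) = -t := by
  unfold ChevalleyDatum.x
  rw [dif_pos (show (125:ℕ) < chevE7.nroots from lt125)]
  simp [ChevalleyDatum.xMat, ee125, hh0, cartE7_0_125]

theorem x125_entry_2 {F : Type*} [Field F] (t : F) :
    chevE7.x F 125 t (Sum.inr ee125) (Sum.inr ⟨124, lt124⟩) = 0 := by
  unfold ChevalleyDatum.x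
  rw [dif_pos (show (125:ℕ) < chevE7.nroots from lt125)]
  simp [ChevalleyDatum.xMat, ee125, Fin.ext_iff, chainE7_125_124, negE7_125]

theorem x123_entry_1 {F : Type*} [Field F] (t : F) :
    chevE7.x F 123 t (Sum.inr ee125) (Sum.inl hh0) = 0 := by
  unfold ChevalleyDatum.x
  rw [dif_pos (show (123:ℕ) < chevE7.nroots from lt123)]
  simp [ChevalleyDatum.xMat, ee125, hh0, Fin.ext_iff]

theorem x124_entry_1 {F : Type*} [Field F] (t : F) :
    chevE7.x F 124 t (Sum.inr ee124) (Sum.inl hh2) = -t := by
  unfold ChevalleyDatum.x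
  rw [dif_pos (show (124:ℕ) < chevE7.nroots from lt124)]
  simp [ChevalleyDatum.xMat, ee124, hh2, cartE7_2_124]

theorem x123_entry_2 {F : Type*} [Field F] (t : F) :
    chevE7.x F 123 t (Sum.inr ee124) (Sum.inl hh2) = 0 := by
  unfold ChevalleyDatum.x
  rw [dif_pos (show (123:ℕ) < chevE7.nroots from lt123)]
  simp [ChevalleyDatum.xMat, ee124, hh2, Fin.ext_iff]

theorem x123_entry_3 {F : Type*} [Field F] (t : F) :
    chevE7.x F 123 t (Sum.inr ee123) (Sum.inl hh3) = -t := by
  unfold ChevalleyDatum.x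
  rw [dif_pos (show (123:ℕ) < chevE7.nroots from lt123)]
  simp [ChevalleyDatum.xMat, ee123, hh3, cartE7_3_123]

theorem psiE7_injective (F : Type*) [Field F] : Function.Injective (psiE7 F) := by
  rw [injective_iff_map_eq_one]
  intro p hp
  have hGL : psiE7GL F p = 1 := by
    have := congrArg Subtype.val hp
    exact this
  rw [psiE7GL_apply] at hGL
  have hm : chevE7.x F 125 (Multiplicative.toAdd p.1) *
      (chevE7.x F 124 (Multiplicative.toAdd p.2.1) * chevE7.x F 123 (Multiplicative.toAdd p.2.2)) = 1 := by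
    have := congrArg Units.val hGL
    exact this
  have hm2 : chevE7.x F 125 (Multiplicative.toAdd p.1) * chevE7.x F 124 (Multiplicative.toAdd p.2.1) =
      chevE7.x F 123 (-(Multiplicative.toAdd p.2.2)) := by
    have := congrArg (· * chevE7.x F 123 (-(Multiplicative.toAdd p.2.2))) hm
    simp only [Matrix.mul_assoc, x_add_E7 123 lt123, add_neg_cancel, x_zero, Matrix.mul_one,
      Matrix.one_mul] at this
    exact this
  -- the first coordinate
  have e1 := congrFun (congrFun hm2 (Sum.inr ee125)) (Sum.inl hh0)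
  rw [mul_x_inl _ 124 lt124, x125_entry_1, x125_entry_2, x123_entry_1, zero_mul, add_zero,
    neg_eq_zero] at e1
  rw [e1, x_zero, Matrix.one_mul] at hm2
  -- the second coordinate
  have e2 := congrFun (congrFun hm2 (Sum.inr ee124)) (Sum.inl hh2)
  rw [x124_entry_1, x123_entry_2, neg_eq_zero] at e2
  rw [e2, x_zero] at hm2
  -- the third coordinate
  have e3 := congrFun (congrFun hm2 (Sum.inr ee123)) (Sum.inl hh3)
  rw [x123_entry_3, neg_neg, Matrix.one_apply_ne (by simp)] at e3
  have h0' : (Multiplicative.toAdd p.1, Multiplicative.toAdd p.2.1, Multiplicative.toAdd p.2.2) =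
      ((0 : F), (0 : F), (0 : F)) := by rw [e1, e2, ← e3]
  apply Prod.ext
  · exact Multiplicative.toAdd.injective (congrArg Prod.fst h0')
  · apply Prod.ext
    · exact Multiplicative.toAdd.injective (congrArg (fun q => q.2.1) h0')
    · exact Multiplicative.toAdd.injective (congrArg (fun q => q.2.2) h0')

/-- An injective hom from a commutative group of exponent `p` gives a lower bound on the rank. -/
theorem prank_of_inj_E7 {X K : Type*} [Group X] [CommGroup K] (p k : ℕ) (ψ : K →* X)
    (hψ : Function.Injective ψ) (hK : ∀ a : K, a ^ p = 1) (hcard : p ^ k ≤ Nat.card K) :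
    Cfsg.PRankAtLeast p k X := by
  refine ⟨ψ.range, ⟨⟨?_⟩⟩, ?_, ?_⟩
  · rintro ⟨_, a, rfl⟩ ⟨_, b, rfl⟩
    apply Subtype.ext
    change ψ a * ψ b = ψ b * ψ a
    rw [← map_mul, ← map_mul, mul_comm]
  · rintro _ ⟨a, rfl⟩
    rw [← map_pow, hK, map_one]
  · rw [← Nat.card_congr (MonoidHom.ofInjective hψ).toEquiv]
    exact hcard

theorem prank_e7 (F : Type) [Field F] [Fintype F] [CharP F 2] :
    Cfsg.PRankAtLeast 2 3 (Cfsg.Lie.chevE7.group F) := by
  apply prank_of_inj_E7 2 3 (psiE7 F) (psiE7_injective F)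
  · intro a
    have h1 : ∀ x : Multiplicative F, x ^ 2 = 1 := by
      intro x
      rw [pow_two]
      exact Multiplicative.toAdd.injective (CharTwo.add_self_eq_zero (Multiplicative.toAdd x))
    apply Prod.ext
    · exact h1 a.1
    · apply Prod.ext
      · exact h1 a.2.1
      · exact h1 a.2.2
  · rw [Nat.card_eq_fintype_card, Fintype.card_prod, Fintype.card_prod, Fintype.card_multiplicative]
    have h2 : 2 ≤ Fintype.card F := Fintype.one_lt_card
    calc 2 ^ 3 = 2 * (2 * 2) := by norm_num
      _ ≤ Fintype.card F * (Fintype.card F * Fintype.card F) :=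
        Nat.mul_le_mul h2 (Nat.mul_le_mul h2 h2)

end Cfsg.Agent.Lib.Helper88.R3
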