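import Mathlib
import Cfsg.Agent.Lib.Helper49.RSU3Defs
import Cfsg.Agent.Lib.Helper40.GUConj

set_option autoImplicit false
set_option linter.unusedSectionVars false
set_option linter.unusedVariables false

/-!
# K-RSU3 leaf L11 (S2283): conjugating an upper root element by an upper triangular element
-/

namespace Cfsg.Agent.Lib.Helper88.RSU3

open Matrix Cfsg.Agent.Lib.Helper49.StSU Cfsg.Agent.Lib.Helper49.RSU3

variable {F : Type*} [Field F] [Fintype F] {q : ℕ}

theorem borel_conj (hF : Fintype.card F = q ^ 2) (g x : GJ 3 F q) (a b : F)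
    (hx : mat x = xM q a b) (h10 : mat g 1 0 = 0) (h20 : mat g 2 0 = 0) (h21 : mat g 2 1 = 0) :
    ∃ b' : F, mat (g * x * g⁻¹) = xM q (mat g 0 0 / mat g 1 1 * a) b' := by
  obtain ⟨φ, hφ, hφφ, -⟩ := Cfsg.Agent.Lib.Helper40.GUConj.exists_frob hF
  -- triangularity
  have hG : (mat g).BlockTriangular (fun i : Fin 3 => i) := by
    intro i j hij
    fin_cases i <;> fin_cases j <;> first | exact h10 | exact h20 | exact h21 | (exfalso; revert hij; decide)
  have hX : (mat x).BlockTriangular (fun i : Fin 3 => i) := by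
    intro i j hij
    rw [hx]
    fin_cases i <;> fin_cases j <;> first | (simp [xM]; done) | (exfalso; revert hij; decide)
  have hK : (mat g⁻¹).BlockTriangular (fun i : Fin 3 => i) := blockTriangular_inv _ g hG
  set M := mat (g * x * g⁻¹) with hMdef
  have hM : M.BlockTriangular (fun i : Fin 3 => i) := by
    rw [hMdef, mat_mul, mat_mul]
    exact (hG.mul hX).mul hK
  have hM10 : M 1 0 = 0 := hM (by decide)
  have hM20 : M 2 0 = 0 := hM (by decide)
  have hM21 : M 2 1 = 0 := hM (by decide)
  -- `M * G = G * X`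
  have hMG : M * mat g = mat g * xM q a b := by
    rw [hMdef, ← mat_mul, ← hx, ← mat_mul]
    congr 1
    group
  -- diagonal of `g` nonzero
  have hdet : mat g 0 0 * mat g 1 1 * mat g 2 2 = 1 := by
    have h1 := det_mat g
    rw [Matrix.det_of_upperTriangular hG, Fin.prod_univ_three] at h1
    exact h1
  have hg00 : mat g 0 0 ≠ 0 := by
    intro h; rw [h] at hdet; simp at hdet
  have hg11 : mat g 1 1 ≠ 0 := by
    intro h; rw [h] at hdet; simp at hdet
  have hg22 : mat g 2 2 ≠ 0 := by
    intro h; rw [h] at hdet; simp at hdet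
  -- entries
  have e00 := congrFun (congrFun hMG 0) 0
  have e11 := congrFun (congrFun hMG 1) 1
  have e22 := congrFun (congrFun hMG 2) 2
  have e01 := congrFun (congrFun hMG 0) 1
  simp only [Matrix.mul_apply, Fin.sum_univ_three, xM, h10, h20, h21, hM10, hM20, hM21,
    Matrix.of_apply, Matrix.cons_val', Matrix.cons_val_zero, Matrix.cons_val_one,
    Matrix.empty_val', Matrix.cons_val_fin_one, Matrix.head_cons, Matrix.cons_val_two,
    Matrix.tail_cons, Matrix.head_fin_const, mul_zero, zero_mul, add_zero, zero_add, mul_one]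
    at e00 e11 e22 e01
  have hM00 : M 0 0 = 1 := by
    have : M 0 0 * mat g 0 0 = 1 * mat g 0 0 := by rw [one_mul]; exact e00
    exact mul_right_cancel₀ hg00 this
  have hM11 : M 1 1 = 1 := by
    have : M 1 1 * mat g 1 1 = 1 * mat g 1 1 := by rw [one_mul]; exact e11
    exact mul_right_cancel₀ hg11 this
  have hM22 : M 2 2 = 1 := by
    have : M 2 2 * mat g 2 2 = 1 * mat g 2 2 := by rw [one_mul]; exact e22
    exact mul_right_cancel₀ hg22 this
  have hM01 : M 0 1 = mat g 0 0 / mat g 1 1 * a := by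
    rw [hM00] at e01
    field_simp
    linear_combination e01
  -- unitarity of `M` on `(e_1, e_2)`
  have hq0 : q ≠ 0 := by
    intro h
    rw [h] at hF
    have : 2 ≤ Fintype.card F := Fintype.one_lt_card
    omega
  have hu := hJ_mat (g * x * g⁻¹) (Pi.single 1 1) (Pi.single 2 1)
  change hJ 3 F q (M *ᵥ Pi.single 1 1) (M *ᵥ Pi.single 2 1) = _ at hu
  simp only [hJ, Fin.sum_univ_three, Matrix.mulVec_single, MulOpposite.op_one, one_smul,
    Matrix.col_apply] at hu
  have hrev0 : Fin.rev (0 : Fin 3) = 2 := by decide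
  have hrev1 : Fin.rev (1 : Fin 3) = 1 := by decide
  have hrev2 : Fin.rev (2 : Fin 3) = 0 := by decide
  simp only [hrev0, hrev1, hrev2, hM11, hM22, hM21, hM20, hM10, Pi.single_apply] at hu
  simp (config := {decide := true}) [hq0] at hu
  -- `hu : M 0 1 + (M 1 2) ^ q = 0` (up to form)
  have hM12 : M 1 2 = -(M 0 1) ^ q := by
    have h1 : (M 1 2) ^ q = -(M 0 1) := by linear_combination hu
    have h2 : M 1 2 = φ (φ (M 1 2)) := (hφφ _).symm
    rw [h2, hφ (M 1 2), h1, map_neg, hφ]
  refine ⟨M 0 2, ?_⟩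
  ext i j
  fin_cases i <;> fin_cases j
  · simpa [xM] using hM00
  · simpa [xM] using hM01
  · simp [xM]
  · simpa [xM] using hM10
  · simpa [xM] using hM11
  · simp only [xM]
    simp
    rw [hM12, hM01]
  · simpa [xM] using hM20
  · simpa [xM] using hM21
  · simpa [xM] using hM22

end Cfsg.Agent.Lib.Helper88.RSU3
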