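import Mathlib

set_option autoImplicit false
set_option linter.unusedVariables false
set_option linter.unusedSectionVars false

/-!
# K-RU2 leaf F (S2278): the subfield argument (pure field theory)
-/

namespace Cfsg.Agent.Lib.Helper88.RU2

open Matrix

/-- the multiplier subfield of an additive subgroup of a finite field -/
def mulStab {F : Type*} [Field F] [Fintype F] (S : AddSubgroup F) : Subfield F where
  carrier := {x | ∀ s ∈ S, x * s ∈ S}
  mul_mem' := by
    intro a b ha hb s hs
    have := ha _ (hb s hs)
    rwa [← mul_assoc] at this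
  one_mem' := by
    intro s hs
    simpa using hs
  add_mem' := by
    intro a b ha hb s hs
    have := S.add_mem (ha s hs) (hb s hs)
    rwa [← add_mul] at this
  zero_mem' := by
    intro s hs
    simp
  neg_mem' := by
    intro a ha s hs
    have := S.neg_mem (ha s hs)
    rwa [← neg_mul] at this
  inv_mem' := by
    intro x hx
    by_cases hx0 : x = 0
    · subst hx0
      intro s hs
      simp
    · -- x⁻¹ = x ^ (q - 2)
      have hq : 2 ≤ Fintype.card F := Fintype.one_lt_card
      have h1 : x ^ (Fintype.card F - 1) = 1 := FiniteField.pow_card_sub_one_eq_one x hx0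
      have h2 : x⁻¹ = x ^ (Fintype.card F - 2) := by
        have h3 : x * x ^ (Fintype.card F - 2) = 1 := by
          rw [← pow_succ']
          have : Fintype.card F - 2 + 1 = Fintype.card F - 1 := by omega
          rw [this, h1]
        exact (eq_inv_of_mul_eq_one_right h3).symm
      have hpow : ∀ n : ℕ, ∀ s ∈ S, x ^ n * s ∈ S := by
        intro n
        induction n with
        | zero => intro s hs; simpa using hs
        | succ n ih =>
          intro s hs
          have := ih _ (hx s hs)
          rwa [← mul_assoc, ← pow_succ] at this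
      intro s hs
      show x⁻¹ * s ∈ S
      rw [h2]
      exact hpow _ s hs

theorem mem_mulStab {F : Type*} [Field F] [Fintype F] (S : AddSubgroup F) (x : F) :
    x ∈ mulStab S ↔ ∀ s ∈ S, x * s ∈ S := Iff.rfl

/-- a subfield containing all cubes of a finite field with `q ≠ 4` elements is everything -/
theorem subfield_eq_top_of_cubes {F : Type*} [Field F] [Fintype F] (h4 : Fintype.card F ≠ 4)
    (K : Subfield F) (hK : ∀ x : F, x ^ 3 ∈ K) : K = ⊤ := by
  classical
  by_contra hne
  have hx : ∃ x : F, x ∉ K := by
    by_contra hall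
    exact hne (eq_top_iff.mpr fun x _ => by
      by_contra hxK
      exact hall ⟨x, hxK⟩)
  obtain ⟨x, hx⟩ := hx
  set Kf : Finset F := Finset.univ.filter (fun y => y ∈ K) with hKf
  have hmem : ∀ y, y ∈ Kf ↔ y ∈ K := by
    intro y
    simp [hKf]
  set m := Kf.card with hm
  -- `m * m ≤ q`
  have hsq : m * m ≤ Fintype.card F := by
    have h1 : (Kf ×ˢ Kf).card ≤ (Finset.univ : Finset F).card := by
      apply Finset.card_le_card_of_injOn (fun p : F × F => p.1 + p.2 * x)
      · intro p _
        simp
      · rintro ⟨a, b⟩ hab ⟨a', b'⟩ hab' heq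
        simp only [Finset.coe_product, Set.mem_prod, Finset.mem_coe, hmem] at hab hab'
        simp only at heq
        by_cases hb : b = b'
        · subst hb
          have : a = a' := by
            have := add_right_cancel heq
            exact this
          rw [this]
        · exfalso
          apply hx
          have hbb : b - b' ≠ 0 := sub_ne_zero.mpr hb
          have hxe : x = (a' - a) * (b - b')⁻¹ := by
            rw [eq_mul_inv_iff_mul_eq₀ hbb]
            linear_combination heq
          rw [hxe]
          exact K.mul_mem (K.sub_mem hab'.1 hab.1) (K.inv_mem (K.sub_mem hab.2 hab'.2))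
    rwa [Finset.card_product, Finset.card_univ] at h1
  -- `q - 1 ≤ 3 (m - 1)`
  have h0K : (0 : F) ∈ Kf := (hmem 0).mpr K.zero_mem
  have h1K : (1 : F) ∈ Kf := (hmem 1).mpr K.one_mem
  have hcube : ((Finset.univ : Finset F).erase 0).card ≤ 3 * (Kf.erase 0).card := by
    apply Finset.card_le_mul_card_image_of_maps_to (f := fun y : F => y ^ 3)
    · intro a ha
      rw [Finset.mem_erase] at ha ⊢
      exact ⟨pow_ne_zero _ ha.1, (hmem _).mpr (hK a)⟩
    · intro b _
      calc (Finset.filter (fun a => a ^ 3 = b) ((Finset.univ : Finset F).erase 0)).card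
          ≤ (Polynomial.nthRoots 3 b).toFinset.card := by
            apply Finset.card_le_card
            intro a ha
            rw [Finset.mem_filter] at ha
            rw [Multiset.mem_toFinset, Polynomial.mem_nthRoots (by norm_num)]
            exact ha.2
        _ ≤ Multiset.card (Polynomial.nthRoots 3 b) := Multiset.toFinset_card_le _
        _ ≤ 3 := Polynomial.card_nthRoots 3 b
  rw [Finset.card_erase_of_mem (Finset.mem_univ _), Finset.card_erase_of_mem h0K,
    Finset.card_univ] at hcube
  have hm2 : 2 ≤ m := by
    have : ({0, 1} : Finset F) ⊆ Kf := by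
      intro y hy
      simp only [Finset.mem_insert, Finset.mem_singleton] at hy
      rcases hy with rfl | rfl
      · exact h0K
      · exact h1K
    have h2 := Finset.card_le_card this
    rwa [Finset.card_pair (zero_ne_one)] at h2
  have hq2 : 2 ≤ Fintype.card F := Fintype.one_lt_card
  have hle : Fintype.card F + 2 ≤ 3 * m := by omega
  have hm_le : m ≤ 2 := by
    by_contra hcon
    have hcon' : 3 ≤ m := by omega
    nlinarith
  have hmeq : m = 2 := le_antisymm hm_le hm2
  rw [hmeq] at hsq hle
  omega

theorem addSubgroup_eq_top {F : Type*} [Field F] [Fintype F] (h4 : Fintype.card F ≠ 4) {l : F} (hl0 : l ≠ 0)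
    (hl : ∀ x : F, x ≠ 0 → ∃ k : ℕ, x = l ^ (k + 1))
    (S : AddSubgroup F) (hS : ∀ s ∈ S, l⁻¹ ^ 3 * s ∈ S) (hne : ∃ s ∈ S, s ≠ 0) : S = ⊤ := by
  have hlinv : l⁻¹ ^ 3 ∈ mulStab S := hS
  have hl3 : l ^ 3 ∈ mulStab S := by
    have := (mulStab S).inv_mem hlinv
    rwa [inv_pow, inv_inv] at this
  have hcubes : ∀ x : F, x ^ 3 ∈ mulStab S := by
    intro x
    by_cases hx : x = 0
    · subst hx
      simp
    · obtain ⟨k, rfl⟩ := hl x hx
      rw [← pow_mul, mul_comm, pow_mul]
      exact (mulStab S).pow_mem hl3 _
  have htop := subfield_eq_top_of_cubes h4 (mulStab S) hcubes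
  obtain ⟨s0, hs0, hs0ne⟩ := hne
  rw [eq_top_iff]
  intro y _
  have hy : y * s0⁻¹ ∈ mulStab S := by
    rw [htop]
    exact Subfield.mem_top _
  have := hy s0 hs0
  rwa [mul_assoc, inv_mul_cancel₀ hs0ne, mul_one] at this

theorem gen_pow_three_ne_one {F : Type*} [Field F] [Fintype F] (h2 : Fintype.card F ≠ 2)
    (h4 : Fintype.card F ≠ 4) {l : F} (hl0 : l ≠ 0)
    (hl : ∀ x : F, x ≠ 0 → ∃ k : ℕ, x = l ^ (k + 1)) : l ^ 3 ≠ 1 := by
  classical
  intro h3
  -- every power of `l` is `1`, `l` or `l ^ 2`
  have hpow : ∀ n : ℕ, l ^ n = 1 ∨ l ^ n = l ∨ l ^ n = l ^ 2 := by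
    intro n
    have hn : l ^ n = l ^ (n % 3) := by
      conv_lhs => rw [← Nat.div_add_mod n 3]
      rw [pow_add, pow_mul, h3, one_pow, one_mul]
    have hlt : n % 3 < 3 := Nat.mod_lt _ (by norm_num)
    rw [hn]
    interval_cases (n % 3)
    · left; simp
    · right; left; simp
    · right; right; rfl
  have hsub : (Finset.univ : Finset F) ⊆ {0, 1, l, l ^ 2} := by
    intro x _
    simp only [Finset.mem_insert, Finset.mem_singleton]
    by_cases hx : x = 0
    · left; exact hx
    · obtain ⟨k, rfl⟩ := hl x hx
      right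
      exact hpow _
  have hq4 : Fintype.card F ≤ 4 := by
    have := Finset.card_le_card hsub
    rw [Finset.card_univ] at this
    exact this.trans Finset.card_le_four
  have hq2 : 2 ≤ Fintype.card F := Fintype.one_lt_card
  have hq3 : Fintype.card F = 3 := by omega
  -- then `l ^ 2 = 1`, so `l = 1`
  have hl2 : l ^ 2 = 1 := by
    have := FiniteField.pow_card_sub_one_eq_one l hl0
    rwa [hq3] at this
  have hl1 : l = 1 := by
    have : l ^ 3 = l ^ 2 * l := pow_succ l 2
    rw [h3, hl2, one_mul] at this
    exact this.symm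
  have hsub2 : (Finset.univ : Finset F) ⊆ {0, 1} := by
    intro x _
    simp only [Finset.mem_insert, Finset.mem_singleton]
    by_cases hx : x = 0
    · left; exact hx
    · obtain ⟨k, rfl⟩ := hl x hx
      right
      rw [hl1, one_pow]
  have := Finset.card_le_card hsub2
  rw [Finset.card_univ, hq3] at this
  have h5 : ({0, 1} : Finset F).card ≤ 2 := Finset.card_le_two
  omega

end Cfsg.Agent.Lib.Helper88.RU2
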