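import Cfsg.Agent.Lib.Helper50.MinusInndiag
import Cfsg.Agent.Lib.Helper50.SpinorCrit
import Cfsg.Agent.Lib.Helper07.OrthT
import Cfsg.Agent.Lib.Helper30.S2718R

/-!
# Keystone 271906 K-S2719-C1: the commutator of a reflection with a similarity of nonsquare multiplier
-/

set_option autoImplicit false

namespace Cfsg.Agent.Lib.Helper88.S2719K

open Module Matrix Cfsg.Agent.Lib.Helper43 Cfsg.Agent.Lib.Helper08 Cfsg.Agent.Lib.Helper50
  Cfsg.Agent.Lib.Helper07.OG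

universe u

section generic

variable {F : Type u} [Field F] [Fintype F] {ι : Type} [Fintype ι] [DecidableEq ι]
variable (Q : QuadraticForm F (ι → F))

/-- K-S2719-C1 (generic, odd characteristic). -/
theorem comm_refl_not_mem_Omega (h2 : (2 : F) ≠ 0)
    (d : ↥(Cfsg.Geo.quadSimilarityGroup (F := F) ⇑Q)) (hd : ¬ IsSquare ((multFun Q d : Fˣ) : F))
    (u : ι → F) (hu : Q u ≠ 0) (r : ↥(Cfsg.Geo.quadSimilarityGroup (F := F) ⇑Q))
    (hr : ((r : GL ι F) : Matrix ι ι F) = Cfsg.reflectionMatrix (⇑Q) u) :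
    ∃ s : ↥(Cfsg.isometryGroup F ⇑Q), s ∉ Cfsg.Omega F ⇑Q ∧
      ((s : GL ι F) : Matrix ι ι F).det = 1 ∧ r * d * r⁻¹ * d⁻¹ = inclGO Q s := by
  set D : Matrix ι ι F := ((d : GL ι F) : Matrix ι ι F) with hD
  set μ : F := ((multFun Q d : Fˣ) : F) with hμ
  have hμ0 : μ ≠ 0 := (multFun Q d).ne_zero
  have hDQ : ∀ x, Q (D *ᵥ x) = μ * Q x := fun x => multFun_spec Q d x
  set w : ι → F := D *ᵥ u with hw
  have hQw : Q w = μ * Q u := hDQ u
  have hw0 : Q w ≠ 0 := by rw [hQw]; exact mul_ne_zero hμ0 hu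
  have hcomm : D * Cfsg.reflectionMatrix (⇑Q) u = Cfsg.reflectionMatrix (⇑Q) w * D :=
    Cfsg.Agent.Lib.Helper30.S2718K.sim_mul_reflection Q D μ hμ0 hDQ u
  have huu : Cfsg.reflectionMatrix (⇑Q) u * Cfsg.reflectionMatrix (⇑Q) u = 1 :=
    Cfsg.Agent.Lib.Helper50.reflectionMatrix_mul_self Q u hu
  have hvs : ∀ v ∈ [u, w], Q v ≠ 0 := by
    intro v hv
    simp only [List.mem_cons, List.not_mem_nil, or_false] at hv
    rcases hv with rfl | rfl
    · exact hu
    · exact hw0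
  have hsval : (((Cfsg.Agent.Lib.Helper50.reflO Q u * Cfsg.Agent.Lib.Helper50.reflO Q w : ↥(Cfsg.isometryGroup F (⇑Q))) : GL ι F) : Matrix ι ι F) =
      Cfsg.reflectionMatrix (⇑Q) u * Cfsg.reflectionMatrix (⇑Q) w := by
    rw [Subgroup.coe_mul, Units.val_mul, Cfsg.Agent.Lib.Helper50.reflO_val _ u hu, Cfsg.Agent.Lib.Helper50.reflO_val _ w hw0]
  have hval : (((Cfsg.Agent.Lib.Helper50.reflO Q u * Cfsg.Agent.Lib.Helper50.reflO Q w : ↥(Cfsg.isometryGroup F (⇑Q))) : GL ι F) : Matrix ι ι F) =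
      ([u, w].map (fun v => Cfsg.reflectionMatrix (⇑Q) v)).prod := by
    rw [hsval]
    simp
  refine ⟨Cfsg.Agent.Lib.Helper50.reflO Q u * Cfsg.Agent.Lib.Helper50.reflO Q w, ?_, ?_, ?_⟩
  · intro hmem
    have h := (spinor_criterion h2 Q _ [u, w] hvs hval).mp hmem
    apply hd
    have h3 : IsSquare (Q u * Q w) := by simpa using h.2
    rw [hQw] at h3
    obtain ⟨a, ha⟩ := h3
    refine ⟨a / Q u, ?_⟩
    field_simp
    linear_combination ha
  · rw [hval, det_prod_reflection Q [u, w] hvs]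
    simp
  · -- the commutator identity
    have key : r * d = inclGO Q (Cfsg.Agent.Lib.Helper50.reflO Q u * Cfsg.Agent.Lib.Helper50.reflO Q w) * d * r := by
      apply Subtype.ext
      apply Units.ext
      show ((r : GL ι F) : Matrix ι ι F) * D =
        (((Cfsg.Agent.Lib.Helper50.reflO Q u * Cfsg.Agent.Lib.Helper50.reflO Q w : ↥(Cfsg.isometryGroup F (⇑Q))) : GL ι F) : Matrix ι ι F) * D *
          ((r : GL ι F) : Matrix ι ι F)
      rw [hsval, hr, mul_assoc (Cfsg.reflectionMatrix (⇑Q) u), ← hcomm, mul_assoc, mul_assoc, huu, mul_one]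
    rw [mul_inv_eq_iff_eq_mul, mul_inv_eq_iff_eq_mul]
    exact key

end generic

end Cfsg.Agent.Lib.Helper88.S2719K
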