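import Mathlib
import Cfsg.Prelude.Def_JordanBlocks
import Cfsg.Agent.Lib.Helper73.UCDefs
import Cfsg.Agent.Lib.Helper73.SPCDefs

/-!
# K-SPC leaf C13 (267622, helper88): assembly of the classification of the classes of `AltSkew (nilM d F)`

Hypothesis form: `H1 .. H8` are the statements of the leaves C1, C2, C3, C3b, C7, C8, C11, C12.
The map `class of shankel d c ↦ (class of topBlock d hd c i)_i` is a bijection onto the product of the sets of
classes of `SymND _ i`.
-/

set_option autoImplicit false

namespace Cfsg.Agent.Lib.Helper88.SPC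

open Matrix Cfsg.Agent.Lib.Helper73.UC Cfsg.Agent.Lib.Helper73.SPC

variable {F : Type*} [Field F]

/-- congruent matrices have unit determinant together -/
theorem isUnit_det_of_congRel {ι : Type*} [Fintype ι] [DecidableEq ι] {A B B' : Matrix ι ι F}
    (h : CongRel A B B') (hB : IsUnit B.det) : IsUnit B'.det := by
  obtain ⟨x, hx, -, rfl⟩ := h
  rw [Matrix.det_mul, Matrix.det_mul, Matrix.det_transpose]
  exact (hx.mul hB).mul hx

/-- no block has size bigger than the supremum -/
theorem isEmpty_block {t : ℕ} (d : Fin t → ℕ) (i : ℕ) (hi : Finset.univ.sup d < i) :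
    IsEmpty {k : Fin t // d k = i} := by
  constructor
  rintro ⟨k, hk⟩
  have : d k ≤ Finset.univ.sup d := Finset.le_sup (f := d) (Finset.mem_univ k)
  omega

/-- LEAF C13 (assembly of the classification, hypothesis form). -/
theorem orbCount_altSkew_nilM_of {t : ℕ} (d : Fin t → ℕ) (hd : ∀ k, 1 ≤ d k)
    (H1 : ∀ B : Matrix (JI d) (JI d) F,
      (Bᵀ = -B ∧ (nilM d F)ᵀ * B = -(B * nilM d F)) ↔ ∃ c ∈ AC d, shankel d c = B)
    (H2 : ∀ c : CIdx d → F, IsUnit (shankel d c).det ↔ IsUnit (topC d hd c).det)
    (H3 : ∀ c : CIdx d → F, c ∈ AC d → ∀ i : ℕ,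
      (topBlock d hd c i)ᵀ = (-1 : F) ^ i • topBlock d hd c i)
    (H4 : ∀ c : CIdx d → F, IsUnit (topC d hd c).det ↔ ∀ i : ℕ, IsUnit (topBlock d hd c i).det)
    (H5 : ∀ c c' : CIdx d → F, CongRel (nilM d F) (shankel d c) (shankel d c') → ∀ i : ℕ,
      CongRel (1 : Matrix {k : Fin t // d k = i} {k : Fin t // d k = i} F)
        (topBlock d hd c i) (topBlock d hd c' i))
    (H6 : ∀ c : CIdx d → F, c ∈ AC d →
      ∀ y : (∀ i : ℕ, Matrix {k : Fin t // d k = i} {k : Fin t // d k = i} F),
      (∀ i, IsUnit (y i).det) →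
      ∃ c' ∈ AC d, CongRel (nilM d F) (shankel d c) (shankel d c') ∧
        ∀ i, topBlock d hd c' i = (y i)ᵀ * topBlock d hd c i * y i)
    (H7 : ∀ c c' : CIdx d → F, c ∈ AC d → c' ∈ AC d → IsUnit (shankel d c).det →
      IsUnit (shankel d c').det → (∀ i, topBlock d hd c i = topBlock d hd c' i) →
      CongRel (nilM d F) (shankel d c) (shankel d c'))
    (H8 : ∀ T : (∀ i : ℕ, Matrix {k : Fin t // d k = i} {k : Fin t // d k = i} F),
      (∀ i, (T i)ᵀ = (-1 : F) ^ i • T i) → ∃ c ∈ AC d, ∀ i, topBlock d hd c i = T i) :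
    orbCount (nilM d F) (AltSkew (nilM d F)) =
      ∏ i ∈ Finset.range (Finset.univ.sup d + 1),
        orbCount (1 : Matrix {k : Fin t // d k = i} {k : Fin t // d k = i} F)
          (SymND {k : Fin t // d k = i} i) := by
  classical
  set n : ℕ := Finset.univ.sup d with hn
  -- the setoids
  let s₀ : Setoid ↥(AltSkew (nilM d F)) :=
    (congSetoid (nilM d F)).comap (Subtype.val : ↥(AltSkew (nilM d F)) → Matrix (JI d) (JI d) F)
  let s : ∀ i : ℕ, Setoid ↥(SymND (F := F) {k : Fin t // d k = i} i) := fun i =>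
    (congSetoid (1 : Matrix {k : Fin t // d k = i} {k : Fin t // d k = i} F)).comap
      (Subtype.val : ↥(SymND (F := F) {k : Fin t // d k = i} i) → Matrix {k : Fin t // d k = i} {k : Fin t // d k = i} F)
  -- coefficient systems of the members of `AltSkew`
  have hex : ∀ B : ↥(AltSkew (nilM d F)), ∃ c ∈ AC d, shankel d c = B.1 :=
    fun B => (H1 B.1).mp ⟨B.2.1, B.2.2.2⟩
  let cOf : ↥(AltSkew (nilM d F)) → (CIdx d → F) := fun B => Classical.choose (hex B)
  have hcOf_mem : ∀ B, cOf B ∈ AC d := fun B => (Classical.choose_spec (hex B)).1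
  have hcOf_eq : ∀ B, shankel d (cOf B) = B.1 := fun B => (Classical.choose_spec (hex B)).2
  -- unit determinants of the tops
  have htop_unit : ∀ c : CIdx d → F, IsUnit (shankel d c).det → ∀ i, IsUnit (topBlock d hd c i).det :=
    fun c hc => (H4 c).mp ((H2 c).mp hc)
  have hunitB : ∀ B : ↥(AltSkew (nilM d F)), IsUnit (shankel d (cOf B)).det := by
    intro B
    rw [hcOf_eq]
    exact B.2.2.1
  -- the tops as members of `SymND`
  let tb : ∀ (B : ↥(AltSkew (nilM d F))) (i : ℕ), ↥(SymND (F := F) {k : Fin t // d k = i} i) := fun B i =>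
    ⟨topBlock d hd (cOf B) i, ⟨H3 _ (hcOf_mem B) i, htop_unit _ (hunitB B) i⟩⟩
  -- the map on representatives
  let Φ : ↥(AltSkew (nilM d F)) → (∀ i : Fin (n + 1), Quotient (s i)) := fun B i =>
    Quotient.mk (s i) (tb B i)
  have hΦ : ∀ B B' : ↥(AltSkew (nilM d F)), s₀.r B B' → Φ B = Φ B' := by
    intro B B' hBB'
    funext i
    apply Quotient.sound
    show CongRel _ (topBlock d hd (cOf B) i) (topBlock d hd (cOf B') i)
    apply H5
    rw [hcOf_eq, hcOf_eq]
    exact hBB'
  let Φq : Quotient s₀ → (∀ i : Fin (n + 1), Quotient (s i)) := Quotient.lift Φ hΦ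
  -- injectivity
  have hinj : Function.Injective Φq := by
    intro a b
    refine Quotient.inductionOn₂ a b ?_
    intro B B' hab
    apply Quotient.sound
    show CongRel (nilM d F) B.1 B'.1
    have hab' : Φ B = Φ B' := hab
    have hcong : ∀ i : Fin (n + 1), CongRel (1 : Matrix {k : Fin t // d k = (i : ℕ)} {k : Fin t // d k = (i : ℕ)} F)
        (topBlock d hd (cOf B) i) (topBlock d hd (cOf B') i) := by
      intro i
      have := congrFun hab' i
      exact Quotient.exact this
    let y : ∀ i : ℕ, Matrix {k : Fin t // d k = i} {k : Fin t // d k = i} F := fun i =>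
      if h : i < n + 1 then Classical.choose (hcong ⟨i, h⟩) else 1
    have hy_unit : ∀ i, IsUnit (y i).det := by
      intro i
      by_cases h : i < n + 1
      · have : y i = Classical.choose (hcong ⟨i, h⟩) := dif_pos h
        rw [this]
        exact (Classical.choose_spec (hcong ⟨i, h⟩)).1
      · have : y i = 1 := dif_neg h
        rw [this, Matrix.det_one]
        exact isUnit_one
    have hy_top : ∀ i, (y i)ᵀ * topBlock d hd (cOf B) i * y i = topBlock d hd (cOf B') i := by
      intro i
      by_cases h : i < n + 1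
      · have : y i = Classical.choose (hcong ⟨i, h⟩) := dif_pos h
        rw [this]
        exact (Classical.choose_spec (hcong ⟨i, h⟩)).2.2
      · haveI : IsEmpty {k : Fin t // d k = i} := isEmpty_block d i (by omega)
        exact Subsingleton.elim _ _
    obtain ⟨c'', hc''mem, hc''rel, hc''top⟩ := H6 (cOf B) (hcOf_mem B) y hy_unit
    have hc''unit : IsUnit (shankel d c'').det := isUnit_det_of_congRel hc''rel (hunitB B)
    have h7 := H7 c'' (cOf B') hc''mem (hcOf_mem B') hc''unit (hunitB B')
      (fun i => by rw [hc''top i, hy_top i])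
    have := congRel_trans hc''rel h7
    rw [hcOf_eq, hcOf_eq] at this
    exact this
  -- surjectivity
  have hsurj : Function.Surjective Φq := by
    intro q
    -- representatives
    have hrep : ∀ i : Fin (n + 1), ∃ T : ↥(SymND (F := F) {k : Fin t // d k = (i : ℕ)} i),
        Quotient.mk (s i) T = q i := fun i => Quotient.exists_rep (q i)
    let T : ∀ i : ℕ, Matrix {k : Fin t // d k = i} {k : Fin t // d k = i} F := fun i =>
      if h : i < n + 1 then (Classical.choose (hrep ⟨i, h⟩)).1 else 1
    have hT_eq : ∀ (i : ℕ) (h : i < n + 1), T i = (Classical.choose (hrep ⟨i, h⟩)).1 :=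
      fun i h => dif_pos h
    have hT_sym : ∀ i, (T i)ᵀ = (-1 : F) ^ i • T i := by
      intro i
      by_cases h : i < n + 1
      · rw [hT_eq i h]
        exact (Classical.choose (hrep ⟨i, h⟩)).2.1
      · haveI : IsEmpty {k : Fin t // d k = i} := isEmpty_block d i (by omega)
        exact Subsingleton.elim _ _
    have hT_unit : ∀ i, IsUnit (T i).det := by
      intro i
      by_cases h : i < n + 1
      · rw [hT_eq i h]
        exact (Classical.choose (hrep ⟨i, h⟩)).2.2
      · haveI : IsEmpty {k : Fin t // d k = i} := isEmpty_block d i (by omega)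
        rw [Matrix.det_isEmpty]
        exact isUnit_one
    obtain ⟨c, hcmem, hctop⟩ := H8 T hT_sym
    have hcunit : IsUnit (shankel d c).det := by
      rw [H2, H4]
      intro i
      rw [hctop i]
      exact hT_unit i
    have hB : shankel d c ∈ AltSkew (nilM d F) := by
      have h1 := (H1 (shankel d c)).mpr ⟨c, hcmem, rfl⟩
      exact ⟨h1.1, hcunit, h1.2⟩
    refine ⟨Quotient.mk s₀ ⟨shankel d c, hB⟩, ?_⟩
    funext i
    show Quotient.mk (s i) (tb ⟨shankel d c, hB⟩ i) = q i
    rw [← Classical.choose_spec (hrep i)]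
    apply Quotient.sound
    show CongRel _ (topBlock d hd (cOf ⟨shankel d c, hB⟩) i) (Classical.choose (hrep i)).1
    have h5 := H5 (cOf ⟨shankel d c, hB⟩) c (by rw [hcOf_eq]; exact congRel_refl _ _) i
    rw [hctop i, hT_eq i i.2] at h5
    exact h5
  -- counting
  show Nat.card (Quotient s₀) = _
  rw [Finset.prod_range]
  have hcard : Nat.card (∀ i : Fin (n + 1), Quotient (s i)) = ∏ i : Fin (n + 1), Nat.card (Quotient (s i)) :=
    Nat.card_pi
  rw [Nat.card_congr (Equiv.ofBijective Φq ⟨hinj, hsurj⟩), hcard]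
  rfl

end Cfsg.Agent.Lib.Helper88.SPC
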