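import Mathlib
import Cfsg.Prelude.Def_Classical
import Cfsg.Prelude.Def_GeometricClasses
import Cfsg.Agent.Lib.Helper49.SUBDefs
import Cfsg.Agent.Lib.Helper49.SemisimpleConj
import Cfsg.Agent.Lib.Helper20.SLO12
import Cfsg.Agent.Lib.Helper62.SUB5

/-!
# K-SUB-8 (keystone 596508, S5965): `k = 2`, `n = r ∈ {3, 5}`, `r ∣ q₀ + 1`: every `x ∈ SL_r(q)` with
`x ^ r = 1` is `GL`-conjugate into the subfield subgroup `F^× GL_r(q₀)`

The eigenvalues of `x` are arranged as a centre `λ` and pairs `(λ β, λ β⁻¹)` (Helper20.SLO12 combinatorics);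
the Frobenius `a ↦ a ^ q₀` inverts the `r`-th roots of unity.  In the basis `e₁ + e₂`, `θ e₁ + θ' e₂`
(`θ' = θ ^ q₀ ≠ θ`) of each pair the matrix of `diag(β, β')` has entries fixed by the Frobenius.
-/

set_option autoImplicit false
set_option linter.unusedSectionVars false
set_option linter.unusedVariables false
set_option linter.style.haveILetI false

namespace Cfsg.Agent.Lib.Helper88.SUB

open Matrix Polynomial Cfsg.Agent.Lib.Helper49.SUB

variable {F : Type*} [Field F] [Fintype F]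

section model

variable {m : ℕ}

/-- the change of basis on `Unit ⊕ (Fin m ⊕ Fin m) → F` -/
def pLin (θ θ' : F) : ((Unit ⊕ (Fin m ⊕ Fin m)) → F) →ₗ[F] ((Unit ⊕ (Fin m ⊕ Fin m)) → F) where
  toFun w := Sum.elim (fun u => w (.inl u))
    (Sum.elim (fun j => w (.inr (.inl j)) + θ * w (.inr (.inr j)))
      (fun j => w (.inr (.inl j)) + θ' * w (.inr (.inr j))))
  map_add' v w := by
    funext k
    rcases k with u | j | j <;> simp only [Sum.elim_inl, Sum.elim_inr, Pi.add_apply] <;> ring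
  map_smul' c w := by
    funext k
    rcases k with u | j | j <;>
      simp only [Sum.elim_inl, Sum.elim_inr, Pi.smul_apply, smul_eq_mul, RingHom.id_apply] <;> ring

/-- the model over the subfield -/
def bLin (a b c dd : Fin m → F) :
    ((Unit ⊕ (Fin m ⊕ Fin m)) → F) →ₗ[F] ((Unit ⊕ (Fin m ⊕ Fin m)) → F) where
  toFun w := Sum.elim (fun u => w (.inl u))
    (Sum.elim (fun j => a j * w (.inr (.inl j)) + c j * w (.inr (.inr j)))
      (fun j => b j * w (.inr (.inl j)) + dd j * w (.inr (.inr j))))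
  map_add' v w := by
    funext k
    rcases k with u | j | j <;> simp only [Sum.elim_inl, Sum.elim_inr, Pi.add_apply] <;> ring
  map_smul' c w := by
    funext k
    rcases k with u | j | j <;>
      simp only [Sum.elim_inl, Sum.elim_inr, Pi.smul_apply, smul_eq_mul, RingHom.id_apply] <;> ring

theorem pLin_apply_inl (θ θ' : F) (w : (Unit ⊕ (Fin m ⊕ Fin m)) → F) (u : Unit) :
    pLin θ θ' w (.inl u) = w (.inl u) := rfl

theorem pLin_apply_inr_inl (θ θ' : F) (w : (Unit ⊕ (Fin m ⊕ Fin m)) → F) (j : Fin m) :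
    pLin θ θ' w (.inr (.inl j)) = w (.inr (.inl j)) + θ * w (.inr (.inr j)) := rfl

theorem pLin_apply_inr_inr (θ θ' : F) (w : (Unit ⊕ (Fin m ⊕ Fin m)) → F) (j : Fin m) :
    pLin θ θ' w (.inr (.inr j)) = w (.inr (.inl j)) + θ' * w (.inr (.inr j)) := rfl

theorem bLin_apply_inl (a b c dd : Fin m → F) (w : (Unit ⊕ (Fin m ⊕ Fin m)) → F) (u : Unit) :
    bLin a b c dd w (.inl u) = w (.inl u) := rfl

theorem bLin_apply_inr_inl (a b c dd : Fin m → F) (w : (Unit ⊕ (Fin m ⊕ Fin m)) → F) (j : Fin m) :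
    bLin a b c dd w (.inr (.inl j)) = a j * w (.inr (.inl j)) + c j * w (.inr (.inr j)) := rfl

theorem bLin_apply_inr_inr (a b c dd : Fin m → F) (w : (Unit ⊕ (Fin m ⊕ Fin m)) → F) (j : Fin m) :
    bLin a b c dd w (.inr (.inr j)) = b j * w (.inr (.inl j)) + dd j * w (.inr (.inr j)) := rfl

theorem pLin_injective (θ θ' : F) (hne : θ ≠ θ') : Function.Injective (pLin (m := m) θ θ') := by
  rw [injective_iff_map_eq_zero]
  intro w hw
  have hsub : θ - θ' ≠ 0 := sub_ne_zero.mpr hne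
  have h2 : ∀ j, w (.inr (.inr j)) = 0 := by
    intro j
    have e1 := congrFun hw (.inr (.inl j))
    have e2 := congrFun hw (.inr (.inr j))
    rw [pLin_apply_inr_inl] at e1
    rw [pLin_apply_inr_inr] at e2
    have e3 : (θ - θ') * w (.inr (.inr j)) = 0 := by
      have e1' : w (.inr (.inl j)) + θ * w (.inr (.inr j)) = 0 := e1
      have e2' : w (.inr (.inl j)) + θ' * w (.inr (.inr j)) = 0 := e2
      linear_combination e1' - e2'
    exact (mul_eq_zero.mp e3).resolve_left hsub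
  funext k
  rcases k with u | j | j
  · exact congrFun hw (.inl u)
  · have e1 := congrFun hw (.inr (.inl j))
    rw [pLin_apply_inr_inl, h2 j, mul_zero, add_zero] at e1
    exact e1
  · exact h2 j

theorem key_identity (d : (Unit ⊕ (Fin m ⊕ Fin m)) → F) (lam θ θ' : F) (a b c dd β β' : Fin m → F)
    (hd0 : ∀ u, d (.inl u) = lam) (hd1 : ∀ j, d (.inr (.inl j)) = lam * β j)
    (hd2 : ∀ j, d (.inr (.inr j)) = lam * β' j)
    (h1 : ∀ j, a j + θ * b j = β j) (h2 : ∀ j, c j + θ * dd j = θ * β j)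
    (h3 : ∀ j, a j + θ' * b j = β' j) (h4 : ∀ j, c j + θ' * dd j = θ' * β' j)
    (w : (Unit ⊕ (Fin m ⊕ Fin m)) → F) (k : Unit ⊕ (Fin m ⊕ Fin m)) :
    d k * pLin θ θ' w k = lam * pLin θ θ' (bLin a b c dd w) k := by
  rcases k with u | j | j
  · rw [pLin_apply_inl, pLin_apply_inl, bLin_apply_inl, hd0]
  · rw [pLin_apply_inr_inl, pLin_apply_inr_inl, bLin_apply_inr_inl, bLin_apply_inr_inr, hd1]
    linear_combination (-(lam * w (.inr (.inl j)))) * h1 j - (lam * w (.inr (.inr j))) * h2 j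
  · rw [pLin_apply_inr_inr, pLin_apply_inr_inr, bLin_apply_inr_inl, bLin_apply_inr_inr, hd2]
    linear_combination (-(lam * w (.inr (.inl j)))) * h3 j - (lam * w (.inr (.inr j))) * h4 j

theorem bLin_mem (F₀ : Subfield F) (a b c dd : Fin m → F) (ha : ∀ j, a j ∈ F₀) (hb : ∀ j, b j ∈ F₀)
    (hc : ∀ j, c j ∈ F₀) (hdd : ∀ j, dd j ∈ F₀) (w : (Unit ⊕ (Fin m ⊕ Fin m)) → F)
    (hw : ∀ k, w k ∈ F₀) (k : Unit ⊕ (Fin m ⊕ Fin m)) : bLin a b c dd w k ∈ F₀ := by
  rcases k with u | j | j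
  · rw [bLin_apply_inl]; exact hw _
  · rw [bLin_apply_inr_inl]
    exact F₀.add_mem (F₀.mul_mem (ha j) (hw _)) (F₀.mul_mem (hc j) (hw _))
  · rw [bLin_apply_inr_inr]
    exact F₀.add_mem (F₀.mul_mem (hb j) (hw _)) (F₀.mul_mem (hdd j) (hw _))

end model

/-- the linear algebra part -/
theorem conj_of_pairing_sub (F₀ : Subfield F) {q₀ : ℕ} (hF₀ : Nat.card ↥F₀ = q₀) {r m : ℕ}
    (hr0 : (r : F) ≠ 0) (e : (Unit ⊕ (Fin m ⊕ Fin m)) ≃ Fin r)
    (x : GL (Fin r) F) (hxr : x ^ r = 1)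
    (d : Unit ⊕ (Fin m ⊕ Fin m) → F)
    (hchar : (x : Matrix (Fin r) (Fin r) F).charpoly = ∏ k, (X - C (d k)))
    (hdr : ∀ k, d k ^ r = 1) (hdq : ∀ k, d k ^ q₀ = (d k)⁻¹)
    (hpair : ∀ i, d (.inr (.inl i)) * d (.inr (.inr i)) = d (.inl ()) ^ 2)
    (θ θ' : F) (hθ : θ ^ q₀ = θ') (hθ' : θ' ^ q₀ = θ) (hne : θ ≠ θ') :
    ∃ g : GL (Fin r) F, g⁻¹ * x * g ∈ HS F₀ r := by
  classical
  have hrne : r ≠ 0 := by
    rintro rfl
    exact hr0 Nat.cast_zero
  set A : Matrix (Fin r) (Fin r) F := (x : Matrix (Fin r) (Fin r) F) with hA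
  set D : Matrix (Unit ⊕ (Fin m ⊕ Fin m)) (Unit ⊕ (Fin m ⊕ Fin m)) F := Matrix.diagonal d with hD
  set s : F[X] := X ^ r - C 1 with hs
  have hsq : Squarefree s := (separable_X_pow_sub_C (1 : F) hr0 one_ne_zero).squarefree
  have hAr : A ^ r = 1 := by
    rw [hA, ← Units.val_pow_eq_pow_val, hxr, Units.val_one]
  have hDr : D ^ r = 1 := by
    rw [hD, Matrix.diagonal_pow, ← Matrix.diagonal_one]
    congr 1
    funext k
    exact hdr k
  have hA0 : aeval A s = 0 := by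
    rw [hs, map_sub, map_pow, aeval_X, aeval_C, hAr, map_one, sub_self]
  have hD0 : aeval D s = 0 := by
    rw [hs, map_sub, map_pow, aeval_X, aeval_C, hDr, map_one, sub_self]
  have hA' : aeval (Matrix.toLin' A) s = 0 := by
    have : Matrix.toLin' A = Matrix.toLinAlgEquiv' A := rfl
    rw [this, aeval_algHom_apply, hA0, map_zero]
  have hD' : aeval (Matrix.toLin' D) s = 0 := by
    have : Matrix.toLin' D = Matrix.toLinAlgEquiv' D := rfl
    rw [this, aeval_algHom_apply, hD0, map_zero]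
  obtain ⟨ε, hε⟩ := Cfsg.Agent.Lib.Helper49.exists_equiv_of_charpoly_eq (Matrix.toLin' A)
    (Matrix.toLin' D) s hsq hA' hD'
    (by rw [Matrix.charpoly_toLin', Matrix.charpoly_toLin', hchar, hD, Matrix.charpoly_diagonal])
  -- the centre
  set lam : F := d (.inl ()) with hlam
  have hd0 : ∀ k, d k ≠ 0 := by
    intro k h
    have := hdr k
    rw [h, zero_pow hrne] at this
    exact zero_ne_one this
  have hlam0 : lam ≠ 0 := hd0 _
  -- the Frobenius
  letI : Fintype ↥F₀ := Fintype.ofFinite _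
  have hcardF₀ : Fintype.card ↥F₀ = q₀ := by rw [← Nat.card_eq_fintype_card, hF₀]
  set φ : F →+* F := ((FiniteField.frobeniusAlgHom ↥F₀ F : F →ₐ[↥F₀] F) : F →+* F) with hφ
  have hφa : ∀ y, φ y = y ^ q₀ := by
    intro y
    show y ^ Fintype.card ↥F₀ = _
    rw [hcardF₀]
  have hmemF₀ : ∀ y, φ y = y → y ∈ F₀ := by
    intro y hy
    apply Cfsg.Agent.Lib.Helper62.SUB.mem_subfield_of_pow_card' F₀ y
    rw [hF₀, ← hφa]
    exact hy
  have hφθ : φ θ = θ' := by rw [hφa, hθ]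
  have hφθ' : φ θ' = θ := by rw [hφa, hθ']
  have hφd : ∀ k, φ (d k) = (d k)⁻¹ := fun k => by rw [hφa, hdq]
  -- the pairs
  set β : Fin m → F := fun j => d (.inr (.inl j)) / lam with hβ
  set β' : Fin m → F := fun j => d (.inr (.inr j)) / lam with hβ'
  have hφβ : ∀ j, φ (β j) = β' j := by
    intro j
    show φ (d (.inr (.inl j)) / lam) = d (.inr (.inr j)) / lam
    rw [map_div₀, hφd, hφd]
    have h1 := hpair j
    have h2 := hd0 (.inr (.inl j))
    rw [← hlam]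
    field_simp
    linear_combination -h1
  have hφβ' : ∀ j, φ (β' j) = β j := by
    intro j
    show φ (d (.inr (.inr j)) / lam) = d (.inr (.inl j)) / lam
    rw [map_div₀, hφd, hφd]
    have h1 := hpair j
    have h2 := hd0 (.inr (.inr j))
    rw [← hlam]
    field_simp
    linear_combination -h1
  have hδ : θ - θ' ≠ 0 := sub_ne_zero.mpr hne
  have hδ' : θ' - θ ≠ 0 := sub_ne_zero.mpr hne.symm
  set a : Fin m → F := fun j => (β' j * θ - β j * θ') / (θ - θ') with ha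
  set b : Fin m → F := fun j => (β j - β' j) / (θ - θ') with hb
  set c : Fin m → F := fun j => θ * θ' * (β' j - β j) / (θ - θ') with hc
  set dd : Fin m → F := fun j => (θ * β j - θ' * β' j) / (θ - θ') with hdd
  have haF : ∀ j, a j ∈ F₀ := by
    intro j
    apply hmemF₀
    show φ ((β' j * θ - β j * θ') / (θ - θ')) = (β' j * θ - β j * θ') / (θ - θ')
    rw [map_div₀, map_sub, map_sub, map_mul, map_mul, hφβ, hφβ', hφθ, hφθ', div_eq_div_iff hδ' hδ]
    ring
  have hbF : ∀ j, b j ∈ F₀ := by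
    intro j
    apply hmemF₀
    show φ ((β j - β' j) / (θ - θ')) = (β j - β' j) / (θ - θ')
    rw [map_div₀, map_sub, map_sub, hφβ, hφβ', hφθ, hφθ', div_eq_div_iff hδ' hδ]
    ring
  have hcF : ∀ j, c j ∈ F₀ := by
    intro j
    apply hmemF₀
    show φ (θ * θ' * (β' j - β j) / (θ - θ')) = θ * θ' * (β' j - β j) / (θ - θ')
    rw [map_div₀, map_mul, map_mul, map_sub, map_sub, hφβ, hφβ', hφθ, hφθ', div_eq_div_iff hδ' hδ]
    ring
  have hddF : ∀ j, dd j ∈ F₀ := by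
    intro j
    apply hmemF₀
    show φ ((θ * β j - θ' * β' j) / (θ - θ')) = (θ * β j - θ' * β' j) / (θ - θ')
    rw [map_div₀, map_sub, map_sub, map_mul, map_mul, hφβ, hφβ', hφθ, hφθ', div_eq_div_iff hδ' hδ]
    ring
  have h1 : ∀ j, a j + θ * b j = β j := by
    intro j
    show (β' j * θ - β j * θ') / (θ - θ') + θ * ((β j - β' j) / (θ - θ')) = β j
    field_simp
    ring
  have h2 : ∀ j, c j + θ * dd j = θ * β j := by
    intro j
    show θ * θ' * (β' j - β j) / (θ - θ') + θ * ((θ * β j - θ' * β' j) / (θ - θ')) = θ * β j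
    field_simp
    ring
  have h3 : ∀ j, a j + θ' * b j = β' j := by
    intro j
    show (β' j * θ - β j * θ') / (θ - θ') + θ' * ((β j - β' j) / (θ - θ')) = β' j
    field_simp
    ring
  have h4 : ∀ j, c j + θ' * dd j = θ' * β' j := by
    intro j
    show θ * θ' * (β' j - β j) / (θ - θ') + θ' * ((θ * β j - θ' * β' j) / (θ - θ')) = θ' * β' j
    field_simp
    ring
  have hdl0 : ∀ u : Unit, d (.inl u) = lam := fun u => rfl
  have hdl1 : ∀ j, d (.inr (.inl j)) = lam * β j := by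
    intro j
    show d (.inr (.inl j)) = lam * (d (.inr (.inl j)) / lam)
    field_simp
  have hdl2 : ∀ j, d (.inr (.inr j)) = lam * β' j := by
    intro j
    show d (.inr (.inr j)) = lam * (d (.inr (.inr j)) / lam)
    field_simp
  have hkey := key_identity d lam θ θ' a b c dd β β' hdl0 hdl1 hdl2 h1 h2 h3 h4
  -- the linear maps
  set P : ((Unit ⊕ (Fin m ⊕ Fin m)) → F) ≃ₗ[F] ((Unit ⊕ (Fin m ⊕ Fin m)) → F) :=
    LinearEquiv.ofInjectiveEndo (pLin θ θ') (pLin_injective θ θ' hne) with hP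
  have hPa : ∀ w, P w = pLin θ θ' w := fun w => rfl
  set κi : (Fin r → F) ≃ₗ[F] ((Unit ⊕ (Fin m ⊕ Fin m)) → F) := LinearEquiv.funCongrLeft F F e with hκi
  have hκia : ∀ (v : Fin r → F) k, κi v k = v (e k) := fun v k => rfl
  have hκis : ∀ (w : (Unit ⊕ (Fin m ⊕ Fin m)) → F) i, κi.symm w i = w (e.symm i) := fun w i => rfl
  set G' : (Fin r → F) ≃ₗ[F] (Fin r → F) := (κi.trans P).trans ε.symm with hG'
  have hG'a : ∀ v, G' v = ε.symm (P (κi v)) := fun v => rfl
  set L : (Fin r → F) →ₗ[F] (Fin r → F) :=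
    (κi.symm : ((Unit ⊕ (Fin m ⊕ Fin m)) → F) →ₗ[F] (Fin r → F)).comp
      ((bLin a b c dd).comp (κi : (Fin r → F) →ₗ[F] ((Unit ⊕ (Fin m ⊕ Fin m)) → F))) with hL
  have hLa : ∀ v, L v = κi.symm (bLin a b c dd (κi v)) := fun v => rfl
  set Am : Matrix (Fin r) (Fin r) F := LinearMap.toMatrix' L with hAm
  obtain ⟨g, hg, hginv⟩ := Cfsg.Agent.Lib.Helper20.SLO.exists_GL_of_equiv G'
  -- the conjugate
  have hY : ((g⁻¹ * x * g : GL (Fin r) F) : Matrix (Fin r) (Fin r) F) = lam • Am := by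
    apply Matrix.toLin'.injective
    apply LinearMap.ext
    intro v
    rw [Matrix.toLin'_apply, Matrix.toLin'_apply, Units.val_mul, Units.val_mul,
      ← Matrix.mulVec_mulVec, ← Matrix.mulVec_mulVec, hg, hginv, Matrix.smul_mulVec, hAm,
      LinearMap.toMatrix'_mulVec, LinearEquiv.symm_apply_eq, map_smul, hG'a, hG'a, hLa,
      LinearEquiv.apply_symm_apply]
    have e1 := hε (ε.symm (P (κi v)))
    rw [LinearEquiv.apply_symm_apply, Matrix.toLin'_apply, Matrix.toLin'_apply] at e1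
    have e2 : D *ᵥ P (κi v) = lam • P (bLin a b c dd (κi v)) := by
      funext k
      rw [hD, Matrix.mulVec_diagonal, Pi.smul_apply, smul_eq_mul, hPa, hPa]
      exact hkey (κi v) k
    rw [← LinearEquiv.eq_symm_apply] at e1
    rw [← hA, e1, e2, map_smul]
  -- the entries
  have hent : ∀ i i', Am i i' ∈ F₀ := by
    intro i i'
    rw [hAm, LinearMap.toMatrix'_apply, hLa, hκis]
    apply bLin_mem F₀ a b c dd haF hbF hcF hddF
    intro k
    rw [hκia, Pi.single_apply]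
    split_ifs
    · exact F₀.one_mem
    · exact F₀.zero_mem
  have hdetA : Am.det ≠ 0 := by
    intro h0
    have hu : IsUnit ((g⁻¹ * x * g : GL (Fin r) F) : Matrix (Fin r) (Fin r) F).det :=
      (Matrix.isUnit_iff_isUnit_det _).mp (Units.isUnit (g⁻¹ * x * g))
    rw [hY, Matrix.det_smul, h0, mul_zero] at hu
    exact not_isUnit_zero hu
  refine ⟨g, ?_⟩
  rw [mem_HS_iff]
  refine ⟨Matrix.GeneralLinearGroup.mkOfDetNeZero Am hdetA, ?_, Units.mk0 lam hlam0, ?_⟩
  · apply Cfsg.Agent.Lib.Helper49.mem_range_map_of_entries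
    intro i i'
    exact hent i i'
  · rw [hY]
    rfl

/-- **K-SUB-8.** -/
theorem special_conj_sub (F₀ : Subfield F) {q₀ : ℕ} (hF₀ : Nat.card ↥F₀ = q₀)
    (hcard : Fintype.card F = q₀ ^ 2) (r : ℕ) [Fact r.Prime] (hr : r = 3 ∨ r = 5)
    (hrq : r ∣ q₀ + 1) (x : GL (Fin r) F) (hx : x ∈ Cfsg.Geo.specialLinear (Fin r) F)
    (hxr : x ^ r = 1) : ∃ g : GL (Fin r) F, g⁻¹ * x * g ∈ HS F₀ r := by
  classical
  have hrp : r.Prime := Fact.out
  have : NeZero r := ⟨hrp.ne_zero⟩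
  have hq0 : 0 < q₀ := by
    rcases Nat.eq_zero_or_pos q₀ with h | h
    · rw [h] at hcard
      simp at hcard
    · exact h
  -- a primitive `r`-th root of unity
  obtain ⟨ζ, hζ⟩ : ∃ ζ : F, IsPrimitiveRoot ζ r := by
    have hc : r ∣ Fintype.card Fˣ := by
      rw [Fintype.card_units, hcard]
      have : q₀ ^ 2 - 1 = (q₀ - 1) * (q₀ + 1) := by
        obtain ⟨k, rfl⟩ : ∃ k, q₀ = k + 1 := ⟨q₀ - 1, by omega⟩
        simp only [Nat.add_sub_cancel]
        ring_nf
        omega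
      rw [this]
      exact Dvd.dvd.mul_left hrq _
    obtain ⟨u, hu⟩ := exists_prime_orderOf_dvd_card r hc
    refine ⟨(u : F), ?_⟩
    rw [IsPrimitiveRoot.coe_units_iff, ← hu]
    exact IsPrimitiveRoot.orderOf u
  have hr0 : (r : F) ≠ 0 := (hζ.neZero').ne
  have hdet : (x : Matrix (Fin r) (Fin r) F).det = 1 := by
    have h1 : Matrix.GeneralLinearGroup.det x = 1 := hx
    have h2 := congrArg (fun u : Fˣ => (u : F)) h1
    simpa using h2
  obtain ⟨ρ, hchar, hρr, hρprod⟩ := Cfsg.Agent.Lib.Helper20.SLO.exists_roots_tuple ζ hζ x hdet hxr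
  -- `a ↦ a ^ q₀` inverts the `r`-th roots of unity
  have hinv : ∀ y : F, y ^ r = 1 → y ^ q₀ = y⁻¹ := by
    intro y hy
    obtain ⟨t, ht⟩ := hrq
    apply eq_inv_of_mul_eq_one_left
    rw [← pow_succ, ht, pow_mul, hy, one_pow]
  choose a' ha'lt ha' using fun i => hζ.eq_pow_of_pow_eq_one (hρr i)
  set a : Fin r → Fin r := fun i => ⟨a' i, ha'lt i⟩ with hadef
  have haρ : ∀ i, ζ ^ (a i : ℕ) = ρ i := fun i => ha' i
  have hsum : (∑ i, (a i : ℕ)) % r = 0 := by
    apply Nat.mod_eq_zero_of_dvd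
    rw [← hζ.pow_eq_one_iff_dvd, ← Finset.prod_pow_eq_pow_sum, ← hρprod]
    exact Finset.prod_congr rfl (fun i _ => haρ i)
  obtain ⟨m, e, he⟩ : ∃ (m : ℕ) (e : (Unit ⊕ (Fin m ⊕ Fin m)) ≃ Fin r), ∀ j : Fin m,
      ((a (e (.inr (.inl j))) : ℕ) + a (e (.inr (.inr j)))) % r =
        (2 * (a (e (.inl ())) : ℕ)) % r := by
    rcases hr with rfl | rfl
    · exact ⟨1, Cfsg.Agent.Lib.Helper20.SLO.comb3 a hsum⟩
    · exact ⟨2, Cfsg.Agent.Lib.Helper20.SLO.comb5 a hsum⟩
  have hpair0 : ∀ j : Fin m,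
      ρ (e (.inr (.inl j))) * ρ (e (.inr (.inr j))) = ρ (e (.inl ())) ^ 2 := by
    intro j
    rw [← haρ, ← haρ, ← haρ, ← pow_add, ← pow_mul, pow_eq_pow_mod _ hζ.pow_eq_one, he j,
      ← pow_eq_pow_mod _ hζ.pow_eq_one, mul_comm]
  have hζr : ζ ^ r = 1 := hζ.pow_eq_one
  have hζ0 : ζ ≠ 0 := hζ.ne_zero hrp.ne_zero
  have hζne : ζ ≠ ζ⁻¹ := by
    intro h
    have h2 : ζ ^ 2 = 1 := by
      rw [pow_two]
      nth_rewrite 2 [h]
      exact mul_inv_cancel₀ hζ0
    have h3 : r ∣ 2 := (hζ.pow_eq_one_iff_dvd 2).mp h2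
    have h4 := Nat.le_of_dvd (by norm_num) h3
    rcases hr with rfl | rfl <;> omega
  refine conj_of_pairing_sub F₀ hF₀ hr0 e x hxr (fun k => ρ (e k)) ?_ (fun k => hρr _)
    (fun k => hinv _ (hρr _)) hpair0 ζ ζ⁻¹ (hinv ζ hζr) ?_ hζne
  · rw [hchar]
    exact (Equiv.prod_comp e (fun i => X - C (ρ i))).symm
  · rw [inv_pow, hinv ζ hζr, inv_inv]

end Cfsg.Agent.Lib.Helper88.SUB
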