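import Cfsg.Agent.Lib.Helper48.StODefs
import Cfsg.Agent.Lib.Helper86.StOR0a
import Cfsg.Agent.Lib.Helper84.StOR0b
import Cfsg.Agent.Lib.Helper61.StOR0c
import Cfsg.Agent.Lib.Helper97.StOR1

/-!
# K-StO-C3c (keystone 254717, architect helper48, S2547): `S_conj_ne`

For a simple reflection `s` of `O_{2m+1}(F)`: `s B s ≠ B`, since `s x_α(1) s` is not upper
triangular (port of `Lib/Helper88/StSpC3c.lean`).
-/

set_option autoImplicit false
set_option linter.unusedSectionVars false
set_option linter.unusedVariables false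

namespace Cfsg.Agent.Lib.Helper88.StO

open Cfsg Matrix Cfsg.Agent.Lib.Helper48.StO

variable {m : ℕ} {F : Type*} [Field F]

/-- entries of a conjugate by permutation matrices -/
theorem permMatrix_conj_apply (σ : Equiv.Perm (OI m)) (X : Matrix (OI m) (OI m) F) (a b : OI m) :
    (σ.permMatrix F * X * σ.permMatrix F) a b = X (σ a) (σ.symm b) := by
  rw [Equiv.Perm.permMatrix, PEquiv.mul_toMatrix_toPEquiv, PEquiv.toMatrix_toPEquiv_mul]
  rfl

theorem sPerm_conj_entry (i j : Fin m) (hij : i ≠ j) :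
    mat (sPerm m F i j * xPerm m F i j 1 * sPerm m F i j) (eI j) (eI i) = 1 := by
  rw [mat_mul, mat_mul, Cfsg.Agent.Lib.Helper86.StO.mat_sPerm,
    Cfsg.Agent.Lib.Helper84.StO.mat_xPerm i j hij]
  unfold sPermMat
  rw [permMatrix_conj_apply]
  have h1 : swapE m i j (eI j) = eI i := by
    show eI (Equiv.swap i j j) = eI i
    rw [Equiv.swap_apply_right]
  have h2 : (swapE m i j).symm (eI i) = eI j := by
    rw [Equiv.symm_apply_eq]
    show eI i = eI (Equiv.swap i j j)
    rw [Equiv.swap_apply_right]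
  rw [h1, h2]
  unfold xPermMat
  have hne : (eI i : OI m) ≠ eI j := fun e => hij (Sum.inl.inj (Sum.inr.inj e))
  simp [hne]

theorem sFlip_conj_entry (k : Fin m) :
    mat (sFlip m F k * xZ m F k 1 * sFlip m F k) zI (eI k) = 1 := by
  rw [mat_mul, mat_mul, Cfsg.Agent.Lib.Helper86.StO.mat_sFlip,
    Cfsg.Agent.Lib.Helper61.StO.mat_xZ]
  unfold sFlipMat
  rw [permMatrix_conj_apply]
  have h1 : flipE m k zI = zI := by
    unfold flipE
    exact Equiv.swap_apply_of_ne_of_ne (by simp) (by simp)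
  have h2 : (flipE m k).symm (eI k) = fI k := by
    rw [Equiv.symm_apply_eq]
    unfold flipE
    exact (Equiv.swap_apply_right _ _).symm
  rw [h1, h2]
  unfold xZMat
  simp

/-- LEAF C3c of pack K-StO. -/
theorem S_conj_ne (s : OG m F) (hs : s ∈ Sset m F) :
    (fun b : OG m F => s * b * s) '' (Bsub m F : Set (OG m F)) ≠ (Bsub m F : Set (OG m F)) := by
  intro h
  rcases hs with ⟨i, hi, rfl⟩ | ⟨hm, rfl⟩
  · have hlt : i < nxt i hi := Fin.lt_def.mpr (by simp [nxt])
    have hx : xPerm m F i (nxt i hi) 1 ∈ Bsub m F :=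
      Cfsg.Agent.Lib.Helper97.StO.xPerm_mem_B i (nxt i hi) hlt 1
    have hmem : sPerm m F i (nxt i hi) * xPerm m F i (nxt i hi) 1 *
        sPerm m F i (nxt i hi) ∈ (Bsub m F : Set (OG m F)) := by
      rw [← h]; exact ⟨_, hx, rfl⟩
    have h0 := (mem_Bsub_iff _).1 hmem (eI (nxt i hi)) (eI i)
      (by simp only [pos]; exact Fin.lt_def.mp hlt)
    rw [sPerm_conj_entry i (nxt i hi) (ne_of_lt hlt)] at h0
    exact one_ne_zero h0
  · set k := lastF hm with hk
    have hx : xZ m F k 1 ∈ Bsub m F := Cfsg.Agent.Lib.Helper97.StO.xZ_mem_B k 1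
    have hmem : sFlip m F k * xZ m F k 1 * sFlip m F k ∈ (Bsub m F : Set (OG m F)) := by
      rw [← h]; exact ⟨_, hx, rfl⟩
    have h0 := (mem_Bsub_iff _).1 hmem zI (eI k)
      (by simp only [pos]; exact k.2)
    rw [sFlip_conj_entry k] at h0
    exact one_ne_zero h0

end Cfsg.Agent.Lib.Helper88.StO
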