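import Cfsg.Agent.Lib.Helper49.StSpDefs

/-!
# K-StSp-C3c (keystone 254513, architect helper49, S2545): `S_conj_ne`

For a simple reflection `s` of `Sp_{2m}(F)`: `s B s ≠ B`, since `s x_α(1) s` is not upper triangular.
-/

set_option autoImplicit false
set_option linter.unusedSectionVars false
set_option linter.unusedVariables false

namespace Cfsg.Agent.Lib.Helper88.StSp

open Cfsg Cfsg.Agent.Lib.Helper49.StSp Matrix

variable {m : ℕ} {F : Type*} [Field F]

/-- the short root element `x_{ε_i - ε_j}(t)`, `i < j`, is upper triangular -/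
theorem xS_mem_B_aux (i j : Fin m) (hij : i < j) (t : F) :
    xS m F i j (ne_of_lt hij) t ∈ Bsub m F := by
  rw [mem_Bsub_iff]
  intro a b hab
  show xShortMat m F i j t a b = 0
  unfold xShortMat
  rcases a with a | a <;> rcases b with b | b <;> simp only [pos] at hab
  · simp only [Matrix.fromBlocks_apply₁₁, Matrix.transvection, Matrix.add_apply, Matrix.one_apply,
      Matrix.single_apply]
    have hne : a ≠ b := fun h => by subst h; exact lt_irrefl _ hab
    rw [if_neg hne, zero_add, if_neg]
    rintro ⟨h1, h2⟩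
    have h3 : i.val < j.val := Fin.lt_def.mp hij
    have h4 : i.val = a.val := congrArg Fin.val h1
    have h5 : j.val = b.val := congrArg Fin.val h2
    omega
  · simp
  · simp
  · simp only [Matrix.fromBlocks_apply₂₂, Matrix.transvection, Matrix.add_apply, Matrix.one_apply,
      Matrix.single_apply]
    have hne : a ≠ b := fun h => by subst h; exact lt_irrefl _ hab
    rw [if_neg hne, zero_add, if_neg]
    rintro ⟨h1, h2⟩
    have h3 : i.val < j.val := Fin.lt_def.mp hij
    have h4 : j.val = a.val := congrArg Fin.val h1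
    have h5 : i.val = b.val := congrArg Fin.val h2
    have h6 := a.2
    have h7 := b.2
    omega

/-- the long root element `x_{2ε_k}(t)` is upper triangular -/
theorem xL_mem_B_aux (k : Fin m) (t : F) : xL m F k t ∈ Bsub m F := by
  rw [mem_Bsub_iff]
  intro a b hab
  show xLongMat m F k t a b = 0
  unfold xLongMat
  rcases a with a | a <;> rcases b with b | b <;> simp only [pos] at hab
  · have hne : a ≠ b := fun h => by subst h; exact lt_irrefl _ hab
    simp [hne]
  · have h1 := a.2
    have h2 := b.2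
    omega
  · simp
  · have hne : a ≠ b := fun h => by subst h; exact lt_irrefl _ hab
    simp [hne]

theorem sShort_conj_entry (i j : Fin m) (hij : i ≠ j) :
    ((sShort m F i j * xS m F i j hij 1 * sShort m F i j : SpG m F) :
      Matrix (Fin m ⊕ Fin m) (Fin m ⊕ Fin m) F) (Sum.inl j) (Sum.inl i) = 1 := by
  show (sShortMat m F i j * xShortMat m F i j 1 * sShortMat m F i j) (Sum.inl j) (Sum.inl i) = 1
  unfold sShortMat xShortMat
  rw [Matrix.fromBlocks_multiply, Matrix.fromBlocks_multiply, Matrix.fromBlocks_apply₁₁]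
  simp only [Matrix.mul_zero, Matrix.zero_mul, add_zero]
  rw [Equiv.Perm.permMatrix, PEquiv.mul_toMatrix_toPEquiv, PEquiv.toMatrix_toPEquiv_mul]
  simp [Matrix.transvection, hij]

theorem cSign_conj_entry (k : Fin m) :
    ((cSign m F k * xL m F k 1 * cSign m F k : SpG m F) :
      Matrix (Fin m ⊕ Fin m) (Fin m ⊕ Fin m) F) (Sum.inr k) (Sum.inl k) = 1 := by
  show (cSignMat m F k * xLongMat m F k 1 * cSignMat m F k) (Sum.inr k) (Sum.inl k) = 1
  unfold cSignMat xLongMat
  rw [Matrix.fromBlocks_multiply, Matrix.fromBlocks_multiply, Matrix.fromBlocks_apply₂₁]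
  simp [Matrix.diagonal_mul_diagonal, ← Matrix.diagonal_one]

/-- LEAF C3c of pack K-StSp. -/
theorem S_conj_ne (s : SpG m F) (hs : s ∈ Sset m F) :
    (fun b : SpG m F => s * b * s) '' (Bsub m F : Set (SpG m F)) ≠ (Bsub m F : Set (SpG m F)) := by
  intro h
  rcases hs with ⟨i, hi, rfl⟩ | ⟨hm, rfl⟩
  · have hlt : i < nxt i hi := Fin.lt_def.mpr (by simp [nxt])
    have hx : xS m F i (nxt i hi) (ne_of_lt hlt) 1 ∈ Bsub m F := xS_mem_B_aux i (nxt i hi) hlt 1
    have hmem : sShort m F i (nxt i hi) * xS m F i (nxt i hi) (ne_of_lt hlt) 1 *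
        sShort m F i (nxt i hi) ∈ (Bsub m F : Set (SpG m F)) := by
      rw [← h]; exact ⟨_, hx, rfl⟩
    have h0 := (mem_Bsub_iff _).1 hmem (Sum.inl (nxt i hi)) (Sum.inl i)
      (by simp only [pos]; exact Fin.lt_def.mp hlt)
    rw [sShort_conj_entry i (nxt i hi) (ne_of_lt hlt)] at h0
    exact one_ne_zero h0
  · set k := lastF hm with hk
    have hx : xL m F k 1 ∈ Bsub m F := xL_mem_B_aux k 1
    have hmem : cSign m F k * xL m F k 1 * cSign m F k ∈ (Bsub m F : Set (SpG m F)) := by
      rw [← h]; exact ⟨_, hx, rfl⟩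
    have h0 := (mem_Bsub_iff _).1 hmem (Sum.inr k) (Sum.inl k)
      (by simp only [pos]; have := k.2; omega)
    rw [cSign_conj_entry k] at h0
    exact one_ne_zero h0

end Cfsg.Agent.Lib.Helper88.StSp
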