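import Mathlib

set_option autoImplicit false

namespace Cfsg.Agent.Lib.Helper88

open scoped Pointwise

variable {G : Type*} [Group G]

/-- `Y` is a Sylow `p`-subgroup of the subgroup `H`. -/
def IsSylIn (p : ℕ) (Y H : Subgroup G) : Prop :=
  Y ≤ H ∧ Nat.card Y = p ^ (Nat.card H).factorization p

theorem card_subgroupOf_of_le {Y H : Subgroup G} (h : Y ≤ H) : Nat.card (Y.subgroupOf H) = Nat.card Y :=
  Nat.card_congr (Subgroup.subgroupOfEquivOfLe h).toEquiv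

theorem IsSylIn.isPGroup {p : ℕ} [Fact p.Prime] {Y H : Subgroup G} (h : IsSylIn p Y H) : IsPGroup p Y :=
  IsPGroup.of_card h.2

/-- Conversion to Mathlib's Sylow subgroups. -/
theorem isSylIn_iff {p : ℕ} [Fact p.Prime] {Y H : Subgroup G} [Finite H] :
    IsSylIn p Y H ↔ Y ≤ H ∧ ∃ R : Sylow p H, (R : Subgroup H) = Y.subgroupOf H := by
  constructor
  · rintro ⟨hle, hcard⟩
    refine ⟨hle, Sylow.ofCard (Y.subgroupOf H) ?_, rfl⟩
    rw [card_subgroupOf_of_le hle, hcard]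
  · rintro ⟨hle, R, hR⟩
    refine ⟨hle, ?_⟩
    rw [← card_subgroupOf_of_le hle, ← hR]
    exact R.card_eq_multiplicity

/-- A `p`-subgroup of `H` has order at most that of a Sylow `p`-subgroup of `H`. -/
theorem IsSylIn.card_le {p : ℕ} [Fact p.Prime] {Y H Q : Subgroup G} [Finite H] (h : IsSylIn p Y H)
    (hQH : Q ≤ H) (hQ : IsPGroup p Q) : Nat.card Q ≤ Nat.card Y := by
  haveI : Finite Q := Finite.of_injective (Subgroup.inclusion hQH) (Subgroup.inclusion_injective hQH)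
  obtain ⟨n, hn⟩ := IsPGroup.iff_card.mp hQ
  have hdvd : Nat.card Q ∣ Nat.card H := Subgroup.card_dvd_of_le hQH
  rw [hn] at hdvd
  have hpos : Nat.card H ≠ 0 := Nat.card_pos.ne'
  have hle : n ≤ (Nat.card H).factorization p :=
    ((Fact.out : p.Prime).pow_dvd_iff_le_factorization hpos).mp hdvd
  rw [hn, h.2]
  exact Nat.pow_le_pow_right (Fact.out : p.Prime).pos hle

theorem IsSylIn.eq_of_le {p : ℕ} [Fact p.Prime] {Y H Q : Subgroup G} [Finite H] (h : IsSylIn p Y H)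
    (hQH : Q ≤ H) (hQ : IsPGroup p Q) (hYQ : Y ≤ Q) : Q = Y := by
  haveI : Finite Q := Finite.of_injective (Subgroup.inclusion hQH) (Subgroup.inclusion_injective hQH)
  exact (Subgroup.eq_of_le_of_card_ge hYQ (h.card_le hQH hQ)).symm

/-- A `p`-subgroup of `H` containing a subgroup of the order of a Sylow subgroup is Sylow. -/
theorem IsSylIn.of_le {p : ℕ} [Fact p.Prime] {Y H Q : Subgroup G} [Finite H] (h : IsSylIn p Y H)
    (hQH : Q ≤ H) (hQ : IsPGroup p Q) (hcard : Nat.card Y ≤ Nat.card Q) : IsSylIn p Q H :=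
  ⟨hQH, le_antisymm (h.2 ▸ h.card_le hQH hQ) (h.2 ▸ hcard)⟩

theorem exists_isSylIn (p : ℕ) [Fact p.Prime] (H : Subgroup G) [Finite H] : ∃ Y, IsSylIn p Y H := by
  obtain ⟨R⟩ := (Sylow.nonempty : Nonempty (Sylow p H))
  refine ⟨(R : Subgroup H).map H.subtype, ?_⟩
  rw [isSylIn_iff]
  refine ⟨Subgroup.map_subtype_le _, R, ?_⟩
  ext x
  rw [Subgroup.mem_subgroupOf]
  constructor
  · intro hx
    exact ⟨x, hx, rfl⟩
  · rintro ⟨y, hy, hyx⟩
    have : y = x := Subtype.ext hyx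
    rw [← this]
    exact hy

/-- Sylow conjugacy inside `H`. -/
theorem IsSylIn.exists_conj_le {p : ℕ} [Fact p.Prime] {Y H B : Subgroup G} [Finite H] (h : IsSylIn p Y H)
    (hBH : B ≤ H) (hB : IsPGroup p B) : ∃ k ∈ H, ∀ b ∈ B, k * b * k⁻¹ ∈ Y := by
  obtain ⟨hle, R, hR⟩ := isSylIn_iff.mp h
  have hB' : IsPGroup p (B.subgroupOf H) := hB.comap_subtype
  obtain ⟨R', hR'⟩ := hB'.exists_le_sylow
  obtain ⟨g, hg⟩ := MulAction.exists_smul_eq H R' R
  refine ⟨g, g.2, fun b hb => ?_⟩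
  have h1 : (⟨b, hBH hb⟩ : H) ∈ (R' : Subgroup H) := hR' (Subgroup.mem_subgroupOf.mpr hb)
  have h2 : g * (⟨b, hBH hb⟩ : H) * g⁻¹ ∈ (R : Subgroup H) := by
    show g * (⟨b, hBH hb⟩ : H) * g⁻¹ ∈ R
    rw [← hg, Sylow.smul_def]
    show g * (⟨b, hBH hb⟩ : H) * g⁻¹ ∈ ((MulAut.conj g • R' : Sylow p H) : Subgroup H)
    rw [Sylow.pointwise_smul_def]
    exact ⟨_, h1, rfl⟩
  rw [hR, Subgroup.mem_subgroupOf] at h2
  exact h2

/-- Images of Sylow subgroups under injective homomorphisms. -/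
theorem IsSylIn.map_of_injective {p : ℕ} {G' : Type*} [Group G'] {Y H : Subgroup G} (h : IsSylIn p Y H)
    (f : G →* G') (hf : Function.Injective f) : IsSylIn p (Y.map f) (H.map f) := by
  refine ⟨Subgroup.map_mono h.1, ?_⟩
  rw [Subgroup.card_map_of_injective hf, Subgroup.card_map_of_injective hf]
  exact h.2

/-- A normal `p`-subgroup lies in every Sylow subgroup. -/
theorem IsSylIn.normal_le {p : ℕ} [Fact p.Prime] {Y H V : Subgroup G} [Finite H] (h : IsSylIn p Y H)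
    (hVH : V ≤ H) (hV : IsPGroup p V) (hn : ∀ k ∈ H, ∀ v ∈ V, k * v * k⁻¹ ∈ V) : V ≤ Y := by
  obtain ⟨k, hk, hkV⟩ := h.exists_conj_le hVH hV
  intro v hv
  have h1 : k⁻¹ * v * k⁻¹⁻¹ ∈ V := hn k⁻¹ (H.inv_mem hk) v hv
  have h2 := hkV _ h1
  have e : k * (k⁻¹ * v * k⁻¹⁻¹) * k⁻¹ = v := by group
  rwa [e] at h2

/-- The intersection of a Sylow subgroup with a normal subgroup is Sylow in it. -/
theorem IsSylIn.inf_normal {p : ℕ} [Fact p.Prime] {Y H V : Subgroup G} [Finite H] (h : IsSylIn p Y H)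
    (hVH : V ≤ H) (hn : ∀ k ∈ H, ∀ v ∈ V, k * v * k⁻¹ ∈ V) : IsSylIn p (Y ⊓ V) V := by
  haveI : Finite V := Finite.of_injective (Subgroup.inclusion hVH) (Subgroup.inclusion_injective hVH)
  obtain ⟨Y₀, hY₀⟩ := exists_isSylIn p V
  obtain ⟨k, hk, hkY⟩ := h.exists_conj_le (hY₀.1.trans hVH) hY₀.isPGroup
  -- the conjugate of `Y₀` lies in `Y ⊓ V`
  have hmap : Y₀.map (MulAut.conj k).toMonoidHom ≤ Y ⊓ V := by
    rintro _ ⟨y, hy, rfl⟩
    exact ⟨hkY y hy, hn k hk y (hY₀.1 hy)⟩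
  have hcard : Nat.card Y₀ ≤ Nat.card (Y ⊓ V : Subgroup G) := by
    have hinj : Function.Injective ((MulAut.conj k).toMonoidHom) := (MulAut.conj k).injective
    rw [← Subgroup.card_map_of_injective hinj (K := Y₀)]
    haveI : Finite (Y ⊓ V : Subgroup G) :=
      Finite.of_injective (Subgroup.inclusion (inf_le_right : Y ⊓ V ≤ V)) (Subgroup.inclusion_injective _)
    exact Nat.card_le_card_of_injective (Subgroup.inclusion hmap) (Subgroup.inclusion_injective hmap)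
  exact hY₀.of_le inf_le_right (h.isPGroup.to_le inf_le_left) hcard

/-- Frattini's argument. -/
theorem IsSylIn.frattini {p : ℕ} [Fact p.Prime] {Y H V : Subgroup G} [Finite H] (h : IsSylIn p Y H)
    (hVH : V ≤ H) (hn : ∀ k ∈ H, ∀ v ∈ V, k * v * k⁻¹ ∈ V) {κ : G} (hκ : κ ∈ H) :
    ∃ v ∈ V, ∃ n ∈ H, κ = v * n ∧ ∀ y ∈ Y ⊓ V, n * y * n⁻¹ ∈ Y ⊓ V := by
  haveI : Finite V := Finite.of_injective (Subgroup.inclusion hVH) (Subgroup.inclusion_injective hVH)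
  have hYV := h.inf_normal hVH hn
  -- the conjugate of `Y ⊓ V` by `κ`
  set B : Subgroup G := (Y ⊓ V).map (MulAut.conj κ).toMonoidHom with hB
  have hBV : B ≤ V := by
    rintro _ ⟨y, hy, rfl⟩
    exact hn κ hκ y hy.2
  have hBp : IsPGroup p B := hYV.isPGroup.map _
  obtain ⟨v, hv, hvB⟩ := hYV.exists_conj_le hBV hBp
  refine ⟨v⁻¹, V.inv_mem hv, v * κ, H.mul_mem (hVH hv) hκ, by group, fun y hy => ?_⟩
  have h1 : κ * y * κ⁻¹ ∈ B := ⟨y, hy, rfl⟩
  have h2 := hvB _ h1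
  have e : v * (κ * y * κ⁻¹) * v⁻¹ = v * κ * y * (v * κ)⁻¹ := by group
  rwa [e] at h2

/-- Some conjugate of a Sylow subgroup of `A` meets `H ≤ A` in a Sylow subgroup of `H`. -/
theorem IsSylIn.exists_conj_inf {p : ℕ} [Fact p.Prime] {Y A H : Subgroup G} [Finite A] (h : IsSylIn p Y A)
    (hHA : H ≤ A) : ∃ a ∈ A, IsSylIn p (Y.map (MulAut.conj a).toMonoidHom ⊓ H) H := by
  haveI : Finite H := Finite.of_injective (Subgroup.inclusion hHA) (Subgroup.inclusion_injective hHA)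
  obtain ⟨Y₀, hY₀⟩ := exists_isSylIn p H
  obtain ⟨k, hk, hkY⟩ := h.exists_conj_le (hY₀.1.trans hHA) hY₀.isPGroup
  refine ⟨k⁻¹, A.inv_mem hk, ?_⟩
  have hle : Y₀ ≤ Y.map (MulAut.conj k⁻¹).toMonoidHom ⊓ H := by
    intro y hy
    refine ⟨⟨k * y * k⁻¹, hkY y hy, ?_⟩, hY₀.1 hy⟩
    show k⁻¹ * (k * y * k⁻¹) * k⁻¹⁻¹ = y
    group
  have hp : IsPGroup p (Y.map (MulAut.conj k⁻¹).toMonoidHom ⊓ H : Subgroup G) :=
    (h.isPGroup.map _).to_le inf_le_left
  have := hY₀.eq_of_le inf_le_right hp hle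
  rw [this]
  exact hY₀

end Cfsg.Agent.Lib.Helper88
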