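import Mathlib
import Cfsg.Agent.Lib.Helper94.THDefs

/-!
# K-TH-E3 (S1632 pack, architect helper94): the form `G = (7 E₄³ + 5 E₆²) / 12`

`exists_G`: there is a modular form of weight 12 and level one whose first five `q`-coefficients are
`1, 0, 196560, 16773120, 398034000`.  The coefficients of `E₄`, `E₆` (leaves E1, E2 of the pack) are
re-derived here (`E4_coeffs_aux`, `E6_coeffs_aux`) from `EisensteinSeries.E_qExpansion_coeff`, so
this file depends on Mathlib only.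
-/

set_option autoImplicit false

namespace Cfsg.Agent.Lib.Helper88.TH

open Matrix Complex ModularForm
open UpperHalfPlane hiding I
open scoped Real MatrixGroups
open EisensteinSeries

theorem sigma_3_2 : ArithmeticFunction.sigma 3 2 = 9 := by decide +kernel
theorem sigma_3_3 : ArithmeticFunction.sigma 3 3 = 28 := by decide +kernel
theorem sigma_3_4 : ArithmeticFunction.sigma 3 4 = 73 := by decide +kernel
theorem sigma_5_2 : ArithmeticFunction.sigma 5 2 = 33 := by decide +kernel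
theorem sigma_5_3 : ArithmeticFunction.sigma 5 3 = 244 := by decide +kernel
theorem sigma_5_4 : ArithmeticFunction.sigma 5 4 = 1057 := by decide +kernel

/-- the first five `q`-coefficients of `E₄` (same statement as leaf E1 of the pack) -/
theorem E4_coeffs_aux :
    (qExpansion 1 E₄).coeff 0 = 1 ∧ (qExpansion 1 E₄).coeff 1 = 240 ∧
    (qExpansion 1 E₄).coeff 2 = 2160 ∧ (qExpansion 1 E₄).coeff 3 = 6720 ∧
    (qExpansion 1 E₄).coeff 4 = 17520 := by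
  have hb : bernoulli 4 = -1 / 30 := by decide +kernel
  refine ⟨?_, ?_, ?_, ?_, ?_⟩
  · exact E_qExpansion_coeff_zero _ ⟨2, rfl⟩
  · exact E₄_qExpansion_coeff_one
  · norm_num [E_qExpansion_coeff _ ⟨2, rfl⟩, hb, sigma_3_2]
  · norm_num [E_qExpansion_coeff _ ⟨2, rfl⟩, hb, sigma_3_3]
  · norm_num [E_qExpansion_coeff _ ⟨2, rfl⟩, hb, sigma_3_4]

/-- the first five `q`-coefficients of `E₆` (same statement as leaf E2 of the pack) -/
theorem E6_coeffs_aux :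
    (qExpansion 1 E₆).coeff 0 = 1 ∧ (qExpansion 1 E₆).coeff 1 = -504 ∧
    (qExpansion 1 E₆).coeff 2 = -16632 ∧ (qExpansion 1 E₆).coeff 3 = -122976 ∧
    (qExpansion 1 E₆).coeff 4 = -532728 := by
  have hb : bernoulli 6 = 1 / 42 := by decide +kernel
  refine ⟨?_, ?_, ?_, ?_, ?_⟩
  · exact E_qExpansion_coeff_zero _ ⟨3, rfl⟩
  · exact E₆_qExpansion_coeff_one
  · norm_num [E_qExpansion_coeff _ ⟨3, rfl⟩, hb, sigma_5_2]
  · norm_num [E_qExpansion_coeff _ ⟨3, rfl⟩, hb, sigma_5_3]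
  · norm_num [E_qExpansion_coeff _ ⟨3, rfl⟩, hb, sigma_5_4]

/-- the first five coefficients of a product of power series -/
theorem coeffs_mul {p q : PowerSeries ℂ} {a0 a1 a2 a3 a4 b0 b1 b2 b3 b4 : ℂ}
    (h0 : p.coeff 0 = a0) (h1 : p.coeff 1 = a1) (h2 : p.coeff 2 = a2) (h3 : p.coeff 3 = a3)
    (h4 : p.coeff 4 = a4)
    (k0 : q.coeff 0 = b0) (k1 : q.coeff 1 = b1) (k2 : q.coeff 2 = b2) (k3 : q.coeff 3 = b3)
    (k4 : q.coeff 4 = b4) :
    (p * q).coeff 0 = a0 * b0 ∧ (p * q).coeff 1 = a0 * b1 + a1 * b0 ∧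
    (p * q).coeff 2 = a0 * b2 + a1 * b1 + a2 * b0 ∧
    (p * q).coeff 3 = a0 * b3 + a1 * b2 + a2 * b1 + a3 * b0 ∧
    (p * q).coeff 4 = a0 * b4 + a1 * b3 + a2 * b2 + a3 * b1 + a4 * b0 := by
  subst h0 h1 h2 h3 h4 k0 k1 k2 k3 k4
  refine ⟨?_, ?_, ?_, ?_, ?_⟩ <;>
    simp [PowerSeries.coeff_mul, Finset.Nat.antidiagonal_succ,
      -PowerSeries.coeff_zero_eq_constantCoeff] <;> ring

/-- the first five `q`-coefficients of `E₄³` -/
theorem E4_cube_coeffs :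
    ((qExpansion 1 E₄) ^ 3).coeff 0 = 1 ∧ ((qExpansion 1 E₄) ^ 3).coeff 1 = 720 ∧
    ((qExpansion 1 E₄) ^ 3).coeff 2 = 179280 ∧ ((qExpansion 1 E₄) ^ 3).coeff 3 = 16954560 ∧
    ((qExpansion 1 E₄) ^ 3).coeff 4 = 396974160 := by
  obtain ⟨h0, h1, h2, h3, h4⟩ := E4_coeffs_aux
  obtain ⟨s0, s1, s2, s3, s4⟩ := coeffs_mul h0 h1 h2 h3 h4 h0 h1 h2 h3 h4
  obtain ⟨c0, c1, c2, c3, c4⟩ := coeffs_mul s0 s1 s2 s3 s4 h0 h1 h2 h3 h4
  have e : (qExpansion 1 E₄) ^ 3 = qExpansion 1 E₄ * qExpansion 1 E₄ * qExpansion 1 E₄ := by ring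
  rw [e, c0, c1, c2, c3, c4]
  refine ⟨?_, ?_, ?_, ?_, ?_⟩ <;> norm_num

/-- the first five `q`-coefficients of `E₆²` -/
theorem E6_sq_coeffs :
    ((qExpansion 1 E₆) ^ 2).coeff 0 = 1 ∧ ((qExpansion 1 E₆) ^ 2).coeff 1 = -1008 ∧
    ((qExpansion 1 E₆) ^ 2).coeff 2 = 220752 ∧ ((qExpansion 1 E₆) ^ 2).coeff 3 = 16519104 ∧
    ((qExpansion 1 E₆) ^ 2).coeff 4 = 399517776 := by
  obtain ⟨h0, h1, h2, h3, h4⟩ := E6_coeffs_aux
  obtain ⟨s0, s1, s2, s3, s4⟩ := coeffs_mul h0 h1 h2 h3 h4 h0 h1 h2 h3 h4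
  have e : (qExpansion 1 E₆) ^ 2 = qExpansion 1 E₆ * qExpansion 1 E₆ := by ring
  rw [e, s0, s1, s2, s3, s4]
  refine ⟨?_, ?_, ?_, ?_, ?_⟩ <;> norm_num

/-- the form `G = (7 E₄³ + 5 E₆²) / 12` of weight 12 -/
noncomputable def Gform : ModularForm 𝒮ℒ 12 :=
  (7 / 12 : ℂ) • ModularForm.mcast (by decide) (E₄.pow 3) +
    (5 / 12 : ℂ) • ModularForm.mcast (by decide) (E₆.pow 2)

theorem Gform_qExpansion_eq :
    qExpansion 1 Gform = (7 / 12 : ℂ) • (qExpansion 1 E₄) ^ 3 +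
      (5 / 12 : ℂ) • (qExpansion 1 E₆) ^ 2 := by
  unfold Gform
  rw [FunLike.coe_add, ModularForm.qExpansion_add one_pos one_mem_strictPeriods_SL,
    FunLike.coe_smul, FunLike.coe_smul,
    ModularForm.qExpansion_smul one_pos one_mem_strictPeriods_SL,
    ModularForm.qExpansion_smul one_pos one_mem_strictPeriods_SL,
    ModularForm.qExpansion_mcast, ModularForm.qExpansion_mcast,
    ModularForm.qExpansion_pow one_pos one_mem_strictPeriods_SL,
    ModularForm.qExpansion_pow one_pos one_mem_strictPeriods_SL]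

/-- LEAF THE3 of pack K-TH. -/
theorem exists_G : ∃ G : ModularForm 𝒮ℒ 12,
    (qExpansion 1 G).coeff 0 = 1 ∧ (qExpansion 1 G).coeff 1 = 0 ∧
    (qExpansion 1 G).coeff 2 = 196560 ∧ (qExpansion 1 G).coeff 3 = 16773120 ∧
    (qExpansion 1 G).coeff 4 = 398034000 := by
  obtain ⟨a0, a1, a2, a3, a4⟩ := E4_cube_coeffs
  obtain ⟨b0, b1, b2, b3, b4⟩ := E6_sq_coeffs
  refine ⟨Gform, ?_, ?_, ?_, ?_, ?_⟩ <;>
    rw [Gform_qExpansion_eq, map_add, PowerSeries.coeff_smul, PowerSeries.coeff_smul] <;>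
    simp only [a0, a1, a2, a3, a4, b0, b1, b2, b3, b4] <;> norm_num

end Cfsg.Agent.Lib.Helper88.TH
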